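import Groth.Agent.CurvesB.RankOne
import Groth.Agent.VarietyA.EulerLES
import Groth.Agent.S0458
import Groth.Prelude.Def_CurvBase

/-!
# Euler characteristics on a proper curve (dimension counts)
-/

set_option autoImplicit false
universe u
open CategoryTheory CategoryTheory.Limits AlgebraicGeometry Opposite TopologicalSpace
open Groth.Agent.CohqB.HSeqMod Groth.Agent.CurvesB.HZero
open Groth.Agent.CurvesB.Pairing Groth.Agent.CurvesB.RankOne

namespace Groth.Agent.CurvesB.CurveRR

section LinAlg

variable {k V₁ V₂ V₃ V₄ V₅ : Type*} [Field k] [AddCommGroup V₁] [Module k V₁] [AddCommGroup V₂]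
  [Module k V₂] [AddCommGroup V₃] [Module k V₃] [AddCommGroup V₄] [Module k V₄] [AddCommGroup V₅]
  [Module k V₅]

/-- Alternating sum of dimensions in an exact sequence `0 → V₁ → V₂ → V₃ → V₄ → V₅ → 0`. -/
theorem finrank_five [Module.Finite k V₂] [Module.Finite k V₃] [Module.Finite k V₄]
    (f₁ : V₁ →ₗ[k] V₂) (f₂ : V₂ →ₗ[k] V₃) (f₃ : V₃ →ₗ[k] V₄) (f₄ : V₄ →ₗ[k] V₅)
    (h₁ : Function.Injective f₁) (h₁₂ : Function.Exact f₁ f₂) (h₂₃ : Function.Exact f₂ f₃)
    (h₃₄ : Function.Exact f₃ f₄) (h₄ : Function.Surjective f₄) :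
    Module.finrank k V₁ + Module.finrank k V₃ + Module.finrank k V₅ =
      Module.finrank k V₂ + Module.finrank k V₄ := by
  have e₂ := f₂.finrank_range_add_finrank_ker
  have e₃ := f₃.finrank_range_add_finrank_ker
  have e₄ := f₄.finrank_range_add_finrank_ker
  rw [h₁₂.linearMap_ker_eq, LinearMap.finrank_range_of_inj h₁] at e₂
  rw [h₂₃.linearMap_ker_eq] at e₃
  rw [h₃₄.linearMap_ker_eq, LinearMap.range_eq_top.2 h₄, finrank_top] at e₄
  omega

end LinAlg

/-- A scheme proper over a field is Noetherian. -/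
theorem isNoetherian_of_proper (k : Type u) [Field k] (X : Scheme.{u})
    [X.Over (Spec (CommRingCat.of k))] [IsProper (X ↘ (Spec (CommRingCat.of k)))] : IsNoetherian X :=
  { __ := LocallyOfFiniteType.isLocallyNoetherian (X ↘ (Spec (CommRingCat.of k)))
    __ := QuasiCompact.compactSpace_of_compactSpace (X ↘ (Spec (CommRingCat.of k))) }

variable {X : Scheme.{u}}

/-- Grothendieck vanishing in dimension one. -/
theorem subsingleton_HH_of_two_le [IsNoetherian X] (hd : topologicalKrullDim X ≤ 1) (F : X.Modules)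
    (n : ℕ) (hn : 2 ≤ n) : Subsingleton (Coh.HH X F n) :=
  Groth.Agent.S0458.result (X := (X : TopCat.{u})) 1 hd (Coh.toAb F) n hn

/-- A nonzero monomorphism into a locally embedded module on an integral curve is surjective on
higher cohomology. -/
theorem hmap_surjective [IsIntegral X] [IsNoetherian X] (hd : topologicalKrullDim X ≤ 1)
    {G F : X.Modules} (hF : LocEmb F) (φ : G ⟶ F) [Mono φ] (hφ : φ ≠ 0) (n : ℕ) :
    Function.Surjective (hmap φ (n + 1)) := by
  intro x
  let S : ShortComplex X.Modules := ShortComplex.mk φ (cokernel.π φ) (cokernel.condition φ)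
  have hS : S.ShortExact :=
    { exact := ShortComplex.exact_of_g_is_cokernel _ (cokernelIsCokernel φ) }
  have hT : IsTors (cokernel φ) :=
    isTors_of_epi hF φ hφ (cokernel.π φ) (cokernel.condition φ)
  have := hT.subsingleton_HH hd n
  exact exact₂ hS (n + 1) x (Subsingleton.elim _ _)

theorem hmap_surjective_of_unit [IsIntegral X] [IsNoetherian X] (hd : topologicalKrullDim X ≤ 1)
    {F : X.Modules} (hF : LocEmb F) (s : Coh.structureModule X ⟶ F) (hs : s ≠ 0) (n : ℕ) :
    Function.Surjective (hmap s (n + 1)) :=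
  have := mono_of_ne_zero hF s hs
  hmap_surjective hd hF s hs n

section Over

theorem euler_eq (k : Type u) [Field k] (X : Scheme.{u}) [X.Over (Spec (CommRingCat.of k))]
    [IsNoetherian X] (hd : topologicalKrullDim X ≤ 1) (F : X.Modules) :
    Curv2.euler k X F =
      (Module.finrank k (Coh.HH X F 0) : ℤ) - (Module.finrank k (Coh.HH X F 1) : ℤ) := by
  unfold Curv2.euler
  rw [finsum_eq_sum_of_support_subset (s := Finset.range 2)]
  · simp [Finset.sum_range_succ]
    ring
  · intro i hi
    by_contra h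
    have h2 : 2 ≤ i := by
      simp only [Finset.coe_range, Set.mem_Iio, not_lt] at h
      exact h
    have := subsingleton_HH_of_two_le (X := X) hd F i h2
    apply hi
    simp [Module.finrank_zero_of_subsingleton]

theorem deg_eq (k : Type u) [Field k] (X : Scheme.{u}) [X.Over (Spec (CommRingCat.of k))]
    [IsNoetherian X] (hd : topologicalKrullDim X ≤ 1) (L : X.Modules) :
    Curv2.deg k X L 1 =
      (Module.finrank k (Coh.HH X L 0) : ℤ) - (Module.finrank k (Coh.HH X L 1) : ℤ) -
      ((Module.finrank k (Coh.HH X (Coh.structureModule X) 0) : ℤ) - (Curv2.genus k X : ℤ)) := by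
  unfold Curv2.deg Curv2.genus
  rw [euler_eq k X hd, euler_eq k X hd]
  simp

variable (k : Type u) [Field k] [X.Over (Spec (CommRingCat.of k))]

open Groth.Agent.VarietyA.EulerLES in
/-- Dimension count for `0 → A → B → T → 0` when `H^1(T) = 0`. -/
theorem finrank_of_shortExact (S : ShortComplex X.Modules) (hS : S.ShortExact)
    (hT : Subsingleton (Coh.HH X S.X₃ 1)) [Module.Finite k (Coh.HH X S.X₂ 0)]
    [Module.Finite k (Coh.HH X S.X₃ 0)] [Module.Finite k (Coh.HH X S.X₁ 1)] :
    Module.finrank k (Coh.HH X S.X₁ 0) + Module.finrank k (Coh.HH X S.X₃ 0) +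
      Module.finrank k (Coh.HH X S.X₂ 1) =
    Module.finrank k (Coh.HH X S.X₂ 0) + Module.finrank k (Coh.HH X S.X₁ 1) := by
  refine finrank_five (mapA k S.f 0) (mapA k S.g 0) (deltaA k S hS 0 1 rfl) (mapA k S.f 1)
    (injectiveA₀ k S hS) (exactA₂ k S hS 0) (exactA₃ k S hS 0 1 rfl) (exactA₁ k S hS 0 1 rfl) ?_
  intro x
  exact (exactA₂ k S hS 1 x).1 (Subsingleton.elim _ _)

/-- **The duality-free inequality** on an integral curve: for `F` locally embedded in `O_X` with
`H^1(X, F) ≠ 0` one has `h^0(F) ≤ h^1(O_X)`. -/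
theorem finrank_H0_le_genus [IsIntegral X] [IsNoetherian X] (hd : topologicalKrullDim X ≤ 1)
    {F : X.Modules} (hF : LocEmb F) [Module.Finite k (Coh.HH X (Coh.structureModule X) 1)]
    (h1 : Nontrivial (Coh.HH X F 1)) :
    Module.finrank k (Coh.HH X F 0) ≤ Curv2.genus k X :=
  (finrank_H0_le k X F 1 h1 fun s hs => hmap_surjective_of_unit hd hF s hs 0).2

end Over

end Groth.Agent.CurvesB.CurveRR
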