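import Mathlib.CategoryTheory.Sites.SheafCohomology.Cech
import Mathlib.Topology.Category.TopCat.Opens
import Mathlib.CategoryTheory.Limits.Lattice

/-!
# Cech complexes and product preserving functors between thin categories
-/

set_option autoImplicit false
universe w v v₁ v' u u₁ u'

open CategoryTheory CategoryTheory.Limits Opposite

namespace Groth.Agent.CurvesB.CechTransport

variable {C : Type u} [Category.{v} C] {D : Type u₁} [Category.{v₁} D] [Quiver.IsThin D]
  {A : Type u'} [Category.{v'} A] [HasProducts.{w} A]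
  [HasFiniteProducts C] [HasFiniteProducts D] {κ : Type w} (U : κ → C) (F : C ⥤ D)
  (h : ∀ (n : SimplexCategory) (i : ToType n → κ),
    Nonempty (F.obj (∏ᶜ (U ∘ i)) ≅ (∏ᶜ ((fun k => F.obj (U k)) ∘ i) : D)))

/-- the comparison iso -/
noncomputable def isoP (n : SimplexCategory) (i : ToType n → κ) :
    F.obj (∏ᶜ (U ∘ i)) ≅ (∏ᶜ ((fun k => F.obj (U k)) ∘ i) : D) := (h n i).some

set_option backward.isDefEq.respectTransparency false in
/-- Transport of the cosimplicial object. -/
noncomputable def cosimplicialIso (P : Dᵒᵖ ⥤ A) :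
    (FormalCoproduct.cosimplicialObjectFunctor (A := A) (FormalCoproduct.mk _ U).cech).obj (F.op ⋙ P) ≅
      (FormalCoproduct.cosimplicialObjectFunctor (A := A)
        (FormalCoproduct.mk _ (fun k => F.obj (U k))).cech).obj P :=
  NatIso.ofComponents (fun n => Limits.Pi.mapIso (fun i : (ToType n → κ) =>
    P.mapIso (isoP U F h n i).symm.op)) (by
    intro n m f
    apply Limits.Pi.hom_ext
    intro i
    change (Limits.Pi.lift (fun j : (ToType m → κ) => Limits.Pi.π _ (j ∘ f.toOrderHom) ≫
        P.map (F.map (Limits.Pi.lift (fun a => Limits.Pi.π (U ∘ j) (f.toOrderHom a)))).op) ≫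
        Limits.Pi.map (fun j : (ToType m → κ) => P.map (isoP U F h m j).inv.op)) ≫
          Limits.Pi.π _ i =
      (Limits.Pi.map (fun j : (ToType n → κ) => P.map (isoP U F h n j).inv.op) ≫
        Limits.Pi.lift (fun j : (ToType m → κ) => Limits.Pi.π _ (j ∘ f.toOrderHom) ≫
        P.map (Limits.Pi.lift (fun a =>
          Limits.Pi.π ((fun k => F.obj (U k)) ∘ j) (f.toOrderHom a))).op)) ≫ Limits.Pi.π _ i
    rw [Category.assoc, Category.assoc, Limits.Pi.map_π, Limits.Pi.lift_π,
      Limits.Pi.lift_π_assoc, Limits.Pi.map_π_assoc]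
    rw [Category.assoc, ← P.map_comp, ← P.map_comp]
    congr 2
    exact Quiver.Hom.unop_inj (Subsingleton.elim _ _))

set_option backward.isDefEq.respectTransparency false in
/-- Transport of the cosimplicial object, functor version. -/
noncomputable def cosimplicialFunctorIso :
    (Functor.whiskeringLeft _ _ A).obj F.op ⋙
      FormalCoproduct.cosimplicialObjectFunctor (A := A) (FormalCoproduct.mk _ U).cech ≅
      FormalCoproduct.cosimplicialObjectFunctor (A := A)
        (FormalCoproduct.mk _ (fun k => F.obj (U k))).cech :=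
  NatIso.ofComponents (fun P => cosimplicialIso U F h P) (by
    intro P Q t
    apply NatTrans.ext
    ext n : 1
    apply Limits.Pi.hom_ext
    intro i
    change (Limits.Pi.map (fun j : (ToType n → κ) => t.app (op (F.obj (∏ᶜ (U ∘ j))))) ≫
      Limits.Pi.map (fun j : (ToType n → κ) => Q.map (isoP U F h n j).inv.op)) ≫
          Limits.Pi.π _ i =
      (Limits.Pi.map (fun j : (ToType n → κ) => P.map (isoP U F h n j).inv.op) ≫
        Limits.Pi.map (fun j : (ToType n → κ) =>
          t.app (op (∏ᶜ ((fun k => F.obj (U k)) ∘ j) : D)))) ≫ Limits.Pi.π _ i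
    rw [Category.assoc, Category.assoc, Limits.Pi.map_π, Limits.Pi.map_π,
      Limits.Pi.map_π_assoc, Limits.Pi.map_π_assoc, t.naturality])

/-- The Cech complex functor along a product preserving functor (to a thin category). -/
noncomputable def cechIso [Preadditive A] :
    (Functor.whiskeringLeft _ _ A).obj F.op ⋙ cechComplexFunctor (A := A) U ≅
      cechComplexFunctor (A := A) (fun k => F.obj (U k)) :=
  (Functor.associator _ _ _).symm ≪≫
    Functor.isoWhiskerRight (cosimplicialFunctorIso U F h)
      (AlgebraicTopology.alternatingCofaceMapComplex A)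

end Groth.Agent.CurvesB.CechTransport

namespace Groth.Agent.CurvesB.CechTransport

open TopologicalSpace

/-- products in the category of opens are finite intersections -/
theorem pi_eq_iInf {X : TopCat.{u}} {n : ℕ} (U : Fin n → Opens X) :
    (∏ᶜ U : Opens X) = ⨅ i, U i := by
  apply le_antisymm
  · exact le_iInf (fun i => leOfHom (Limits.Pi.π U i))
  · exact leOfHom (Limits.Pi.lift (fun i => homOfLE (iInf_le U i)))

theorem map_iInf {X Y : TopCat.{u}} (f : X ⟶ Y) {n : ℕ} (U : Fin n → Opens Y) :
    (Opens.map f).obj (⨅ i, U i) = ⨅ i, (Opens.map f).obj (U i) := by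
  ext x
  simp only [Opens.map_coe, Opens.coe_iInf, Set.preimage_iInter]

theorem map_pi {X Y : TopCat.{u}} (f : X ⟶ Y) {n : ℕ} (U : Fin n → Opens Y) :
    (Opens.map f).obj (∏ᶜ U : Opens Y) = ∏ᶜ (fun i => (Opens.map f).obj (U i)) := by
  rw [pi_eq_iInf, pi_eq_iInf, map_iInf]

variable {A : Type u'} [Category.{v'} A] [HasProducts.{u} A] [Preadditive A]

/-- Cech complexes of a presheaf `f_* P`. -/
noncomputable def cechMapIso {X Y : TopCat.{u}} (f : X ⟶ Y) {κ : Type u} (U : κ → Opens Y) :
    (Functor.whiskeringLeft _ _ A).obj (Opens.map f).op ⋙ cechComplexFunctor (A := A) U ≅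
      cechComplexFunctor (A := A) (fun k => (Opens.map f).obj (U k)) :=
  cechIso U (Opens.map f) (fun n i => by
    have h : (Opens.map f).obj (∏ᶜ (U ∘ i) : Opens Y) =
      ∏ᶜ ((fun k => (Opens.map f).obj (U k)) ∘ i) := map_pi (n := n.len + 1) f (U ∘ i)
    exact ⟨eqToIso h⟩)

end Groth.Agent.CurvesB.CechTransport
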