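import Groth.Agent.CurvesB.CechBC
import Groth.Agent.CurvesB.CechTransport
import Groth.Agent.Ega3B.TensorASec
import Groth.Agent.Ega3B.TensorAUnit
import Groth.Agent.Ega3B.CechFun
import Groth.Agent.VarietyB.FlatH0
import Groth.Agent.CohqA.CechBasic
import Mathlib.AlgebraicGeometry.Morphisms.Affine

/-!
# Affine base change for the functors `M ↦ F ⊗_A M`
-/

set_option autoImplicit false
universe u

open CategoryTheory CategoryTheory.Limits AlgebraicGeometry Opposite TopologicalSpace

namespace Groth.Agent.CurvesB.BCNat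

open Groth.Agent.Ega3B.EWatts Groth.Agent.CohqA.BaseChangeMod Groth.Agent.Ega3B.TensorASec
  Groth.Agent.Ega3B.TensorAUnit Groth.Agent.Ega3B.CechFun Groth.Agent.VarietyB

section Alg

/-- helper513's base change condition implies helper69's. -/
theorem isBC_of_bc {R R' : Type u} [CommRing R] [CommRing R'] [Algebra R R'] {M N : Type u}
    [AddCommGroup M] [Module R M] [AddCommGroup N] [Module R' N]
    (s : M →ₛₗ[algebraMap R R'] N) (h : Function.Bijective (BCAlg.bc s)) :
    IsBC (algebraMap R R') s.toAddMonoidHom := by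
  have h1 : IsBC (algebraMap R R') (TensorProduct.mk R R' M 1).toAddMonoidHom :=
    (isBC_iff_isBaseChange (TensorProduct.mk R R' M 1)).2 (TensorProduct.isBaseChange R M R')
  exact h1.of_equiv (LinearEquiv.ofBijective (BCAlg.bc s) h) (fun x => by
    change BCAlg.bc s ((1 : R') ⊗ₜ[R] x) = s x
    rw [BCAlg.bc_tmul, one_smul])

/-- change of rings by isomorphisms -/
theorem isBC_congr {A B A' B' : Type u} [CommRing A] [CommRing B] [CommRing A'] [CommRing B']
    {M N : Type u} [AddCommGroup M] [AddCommGroup N] [Module A M] [Module B N]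
    [Module A' M] [Module B' N] (φ : A →+* B) (φ' : A' →+* B') (e : A' →+* A) (e' : B' →+* B)
    (he' : Function.Bijective e') (he : Function.Bijective e)
    (hφ : φ.comp e = e'.comp φ') (h1 : ∀ (a : A') (m : M), a • m = e a • m)
    (h2 : ∀ (b : B') (n : N), b • n = e' b • n) (f : M →+ N) (hf : IsBC φ f) : IsBC φ' f := by
  refine ⟨fun r x => ?_, fun Q _ _ g hg => ?_⟩
  · rw [h1, hf.map_smul, h2]
    exact congrArg (· • f x) (RingHom.congr_fun hφ r)
  · let E' : B' ≃+* B := RingEquiv.ofBijective e' he'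
    letI : Module B Q := Module.compHom Q (E'.symm : B →+* B')
    have hb : ∀ (b : B') (q : Q), e' b • q = b • q := fun b q => by
      change (E'.symm (E' b)) • q = b • q
      rw [E'.symm_apply_apply]
    obtain ⟨g', hg', hu⟩ := hf.lift Q g (fun r x => by
      obtain ⟨r, rfl⟩ := he.2 r
      rw [← h1, hg]
      have h3 : φ (e r) = e' (φ' r) := RingHom.congr_fun hφ r
      rw [h3, hb])
    refine ⟨{ toFun := g', map_add' := fun x y => g'.map_add x y, map_smul' := fun b n => ?_ },
      hg', fun g'' h'' => ?_⟩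
    · rw [h2, g'.map_smul, hb]
      rfl
    · let t : N →ₗ[B] Q :=
        { toFun := g''
          map_add' := fun x y => g''.map_add x y
          map_smul' := fun b n => by
            obtain ⟨b, rfl⟩ := he'.2 b
            rw [← h2, g''.map_smul, RingHom.id_apply, hb] }
      have h5 : t = g' := hu t h''
      ext x
      exact LinearMap.congr_fun h5 x

end Alg

section Sec

variable {A₀ A : Type u} [CommRing A₀] [CommRing A] (φ : A₀ →+* A) {X₀ X : Scheme.{u}}
  [X₀.Over (Spec (CommRingCat.of A₀))] [X.Over (Spec (CommRingCat.of A))] (g : X ⟶ X₀)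
  (H : IsPullback g (X ↘ Spec (CommRingCat.of A)) (X₀ ↘ Spec (CommRingCat.of A₀))
    (Spec.map (CommRingCat.ofHom φ)))

include H in
/-- sections of the pullback over the preimage of an affine open. -/
theorem isBC_sec (F₀ : X₀.Modules) (hF₀ : Coh.IsQCoh F₀) {W : X₀.Opens} (hW : IsAffineOpen W) :
    letI := modSec A₀ F₀ W
    letI := modSec A ((Scheme.Modules.pullback g).obj F₀) (g ⁻¹ᵁ W)
    IsBC φ (PullSec.sec g F₀ (U := W) (V := g ⁻¹ᵁ W) le_rfl) := by
  have h := FlatH0.isBC_affine H F₀ hF₀ (US := ⊤) (UT := ⊤) le_top (UX := W) le_top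
    (UY := g ⁻¹ᵁ W) (by simp) le_rfl le_top (isAffineOpen_top _) (isAffineOpen_top _) hW
  let i1 := FlatH0.algOver (Spec.map (CommRingCat.ofHom φ)) (US := ⊤) (UT := ⊤) le_top
  let i2 := FlatH0.modOver (X₀ ↘ Spec (CommRingCat.of A₀)) F₀ (US := ⊤) (UX := W) le_top
  let i3 := FlatH0.modOver (X ↘ Spec (CommRingCat.of A)) ((Scheme.Modules.pullback g).obj F₀)
    (US := ⊤) (UX := g ⁻¹ᵁ W) le_top
  have h1 := isBC_of_bc _ h
  let i4 := modSec A₀ F₀ W
  let i5 := modSec A ((Scheme.Modules.pullback g).obj F₀) (g ⁻¹ᵁ W)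
  refine isBC_congr _ φ (Scheme.ΓSpecIso (CommRingCat.of A₀)).inv.hom
    (Scheme.ΓSpecIso (CommRingCat.of A)).inv.hom
    (ConcreteCategory.bijective_of_isIso (Scheme.ΓSpecIso (CommRingCat.of A)).inv)
    (ConcreteCategory.bijective_of_isIso (Scheme.ΓSpecIso (CommRingCat.of A₀)).inv)
    ?_ (fun a m => rfl) (fun b n => rfl) _ h1
  have h2 := Scheme.ΓSpecIso_inv_naturality (CommRingCat.ofHom φ)
  have happ : ∀ {Z W : Scheme.{u}} (h : Z ⟶ W), h.appLE ⊤ ⊤ le_top = h.appTop := by
    intro Z W h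
    rw [Scheme.Hom.appLE, Scheme.Hom.appTop]
    exact (congrArg _ (Z.presheaf.map_id _)).trans (Category.comp_id _)
  ext a
  have h3 := congr($h2 a)
  change (Spec.map (CommRingCat.ofHom φ)).appLE ⊤ ⊤ le_top
    ((Scheme.ΓSpecIso (CommRingCat.of A₀)).inv a) = _
  rw [happ]
  exact h3.symm

/-- The map `Θ₀(A₀) ⟶ g_* Θ(A)`. -/
noncomputable def alpha (F₀ : X₀.Modules) (F : X.Modules)
    (e : (Scheme.Modules.pullback g).obj F₀ ≅ F) :
    (CohIII.tensorAFunctor A₀ F₀).obj (ModuleCat.of A₀ A₀) ⟶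
      (Scheme.Modules.pushforward g).obj ((CohIII.tensorAFunctor A F).obj (ModuleCat.of A A)) :=
  (unitIso F₀).hom ≫ (Scheme.Modules.pullbackPushforwardAdjunction g).unit.app F₀ ≫
    (Scheme.Modules.pushforward g).map (e.hom ≫ (unitIso F).inv)

include H in
theorem toGlobal_eq (a : A₀) :
    Coh.toGlobal (g ≫ (X₀ ↘ Spec (CommRingCat.of A₀))) a =
      Coh.toGlobal (X ↘ Spec (CommRingCat.of A)) (φ a) := by
  have h1 := Scheme.ΓSpecIso_inv_naturality (CommRingCat.ofHom φ)
  have h3 := congr($h1 a)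
  change (g ≫ (X₀ ↘ Spec (CommRingCat.of A₀))).appTop ((Scheme.ΓSpecIso (CommRingCat.of A₀)).inv a) =
    (X ↘ Spec (CommRingCat.of A)).appTop ((Scheme.ΓSpecIso (CommRingCat.of A)).inv (φ a))
  have h4 : (Scheme.ΓSpecIso (CommRingCat.of A)).inv (φ a) =
    (Spec.map (CommRingCat.ofHom φ)).appTop ((Scheme.ΓSpecIso (CommRingCat.of A₀)).inv a) := h3
  rw [h4, H.w, Scheme.Hom.comp_appTop, CommRingCat.comp_apply]

include H in
theorem pullback_smulMod (F₀ : X₀.Modules) (a : A₀) :
    (Scheme.Modules.pullback g).map (Formal.smulMod A₀ F₀ a) =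
      Formal.smulMod A ((Scheme.Modules.pullback g).obj F₀) (φ a) := by
  let _ : X.Over (Spec (CommRingCat.of A₀)) := ⟨g ≫ (X₀ ↘ Spec (CommRingCat.of A₀))⟩
  rw [FormalB.PullSys.pullback_smulMod g rfl F₀ a]
  unfold Formal.smulMod
  exact congrArg (Formal.smulModΓ ((Scheme.Modules.pullback g).obj F₀)) (toGlobal_eq φ g H a)

include H in
theorem alpha_smul (F₀ : X₀.Modules) (F : X.Modules)
    (e : (Scheme.Modules.pullback g).obj F₀ ≅ F) (a : A₀) :
    (CohIII.tensorAFunctor A₀ F₀).map (a • 𝟙 (ModuleCat.of A₀ A₀)) ≫ alpha g F₀ F e =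
      alpha g F₀ F e ≫ (Scheme.Modules.pushforward g).map
        ((CohIII.tensorAFunctor A F).map (φ a • 𝟙 (ModuleCat.of A A))) := by
  have h1 : (unitIso F).inv ≫ (CohIII.tensorAFunctor A F).map (φ a • 𝟙 (ModuleCat.of A A)) =
      Formal.smulMod A F (φ a) ≫ (unitIso F).inv := by
    rw [Iso.inv_comp_eq, ← Category.assoc, ← unitIso_smul, Category.assoc, Iso.hom_inv_id,
      Category.comp_id]
  unfold alpha
  rw [← Category.assoc, unitIso_smul]
  simp only [Category.assoc]
  have h2 := (Scheme.Modules.pullbackPushforwardAdjunction g).unit.naturality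
    (Formal.smulMod A₀ F₀ a)
  rw [Functor.comp_map, pullback_smulMod φ g H, Functor.id_map] at h2
  rw [reassoc_of% h2, ← Functor.map_comp, ← Functor.map_comp, Category.assoc, h1,
    ← FormalB.ModPow.smulMod_naturality_assoc]

end Sec

section Lin

variable {A : Type u} [CommRing A] {X : Scheme.{u}} [X.Over (Spec (CommRingCat.of A))]

theorem additive_tilde (A : Type u) [CommRing A] : (tilde.functor (CommRingCat.of A)).Additive :=
  ⟨fun {_ _ f g} => tilde.map_add f g⟩

attribute [local instance] additive_tilde in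
theorem additive_tensorAFunctor (F : X.Modules) : (CohIII.tensorAFunctor A F).Additive := by
  unfold CohIII.tensorAFunctor
  infer_instance

theorem additive_toPresheaf (X : Scheme.{u}) : (Scheme.Modules.toPresheaf X).Additive :=
  ⟨fun {_ _ _ _} => rfl⟩

attribute [local instance] additive_tensorAFunctor additive_toPresheaf

instance additive_secFun (F : X.Modules) (V : X.Opens) : (secFun A F V).Additive where
  map_add {M N f g} := by
    change ((CohIII.tensorAFunctor A F).map (f + g)).app V =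
      ((CohIII.tensorAFunctor A F).map f).app V + ((CohIII.tensorAFunctor A F).map g).app V
    rw [Functor.map_add]
    rfl

theorem unitIso_inv_hom (F : X.Modules) (V : X.Opens) (x : Γ(F, V)) :
    (unitIso (A := A) F).hom.app V ((unitIso (A := A) F).inv.app V x) = x := by
  have h := congr(($((unitIso (A := A) F).inv_hom_id)).app V x)
  exact h

theorem unitIso_hom_inv (F : X.Modules) (V : X.Opens)
    (x : Γ((CohIII.tensorAFunctor A F).obj (ModuleCat.of A A), V)) :
    (unitIso (A := A) F).inv.app V ((unitIso (A := A) F).hom.app V x) = x := by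
  have h := congr(($((unitIso (A := A) F).hom_inv_id)).app V x)
  exact h

/-- The functorial action of `A` on `Γ(F ⊗_A A, V)` is the geometric one on `Γ(F, V)`. -/
noncomputable def secEquiv (F : X.Modules) (V : X.Opens) :
    letI := modSec A F V
    LType (secFun A F V) (ModuleCat.of A A) ≃ₗ[A] Γ(F, V) :=
  letI := modSec A F V
  { toFun := fun x => (unitIso (A := A) F).hom.app V ((toLift (secFun A F V) (ModuleCat.of A A)).symm x)
    invFun := fun x => toLift (secFun A F V) (ModuleCat.of A A) ((unitIso (A := A) F).inv.app V x)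
    map_add' := fun x y => by
      rw [map_add]
      exact map_add _ _ _
    map_smul' := fun a x => by
      obtain ⟨x, rfl⟩ := (toLift (secFun A F V) (ModuleCat.of A A)).surjective x
      have h := congr(($(unitIso_smul (A := A) F a)).app V x)
      exact h
    left_inv := fun x => by
      obtain ⟨x, rfl⟩ := (toLift (secFun A F V) (ModuleCat.of A A)).surjective x
      exact congrArg (toLift (secFun A F V) (ModuleCat.of A A)) (unitIso_hom_inv F V x)
    right_inv := fun x => unitIso_inv_hom F V x }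

end Lin

section Main

variable {A₀ A : Type u} [CommRing A₀] [CommRing A] (φ : A₀ →+* A) {X₀ X : Scheme.{u}}
  [X₀.Over (Spec (CommRingCat.of A₀))] [X.Over (Spec (CommRingCat.of A))] (g : X ⟶ X₀)
  (H : IsPullback g (X ↘ Spec (CommRingCat.of A)) (X₀ ↘ Spec (CommRingCat.of A₀))
    (Spec.map (CommRingCat.ofHom φ)))

attribute [local instance] additive_tensorAFunctor additive_toPresheaf

include H in
theorem isBC_alpha (F₀ : X₀.Modules) (hF₀ : Coh.IsQCoh F₀) (F : X.Modules)
    (e : (Scheme.Modules.pullback g).obj F₀ ≅ F) {W : X₀.Opens} (hW : IsAffineOpen W) :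
    IsBC φ (M := LType (secFun A₀ F₀ W) (ModuleCat.of A₀ A₀))
      (N := LType (secFun A F (g ⁻¹ᵁ W)) (ModuleCat.of A A)) ((alpha g F₀ F e).app W).hom := by
  let i1 := modSec A₀ F₀ W
  let i2 := modSec A ((Scheme.Modules.pullback g).obj F₀) (g ⁻¹ᵁ W)
  let i3 := modSec A F (g ⁻¹ᵁ W)
  have h1 := isBC_sec φ g H F₀ hF₀ hW
  have h2 : IsBC (RingHom.id A₀) ((secEquiv (A := A₀) F₀ W).toAddEquiv.toAddMonoidHom) :=
    IsBC.of_bijective _ Function.bijective_id _ (secEquiv (A := A₀) F₀ W).bijective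
      (fun r x => (secEquiv (A := A₀) F₀ W).map_smul r x)
  have h3 := h2.comp h1
  let E : Γ((Scheme.Modules.pullback g).obj F₀, g ⁻¹ᵁ W) ≃ₗ[A] Γ(F, g ⁻¹ᵁ W) :=
    { toFun := e.hom.app (g ⁻¹ᵁ W)
      invFun := e.inv.app (g ⁻¹ᵁ W)
      map_add' := fun x y => map_add _ _ _
      map_smul' := fun a x => Scheme.Modules.Hom.app_smul _ _ _
      left_inv := fun x => congr(($(e.hom_inv_id)).app (g ⁻¹ᵁ W) x)
      right_inv := fun x => congr(($(e.inv_hom_id)).app (g ⁻¹ᵁ W) x) }
  refine h3.of_equiv (E.trans (secEquiv (A := A) F (g ⁻¹ᵁ W)).symm) (fun x => ?_)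
  obtain ⟨x, rfl⟩ := (toLift (secFun A₀ F₀ W) (ModuleCat.of A₀ A₀)).surjective x
  have h4 : ∀ s : Γ(F₀, W), PullSec.sec g F₀ (U := W) (V := g ⁻¹ᵁ W) le_rfl s =
      ((Scheme.Modules.pullbackPushforwardAdjunction g).unit.app F₀).app W s := fun s => by
    rw [PullSec.sec_apply]
    exact Fdesc.QCohStalk.map_self _ _ _
  change toLift (secFun A F (g ⁻¹ᵁ W)) (ModuleCat.of A A) ((unitIso (A := A) F).inv.app (g ⁻¹ᵁ W)
    (e.hom.app (g ⁻¹ᵁ W) (PullSec.sec g F₀ (U := W) (V := g ⁻¹ᵁ W) le_rfl
      ((unitIso (A := A₀) F₀).hom.app W x)))) = _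
  rw [h4]
  rfl

/-- `M ↦ (V ↦ Γ(F ⊗_A M, V))`. -/
noncomputable abbrev baseFun (A : Type u) [CommRing A] {X : Scheme.{u}}
    [X.Over (Spec (CommRingCat.of A))] (F : X.Modules) :
    ModuleCat.{u} A ⥤ (X.Opensᵒᵖ ⥤ AddCommGrpCat.{u}) :=
  CohIII.tensorAFunctor A F ⋙ Scheme.Modules.toPresheaf X

instance additive_baseFun (A : Type u) [CommRing A] {X : Scheme.{u}}
    [X.Over (Spec (CommRingCat.of A))] (F : X.Modules) : (baseFun A F).Additive where
  map_add {M N a b} := by
    change (Scheme.Modules.toPresheaf X).map ((CohIII.tensorAFunctor A F).map (a + b)) = _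
    rw [Functor.map_add, Functor.map_add]
    rfl

/-- The functorial presheaf on `X₀` attached to `X`. -/
noncomputable abbrev pushFun (F : X.Modules) :
    ModuleCat.{u} A ⥤ (X₀.Opensᵒᵖ ⥤ AddCommGrpCat.{u}) :=
  baseFun A F ⋙ (Functor.whiskeringLeft _ _ AddCommGrpCat.{u}).obj (Opens.map g.base).op

instance additive_pushFun (F : X.Modules) : (pushFun (A := A) g F).Additive where
  map_add {M N a b} := by
    change Functor.whiskerLeft (Opens.map g.base).op ((Scheme.Modules.toPresheaf X).map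
      ((CohIII.tensorAFunctor A F).map (a + b))) = _
    rw [Functor.map_add, Functor.map_add]
    rfl

include H in
/-- Affine base change on the level of Cech cohomology, natural in the module. -/
theorem nonempty_cech_iso {κ : Type u} [Finite κ] (U : κ → X₀.Opens)
    (hU : ∀ (n : ℕ) (i : Fin (n + 1) → κ), IsAffineOpen (∏ᶜ (U ∘ i) : X₀.Opens))
    (F₀ : X₀.Modules) (hF₀ : Coh.IsQCoh F₀) (F : X.Modules)
    (e : (Scheme.Modules.pullback g).obj F₀ ≅ F) (p : ℕ) :
    Nonempty (ModuleCat.restrictScalars φ ⋙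
      (cechFun U (baseFun A₀ F₀) ⋙ HomologicalComplex.homologyFunctor _ _ p) ≅
      cechFun (fun k => g ⁻¹ᵁ (U k)) (baseFun A F) ⋙
        HomologicalComplex.homologyFunctor _ _ p) := by
  have hg : IsAffineHom g := MorphismProperty.of_isPullback H.flip inferInstance
  have hF : Coh.IsQCoh F :=
    (SheafOfModules.isQuasicoherent X.ringCatSheaf).prop_of_iso e
      (PullSec.isQCoh_pullback g F₀ hF₀)
  obtain ⟨E⟩ := CechBC.nonempty_iso U (baseFun A₀ F₀) φ (pushFun (A := A) g F)
    (fun n i => preservesColimits_secFun F₀ hF₀ (hU n i))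
    (fun n i => preservesColimits_secFun F hF ((hU n i).preimage g))
    ((Scheme.Modules.toPresheaf X₀).map (alpha g F₀ F e))
    (fun a => congrArg (Scheme.Modules.toPresheaf X₀).map (alpha_smul φ g H F₀ F e a))
    (fun n i => isBC_alpha φ g H F₀ hF₀ F e (hU n i)) p
  refine ⟨E ≪≫ ?_⟩
  exact Functor.isoWhiskerLeft (baseFun A F)
    (Functor.isoWhiskerRight (CechTransport.cechMapIso g.base U)
      (HomologicalComplex.homologyFunctor _ _ p))

end Main

end Groth.Agent.CurvesB.BCNat
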