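import Groth.Agent.VarietyA.DimIneq
import Groth.Agent.VarietyA.Dim1Top
import Mathlib.AlgebraicGeometry.ZariskisMainTheorem

/-!
# Proper birational morphisms onto one-dimensional Noetherian schemes are finite
-/

set_option autoImplicit false
universe u

open TopologicalSpace CategoryTheory CategoryTheory.Limits AlgebraicGeometry
open Groth.Agent.CycB.RelDim

namespace Groth.Agent.CurvesB.BirFinite

variable {X X' : Scheme.{u}}

/-- points of a Noetherian scheme generalize to points of a dense open -/
theorem exists_generization [IsNoetherian X] (V : X.Opens) (hV : Dense (V : Set X)) (x : X) :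
    ∃ η ∈ V, η ⤳ x := by
  obtain ⟨Z, hZ, hTZ⟩ := exists_mem_irreducibleComponents_subset_of_isIrreducible {x}
    isIrreducible_singleton
  have hZc := isClosed_of_mem_irreducibleComponents Z hZ
  obtain ⟨O, hO, hOne, hOZ⟩ :=
    NoetherianSpace.exists_isOpen_nonempty_subset_irreducibleComponent Z hZ
  obtain ⟨y, hyO, hyU⟩ := hV.inter_open_nonempty O hO hOne
  have hyZ : y ∈ Z := hOZ hyO
  obtain ⟨η, hη⟩ := QuasiSober.sober hZ.1 hZc
  refine ⟨η, ?_, hη.specializes (hTZ rfl)⟩
  exact (hη.specializes hyZ).mem_open V.isOpen hyU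

/-- the residue field extension is trivial over an open where the morphism is an isomorphism -/
theorem rtd_eq_zero (f : X' ⟶ X) (U : X.Opens) [IsIso (f ∣_ U)] (x : X') (hx : f x ∈ U) :
    rtd f x = 0 := by
  have h1 : IsPreimmersion ((f ⁻¹ᵁ U).ι ≫ f) := by
    rw [← morphismRestrict_ι]
    infer_instance
  have h2 := VarietyA.LocDim.rtd_ι_comp (f ⁻¹ᵁ U) f ⟨x, hx⟩
  rw [← h2]
  exact rtd_eq_zero_of_isPreimmersion _ _

/-- points outside of the preimage of `U` are closed. -/
theorem isClosed_singleton [IsNoetherian X] [IsNoetherian X'] (f : X' ⟶ X) [LocallyOfFiniteType f]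
    (hdim : topologicalKrullDim X ≤ 1) (U : X.Opens) (hU : Dense (U : Set X))
    (hU' : Dense ((f ⁻¹ᵁ U : X'.Opens) : Set X')) [IsIso (f ∣_ U)] (x : X') (hx : f x ∉ U) :
    IsClosed ({x} : Set X') := by
  -- the transcendence degree vanishes
  have key : rtd f x = 0 := by
    obtain ⟨η, hη, hηx⟩ := exists_generization (f ⁻¹ᵁ U) hU' x
    have hne : η ≠ x := by
      rintro rfl
      exact hx hη
    obtain ⟨a, b, c, ha, hb, hc, habc⟩ := VarietyA.DimIneq.ineq f hηx hne (f x) rfl
    rw [rtd_eq_zero f U η hη] at hb
    have hb0 : b = 0 := by exact_mod_cast hb.symm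
    have hc1 : c ≤ 1 := by
      have h1 : ringKrullDim (X.presheaf.stalk (f x)) ≤ 1 := by
        rw [ringKrullDim_stalk_eq_coheight]
        refine (Order.coheight_le_krullDim (f x)).trans ?_
        rwa [← Order.krullDim_eq_of_orderIso (irreducibleSetEquivPoints (α := X))]
      rw [hc] at h1
      exact_mod_cast h1
    have ha0 : a = 0 := by omega
    rw [ha, ha0, Nat.cast_zero]
  have hfx : IsClosed ({f x} : Set X) := (VarietyA.Dim1Top.point_of_compl hdim U hU (f x) hx).1
  rw [← closure_subset_iff_isClosed]
  intro y hy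
  by_contra hne
  have h1 : x ⤳ y := specializes_iff_mem_closure.mpr hy
  have h2 : f x = f y := by
    have : f y ∈ closure {f x} := specializes_iff_mem_closure.mp (h1.map f.continuous)
    rw [hfx.closure_eq] at this
    exact this.symm
  have h3 := rtd_lt_of_specializes f h1 (fun h => hne h.symm) h2
  rw [key] at h3
  exact (not_lt_bot h3)

/-- A proper morphism which is an isomorphism over a dense open of a one-dimensional Noetherian scheme,
with dense preimage, is finite. -/
theorem isFinite [IsNoetherian X] (f : X' ⟶ X) [IsProper f]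
    (hdim : topologicalKrullDim X ≤ 1) (U : X.Opens) (hU : Dense (U : Set X))
    (hU' : Dense ((f ⁻¹ᵁ U : X'.Opens) : Set X')) [IsIso (f ∣_ U)] : IsFinite f := by
  have hLN : IsLocallyNoetherian X' := LocallyOfFiniteType.isLocallyNoetherian f
  have hC : CompactSpace X' := QuasiCompact.compactSpace_of_compactSpace f
  have hN : IsNoetherian X' := {}
  have hfin : (((f ⁻¹ᵁ U : X'.Opens) : Set X')ᶜ).Finite := by
    obtain ⟨S, hSf, hSc, hSi, hSU⟩ :=
      NoetherianSpace.exists_finite_set_isClosed_irreducible (f ⁻¹ᵁ U).isOpen.isClosed_compl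
    rw [hSU]
    refine hSf.sUnion fun T hT => ?_
    obtain ⟨η, hη⟩ := QuasiSober.sober (hSi T hT) (hSc T hT)
    have hηU : η ∉ f ⁻¹ᵁ U := by
      have : η ∈ ((f ⁻¹ᵁ U : X'.Opens) : Set X')ᶜ := by
        rw [hSU]
        exact Set.mem_sUnion.mpr ⟨T, hT, hη.mem⟩
      exact this
    have h1 := isClosed_singleton f hdim U hU hU' η hηU
    rw [← hη.def, h1.closure_eq]
    exact Set.finite_singleton η
  have hqf : LocallyQuasiFinite f := by
    refine LocallyQuasiFinite.of_finite_preimage_singleton f fun y => ?_
    by_cases hy : y ∈ U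
    · refine Set.Subsingleton.finite ?_
      intro a ha b hb
      have hinj : Function.Injective (f ∣_ U) :=
        (TopCat.homeoOfIso (asIso (f ∣_ U).base)).injective
      have hab : (f ∣_ U) ⟨a, by change f a ∈ U; rw [show f a = y from ha]; exact hy⟩ =
          (f ∣_ U) ⟨b, by change f b ∈ U; rw [show f b = y from hb]; exact hy⟩ := by
        apply Subtype.ext
        rw [morphismRestrict_base_coe, morphismRestrict_base_coe]
        exact (show f a = y from ha).trans (show f b = y from hb).symm
      exact congrArg Subtype.val (hinj hab)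
    · refine hfin.subset ?_
      intro a ha ha'
      exact hy ((show f a = y from ha) ▸ ha')
  exact IsFinite.of_isProper_of_locallyQuasiFinite f

end Groth.Agent.CurvesB.BirFinite
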