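import Groth.Prelude.Def_CAlg
import Mathlib.RingTheory.KrullDimension.Regular
import Mathlib.RingTheory.Ideal.AssociatedPrime.Finiteness

/-! Cohen-Macaulay local rings of dimension at most one. -/

set_option autoImplicit false
universe u

namespace Groth.Agent.CurvesB.CMDimOne

theorem depth_eq (A : Type u) [CommRing A] [IsLocalRing A] :
    LocCoh.depth A A = ⨆ (rs : List A) (_ : RingTheory.Sequence.IsWeaklyRegular A rs ∧
    ∀ r ∈ rs, r ∈ IsLocalRing.maximalIdeal A), (rs.length : ℕ∞) := by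
  unfold LocCoh.depth LocCoh.idealDepth
  rw [if_neg]
  rw [smul_eq_mul, Ideal.mul_top]
  exact Ideal.IsPrime.ne_top'

variable (A : Type u) [CommRing A] [IsLocalRing A] [IsNoetherianRing A]

/-- depth ≤ dim for a Noetherian local ring. -/
theorem depth_le : ((LocCoh.depth A A : ℕ∞) : WithBot ℕ∞) ≤ ringKrullDim A := by
  obtain ⟨n, hn⟩ : ∃ n : ℕ∞, ringKrullDim A = (n : WithBot ℕ∞) := by
    cases h : ringKrullDim A with
    | bot => exact absurd h ringKrullDim_ne_bot
    | coe n => exact ⟨n, rfl⟩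
  rw [hn, WithBot.coe_le_coe, depth_eq]
  refine iSup₂_le fun rs hrs => ?_
  have hreg := RingTheory.Sequence.IsRegular.of_isWeaklyRegular_of_mem_maximalIdeal A hrs.2 hrs.1
  have h := ringKrullDim_add_length_eq_ringKrullDim_of_isRegular rs hreg
  rw [hn] at h
  have hnt : Nontrivial (A ⧸ Ideal.ofList rs) := by
    apply Ideal.Quotient.nontrivial_iff.mpr
    intro htop
    apply (hreg.2)
    rw [htop]
    simp
  rw [← WithBot.coe_le_coe, ← h]
  have h0 : (0 : WithBot ℕ∞) ≤ ringKrullDim (A ⧸ Ideal.ofList rs) := ringKrullDim_nonneg_of_nontrivial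
  calc (((rs.length : ℕ) : ℕ∞) : WithBot ℕ∞) = 0 + ((rs.length : ℕ) : WithBot ℕ∞) := by simp
    _ ≤ _ := by gcongr

theorem of_dim_zero (h : ringKrullDim A = 0) : LocCoh.IsCohenMacaulayLocalRing A where
  supportDim_eq_depth := by
    rw [Module.supportDim_self_eq_ringKrullDim]
    apply le_antisymm _ (depth_le A)
    rw [h, ← WithBot.coe_zero, WithBot.coe_le_coe]
    exact zero_le

/-- If no nonzero element is killed by the maximal ideal, the depth is at least one. -/
theorem one_le_depth (hm : ∀ a : A, (∀ m ∈ IsLocalRing.maximalIdeal A, m * a = 0) → a = 0) :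
    1 ≤ LocCoh.depth A A := by
  -- a nonzerodivisor in m
  obtain ⟨x, hx, hx0⟩ : ∃ x ∈ IsLocalRing.maximalIdeal A, x ∈ nonZeroDivisors A := by
    by_contra hcon
    push Not at hcon
    have h1 := Ideal.bot_lt_annihilator_of_disjoint_nonZeroDivisors (A := A)
      (I := IsLocalRing.maximalIdeal A) (Set.disjoint_left.mpr hcon)
    obtain ⟨a, ha, ha0⟩ := Submodule.exists_mem_ne_zero_of_ne_bot h1.ne'
    apply ha0
    apply hm
    intro m hmm
    rw [mul_comm]
    exact (Submodule.mem_annihilator.mp ha) m hmm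
  rw [depth_eq]
  refine le_iSup₂_of_le [x] ⟨?_, ?_⟩ ?_
  · rw [RingTheory.Sequence.isWeaklyRegular_cons_iff]
    exact ⟨Module.Flat.isSMulRegular_of_nonZeroDivisors hx0, RingTheory.Sequence.IsWeaklyRegular.nil _ _⟩
  · simpa using hx
  · simp

theorem one_le_dim (hm : ∀ a : A, (∀ m ∈ IsLocalRing.maximalIdeal A, m * a = 0) → a = 0) :
    1 ≤ ringKrullDim A := by
  refine le_trans ?_ (depth_le A)
  exact_mod_cast one_le_depth A hm

theorem of_dim_one (h : ringKrullDim A ≤ 1)
    (hm : ∀ a : A, (∀ m ∈ IsLocalRing.maximalIdeal A, m * a = 0) → a = 0) :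
    LocCoh.IsCohenMacaulayLocalRing A where
  supportDim_eq_depth := by
    rw [Module.supportDim_self_eq_ringKrullDim]
    apply le_antisymm _ (depth_le A)
    refine h.trans ?_
    exact_mod_cast one_le_depth A hm

end Groth.Agent.CurvesB.CMDimOne
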