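import Groth.Agent.CurvesB.EWBC
import Groth.Agent.Ega3B.CechFun
import Groth.Agent.CohqA.CechBasic

/-!
# Base change for functorial Cech complexes
-/

set_option autoImplicit false
universe u v w

open CategoryTheory CategoryTheory.Limits Opposite

namespace Groth.Agent.CurvesB.CechBC

open Groth.Agent.Ega3B.EWatts Groth.Agent.CohqA.BaseChangeMod Groth.Agent.Ega3B.CechFun

section Alg

variable {A B : Type u} [CommRing A] [CommRing B]

/-- a map which is a finite product of base changes up to linear isomorphisms is a base change -/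
theorem isBC_of_pi (φ : A →+* B) {ι : Type u} [Finite ι] {M N : ι → Type u}
    [∀ i, AddCommGroup (M i)] [∀ i, Module A (M i)] [∀ i, AddCommGroup (N i)] [∀ i, Module B (N i)]
    (f : ∀ i, M i →+ N i) (hf : ∀ i, IsBC φ (f i)) {M' N' : Type u} [AddCommGroup M']
    [AddCommGroup N'] [Module A M'] [Module B N'] (eM : M' ≃ₗ[A] ∀ i, M i) (eN : N' ≃ₗ[B] ∀ i, N i)
    (F : M' →+ N') (hF : ∀ x i, eN (F x) i = f i (eM x i)) : IsBC φ F := by
  let F' : (∀ i, M i) →+ (∀ i, N i) :=
    { toFun := fun x i => f i (x i)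
      map_zero' := by ext i; simp
      map_add' := fun x y => by ext i; simp }
  have h1 : IsBC φ F' := EWBC.isBC_pi φ f hf F' (fun x i => rfl)
  have h2 : IsBC (RingHom.id A) (eM.toAddEquiv.toAddMonoidHom) :=
    IsBC.of_bijective _ Function.bijective_id _ eM.bijective (fun r x => eM.map_smul r x)
  have h3 : IsBC φ (F'.comp eM.toAddEquiv.toAddMonoidHom) := h2.comp h1
  refine h3.of_equiv eN.symm (fun x => ?_)
  rw [LinearEquiv.symm_apply_eq]
  ext i
  exact (hF x i).symm

end Alg

section Cech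

variable {C : Type u} [Category.{v} C] [HasFiniteProducts C]

instance additive_cech {κ : Type w}
    (U : κ → C) : (cechComplexFunctor (A := AddCommGrpCat.{w}) U).Additive where
  map_add {P Q f g} := by
    ext n : 1
    change Limits.Pi.map (fun i : (ToType (SimplexCategory.mk n) → κ) =>
      f.app (op (∏ᶜ (U ∘ i) : C)) + g.app (op (∏ᶜ (U ∘ i) : C))) =
        Limits.Pi.map (fun i : (ToType (SimplexCategory.mk n) → κ) => f.app (op (∏ᶜ (U ∘ i) : C))) +
        Limits.Pi.map (fun i : (ToType (SimplexCategory.mk n) → κ) => g.app (op (∏ᶜ (U ∘ i) : C)))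
    apply Limits.Pi.hom_ext
    intro i
    rw [Preadditive.add_comp, Limits.Pi.map_π, Limits.Pi.map_π, Limits.Pi.map_π,
      Preadditive.comp_add]

variable {A : Type u} [CommRing A] {κ : Type u} (U : κ → C)
  (G : ModuleCat.{u} A ⥤ (Cᵒᵖ ⥤ AddCommGrpCat.{u})) [G.Additive]

/-- The value of the functorial presheaf at a product, as a functor. -/
noncomputable abbrev evG (n : ℕ) (i : Fin (n + 1) → κ) : ModuleCat.{u} A ⥤ AddCommGrpCat.{u} :=
  G ⋙ (evaluation _ _).obj (op (∏ᶜ (U ∘ i) : C))

/-- The terms of the Cech complex as `A`-modules. -/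
noncomputable def termEquiv (n : ℕ) (M : ModuleCat.{u} A) :
    LType (cechFun U G ⋙ HomologicalComplex.eval _ _ n) M ≃ₗ[A]
      ∀ i : Fin (n + 1) → κ, LType (evG U G n i) M :=
  { ((toLift (cechFun U G ⋙ HomologicalComplex.eval _ _ n) M).symm.trans
      (CohqA.CechBasic.piIso (fun i : Fin (n + 1) → κ =>
        (G.obj M).obj (op (∏ᶜ (U ∘ i) : C)))).addCommGroupIsoToAddEquiv).trans
      (AddEquiv.piCongrRight (fun i => toLift (evG U G n i) M)) with
    map_smul' := fun a x => by
      obtain ⟨x, rfl⟩ := (toLift (cechFun U G ⋙ HomologicalComplex.eval _ _ n) M).surjective x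
      funext i
      have h1 := congrArg (fun t => t.hom x) (Limits.Pi.map_π (fun i : Fin (n + 1) → κ =>
        (G.map (a • 𝟙 M)).app (op (∏ᶜ (U ∘ i) : C))) i)
      exact congrArg (toLift (evG U G n i) M) h1 }

theorem termEquiv_apply (n : ℕ) (M : ModuleCat.{u} A)
    (x : ((cechFun U G ⋙ HomologicalComplex.eval _ _ n).obj M : AddCommGrpCat.{u}))
    (i : Fin (n + 1) → κ) :
    termEquiv U G n M (toLift _ M x) i = toLift (evG U G n i) M
      ((Limits.Pi.π (fun i : Fin (n + 1) → κ => (G.obj M).obj (op (∏ᶜ (U ∘ i) : C))) i).hom x) :=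
  rfl

variable {A' : Type u} [CommRing A'] (φ : A →+* A')
  (G' : ModuleCat.{u} A' ⥤ (Cᵒᵖ ⥤ AddCommGrpCat.{u})) [G'.Additive]

/-- Cech version of the abstract base change theorem. -/
theorem nonempty_iso [Finite κ]
    (hc : ∀ (n : ℕ) (i : Fin (n + 1) → κ), PreservesColimits (evG U G n i))
    (hc' : ∀ (n : ℕ) (i : Fin (n + 1) → κ), PreservesColimits (evG U G' n i))
    (α : G.obj (ModuleCat.of A A) ⟶ G'.obj (ModuleCat.of A' A'))
    (hα : ∀ a : A, G.map (a • 𝟙 (ModuleCat.of A A)) ≫ α =
      α ≫ G'.map (φ a • 𝟙 (ModuleCat.of A' A')))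
    (hbc : ∀ (n : ℕ) (i : Fin (n + 1) → κ), IsBC φ
      (M := LType (evG U G n i) (ModuleCat.of A A)) (N := LType (evG U G' n i) (ModuleCat.of A' A'))
      (α.app (op (∏ᶜ (U ∘ i) : C))).hom) (p : ℕ) :
    Nonempty (ModuleCat.restrictScalars φ ⋙
      (cechFun U G ⋙ HomologicalComplex.homologyFunctor _ _ p) ≅
      cechFun U G' ⋙ HomologicalComplex.homologyFunctor _ _ p) := by
  have h1 := preservesColimits_cechFun_eval U G hc
  have h2 := preservesColimits_cechFun_eval U G' hc'
  refine EWBC.nonempty_iso φ (cechFun U G) (cechFun U G') ((cechComplexFunctor U).map α) ?_ ?_ p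
  · intro a
    change (cechComplexFunctor U).map _ ≫ (cechComplexFunctor U).map α =
      (cechComplexFunctor U).map α ≫ (cechComplexFunctor U).map _
    rw [← Functor.map_comp, ← Functor.map_comp, hα]
  · intro n
    refine isBC_of_pi φ (M := fun i => LType (evG U G n i) (ModuleCat.of A A))
      (N := fun i => LType (evG U G' n i) (ModuleCat.of A' A')) (fun i => (α.app (op (∏ᶜ (U ∘ i) : C))).hom) (fun i => hbc n i)
      (termEquiv U G n (ModuleCat.of A A)) (termEquiv U G' n (ModuleCat.of A' A')) _ ?_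
    intro x i
    exact congrArg (fun t => t.hom x) (Limits.Pi.map_π (fun i : Fin (n + 1) → κ =>
      α.app (op (∏ᶜ (U ∘ i) : C))) i)

end Cech

end Groth.Agent.CurvesB.CechBC
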