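import Mathlib.LinearAlgebra.FiniteDimensional.Lemmas
import Mathlib.LinearAlgebra.Dimension.Constructions
import Mathlib.LinearAlgebra.Isomorphisms
import Mathlib.LinearAlgebra.Quotient.Basic

/-!
# Linear algebra of Euler characteristics of pairs of subspaces

For subspaces `K U ≤ E`, `chi K U = dim (K ⊓ U) - dim E/(K ⊔ U)`.
-/

namespace Groth.Agent.CurvesB.ChiLin

universe u v w

variable {k : Type u} [Field k] {E : Type v} [AddCommGroup E] [Module k E]

/-- The pair `K, U` is Fredholm. -/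
structure Fred (K U : Submodule k E) : Prop where
  inf : FiniteDimensional k (K ⊓ U : Submodule k E)
  sup : FiniteDimensional k (E ⧸ (K ⊔ U))

/-- Euler characteristic of the pair. -/
noncomputable def chi (K U : Submodule k E) : ℤ :=
  (Module.finrank k (K ⊓ U : Submodule k E) : ℤ) - Module.finrank k (E ⧸ (K ⊔ U))

/-- relative dimension of `U ≤ U'`. -/
noncomputable def rel (U U' : Submodule k E) : ℕ := Module.finrank k (U' ⧸ U.submoduleOf U')

/-- finiteness of the relative dimension. -/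
def RelFin (U U' : Submodule k E) : Prop := FiniteDimensional k (U' ⧸ U.submoduleOf U')

/-- Surjection with explicit kernel gives a dimension formula. -/
lemma finrank_quot_eq {M N : Type*} [AddCommGroup M] [Module k M] [AddCommGroup N] [Module k N]
    (f : M →ₗ[k] N) : Module.finrank k (M ⧸ LinearMap.ker f) = Module.finrank k (LinearMap.range f) :=
  f.quotKerEquivRange.finrank_eq

/-- Third isomorphism style formula: `dim W/U = dim W/V + dim V/U` for `U ≤ V ≤ W`. -/
lemma rel_add {U V W : Submodule k E} (hUV : U ≤ V) (hVW : V ≤ W) (h : RelFin U W) :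
    RelFin V W ∧ RelFin U V ∧ rel U W = rel V W + rel U V := by
  unfold RelFin at h
  -- the map W/U → W/V
  have hle : U.submoduleOf W ≤ V.submoduleOf W := Submodule.comap_mono hUV
  let f : (W ⧸ U.submoduleOf W) →ₗ[k] (W ⧸ V.submoduleOf W) := Submodule.factor hle
  have hf : Function.Surjective f := Submodule.factor_surjective hle
  have h1 : RelFin V W := Module.Finite.of_surjective f hf
  -- the map V/U → W/U
  let i : V →ₗ[k] W := Submodule.inclusion hVW
  let j : (V ⧸ U.submoduleOf V) →ₗ[k] (W ⧸ U.submoduleOf W) :=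
    Submodule.mapQ _ _ i (fun x hx => hx)
  have hj : Function.Injective j := by
    rw [← LinearMap.ker_eq_bot, Submodule.ker_mapQ]
    rw [eq_bot_iff]
    rintro _ ⟨x, hx, rfl⟩
    rw [Submodule.mem_bot, Submodule.mkQ_apply, Submodule.Quotient.mk_eq_zero]
    exact hx
  have h2 : RelFin U V := Module.Finite.of_injective j hj
  refine ⟨h1, h2, ?_⟩
  have hrk := LinearMap.finrank_range_add_finrank_ker f
  rw [LinearMap.range_eq_top.2 hf, finrank_top] at hrk
  have hker : LinearMap.ker f = LinearMap.range j := by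
    ext x
    obtain ⟨x, rfl⟩ := Submodule.mkQ_surjective _ x
    constructor
    · intro hx
      have hx' : (Submodule.mkQ (V.submoduleOf W)) x = 0 := hx
      rw [Submodule.mkQ_apply, Submodule.Quotient.mk_eq_zero] at hx'
      exact ⟨Submodule.Quotient.mk ⟨x.1, hx'⟩, rfl⟩
    · rintro ⟨y, hy⟩
      obtain ⟨y, rfl⟩ := Submodule.mkQ_surjective _ y
      rw [← hy]
      change (Submodule.mkQ (V.submoduleOf W)) (i y) = 0
      rw [Submodule.mkQ_apply, Submodule.Quotient.mk_eq_zero]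
      exact y.2
  rw [hker, LinearMap.finrank_range_of_inj hj] at hrk
  exact hrk.symm

/-- Changing `U` to a bigger `U'`. -/
theorem chi_rel {K U U' : Submodule k E} (hU : U ≤ U') (hf : Fred K U) (hr : RelFin U U') :
    Fred K U' ∧ chi K U' = chi K U + rel U U' := by
  have hle : K ⊔ U ≤ K ⊔ U' := sup_le_sup_left hU K
  -- f : E/(K+U) → E/(K+U')
  let f : (E ⧸ (K ⊔ U)) →ₗ[k] (E ⧸ (K ⊔ U')) := Submodule.factor hle
  have hfs : Function.Surjective f := Submodule.factor_surjective hle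
  have := hf.sup
  have := hf.inf
  have hsup : FiniteDimensional k (E ⧸ (K ⊔ U')) := Module.Finite.of_surjective f hfs
  have hrk := LinearMap.finrank_range_add_finrank_ker f
  rw [LinearMap.range_eq_top.2 hfs, finrank_top] at hrk
  -- φ : U' → E/(K+U) has range = ker f and kernel = U + (K ∩ U')
  let φ : U' →ₗ[k] (E ⧸ (K ⊔ U)) := (Submodule.mkQ (K ⊔ U)) ∘ₗ U'.subtype
  have hφr : LinearMap.range φ = LinearMap.ker f := by
    ext x
    obtain ⟨x, rfl⟩ := Submodule.mkQ_surjective _ x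
    constructor
    · rintro ⟨y, hy⟩
      rw [← hy]
      change (Submodule.mkQ (K ⊔ U')) (y : E) = 0
      rw [Submodule.mkQ_apply, Submodule.Quotient.mk_eq_zero]
      exact Submodule.mem_sup_right y.2
    · intro hx
      have hx' : (Submodule.mkQ (K ⊔ U')) x = 0 := hx
      rw [Submodule.mkQ_apply, Submodule.Quotient.mk_eq_zero] at hx'
      obtain ⟨a, ha, b, hb, hab⟩ := Submodule.mem_sup.1 hx'
      refine ⟨⟨b, hb⟩, ?_⟩
      change Submodule.Quotient.mk b = Submodule.Quotient.mk x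
      rw [Submodule.Quotient.eq, ← hab]
      have : b - (a + b) = -a := by abel
      rw [this]
      exact Submodule.mem_sup_left (neg_mem ha)
  -- V := U + (K ∩ U')
  set V : Submodule k E := U ⊔ (K ⊓ U') with hV
  have hUV : U ≤ V := le_sup_left
  have hVU' : V ≤ U' := sup_le hU inf_le_right
  have hφk : LinearMap.ker φ = V.submoduleOf U' := by
    ext ⟨x, hx⟩
    rw [LinearMap.mem_ker]
    change Submodule.Quotient.mk x = (0 : E ⧸ (K ⊔ U)) ↔ x ∈ V
    rw [Submodule.Quotient.mk_eq_zero, Submodule.mem_sup, hV, Submodule.mem_sup]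
    constructor
    · rintro ⟨a, ha, b, hb, hab⟩
      refine ⟨b, hb, a, ⟨ha, ?_⟩, by rw [add_comm]; exact hab⟩
      have : a = x - b := by rw [← hab]; abel
      rw [this]
      exact sub_mem hx (hU hb)
    · rintro ⟨b, hb, a, ⟨ha, _⟩, hab⟩
      exact ⟨a, ha, b, hb, by rw [add_comm]; exact hab⟩
  obtain ⟨hVf, hUVf, hadd⟩ := rel_add hUV hVU' hr
  have h3 : Module.finrank k (LinearMap.ker f) = rel V U' := by
    rw [← hφr, ← finrank_quot_eq, hφk]; rfl
  -- ψ : K ∩ U' → V/U surjective with kernel K ∩ U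
  let ψ : (K ⊓ U' : Submodule k E) →ₗ[k] (V ⧸ U.submoduleOf V) :=
    (Submodule.mkQ _) ∘ₗ Submodule.inclusion (le_sup_right : K ⊓ U' ≤ V)
  have hψs : Function.Surjective ψ := by
    intro y
    obtain ⟨⟨y, hy⟩, rfl⟩ := Submodule.mkQ_surjective _ y
    obtain ⟨b, hb, a, ha, hab⟩ := Submodule.mem_sup.1 hy
    refine ⟨⟨a, ha⟩, ?_⟩
    change Submodule.Quotient.mk _ = Submodule.Quotient.mk _
    rw [Submodule.Quotient.eq]
    change a - y ∈ U
    have : a - y = -b := by rw [← hab]; abel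
    rw [this]; exact neg_mem hb
  have hψk : LinearMap.ker ψ = (K ⊓ U).submoduleOf (K ⊓ U') := by
    ext ⟨x, hx⟩
    rw [LinearMap.mem_ker]
    change (Submodule.Quotient.mk (⟨x, _⟩ : V) : V ⧸ U.submoduleOf V) = 0 ↔ x ∈ K ⊓ U
    rw [Submodule.Quotient.mk_eq_zero]
    change x ∈ U ↔ _
    exact ⟨fun h => ⟨hx.1, h⟩, fun h => h.2⟩
  have hkerfin : FiniteDimensional k (LinearMap.ker ψ) := by
    rw [hψk]
    exact Module.Finite.of_injective
      ((Submodule.submoduleOfEquivOfLe (inf_le_inf_left K hU)).toLinearMap)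
      (LinearEquiv.injective _)
  have hUVf' : FiniteDimensional k (V ⧸ U.submoduleOf V) := hUVf
  have hq : FiniteDimensional k ((K ⊓ U' : Submodule k E) ⧸ LinearMap.ker ψ) :=
    Module.Finite.equiv (ψ.quotKerEquivOfSurjective hψs).symm
  have hinf : FiniteDimensional k (K ⊓ U' : Submodule k E) :=
    Module.Finite.of_submodule_quotient (LinearMap.ker ψ)
  refine ⟨⟨hinf, hsup⟩, ?_⟩
  have hrk2 := LinearMap.finrank_range_add_finrank_ker ψ
  rw [LinearMap.range_eq_top.2 hψs, finrank_top, hψk,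
    (Submodule.submoduleOfEquivOfLe (inf_le_inf_left K hU)).finrank_eq] at hrk2
  have h4 : Module.finrank k (V ⧸ U.submoduleOf V) = rel U V := rfl
  rw [h4] at hrk2
  unfold chi
  rw [hadd]
  push_cast
  omega

lemma finrank_submoduleOf {U V : Submodule k E} (h : U ≤ V) :
    Module.finrank k (U.submoduleOf V) = Module.finrank k U :=
  (Submodule.submoduleOfEquivOfLe h).finrank_eq

section SES

variable {F : Type w} [AddCommGroup F] [Module k F] (β : E →ₗ[k] F) (hβ : Function.Surjective β)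
  (K U : Submodule k E)

/-- Additivity of the Euler characteristic in short exact sequences `0 → ker β → E → F → 0`. -/
theorem chi_ses (hβ : Function.Surjective β) (hf : Fred K U)
    (h0 : FiniteDimensional k (K.map β ⊓ U.map β : Submodule k F)) :
    Fred (K.map β) (U.map β) ∧
    Fred (K.comap (LinearMap.ker β).subtype) (U.comap (LinearMap.ker β).subtype) ∧
    chi K U = chi (K.comap (LinearMap.ker β).subtype) (U.comap (LinearMap.ker β).subtype) +
      chi (K.map β) (U.map β) := by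
  have hfi := hf.inf
  have hfs := hf.sup
  set E' := LinearMap.ker β with hE'
  set K' := K.comap E'.subtype with hK'
  set U' := U.comap E'.subtype with hU'
  -- (1) the surjection on cokernels
  let g : (E ⧸ (K ⊔ U)) →ₗ[k] (F ⧸ (K.map β ⊔ U.map β)) :=
    Submodule.mapQ _ _ β (by rw [← Submodule.map_sup]; exact Submodule.le_comap_map _ _)
  have hg : Function.Surjective g := by
    intro y
    obtain ⟨y, rfl⟩ := Submodule.mkQ_surjective _ y
    obtain ⟨x, rfl⟩ := hβ y
    exact ⟨Submodule.Quotient.mk x, rfl⟩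
  have hsup'' : FiniteDimensional k (F ⧸ (K.map β ⊔ U.map β)) := Module.Finite.of_surjective g hg
  have hrk1 := LinearMap.finrank_range_add_finrank_ker g
  rw [LinearMap.range_eq_top.2 hg, finrank_top] at hrk1
  set V := (K ⊔ U).comap E'.subtype with hV
  let i : (E' ⧸ V) →ₗ[k] (E ⧸ (K ⊔ U)) := Submodule.mapQ _ _ E'.subtype le_rfl
  have hi : Function.Injective i := by
    rw [← LinearMap.ker_eq_bot, Submodule.ker_mapQ, eq_bot_iff]
    rintro _ ⟨x, hx, rfl⟩
    rw [Submodule.mem_bot, Submodule.mkQ_apply, Submodule.Quotient.mk_eq_zero]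
    exact hx
  have hker : LinearMap.ker g = LinearMap.range i := by
    ext x
    obtain ⟨x, rfl⟩ := Submodule.mkQ_surjective _ x
    constructor
    · intro hx
      have hx' : (Submodule.Quotient.mk (β x) : F ⧸ (K.map β ⊔ U.map β)) = 0 := hx
      rw [Submodule.Quotient.mk_eq_zero, ← Submodule.map_sup] at hx'
      obtain ⟨z, hz, hzx⟩ := hx'
      refine ⟨Submodule.Quotient.mk ⟨x - z, by
        rw [hE', LinearMap.mem_ker, map_sub, hzx, sub_self]⟩, ?_⟩
      change Submodule.Quotient.mk (x - z) = Submodule.Quotient.mk x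
      rw [Submodule.Quotient.eq]
      have : x - z - x = -z := by abel
      rw [this]; exact neg_mem hz
    · rintro ⟨y, hy⟩
      obtain ⟨y, rfl⟩ := Submodule.mkQ_surjective _ y
      rw [← hy]
      change (Submodule.Quotient.mk (β y) : F ⧸ (K.map β ⊔ U.map β)) = 0
      have : β y = 0 := y.2
      rw [this]; rfl
  rw [hker, LinearMap.finrank_range_of_inj hi] at hrk1
  have hEV : FiniteDimensional k (E' ⧸ V) := Module.Finite.of_injective i hi
  -- (3) the fibre product
  let S : Submodule k (E × E) :=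
    { carrier := {p | p.1 ∈ K ∧ p.2 ∈ U ∧ β p.1 = β p.2}
      add_mem' := fun {a b} ha hb => ⟨K.add_mem ha.1 hb.1, U.add_mem ha.2.1 hb.2.1, by
        rw [Prod.fst_add, Prod.snd_add, map_add, map_add, ha.2.2, hb.2.2]⟩
      zero_mem' := ⟨K.zero_mem, U.zero_mem, rfl⟩
      smul_mem' := fun c a ha => ⟨K.smul_mem c ha.1, U.smul_mem c ha.2.1, by
        rw [Prod.smul_fst, Prod.smul_snd, map_smul, map_smul, ha.2.2]⟩ }
  let s1 : S →ₗ[k] (K.map β ⊓ U.map β : Submodule k F) :=
    { toFun := fun p => ⟨β p.1.1, ⟨p.1.1, p.2.1, rfl⟩, ⟨p.1.2, p.2.2.1, p.2.2.2.symm⟩⟩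
      map_add' := fun a b => Subtype.ext (map_add β _ _)
      map_smul' := fun c a => Subtype.ext (map_smul β _ _) }
  let s2 : S →ₗ[k] V :=
    { toFun := fun p => ⟨⟨p.1.1 - p.1.2, by
        rw [hE', LinearMap.mem_ker, map_sub, p.2.2.2, sub_self]⟩,
        Submodule.sub_mem _ (Submodule.mem_sup_left p.2.1) (Submodule.mem_sup_right p.2.2.1)⟩
      map_add' := fun a b => by
        apply Subtype.ext; apply Subtype.ext
        change (a.1.1 + b.1.1) - (a.1.2 + b.1.2) = (a.1.1 - a.1.2) + (b.1.1 - b.1.2)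
        abel
      map_smul' := fun c a => by
        apply Subtype.ext; apply Subtype.ext
        change c • a.1.1 - c • a.1.2 = c • (a.1.1 - a.1.2)
        rw [smul_sub] }
  set Q1 := ((K ⊓ U).map β).submoduleOf (K.map β ⊓ U.map β) with hQ1
  set Q2 := (K' ⊔ U').submoduleOf V with hQ2
  let f1 : S →ₗ[k] ((K.map β ⊓ U.map β : Submodule k F) ⧸ Q1) := Q1.mkQ ∘ₗ s1
  let f2 : S →ₗ[k] (V ⧸ Q2) := Q2.mkQ ∘ₗ s2
  have hf1 : Function.Surjective f1 := by
    refine (Submodule.mkQ_surjective _).comp ?_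
    rintro ⟨y, ⟨a, ha, rfl⟩, ⟨u, hu, hau⟩⟩
    exact ⟨⟨(a, u), ha, hu, hau.symm⟩, rfl⟩
  have hf2 : Function.Surjective f2 := by
    refine (Submodule.mkQ_surjective _).comp ?_
    rintro ⟨⟨y, hy⟩, hyV⟩
    obtain ⟨a, ha, u, hu, hau⟩ := Submodule.mem_sup.1 (show y ∈ K ⊔ U from hyV)
    refine ⟨⟨(a, -u), ha, neg_mem hu, ?_⟩, ?_⟩
    · change β a = β (-u)
      have : β (a + u) = 0 := by rw [hau]; exact hy
      rw [map_add] at this
      rw [map_neg]; exact eq_neg_of_add_eq_zero_left this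
    · apply Subtype.ext; apply Subtype.ext
      change a - -u = y
      rw [sub_neg_eq_add]; exact hau
  have hkk : LinearMap.ker f1 = LinearMap.ker f2 := by
    ext ⟨⟨a, u⟩, ha, hu, hau⟩
    rw [LinearMap.mem_ker, LinearMap.mem_ker]
    change (Submodule.Quotient.mk _ : _ ⧸ Q1) = 0 ↔ (Submodule.Quotient.mk _ : _ ⧸ Q2) = 0
    rw [Submodule.Quotient.mk_eq_zero, Submodule.Quotient.mk_eq_zero]
    change β a ∈ (K ⊓ U).map β ↔ (⟨a - u, _⟩ : E') ∈ K' ⊔ U'
    constructor
    · rintro ⟨c, ⟨hcK, hcU⟩, hc⟩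
      have e1 : a - c ∈ E' := by rw [hE', LinearMap.mem_ker, map_sub, hc, sub_self]
      have e2 : c - u ∈ E' := by
        rw [hE', LinearMap.mem_ker, map_sub, hc, sub_eq_zero]; exact hau
      refine Submodule.mem_sup.2 ⟨⟨a - c, e1⟩, K.sub_mem ha hcK, ⟨c - u, e2⟩, U.sub_mem hcU hu, ?_⟩
      apply Subtype.ext
      change (a - c) + (c - u) = a - u
      abel
    · intro h
      obtain ⟨e1, he1, e2, he2, h12⟩ := Submodule.mem_sup.1 h
      have h12' : (e1 : E) + (e2 : E) = a - u := congrArg Subtype.val h12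
      refine ⟨a - e1, ⟨K.sub_mem ha he1, ?_⟩, ?_⟩
      · have : a - (e1 : E) = u + e2 := by
          rw [sub_eq_iff_eq_add, add_comm u, add_assoc, add_comm u, ← add_assoc, add_comm (e2 : E),
            h12']
          abel
        rw [this]
        exact U.add_mem hu he2
      · rw [map_sub]
        have : β (e1 : E) = 0 := e1.2
        rw [this, sub_zero]
  let eQ : ((K.map β ⊓ U.map β : Submodule k F) ⧸ Q1) ≃ₗ[k] (V ⧸ Q2) :=
    (f1.quotKerEquivOfSurjective hf1).symm ≪≫ₗ
      (Submodule.quotEquivOfEq _ _ hkk) ≪≫ₗ (f2.quotKerEquivOfSurjective hf2)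
  have hQfin : FiniteDimensional k (V ⧸ Q2) := Module.Finite.equiv eQ
  have hQrk := eQ.finrank_eq
  -- dimension of (βK ⊓ βU) ⧸ β (K ⊓ U)
  have hle1 : (K ⊓ U).map β ≤ K.map β ⊓ U.map β :=
    le_inf (Submodule.map_mono inf_le_left) (Submodule.map_mono inf_le_right)
  have h5 := Submodule.finrank_quotient_add_finrank Q1
  rw [finrank_submoduleOf hle1] at h5
  -- dimension of β (K ⊓ U)
  have h6 := LinearMap.finrank_range_add_finrank_ker (β ∘ₗ (K ⊓ U).subtype)
  have h7 : LinearMap.range (β ∘ₗ (K ⊓ U).subtype) = (K ⊓ U).map β := by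
    rw [LinearMap.range_comp, Submodule.range_subtype]
  -- kernel = K' ⊓ U'
  let e8 : LinearMap.ker (β ∘ₗ (K ⊓ U).subtype) ≃ₗ[k] (K' ⊓ U' : Submodule k E') :=
    { toFun := fun x => ⟨⟨x.1.1, x.2⟩, x.1.2.1, x.1.2.2⟩
      map_add' := fun x y => rfl
      map_smul' := fun c x => rfl
      invFun := fun x => ⟨⟨x.1.1, x.2.1, x.2.2⟩, x.1.2⟩
      left_inv := fun x => rfl
      right_inv := fun x => rfl }
  rw [h7, e8.finrank_eq] at h6
  have hinf' : FiniteDimensional k (K' ⊓ U' : Submodule k E') := Module.Finite.equiv e8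
  -- E' ⧸ (K' ⊔ U')
  have hle2 : K' ⊔ U' ≤ V := sup_le (Submodule.comap_mono le_sup_left)
    (Submodule.comap_mono le_sup_right)
  let f9 : (E' ⧸ (K' ⊔ U')) →ₗ[k] (E' ⧸ V) := Submodule.factor hle2
  have hf9 : Function.Surjective f9 := Submodule.factor_surjective hle2
  have hrk9 : LinearMap.ker f9 = LinearMap.range
      (Submodule.mapQ Q2 (K' ⊔ U') V.subtype le_rfl) := by
    ext x
    obtain ⟨x, rfl⟩ := Submodule.mkQ_surjective _ x
    constructor
    · intro hx
      have hx' : (Submodule.Quotient.mk x : E' ⧸ V) = 0 := hx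
      rw [Submodule.Quotient.mk_eq_zero] at hx'
      exact ⟨Submodule.Quotient.mk ⟨x, hx'⟩, rfl⟩
    · rintro ⟨y, hy⟩
      obtain ⟨y, rfl⟩ := Submodule.mkQ_surjective _ y
      rw [← hy]
      change (Submodule.Quotient.mk (y : E') : E' ⧸ V) = 0
      rw [Submodule.Quotient.mk_eq_zero]; exact y.2
  have hinj9 : Function.Injective (Submodule.mapQ Q2 (K' ⊔ U') V.subtype le_rfl) := by
    rw [← LinearMap.ker_eq_bot, Submodule.ker_mapQ, eq_bot_iff]
    rintro _ ⟨x, hx, rfl⟩
    rw [Submodule.mem_bot, Submodule.mkQ_apply, Submodule.Quotient.mk_eq_zero]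
    exact hx
  have hkfin : FiniteDimensional k (LinearMap.ker f9) := by
    rw [hrk9]; infer_instance
  have hqfin : FiniteDimensional k ((E' ⧸ (K' ⊔ U')) ⧸ LinearMap.ker f9) :=
    Module.Finite.equiv (f9.quotKerEquivOfSurjective hf9).symm
  have hsup' : FiniteDimensional k (E' ⧸ (K' ⊔ U')) :=
    Module.Finite.of_submodule_quotient (LinearMap.ker f9)
  have hrk10 := LinearMap.finrank_range_add_finrank_ker f9
  rw [LinearMap.range_eq_top.2 hf9, finrank_top, hrk9, LinearMap.finrank_range_of_inj hinj9] at hrk10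
  refine ⟨⟨h0, hsup''⟩, ⟨hinf', hsup'⟩, ?_⟩
  unfold chi
  omega

end SES

/-- Two nested Fredholm pairs have finite relative dimension. -/
theorem relFin_of_fred {K U U' : Submodule k E} (hU : U ≤ U') (hf : Fred K U) (hf' : Fred K U') :
    RelFin U U' := by
  have := hf.sup
  have := hf'.inf
  -- φ : U' → E/(K+U), kernel V = U + (K ∩ U'), V/U is a quotient of K ∩ U'
  let φ : U' →ₗ[k] (E ⧸ (K ⊔ U)) := (Submodule.mkQ (K ⊔ U)) ∘ₗ U'.subtype
  let Q := U.submoduleOf U'
  have hle : Q ≤ LinearMap.ker φ := by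
    intro x hx
    rw [LinearMap.mem_ker]
    change Submodule.Quotient.mk (x : E) = 0
    rw [Submodule.Quotient.mk_eq_zero]
    exact Submodule.mem_sup_right hx
  let φ' : (U' ⧸ Q) →ₗ[k] (E ⧸ (K ⊔ U)) := Q.liftQ φ hle
  let ψ : (K ⊓ U' : Submodule k E) →ₗ[k] (U' ⧸ Q) :=
    Q.mkQ ∘ₗ Submodule.inclusion inf_le_right
  have hker : LinearMap.ker φ' ≤ LinearMap.range ψ := by
    intro x hx
    obtain ⟨⟨x, hxU⟩, rfl⟩ := Submodule.mkQ_surjective _ x
    have hx' : (Submodule.Quotient.mk x : E ⧸ (K ⊔ U)) = 0 := hx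
    rw [Submodule.Quotient.mk_eq_zero] at hx'
    obtain ⟨a, ha, b, hb, hab⟩ := Submodule.mem_sup.1 hx'
    have haU : a ∈ U' := by
      have : a = x - b := by rw [← hab]; abel
      rw [this]; exact sub_mem hxU (hU hb)
    refine ⟨⟨a, ha, haU⟩, ?_⟩
    change Submodule.Quotient.mk _ = Submodule.Quotient.mk _
    rw [Submodule.Quotient.eq]
    change a - x ∈ U
    have : a - x = -b := by rw [← hab]; abel
    rw [this]; exact neg_mem hb
  have hkf : FiniteDimensional k (LinearMap.ker φ') := Submodule.finiteDimensional_of_le hker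
  have hqf : FiniteDimensional k ((U' ⧸ Q) ⧸ LinearMap.ker φ') :=
    Module.Finite.equiv φ'.quotKerEquivRange.symm
  exact Module.Finite.of_submodule_quotient (LinearMap.ker φ')

/-- `chi` is invariant under linear equivalences. -/
theorem chi_map {F : Type w} [AddCommGroup F] [Module k F] (e : E ≃ₗ[k] F) {K U : Submodule k E}
    (hf : Fred K U) : Fred (K.map (e : E →ₗ[k] F)) (U.map (e : E →ₗ[k] F)) ∧
      chi (K.map (e : E →ₗ[k] F)) (U.map (e : E →ₗ[k] F)) = chi K U := by
  have := hf.inf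
  have := hf.sup
  have h1 : K.map (e : E →ₗ[k] F) ⊓ U.map (e : E →ₗ[k] F) = (K ⊓ U).map (e : E →ₗ[k] F) :=
    (Submodule.map_inf _ e.injective).symm
  have h2 : K.map (e : E →ₗ[k] F) ⊔ U.map (e : E →ₗ[k] F) = (K ⊔ U).map (e : E →ₗ[k] F) :=
    (Submodule.map_sup _ _ _).symm
  let e1 : (K ⊓ U : Submodule k E) ≃ₗ[k] ((K ⊓ U).map (e : E →ₗ[k] F) : Submodule k F) :=
    e.submoduleMap _
  let e2 : (E ⧸ (K ⊔ U)) ≃ₗ[k] (F ⧸ (K ⊔ U).map (e : E →ₗ[k] F)) :=
    Submodule.Quotient.equiv _ _ e rfl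
  refine ⟨⟨?_, ?_⟩, ?_⟩
  · rw [h1]; exact Module.Finite.equiv e1
  · rw [h2]; exact Module.Finite.equiv e2
  · unfold chi
    rw [h1, h2, ← e1.finrank_eq, ← e2.finrank_eq]

end Groth.Agent.CurvesB.ChiLin
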