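import Mathlib.AlgebraicGeometry.AlgClosed.Basic
import Mathlib.AlgebraicGeometry.ZariskisMainTheorem
import Mathlib.AlgebraicGeometry.Morphisms.FormallyUnramified
import Mathlib.AlgebraicGeometry.Morphisms.UniversallyInjective
import Mathlib.AlgebraicGeometry.Morphisms.FlatDescent
import Mathlib.RingTheory.Unramified.Locus
import Mathlib.RingTheory.Unramified.LocalRing

/-!
# Closed immersions over an algebraically closed field: separating points and tangent vectors
-/

universe u

open CategoryTheory CategoryTheory.Limits AlgebraicGeometry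

namespace Groth.Agent.CurvesB.ClosedImmPts

variable {K : Type u} [Field K] [IsAlgClosed K] {X Y : Scheme.{u}}

/-- A morphism which is injective on closed points has a surjective diagonal. -/
theorem surjective_diagonal (f : X ⟶ Y) (g : Y ⟶ Spec (CommRingCat.of K))
    [LocallyOfFiniteType g] [LocallyOfFiniteType f] [IsSeparated f]
    (h1 : ∀ x1 x2 : X, IsClosed ({x1} : Set X) → IsClosed ({x2} : Set X) → f x1 = f x2 → x1 = x2) :
    Surjective (pullback.diagonal f) := by
  have hl : LocallyOfFiniteType (pullback.fst f f ≫ f ≫ g) := inferInstance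
  have : JacobsonSpace ↥(pullback f f) :=
    LocallyOfFiniteType.jacobsonSpace (pullback.fst f f ≫ f ≫ g)
  have : JacobsonSpace X := LocallyOfFiniteType.jacobsonSpace (f ≫ g)
  have hcl : IsClosed (Set.range (pullback.diagonal f)) :=
    (pullback.diagonal f).isClosedEmbedding.isClosed_range
  refine ⟨fun z0 ↦ ?_⟩
  by_contra hz0
  obtain ⟨z, hz, hzc⟩ := nonempty_inter_closedPoints (Z := (Set.range (pullback.diagonal f))ᶜ)
    ⟨z0, hz0⟩ hcl.isOpen_compl.isLocallyClosed
  apply hz
  rw [mem_closedPoints_iff] at hzc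
  let zK := pointOfClosedPoint (pullback.fst f f ≫ f ≫ g) z hzc
  have hzK : zK ≫ (pullback.fst f f ≫ f ≫ g) = 𝟙 _ := pointOfClosedPoint_comp _ _ _
  have hfst : (zK ≫ pullback.fst f f) ≫ (f ≫ g) = 𝟙 _ := by simpa using hzK
  have hsnd : (zK ≫ pullback.snd f f) ≫ (f ≫ g) = 𝟙 _ := by
    rw [Category.assoc, ← Category.assoc (pullback.snd f f), ← pullback.condition]
    simpa using hzK
  have hc1 := (pointEquivClosedPoint (f ≫ g) ⟨_, hfst⟩).2
  have hc2 := (pointEquivClosedPoint (f ≫ g) ⟨_, hsnd⟩).2
  have heq := ext_of_apply_closedPoint_eq (f ≫ g) hfst hsnd (by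
    refine h1 _ _ hc1 hc2 ?_
    rw [← Scheme.Hom.comp_apply, ← Scheme.Hom.comp_apply, Category.assoc, Category.assoc,
      pullback.condition])
  have hzd : zK = (zK ≫ pullback.fst f f) ≫ pullback.diagonal f := by
    apply pullback.hom_ext
    · simp
    · rw [heq]; simp
  refine ⟨(zK ≫ pullback.fst f f) (IsLocalRing.closedPoint K), ?_⟩
  rw [← Scheme.Hom.comp_apply, ← hzd]
  exact pointOfClosedPoint_apply _ _ _ _

/-- The residue field extension at a closed point of a scheme locally of finite type over an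
algebraically closed field is trivial. -/
theorem residueFieldMap_surjective (f : X ⟶ Y) (g : Y ⟶ Spec (CommRingCat.of K))
    [LocallyOfFiniteType g] [LocallyOfFiniteType f] (x : X) (hx : IsClosed ({x} : Set X)) :
    Function.Surjective (f.residueFieldMap x).hom := by
  have h1 := SpecMap_residueFieldIsoBase_inv (f ≫ g) x hx
  let hy : CommRingCat.of K ⟶ Y.residueField (f x) :=
    Spec.preimage (Y.fromSpecResidueField (f x) ≫ g)
  have h2 : (residueFieldIsoBase (f ≫ g) x hx).inv = hy ≫ f.residueFieldMap x := by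
    apply Spec.map_injective
    rw [h1, Spec.map_comp, Spec.map_preimage]
    simp
  intro a
  obtain ⟨b, hb⟩ : ∃ b, (residueFieldIsoBase (f ≫ g) x hx).inv.hom b = a := by
    refine ⟨(residueFieldIsoBase (f ≫ g) x hx).hom.hom a, ?_⟩
    rw [← RingHom.comp_apply, ← CommRingCat.hom_comp, Iso.hom_inv_id]
    rfl
  refine ⟨hy.hom b, ?_⟩
  rw [← RingHom.comp_apply, ← CommRingCat.hom_comp, ← h2, hb]

/-- Unramifiedness of stalk maps at closed points. -/
theorem stalkMap_formallyUnramified (f : X ⟶ Y) (g : Y ⟶ Spec (CommRingCat.of K))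
    [LocallyOfFiniteType g] [LocallyOfFiniteType f] (x : X) (hx : IsClosed ({x} : Set X))
    (h2 : (IsLocalRing.maximalIdeal (Y.presheaf.stalk (f x))).map (f.stalkMap x).hom =
      IsLocalRing.maximalIdeal (X.presheaf.stalk x)) :
    (f.stalkMap x).hom.FormallyUnramified := by
  algebraize [(f.stalkMap x).hom]
  have : IsLocalHom (algebraMap (Y.presheaf.stalk (f x)) (X.presheaf.stalk x)) :=
    inferInstanceAs <| IsLocalHom (f.stalkMap x).hom
  have : Algebra.EssFiniteType (Y.presheaf.stalk (f x)) (X.presheaf.stalk x) := by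
    rw [← RingHom.essFiniteType_algebraMap, RingHom.algebraMap_toAlgebra]
    exact LocallyOfFiniteType.stalkMap f x
  have hs : Function.Surjective (algebraMap (IsLocalRing.ResidueField (Y.presheaf.stalk (f x)))
      (IsLocalRing.ResidueField (X.presheaf.stalk x))) := by
    have := residueFieldMap_surjective f g x hx
    intro a
    obtain ⟨b, hb⟩ := this a
    obtain ⟨b, rfl⟩ := IsLocalRing.residue_surjective b
    exact ⟨IsLocalRing.residue _ b, hb⟩
  have : Algebra.IsSeparable (IsLocalRing.ResidueField (Y.presheaf.stalk (f x)))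
      (IsLocalRing.ResidueField (X.presheaf.stalk x)) := by
    refine ⟨fun a ↦ ?_⟩
    obtain ⟨b, rfl⟩ := hs a
    exact isSeparable_algebraMap b
  have : Algebra.FormallyUnramified (Y.presheaf.stalk (f x)) (X.presheaf.stalk x) :=
    Algebra.FormallyUnramified.of_map_maximalIdeal h2
  rw [← RingHom.formallyUnramified_algebraMap] at this
  exact this

/-- Unramified at closed points implies unramified. -/
theorem formallyUnramified_of_closedPoints (f : X ⟶ Y) (g : Y ⟶ Spec (CommRingCat.of K))
    [LocallyOfFiniteType g] [LocallyOfFiniteType f]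
    (h2 : ∀ x : X, IsClosed ({x} : Set X) →
      (IsLocalRing.maximalIdeal (Y.presheaf.stalk (f x))).map (f.stalkMap x).hom =
      IsLocalRing.maximalIdeal (X.presheaf.stalk x)) :
    FormallyUnramified f := by
  have : JacobsonSpace X := LocallyOfFiniteType.jacobsonSpace (f ≫ g)
  rw [HasRingHomProperty.iff_appLE (P := @FormallyUnramified)]
  intro U V e
  have hft : (f.appLE U V e).hom.FiniteType :=
    (HasRingHomProperty.iff_appLE (P := @LocallyOfFiniteType)).mp inferInstance U V e
  let := (f.appLE U V e).hom.toAlgebra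
  have hft' : Algebra.FiniteType Γ(Y, U) Γ(X, V) := hft
  change Algebra.FormallyUnramified Γ(Y, U) Γ(X, V)
  rw [← Algebra.unramifiedLocus_eq_univ_iff]
  by_contra hne
  have hcl : IsClosed (Algebra.unramifiedLocus Γ(Y, U) Γ(X, V))ᶜ :=
    Algebra.isOpen_unramifiedLocus.isClosed_compl
  obtain ⟨p, hp⟩ : (Algebra.unramifiedLocus Γ(Y, U) Γ(X, V))ᶜ.Nonempty := by
    rwa [Set.nonempty_compl]
  obtain ⟨m, hm, hpm⟩ := Ideal.exists_le_maximal p.asIdeal p.2.ne_top
  have hmp : (⟨m, hm.isPrime⟩ : PrimeSpectrum Γ(X, V)) ∈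
      (Algebra.unramifiedLocus Γ(Y, U) Γ(X, V))ᶜ := by
    refine ((PrimeSpectrum.le_iff_specializes p ⟨m, hm.isPrime⟩).mp hpm).mem_closed hcl hp
  apply hmp
  -- the point of X corresponding to m
  let x : X := V.2.fromSpec ⟨m, hm.isPrime⟩
  have hxV : x ∈ V.1 := by
    have : x ∈ Set.range V.2.fromSpec := ⟨_, rfl⟩
    rwa [V.2.range_fromSpec] at this
  have hxm : V.2.primeIdealOf ⟨x, hxV⟩ = ⟨m, hm.isPrime⟩ := by
    apply V.2.fromSpec.isOpenEmbedding.injective
    rw [V.2.fromSpec_primeIdealOf]
  have hxc : IsClosed ({x} : Set X) := by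
    have h3 : (⟨m, hm.isPrime⟩ : PrimeSpectrum Γ(X, V)) ∈ closedPoints (Spec Γ(X, V)) :=
      (PrimeSpectrum.isClosed_singleton_iff_isMaximal _).mpr hm
    have h4 := V.2.fromSpec.isOpenEmbedding.preimage_closedPoints
    rw [← h4] at h3
    exact h3
  have hu := stalkMap_formallyUnramified f g x hxc (h2 x hxc)
  change Algebra.IsUnramifiedAt Γ(Y, U) m
  let a1 : Algebra Γ(X, V) (X.presheaf.stalk x) := (X.presheaf.germ V.1 x hxV).hom.toAlgebra
  have hloc : IsLocalization.AtPrime (X.presheaf.stalk x) m := by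
    have := V.2.isLocalization_stalk ⟨x, hxV⟩
    rw [hxm] at this
    exact this
  have hfx : f x ∈ U.1 := e hxV
  let a2 : Algebra Γ(Y, U) (Y.presheaf.stalk (f x)) := (Y.presheaf.germ U.1 (f x) hfx).hom.toAlgebra
  let a3 : Algebra (Y.presheaf.stalk (f x)) (X.presheaf.stalk x) := (f.stalkMap x).hom.toAlgebra
  let a4 : Algebra Γ(Y, U) (X.presheaf.stalk x) :=
    ((X.presheaf.germ V.1 x hxV).hom.comp (f.appLE U V e).hom).toAlgebra
  have t1 : IsScalarTower Γ(Y, U) Γ(X, V) (X.presheaf.stalk x) :=
    IsScalarTower.of_algebraMap_eq' rfl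
  have t2 : IsScalarTower Γ(Y, U) (Y.presheaf.stalk (f x)) (X.presheaf.stalk x) := by
    refine IsScalarTower.of_algebraMap_eq' ?_
    change (X.presheaf.germ V.1 x hxV).hom.comp (f.appLE U V e).hom =
      (f.stalkMap x).hom.comp (Y.presheaf.germ U.1 (f x) hfx).hom
    rw [← CommRingCat.hom_comp, ← CommRingCat.hom_comp, Scheme.Hom.germ_stalkMap,
      Scheme.Hom.appLE, Category.assoc]
    congr 2
    exact X.presheaf.germ_res _ _ _
  have u1 : Algebra.FormallyUnramified Γ(Y, U) (Y.presheaf.stalk (f x)) := by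
    have := U.2.isLocalization_stalk ⟨f x, hfx⟩
    exact Algebra.FormallyUnramified.of_isLocalization
      (U.2.primeIdealOf ⟨f x, hfx⟩).asIdeal.primeCompl
  have u2 : Algebra.FormallyUnramified (Y.presheaf.stalk (f x)) (X.presheaf.stalk x) := hu
  have u3 : Algebra.FormallyUnramified Γ(Y, U) (X.presheaf.stalk x) :=
    Algebra.FormallyUnramified.comp _ (Y.presheaf.stalk (f x)) _
  exact Algebra.FormallyUnramified.of_equiv (R := Γ(Y, U))
    ((IsLocalization.algEquiv m.primeCompl (X.presheaf.stalk x)
      (Localization.AtPrime m)).restrictScalars Γ(Y, U))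

/-- Over an algebraically closed field, a proper morphism separating closed points and tangent
vectors is a closed immersion. -/
theorem isClosedImmersion_of_closedPoints (f : X ⟶ Y) (g : Y ⟶ Spec (CommRingCat.of K))
    [LocallyOfFiniteType g] [IsProper f]
    (h1 : ∀ x1 x2 : X, IsClosed ({x1} : Set X) → IsClosed ({x2} : Set X) → f x1 = f x2 → x1 = x2)
    (h2 : ∀ x : X, IsClosed ({x} : Set X) →
      (IsLocalRing.maximalIdeal (Y.presheaf.stalk (f x))).map (f.stalkMap x).hom =
      IsLocalRing.maximalIdeal (X.presheaf.stalk x)) :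
    IsClosedImmersion f := by
  have := formallyUnramified_of_closedPoints f g h2
  have := surjective_diagonal f g h1
  have : IsOpenImmersion (pullback.diagonal f) := inferInstance
  have hiso : IsIso (pullback.diagonal f) := by
    rw [isIso_iff_isOpenImmersion_and_surjective]
    exact ⟨inferInstance, inferInstance⟩
  have hmono : Mono f := (pullback.isIso_diagonal_iff f).mp hiso
  rw [IsClosedImmersion.iff_isProper_and_mono]
  exact ⟨inferInstance, hmono⟩

/-- Closed immersions among proper morphisms descend along faithfully flat quasi-compact base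
change. -/
theorem isClosedImmersion_of_isPullback {X X' Y Y' : Scheme.{u}} {f : X ⟶ Y} {f' : X' ⟶ Y'}
    {p : X' ⟶ X} {q : Y' ⟶ Y} (h : IsPullback p f' f q) [Flat q] [Surjective q] [QuasiCompact q]
    [IsProper f] [IsClosedImmersion f'] : IsClosedImmersion f := by
  have hdesc : (MorphismProperty.monomorphisms Scheme.{u}).DescendsAlong
      (@Surjective ⊓ @Flat ⊓ @QuasiCompact) := by
    rw [← MorphismProperty.diagonal_isomorphisms]
    infer_instance
  have hm : MorphismProperty.monomorphisms Scheme.{u} f :=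
    MorphismProperty.of_isPullback_of_descendsAlong
      (P := MorphismProperty.monomorphisms Scheme.{u}) (Q := @Surjective ⊓ @Flat ⊓ @QuasiCompact)
      h.flip ⟨⟨inferInstance, inferInstance⟩, inferInstance⟩
      (show Mono f' from inferInstance)
  have hm' : Mono f := hm
  rw [IsClosedImmersion.iff_isProper_and_mono]
  exact ⟨inferInstance, hm'⟩

end Groth.Agent.CurvesB.ClosedImmPts
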