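import Mathlib.RingTheory.AdicCompletion.AsTensorProduct
import Mathlib.RingTheory.TensorProduct.Maps

/-!
# The completion of a finite algebra as a base change, as rings

For `C` a finite algebra over a Noetherian ring `B` and `I` an ideal of `B`, the canonical ring
homomorphism from the tensor product of the `I`-adic completion of `B` with `C` to the `IC`-adic completion
of the ring `C` is an isomorphism (`comparisonEquiv`).
-/

set_option autoImplicit false

open TensorProduct

namespace Groth.Agent.CurvesB.CplTensor
universe u

variable (B C : Type u) [CommRing B] [CommRing C] [Algebra B C] (I : Ideal B)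

theorem pow_le_comap (n : ℕ) :
    I ^ n ≤ ((I.map (algebraMap B C)) ^ n).comap (algebraMap B C) := by
  rw [← Ideal.map_le_iff_le_comap, Ideal.map_pow]

/-- The map from the completion of `B` to `C/(IC)^n`. -/
noncomputable def levelMap (n : ℕ) : AdicCompletion I B →+* C ⧸ (I.map (algebraMap B C)) ^ n :=
  (Ideal.quotientMap ((I.map (algebraMap B C)) ^ n) (algebraMap B C) (pow_le_comap B C I n)).comp
    (AdicCompletion.evalₐ I n).toRingHom

theorem levelMap_mk (n : ℕ) (x : AdicCompletion.AdicCauchySequence I B) :
    levelMap B C I n (AdicCompletion.mk I B x) = Ideal.Quotient.mk _ (algebraMap B C (x.val n)) := by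
  simp only [levelMap, RingHom.comp_apply]
  change Ideal.quotientMap _ _ _ (AdicCompletion.evalₐ I n (AdicCompletion.mk I B x)) = _
  rw [AdicCompletion.evalₐ_mk, Ideal.quotientMap_mk]

theorem levelMap_compat {m n : ℕ} (hle : m ≤ n) :
    (Ideal.Quotient.factorPow (I.map (algebraMap B C)) hle).comp (levelMap B C I n) =
      levelMap B C I m := by
  ext x
  obtain ⟨a, rfl⟩ := AdicCompletion.mk_surjective I B x
  simp only [RingHom.comp_apply]
  rw [levelMap_mk, levelMap_mk]
  rw [Ideal.Quotient.factorPow, Ideal.Quotient.factor_mk, Ideal.Quotient.mk_eq_mk_iff_sub_mem, ← map_sub]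
  have h1 : a.val n - a.val m ∈ I ^ m := by
    rw [← Ideal.Quotient.mk_eq_mk_iff_sub_mem]
    exact AdicCompletion.Ideal.mk_eq_mk I hle a
  exact pow_le_comap B C I m h1

/-- The map between completions as a ring homomorphism. -/
noncomputable def cplMap : AdicCompletion I B →+* AdicCompletion (I.map (algebraMap B C)) C :=
  AdicCompletion.liftRingHom _ (levelMap B C I) (levelMap_compat B C I)

theorem evalₐ_cplMap (n : ℕ) (x : AdicCompletion I B) :
    AdicCompletion.evalₐ _ n (cplMap B C I x) = levelMap B C I n x :=
  AdicCompletion.evalₐ_liftRingHom _ _ (levelMap_compat B C I) n x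

/-- The map between completions as a `B`-algebra homomorphism. -/
noncomputable def cplMapₐ : AdicCompletion I B →ₐ[B] AdicCompletion (I.map (algebraMap B C)) C :=
  { cplMap B C I with
    commutes' := fun b => by
      change cplMap B C I _ = _
      refine AdicCompletion.ext_evalₐ fun n => ?_
      rw [evalₐ_cplMap, AdicCompletion.algebraMap_apply, AdicCompletion.algebraMap_apply,
        AdicCompletion.evalₐ_of]
      simp only [levelMap, RingHom.comp_apply]
      change Ideal.quotientMap _ _ _ (AdicCompletion.evalₐ I n (AdicCompletion.of I B b)) = _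
      rw [AdicCompletion.evalₐ_of, Ideal.quotientMap_mk] }

/-- The comparison ring homomorphism from `B^ ⊗ C` to `C^`. -/
noncomputable def comparison :
    AdicCompletion I B ⊗[B] C →ₐ[B] AdicCompletion (I.map (algebraMap B C)) C :=
  Algebra.TensorProduct.productMap (cplMapₐ B C I)
    (IsScalarTower.toAlgHom B C (AdicCompletion (I.map (algebraMap B C)) C))

/-- `C/I^nC → C/(IC)^n`. -/
noncomputable def kappa (n : ℕ) : (C ⧸ (I ^ n • ⊤ : Submodule B C)) →ₗ[B] C ⧸ (I.map (algebraMap B C)) ^ n :=
  Submodule.liftQ _ (Ideal.Quotient.mkₐ B ((I.map (algebraMap B C)) ^ n)).toLinearMap (by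
    rw [Ideal.smul_top_eq_map, Ideal.map_pow]
    intro x hx
    rw [LinearMap.mem_ker]
    exact Ideal.Quotient.eq_zero_iff_mem.2 hx)

theorem kappa_mk (n : ℕ) (c : C) : kappa B C I n (Submodule.Quotient.mk c) = Ideal.Quotient.mk _ c := rfl

theorem kappa_injective (n : ℕ) : Function.Injective (kappa B C I n) := by
  rw [← LinearMap.ker_eq_bot, LinearMap.ker_eq_bot']
  intro m hm
  obtain ⟨c, rfl⟩ := Submodule.Quotient.mk_surjective _ m
  rw [kappa_mk, Ideal.Quotient.eq_zero_iff_mem, ← Ideal.map_pow] at hm
  rw [Submodule.Quotient.mk_eq_zero, Ideal.smul_top_eq_map]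
  exact hm

theorem kappa_surjective (n : ℕ) : Function.Surjective (kappa B C I n) := by
  intro m
  obtain ⟨c, rfl⟩ := Ideal.Quotient.mk_surjective m
  exact ⟨Submodule.Quotient.mk c, rfl⟩

theorem compare (n : ℕ) (w : AdicCompletion I B ⊗[B] C) :
    kappa B C I n ((AdicCompletion.ofTensorProduct I C w).val n) =
      AdicCompletion.evalₐ _ n (comparison B C I w) := by
  induction w using TensorProduct.induction_on with
  | zero => simp
  | tmul r c =>
    obtain ⟨a, rfl⟩ := AdicCompletion.mk_surjective I B r
    rw [AdicCompletion.ofTensorProduct_tmul, comparison, Algebra.TensorProduct.productMap_apply_tmul,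
      map_mul]
    have h1 : AdicCompletion.evalₐ (I.map (algebraMap B C)) n (cplMapₐ B C I (AdicCompletion.mk I B a)) =
        Ideal.Quotient.mk _ (algebraMap B C (a.val n)) := by
      rw [← levelMap_mk, ← evalₐ_cplMap]
      rfl
    have h2 : AdicCompletion.evalₐ (I.map (algebraMap B C)) n
        ((IsScalarTower.toAlgHom B C (AdicCompletion (I.map (algebraMap B C)) C)) c) =
        Ideal.Quotient.mk _ c := by
      change AdicCompletion.evalₐ (I.map (algebraMap B C)) n (AdicCompletion.of _ C c) = _
      rw [AdicCompletion.evalₐ_of]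
    rw [h1, h2, ← map_mul, ← Algebra.smul_def]
    change kappa B C I n (Submodule.Quotient.mk (a.val n • c)) = _
    rw [kappa_mk]
  | add x y hx hy =>
    rw [map_add, map_add, map_add, ← hx, ← hy, AdicCompletion.val_add_apply, map_add]

theorem comparison_bijective [IsNoetherianRing B] [Module.Finite B C] :
    Function.Bijective (comparison B C I) := by
  have hbij := AdicCompletion.ofTensorProduct_bijective_of_finite_of_isNoetherian I C
  constructor
  · rw [injective_iff_map_eq_zero]
    intro w hw
    apply hbij.1
    rw [map_zero]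
    ext n
    apply kappa_injective
    rw [compare, hw, map_zero, AdicCompletion.val_zero_apply, map_zero]
  · intro y
    choose z hz using fun n => kappa_surjective B C I n (AdicCompletion.evalₐ _ n y)
    let y' : AdicCompletion I C := ⟨z, by
      intro m n hmn
      apply kappa_injective
      rw [hz m]
      have h3 : ∀ v : C ⧸ (I ^ n • ⊤ : Submodule B C),
          kappa B C I m (AdicCompletion.transitionMap I C hmn v) =
            Ideal.Quotient.factorPow _ hmn (kappa B C I n v) := by
        intro v
        obtain ⟨c, rfl⟩ := Submodule.Quotient.mk_surjective _ v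
        rfl
      rw [h3, hz n]
      obtain ⟨a, rfl⟩ := AdicCompletion.mk_surjective _ C y
      rw [AdicCompletion.evalₐ_mk, AdicCompletion.evalₐ_mk, Ideal.Quotient.factorPow,
        Ideal.Quotient.factor_mk]
      exact AdicCompletion.Ideal.mk_eq_mk _ hmn a⟩
    obtain ⟨w, hw⟩ := hbij.2 y'
    refine ⟨w, AdicCompletion.ext_evalₐ fun n => ?_⟩
    rw [← compare, hw]
    exact hz n

/-- The completion of a finite algebra `C` over a Noetherian ring `B` is `B^ ⊗ C`. -/
noncomputable def comparisonEquiv [IsNoetherianRing B] [Module.Finite B C] :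
    AdicCompletion I B ⊗[B] C ≃ₐ[B] AdicCompletion (I.map (algebraMap B C)) C :=
  AlgEquiv.ofBijective (comparison B C I) (comparison_bijective B C I)

end Groth.Agent.CurvesB.CplTensor
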