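import Groth.Agent.CurvesB.TBaseChange
import Groth.Agent.Ega3B.Mumford
import Groth.Agent.CohqA.BaseChangeMod

/-!
# Base change for colimit preserving functors `Mod_A ⥤ Ch(Ab)`

If `Ψ₀(A₀) → Ψ(A)` is degreewise a base change along `φ : A₀ → A` then `Ψ₀(M|_{A₀})` and `Ψ(M)` have
naturally isomorphic homology.
-/

set_option autoImplicit false
universe u

open CategoryTheory CategoryTheory.Limits MonoidalCategory TensorProduct

namespace Groth.Agent.CurvesB.EWBC

open Groth.Agent.Ega3B.EWatts Groth.Agent.Ega3B.Mumford Groth.Agent.CohqA.BaseChangeMod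

section Alg

variable {A B : Type u} [CommRing A] [CommRing B]

/-- a finite product of base changes is a base change -/
theorem isBC_pi (φ : A →+* B) {ι : Type u} [Finite ι] {M N : ι → Type u} [∀ i, AddCommGroup (M i)]
    [∀ i, Module A (M i)] [∀ i, AddCommGroup (N i)] [∀ i, Module B (N i)]
    (f : ∀ i, M i →+ N i) (hf : ∀ i, IsBC φ (f i)) (F : (∀ i, M i) →+ (∀ i, N i))
    (hF : ∀ x i, F x i = f i (x i)) : IsBC φ F := by
  classical
  have := Fintype.ofFinite ι
  refine ⟨fun r x => ?_, fun Q _ _ g hg => ?_⟩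
  · ext i
    rw [hF, Pi.smul_apply, (hf i).map_smul, Pi.smul_apply, hF]
  · have h1 : ∀ i, ∃! g' : N i →ₗ[B] Q, ∀ x, g' (f i x) = g (Pi.single i x) := fun i =>
      (hf i).lift Q (g.comp (AddMonoidHom.single M i)) (fun r x => by
        change g (Pi.single i (r • x)) = φ r • g (Pi.single i x)
        rw [← hg]
        congr 1
        exact Pi.single_smul i r x)
    choose g' hg' hu using h1
    refine ⟨∑ i, (g' i).comp (LinearMap.proj i), fun x => ?_, fun g'' h'' => ?_⟩
    · simp only [LinearMap.sum_apply, LinearMap.comp_apply, LinearMap.proj_apply]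
      rw [show g x = g (∑ i, Pi.single i (x i)) by rw [Finset.univ_sum_single], map_sum]
      refine Finset.sum_congr rfl (fun i _ => ?_)
      rw [hF, hg']
    · apply LinearMap.pi_ext'
      intro i
      have h4 : (∑ j, (g' j).comp (LinearMap.proj j)).comp (LinearMap.single B N i) = g' i := by
        ext x
        rw [LinearMap.comp_apply, LinearMap.sum_apply, Finset.sum_eq_single i]
        · simp
        · intro j _ hj
          simp [Pi.single_eq_of_ne hj]
        · intro h
          exact absurd (Finset.mem_univ i) h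
      rw [h4]
      refine hu i _ (fun x => ?_)
      change g'' (Pi.single i (f i x)) = _
      rw [← h'']
      congr 1
      ext j
      rw [hF]
      by_cases h : j = i
      · subst h
        simp
      · simp [Pi.single_eq_of_ne h]

end Alg

section Adj

variable {A B : Type u} [CommRing A] [CommRing B] (φ : A →+* B)

/-- A base change map induces an isomorphism from the extension of scalars. -/
theorem isIso_adj {M : ModuleCat.{u} A} {N : ModuleCat.{u} B}
    (f : M ⟶ (ModuleCat.restrictScalars φ).obj N)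
    (hf : IsBC φ (M := M) (N := N) f.hom.toAddMonoidHom) :
    IsIso (((ModuleCat.extendRestrictScalarsAdj φ).homEquiv M N).symm f) := by
  let adj := ModuleCat.extendRestrictScalarsAdj φ
  obtain ⟨k, hk, -⟩ := hf.lift ((ModuleCat.extendScalars φ).obj M)
    (adj.unit.app M).hom.toAddMonoidHom (fun r x => (adj.unit.app M).hom.map_smul r x)
  let k' : N ⟶ (ModuleCat.extendScalars φ).obj M :=
    ModuleCat.ofHom (X := N) (Y := ((ModuleCat.extendScalars φ).obj M : Type u)) k
  have h1 : f ≫ (ModuleCat.restrictScalars φ).map k' = adj.unit.app M := by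
    apply ModuleCat.hom_ext
    apply LinearMap.ext
    intro x
    exact hk x
  refine ⟨k', ?_, ?_⟩
  · apply (adj.homEquiv _ _).injective
    rw [Adjunction.homEquiv_naturality_right, Equiv.apply_symm_apply, h1, adj.homEquiv_id]
  · apply ModuleCat.hom_ext
    apply hf.hom_ext
    intro x
    have h2 : (adj.homEquiv M N) ((adj.homEquiv M N).symm f) = f := Equiv.apply_symm_apply _ _
    rw [Adjunction.homEquiv_unit] at h2
    have h3 := congrArg (fun t => t.hom x) h2
    have h4 : k (f.hom x) = (adj.unit.app M).hom x := hk x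
    change ((adj.homEquiv M N).symm f).hom (k (f.hom x)) = f.hom x
    rw [h4]
    exact h3

end Adj

section Cx

variable {A B : Type u} [CommRing A] [CommRing B] (φ : A →+* B) {ι : Type} {c : ComplexShape ι}

/-- The complex version of the adjoint map. -/
noncomputable def adjCx (P : HomologicalComplex (ModuleCat.{u} A) c)
    (Q : HomologicalComplex (ModuleCat.{u} B) c)
    (f : P ⟶ ((ModuleCat.restrictScalars φ).mapHomologicalComplex c).obj Q) :
    CohIII.bcCx φ P ⟶ Q where
  f i := ((ModuleCat.extendRestrictScalarsAdj φ).homEquiv (P.X i) (Q.X i)).symm (f.f i)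
  comm' i j _ := by
    have h := f.comm i j
    change ((ModuleCat.extendRestrictScalarsAdj φ).homEquiv (P.X i) (Q.X i)).symm (f.f i) ≫ Q.d i j =
      (ModuleCat.extendScalars φ).map (P.d i j) ≫
        ((ModuleCat.extendRestrictScalarsAdj φ).homEquiv (P.X j) (Q.X j)).symm (f.f j)
    rw [← Adjunction.homEquiv_naturality_right_symm, ← Adjunction.homEquiv_naturality_left_symm]
    congr 1

theorem isIso_adjCx (P : HomologicalComplex (ModuleCat.{u} A) c)
    (Q : HomologicalComplex (ModuleCat.{u} B) c)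
    (f : P ⟶ ((ModuleCat.restrictScalars φ).mapHomologicalComplex c).obj Q)
    (hf : ∀ i, IsBC φ (M := P.X i) (N := Q.X i) (f.f i).hom.toAddMonoidHom) :
    IsIso (adjCx φ P Q f) := by
  have : ∀ i, IsIso ((adjCx φ P Q f).f i) := fun i => isIso_adj φ (f.f i) (hf i)
  exact HomologicalComplex.Hom.isIso_of_components _

/-- `T_p` is functorial in the complex. -/
noncomputable def tFunCongr {P Q : HomologicalComplex (ModuleCat.{u} A) c} (e : P ≅ Q) (i : ι) :
    CohIII.TFun P i ≅ CohIII.TFun Q i :=
  NatIso.ofComponents (fun M => HomologicalComplex.homologyMapIso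
    (((tensorRight M).mapHomologicalComplex c).mapIso e) i) (fun {M N} g => by
      change HomologicalComplex.homologyMap (CohIII.tensorMap P g) i ≫
        HomologicalComplex.homologyMap (tensorMapL e.hom N) i =
        HomologicalComplex.homologyMap (tensorMapL e.hom M) i ≫
        HomologicalComplex.homologyMap (CohIII.tensorMap Q g) i
      rw [← HomologicalComplex.homologyMap_comp, ← HomologicalComplex.homologyMap_comp,
        tensorMapL_tensorMap])

variable (Ψ₀ : ModuleCat.{u} A ⥤ HomologicalComplex AddCommGrpCat.{u} c) [Ψ₀.Additive]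
  (Ψ : ModuleCat.{u} B ⥤ HomologicalComplex AddCommGrpCat.{u} c) [Ψ.Additive]

/-- the additive map underlying `liftCxMap` -/
noncomputable def liftAux (u : Ψ₀.obj (ModuleCat.of A A) ⟶ Ψ.obj (ModuleCat.of B B)) (i : ι) :
    LType (Ψ₀ ⋙ HomologicalComplex.eval _ c i) (ModuleCat.of A A) →+
      LType (Ψ ⋙ HomologicalComplex.eval _ c i) (ModuleCat.of B B) :=
  ((toLift (Ψ ⋙ HomologicalComplex.eval _ c i) (ModuleCat.of B B)).toAddMonoidHom.comp
    (u.f i).hom).comp
    (toLift (Ψ₀ ⋙ HomologicalComplex.eval _ c i) (ModuleCat.of A A)).symm.toAddMonoidHom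

/-- The `A`-linear map of complexes attached to `u`. -/
noncomputable def liftCxMap (u : Ψ₀.obj (ModuleCat.of A A) ⟶ Ψ.obj (ModuleCat.of B B))
    (hu : ∀ a : A, Ψ₀.map (a • 𝟙 (ModuleCat.of A A)) ≫ u = u ≫ Ψ.map (φ a • 𝟙 (ModuleCat.of B B))) :
    liftCx Ψ₀ (ModuleCat.of A A) ⟶
      ((ModuleCat.restrictScalars φ).mapHomologicalComplex c).obj (liftCx Ψ (ModuleCat.of B B)) where
  f i := ModuleCat.ofHom
    (X := LType (Ψ₀ ⋙ HomologicalComplex.eval _ c i) (ModuleCat.of A A))
    (Y := (ModuleCat.restrictScalars φ).obj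
      (ModuleCat.of B (LType (Ψ ⋙ HomologicalComplex.eval _ c i) (ModuleCat.of B B))))
    { toFun := fun x => liftAux Ψ₀ Ψ u i x
      map_add' := fun x y => (liftAux Ψ₀ Ψ u i).map_add x y
      map_smul' := fun a x => by
        obtain ⟨x, rfl⟩ := (toLift (Ψ₀ ⋙ HomologicalComplex.eval _ c i) _).surjective x
        rw [smul_toLift]
        have h1 := congrArg (fun t => (t.f i).hom x) (hu a)
        change toLift (Ψ ⋙ HomologicalComplex.eval _ c i) (ModuleCat.of B B)
          ((u.f i).hom (((Ψ₀.map (a • 𝟙 (ModuleCat.of A A))).f i).hom x)) =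
          φ a • (toLift (Ψ ⋙ HomologicalComplex.eval _ c i) (ModuleCat.of B B) ((u.f i).hom x))
        rw [smul_toLift]
        exact congrArg _ h1 }
  comm' i j _ := by
    apply ModuleCat.hom_ext
    apply LinearMap.ext
    intro x
    exact congrArg (fun t => t.hom x) (u.comm i j)

/-- MAIN abstract theorem. -/
theorem nonempty_iso [∀ i, PreservesColimits (Ψ₀ ⋙ HomologicalComplex.eval _ c i)]
    [∀ i, PreservesColimits (Ψ ⋙ HomologicalComplex.eval _ c i)]
    (u : Ψ₀.obj (ModuleCat.of A A) ⟶ Ψ.obj (ModuleCat.of B B))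
    (hu : ∀ a : A, Ψ₀.map (a • 𝟙 (ModuleCat.of A A)) ≫ u = u ≫ Ψ.map (φ a • 𝟙 (ModuleCat.of B B)))
    (hbc : ∀ i, IsBC φ (M := LType (Ψ₀ ⋙ HomologicalComplex.eval _ c i) (ModuleCat.of A A))
      (N := LType (Ψ ⋙ HomologicalComplex.eval _ c i) (ModuleCat.of B B)) (u.f i).hom) (i : ι) :
    Nonempty (ModuleCat.restrictScalars φ ⋙ (Ψ₀ ⋙ HomologicalComplex.homologyFunctor _ _ i) ≅
      Ψ ⋙ HomologicalComplex.homologyFunctor _ _ i) := by
  have h1 := isIso_adjCx φ _ _ (liftCxMap φ Ψ₀ Ψ u hu) hbc
  exact ⟨Functor.isoWhiskerLeft (ModuleCat.restrictScalars φ) (homologyIso Ψ₀ i) ≪≫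
    TBaseChange.tFunForgetIso φ (liftCx Ψ₀ (ModuleCat.of A A)) i ≪≫
    Functor.isoWhiskerRight (tFunCongr (asIso (adjCx φ _ _ (liftCxMap φ Ψ₀ Ψ u hu))) i) _ ≪≫
    (homologyIso Ψ i).symm⟩

end Cx

end Groth.Agent.CurvesB.EWBC
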