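import Groth.Agent.CurvesB.ClosedIntegral
import Groth.Agent.CurvesB.DimOneTop
import Mathlib.AlgebraicGeometry.Morphisms.Finite
import Mathlib.AlgebraicGeometry.Morphisms.UniversallyOpen
import Mathlib.AlgebraicGeometry.Fiber

/-!
Field extensions of schemes locally of finite type over a field: closed points, descent of
"all irreducible components have dimension one".
-/

set_option autoImplicit false
universe u
open CategoryTheory CategoryTheory.Limits AlgebraicGeometry Topology

namespace Groth.Agent.CurvesB.FibreBC

/-- Points of `X_K` over closed points of `X` are closed. -/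
theorem isClosed_of_isPullback {P X : Scheme.{u}} {k K : Type u} [Field k] [Field K] (fst : P ⟶ X)
    (snd : P ⟶ Spec (CommRingCat.of K)) (f : X ⟶ Spec (CommRingCat.of k))
    (g : Spec (CommRingCat.of K) ⟶ Spec (CommRingCat.of k))
    (h : IsPullback fst snd f g) [LocallyOfFiniteType f] (y : P) (hy : IsClosed ({fst y} : Set X)) :
    IsClosed ({y} : Set P) := by
  have := LocallyOfFiniteType.jacobsonSpace f
  have h1 : IsClosedImmersion (X.fromSpecResidueField (fst y)) :=
    isClosed_singleton_iff_isClosedImmersion.mp hy
  have hfin : IsFinite (X.fromSpecResidueField (fst y) ≫ f) :=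
    isFinite_iff_locallyOfFiniteType_of_jacobsonSpace.mpr inferInstance
  have h2 : IsClosedImmersion (fst.fiberι (fst y)) :=
    MorphismProperty.pullback_fst (P := @IsClosedImmersion) _ _ h1
  have hpb : IsPullback (fst.fiberToSpecResidueField (fst y)) (fst.fiberι (fst y) ≫ snd)
      (X.fromSpecResidueField (fst y) ≫ f) g :=
    ((IsPullback.of_hasPullback fst (X.fromSpecResidueField (fst y))).paste_horiz h.flip).flip
  have h3 : IsFinite (fst.fiberι (fst y) ≫ snd) :=
    MorphismProperty.of_isPullback (P := @IsFinite) hpb hfin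
  have h4 : IsClosed ({fst.asFiber y} : Set (fst.fiber (fst y))) :=
    ClosedIntegral.isClosed_of_integral_field (K := K) (fst.fiberι (fst y) ≫ snd) _
  have h5 := (fst.fiberι (fst y)).isClosedEmbedding.isClosedMap _ h4
  rw [Set.image_singleton, Scheme.Hom.fiberι_asFiber] at h5
  exact h5

/-- Descent of purity in dimension one along a surjective generalizing map whose fibres over
closed points consist of closed points. -/
theorem dimOne_of_surjective {T' T : Type*} [TopologicalSpace T'] [TopologicalSpace T]
    [QuasiSober T'] [T0Space T'] [QuasiSober T] [T0Space T] (p : T' → T) (hc : Continuous p)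
    (hs : Function.Surjective p) (hg : GeneralizingMap p)
    (hfib : ∀ x' : T', IsClosed ({p x'} : Set T) → IsClosed ({x'} : Set T'))
    (h : ∀ Z ∈ irreducibleComponents T', topologicalKrullDim Z = 1) :
    ∀ Z ∈ irreducibleComponents T, topologicalKrullDim Z = 1 := by
  rw [DimOneTop.forall_irreducibleComponents_iff] at h ⊢
  have hgen : ∀ z : T, (∀ y, y ⤳ z → y = z) → ∀ w' : T', p w' = z →
      ∃ z' : T', z' ⤳ w' ∧ p z' = z ∧ ∀ y, y ⤳ z' → y = z' := by
    intro z hz w' hw'
    obtain ⟨z', hz', hz'w⟩ := DimOneTop.exists_generic_specializes w'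
    refine ⟨z', hz'w, ?_, hz'⟩
    exact hz _ ((hz'w.map hc).trans (specializes_of_eq hw'))
  intro z hz
  constructor
  · by_contra hcon
    push Not at hcon
    have hzc : IsClosed ({z} : Set T) := by
      rw [← closure_subset_iff_isClosed]
      intro x hx
      exact hcon x (specializes_iff_mem_closure.2 hx)
    obtain ⟨w', hw'⟩ := hs z
    obtain ⟨z', -, hz'1, hz'2⟩ := hgen z hz w' hw'
    obtain ⟨⟨x', hx', hne⟩, -⟩ := h z' hz'2
    have := hfib z' (by rw [hz'1]; exact hzc)
    exact hne (by simpa using hx'.mem_closed this rfl)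
  · intro x hzx hxz y hxy
    by_contra hyx
    obtain ⟨y', rfl⟩ := hs y
    obtain ⟨x', hx'y', hx'⟩ := hg hxy
    have hzx' : z ⤳ p x' := by rw [hx']; exact hzx
    obtain ⟨w', hw'x', hw'⟩ := hg hzx'
    obtain ⟨z', hz'w', hz'1, hz'2⟩ := hgen z hz w' hw'
    have h2 := (h z' hz'2).2 x' (hz'w'.trans hw'x') (by
      rintro rfl
      exact hxz (hx'.symm.trans hz'1)) y' hx'y'
    subst h2
    exact hyx hx'

/-- If all irreducible components have dimension one and the space is nonempty then it has
dimension one. -/
theorem topologicalKrullDim_eq_one {T : Type*} [TopologicalSpace T] [QuasiSober T] [T0Space T]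
    [Nonempty T] (h : ∀ Z ∈ irreducibleComponents T, topologicalKrullDim Z = 1) :
    topologicalKrullDim T = 1 := by
  rw [DimOneTop.forall_irreducibleComponents_iff] at h
  rw [DimOneTop.topologicalKrullDim_eq_one_iff]
  constructor
  · obtain ⟨z, hz, -⟩ := DimOneTop.exists_generic_specializes (Classical.arbitrary T)
    obtain ⟨⟨x, hx, hne⟩, -⟩ := h z hz
    exact ⟨z, x, hx, hne⟩
  · intro x
    obtain ⟨z, hz, hzx⟩ := DimOneTop.exists_generic_specializes x
    by_cases hxz : x = z
    · right
      rw [hxz]
      exact hz
    · left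
      exact (h z hz).2 x hzx hxz

/-- Descent of purity in dimension one along field extensions. -/
theorem dimOne_of_isPullback {P X : Scheme.{u}} {k K : Type u} [Field k] [Field K] (fst : P ⟶ X)
    (snd : P ⟶ Spec (CommRingCat.of K)) (f : X ⟶ Spec (CommRingCat.of k))
    (g : Spec (CommRingCat.of K) ⟶ Spec (CommRingCat.of k))
    (h : IsPullback fst snd f g) [LocallyOfFiniteType f]
    (hP : ∀ Z ∈ irreducibleComponents (P : Type u), topologicalKrullDim Z = 1) :
    ∀ Z ∈ irreducibleComponents (X : Type u), topologicalKrullDim Z = 1 := by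
  have hgs : Surjective g := ⟨fun x => ⟨Classical.arbitrary _, Subsingleton.elim _ _⟩⟩
  have hgf : Flat g := inferInstance
  have h1 : Flat fst := MorphismProperty.of_isPullback (P := @Flat) h.flip hgf
  have h2 : Surjective fst := MorphismProperty.of_isPullback (P := @Surjective) h.flip hgs
  exact dimOne_of_surjective fst fst.continuous fst.surjective (Flat.generalizingMap fst)
    (fun x' hx' => isClosed_of_isPullback fst snd f g h x' hx') hP

end Groth.Agent.CurvesB.FibreBC
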