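import Groth.Agent.Flat2E.FinSepClosure
import Mathlib.FieldTheory.Finite.Extension
import Mathlib.Algebra.Field.ULift
import Mathlib.FieldTheory.AlgebraicClosure
import Mathlib.RingTheory.Polynomial.IsIntegral
import Mathlib.FieldTheory.PrimitiveElement
import Mathlib.Algebra.Module.Submodule.Union
import Mathlib.RingTheory.TensorProduct.Maps
import Mathlib.RingTheory.Flat.Basic

/-!
# Finite extensions of finite fields staying fields after base change

* `exists_good_extension` : for a finite field `k` and finitely many finitely generated field extensions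
  `E i` there are finite extensions `K` of arbitrarily large degree such that all `K ⊗[k] E i` are fields.
* `exists_dual_ne_zero` : over an infinite field, a linear form not vanishing on finitely many given
  nonzero vectors.
* `exists_injective_of_finrank_le`.
-/

set_option autoImplicit false

universe u v w

open Polynomial TensorProduct

namespace Groth.Agent.CurvesB.FinFieldExt

/-- An irreducible polynomial of prime degree `l` stays irreducible over a finite extension of degree
`< l`. -/
theorem irreducible_map_of_finrank_lt {k : Type u} {F : Type v} [Field k] [Field F] [Algebra k F]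
    [FiniteDimensional k F] {f : k[X]} (hf : Irreducible f) {l : ℕ} (hl : l.Prime)
    (hfl : f.natDegree = l) (hlt : Module.finrank k F < l) {g : F[X]}
    (hg : g ∣ f.map (algebraMap k F)) (hg0 : g.natDegree ≠ 0) : l ≤ g.natDegree := by
  by_contra hlt'
  rw [not_le] at hlt'
  have hg1 : ¬ IsUnit g := fun h => hg0 (natDegree_eq_zero_of_isUnit h)
  have hgne : g ≠ 0 := by
    rintro rfl
    exact hg0 natDegree_zero
  obtain ⟨q, hq, hqg⟩ := WfDvdMonoid.exists_irreducible_factor hg1 hgne
  have hqd : q.natDegree ≤ g.natDegree := natDegree_le_of_dvd hqg hgne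
  have hq0 : 0 < q.natDegree := hq.natDegree_pos
  have : Fact (Irreducible q) := ⟨hq⟩
  let L := AdjoinRoot q
  have hfinL : FiniteDimensional F L := (AdjoinRoot.powerBasis hq.ne_zero).finite
  have : FiniteDimensional k L := FiniteDimensional.trans k F L
  have hL : Module.finrank F L = q.natDegree := by
    rw [(AdjoinRoot.powerBasis hq.ne_zero).finrank, AdjoinRoot.powerBasis_dim]
  have hroot : aeval (AdjoinRoot.root q) f = 0 := by
    have h1 : aeval (AdjoinRoot.root q) (f.map (algebraMap k F)) = 0 := by
      obtain ⟨r, hr⟩ := hqg.trans hg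
      rw [hr, map_mul, AdjoinRoot.aeval_eq, AdjoinRoot.mk_self, zero_mul]
    rwa [aeval_map_algebraMap] at h1
  have hmin : (minpoly k (AdjoinRoot.root q)).natDegree = l := by
    rw [← hfl]
    have h2 := minpoly.eq_of_irreducible hf hroot
    rw [← h2, natDegree_mul_C]
    exact inv_ne_zero (leadingCoeff_ne_zero.mpr hf.ne_zero)
  have hdvd : l ∣ Module.finrank k L := by
    rw [← hmin]
    exact minpoly.degree_dvd (Algebra.IsIntegral.isIntegral _)
  rw [← Module.finrank_mul_finrank k F L, hL, hl.dvd_mul] at hdvd
  rcases hdvd with h | h
  · exact absurd (Nat.le_of_dvd Module.finrank_pos h) (not_le.mpr hlt)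
  · exact absurd (Nat.le_of_dvd hq0 h) (not_le.mpr (hqd.trans_lt hlt'))

/-- An irreducible polynomial of large prime degree over `k` stays irreducible over a finitely generated
extension `E` of `k`. -/
theorem irreducible_map {k : Type u} {E : Type v} [Field k] [Field E] [Algebra k E]
    [FiniteDimensional k (algebraicClosure k E)] {f : k[X]} (hf : Irreducible f) (hfm : f.Monic) {l : ℕ}
    (hl : l.Prime) (hfl : f.natDegree = l) (hlt : Module.finrank k (algebraicClosure k E) < l) :
    Irreducible (f.map (algebraMap k E)) := by
  have hm : (f.map (algebraMap k E)).Monic := hfm.map _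
  refine hm.irreducible_iff_natDegree.2 ⟨fun h1 => ?_, ?_⟩
  · have h2 := congrArg natDegree h1
    rw [natDegree_map, hfl, natDegree_one] at h2
    exact hl.ne_zero h2
  intro g h hg hh hgh
  by_contra hcon
  push Not at hcon
  obtain ⟨hg0, hh0⟩ := hcon
  have hdeg : g.natDegree + h.natDegree = l := by
    rw [← hg.natDegree_mul hh, hgh, natDegree_map, hfl]
  -- the coefficients of `g` are algebraic over `k`
  have hint : ∀ i, IsIntegral k (g.coeff i) :=
    isIntegral_coeff_of_dvd f g hfm hg ⟨h, hgh.symm⟩
  have hlift : g ∈ Polynomial.lifts (algebraMap (algebraicClosure k E) E) := by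
    rw [Polynomial.lifts_iff_coeff_lifts]
    intro i
    exact ⟨⟨g.coeff i, mem_algebraicClosure_iff'.2 (hint i)⟩, rfl⟩
  obtain ⟨g', hg'⟩ := hlift
  replace hg' : g'.map (algebraMap (algebraicClosure k E) E) = g := hg'
  have hdvd : g' ∣ f.map (algebraMap k (algebraicClosure k E)) := by
    rw [← Polynomial.map_dvd_map' (algebraMap (algebraicClosure k E) E), hg', Polynomial.map_map,
      ← IsScalarTower.algebraMap_eq]
    exact ⟨h, hgh.symm⟩
  have h1 : g'.natDegree = g.natDegree := by rw [← hg', natDegree_map]
  have h2 := irreducible_map_of_finrank_lt hf hl hfl hlt hdvd (by rwa [h1])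
  rw [h1] at h2
  omega

/-- If the minimal polynomial of a primitive element of `K` stays irreducible over `E` then
`K ⊗ E` is a field. -/
theorem isField_tensor {k : Type u} {K : Type v} {E : Type w} [Field k] [Field K] [Field E] [Algebra k K]
    [Algebra k E] (α : K) (hα : Algebra.adjoin k {α} = ⊤)
    (hirr : Irreducible ((minpoly k α).map (algebraMap k E))) : IsField (K ⊗[k] E) := by
  have h0 : IsField (E ⊗[k] K) := by
    have hnt : Nontrivial (E ⊗[k] K) :=
      Algebra.TensorProduct.nontrivial_of_algebraMap_injective_of_flat_left k E K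
        (algebraMap k K).injective
    let φ : E[X] →ₐ[E] E ⊗[k] K := aeval (1 ⊗ₜ[k] α)
    have hφC : ∀ p : k[X], φ (p.map (algebraMap k E)) = 1 ⊗ₜ[k] (aeval α p) := by
      intro p
      change aeval (1 ⊗ₜ[k] α) (p.map (algebraMap k E)) = _
      rw [aeval_map_algebraMap]
      exact (aeval_algHom_apply (Algebra.TensorProduct.includeRight : K →ₐ[k] E ⊗[k] K) α p)
    have hsurj : Function.Surjective φ := by
      intro z
      induction z using TensorProduct.induction_on with
      | zero => exact ⟨0, map_zero _⟩
      | add x y hx hy =>
        obtain ⟨a, rfl⟩ := hx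
        obtain ⟨b, rfl⟩ := hy
        exact ⟨a + b, map_add _ _ _⟩
      | tmul e y =>
        have hy : y ∈ Algebra.adjoin k {α} := hα ▸ Algebra.mem_top
        rw [Algebra.adjoin_singleton_eq_range_aeval] at hy
        obtain ⟨p, rfl⟩ := hy
        refine ⟨e • p.map (algebraMap k E), ?_⟩
        rw [map_smul, hφC, TensorProduct.smul_tmul', smul_eq_mul, mul_one]
        rfl
    have hker : RingHom.ker (φ : E[X] →+* E ⊗[k] K) =
        Ideal.span {(minpoly k α).map (algebraMap k E)} := by
      have hmax : (Ideal.span {(minpoly k α).map (algebraMap k E)}).IsMaximal :=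
        PrincipalIdealRing.isMaximal_of_irreducible hirr
      symm
      refine hmax.eq_of_le ?_ ?_
      · exact RingHom.ker_ne_top _
      · rw [Ideal.span_singleton_le_iff_mem, RingHom.mem_ker]
        change φ _ = 0
        rw [hφC, minpoly.aeval, tmul_zero]
    have hmax : (RingHom.ker (φ : E[X] →+* E ⊗[k] K)).IsMaximal := by
      rw [hker]
      exact PrincipalIdealRing.isMaximal_of_irreducible hirr
    have e := RingHom.quotientKerEquivOfSurjective (f := (φ : E[X] →+* E ⊗[k] K)) hsurj
    exact e.symm.toMulEquiv.isField ((Ideal.Quotient.maximal_ideal_iff_isField_quotient _).1 hmax)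
  exact (Algebra.TensorProduct.comm k K E).toMulEquiv.isField h0

/-- For a finite field `k` and finitely many finitely generated field extensions `E i` there are finite
extensions `K` of `k` of arbitrarily large degree such that all `K ⊗[k] E i` are fields. -/
theorem exists_good_extension (k : Type u) [Field k] [Finite k] (n : ℕ) {ι : Type w} [Finite ι]
    (E : ι → Type v) [∀ i, Field (E i)] [∀ i, Algebra k (E i)] [∀ i, Algebra.EssFiniteType k (E i)] :
    ∃ (K : Type u) (_ : Field K) (_ : Algebra k K), FiniteDimensional k K ∧ n ≤ Module.finrank k K ∧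
      ∀ i, IsField (TensorProduct k K (E i)) := by
  classical
  have hfin : ∀ i, FiniteDimensional k (algebraicClosure k (E i)) := fun i =>
    Flat2E.FinSepClosure.finiteDimensional_of_isAlgebraic (algebraicClosure k (E i))
  let _ : Fintype ι := Fintype.ofFinite ι
  obtain ⟨l, hnl, hl⟩ := Nat.exists_infinite_primes
    (n + 1 + ∑ i, Module.finrank k (algebraicClosure k (E i)))
  have hlt : ∀ i, Module.finrank k (algebraicClosure k (E i)) < l := by
    intro i
    have := Finset.single_le_sum (f := fun i => Module.finrank k (algebraicClosure k (E i)))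
      (fun _ _ => Nat.zero_le _) (Finset.mem_univ i)
    omega
  obtain ⟨p, hp⟩ := CharP.exists k
  have : Fact p.Prime := ⟨CharP.char_is_prime k p⟩
  have : NeZero l := ⟨hl.ne_zero⟩
  let K : Type u := ULift.{u} (FiniteField.Extension k p l)
  letI iF : Field K := inferInstanceAs (Field (ULift.{u} (FiniteField.Extension k p l)))
  letI iA : Algebra k K := inferInstanceAs (Algebra k (ULift.{u} (FiniteField.Extension k p l)))
  let e : K ≃ₐ[k] FiniteField.Extension k p l := ULift.algEquiv
  have hK : FiniteDimensional k K := e.toLinearEquiv.symm.finiteDimensional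
  have hfr : Module.finrank k K = l := by
    rw [e.toLinearEquiv.finrank_eq, FiniteField.finrank_extension]
  refine ⟨K, inferInstance, inferInstance, hK, by rw [hfr]; omega, fun i => ?_⟩
  obtain ⟨α, hα⟩ := Field.exists_primitive_element k K
  have hint : IsIntegral k α := Algebra.IsIntegral.isIntegral α
  have hα' : Algebra.adjoin k {α} = ⊤ := by
    rw [← IntermediateField.adjoin_simple_toSubalgebra_of_isAlgebraic hint.isAlgebraic, hα]
    rfl
  have hd : (minpoly k α).natDegree = l :=
    ((Field.primitive_element_iff_minpoly_natDegree_eq k α).1 hα).trans hfr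
  exact isField_tensor α hα' (irreducible_map (minpoly.irreducible hint) (minpoly.monic hint) hl hd (hlt i))

/-- Over an infinite field there is a linear form not vanishing on finitely many given nonzero
vectors. -/
theorem exists_dual_ne_zero {k : Type u} {V : Type v} [Field k] [Infinite k] [AddCommGroup V]
    [Module k V] {ι : Type w} [Finite ι] (x : ι → V) (hx : ∀ i, x i ≠ 0) :
    ∃ f : V →ₗ[k] k, ∀ i, f (x i) ≠ 0 :=
  Module.exists_dual_forall_apply_ne_zero x hx

/-- A vector space of dimension at most `[K : k]` embeds in `K`. -/
theorem exists_injective_of_finrank_le {k : Type u} {V : Type v} {K : Type w} [Field k] [AddCommGroup V]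
    [Module k V] [FiniteDimensional k V] [AddCommGroup K] [Module k K] [FiniteDimensional k K]
    (h : Module.finrank k V ≤ Module.finrank k K) : ∃ f : V →ₗ[k] K, Function.Injective f := by
  refine Module.Free.exists_linearMap_injective_of_linearIndependent_of_lift_rank_le
    (Module.finBasis k K).linearIndependent ?_
  simpa [← Module.finrank_eq_rank] using h

end Groth.Agent.CurvesB.FinFieldExt
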