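import Mathlib.LinearAlgebra.Trace
import Mathlib.LinearAlgebra.FiniteDimensional.Lemmas

/-!
# Traces of finite rank endomorphisms of arbitrary vector spaces

`FR T`: the linear map `T` has finite rank.  `ftr T`: the trace of a finite rank endomorphism.
-/

set_option autoImplicit false
set_option linter.style.haveILetI false

namespace Groth.Agent.CurvesB.FinTrace

open LinearMap Module

variable {k : Type*} [Field k]
variable {V W X : Type*} [AddCommGroup V] [Module k V] [AddCommGroup W] [Module k W]
  [AddCommGroup X] [Module k X]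

/-- A linear map of finite rank. -/
def FR (T : V →ₗ[k] W) : Prop := FiniteDimensional k (LinearMap.range T)

theorem FR.of_forall_mem {T : V →ₗ[k] W} (P : Submodule k W) [FiniteDimensional k P]
    (h : ∀ x, T x ∈ P) : FR T := by
  have hle : LinearMap.range T ≤ P := by
    rintro _ ⟨x, rfl⟩
    exact h x
  exact Submodule.finiteDimensional_of_le hle

theorem FR.zero : FR (0 : V →ₗ[k] W) :=
  FR.of_forall_mem ⊥ (fun x => by simp)

theorem FR.comp_left {T : V →ₗ[k] W} (h : FR T) (S : X →ₗ[k] V) : FR (T ∘ₗ S) := by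
  haveI : FiniteDimensional k (LinearMap.range T) := h
  exact FR.of_forall_mem (LinearMap.range T) (fun x => LinearMap.mem_range_self T _)

theorem FR.comp_right {T : V →ₗ[k] W} (h : FR T) (S : W →ₗ[k] X) : FR (S ∘ₗ T) := by
  haveI : FiniteDimensional k (LinearMap.range T) := h
  exact FR.of_forall_mem ((LinearMap.range T).map S)
    (fun x => ⟨T x, LinearMap.mem_range_self T _, rfl⟩)

theorem FR.add {S T : V →ₗ[k] W} (hS : FR S) (hT : FR T) : FR (S + T) := by
  haveI : FiniteDimensional k (LinearMap.range S) := hS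
  haveI : FiniteDimensional k (LinearMap.range T) := hT
  exact FR.of_forall_mem (LinearMap.range S ⊔ LinearMap.range T) (fun x =>
    Submodule.add_mem_sup (LinearMap.mem_range_self S x) (LinearMap.mem_range_self T x))

theorem FR.neg {S : V →ₗ[k] W} (hS : FR S) : FR (-S) := by
  haveI : FiniteDimensional k (LinearMap.range S) := hS
  exact FR.of_forall_mem (LinearMap.range S) (fun x =>
    neg_mem (LinearMap.mem_range_self S x))

theorem FR.sub {S T : V →ₗ[k] W} (hS : FR S) (hT : FR T) : FR (S - T) := by
  rw [sub_eq_add_neg]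
  exact hS.add hT.neg

theorem FR.smul (c : k) {S : V →ₗ[k] W} (hS : FR S) : FR (c • S) := by
  haveI : FiniteDimensional k (LinearMap.range S) := hS
  exact FR.of_forall_mem (LinearMap.range S) (fun x =>
    Submodule.smul_mem _ c (LinearMap.mem_range_self S x))

theorem FR.sum {ι : Type*} (s : Finset ι) {S : ι → V →ₗ[k] W} (h : ∀ i ∈ s, FR (S i)) :
    FR (∑ i ∈ s, S i) := by
  classical
  induction s using Finset.induction_on with
  | empty => simpa using FR.zero
  | insert a s ha ih =>
    rw [Finset.sum_insert ha]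
    exact (h a (Finset.mem_insert_self a s)).add
      (ih fun i hi => h i (Finset.mem_insert_of_mem hi))

theorem FR.of_source [FiniteDimensional k V] (T : V →ₗ[k] W) : FR T := by
  have : FiniteDimensional k (LinearMap.range T) := inferInstance
  exact this

theorem FR.of_target [FiniteDimensional k W] (T : V →ₗ[k] W) : FR T := by
  have : FiniteDimensional k (LinearMap.range T) := inferInstance
  exact this

/-- If `S ∘ T` has finite rank and `S` has finite-dimensional kernel then `T` has finite rank. -/
theorem FR.of_comp {S : W →ₗ[k] X} {T : V →ₗ[k] W} (h : FR (S ∘ₗ T))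
    (hS : FiniteDimensional k (LinearMap.ker S)) : FR T := by
  haveI h1 : FiniteDimensional k (LinearMap.range (S ∘ₗ T)) := h
  have hle : LinearMap.range T ≤ (LinearMap.range (S ∘ₗ T)).comap S := by
    rintro _ ⟨x, rfl⟩
    exact ⟨x, rfl⟩
  haveI : FiniteDimensional k ((LinearMap.range (S ∘ₗ T)).comap S) := by
    -- restrict `S` to the preimage of the finite-dimensional space
    let P := (LinearMap.range (S ∘ₗ T)).comap S
    let S' : P →ₗ[k] LinearMap.range (S ∘ₗ T) := S.restrict (fun x hx => hx)
    haveI hker : FiniteDimensional k (LinearMap.ker S') := by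
      let j : LinearMap.ker S' →ₗ[k] LinearMap.ker S :=
        (P.subtype.comp (LinearMap.ker S').subtype).codRestrict (LinearMap.ker S) (by
          rintro ⟨⟨y, hy⟩, hy'⟩
          rw [LinearMap.mem_ker]
          exact congrArg Subtype.val hy')
      refine FiniteDimensional.of_injective j ?_
      intro a b hab
      have := congrArg Subtype.val hab
      exact Subtype.ext (Subtype.ext this)
    haveI : FiniteDimensional k (P ⧸ LinearMap.ker S') :=
      Module.Finite.equiv (S'.quotKerEquivRange).symm
    exact Module.Finite.of_submodule_quotient (LinearMap.ker S')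
  exact Submodule.finiteDimensional_of_le hle

theorem FR.of_comp_injective {S : W →ₗ[k] X} {T : V →ₗ[k] W} (h : FR (S ∘ₗ T))
    (hS : Function.Injective S) : FR T := by
  refine h.of_comp ?_
  rw [LinearMap.ker_eq_bot.mpr hS]
  infer_instance

/-- The trace of a finite rank endomorphism of an arbitrary vector space (junk if the rank is
infinite). -/
noncomputable def ftr (T : V →ₗ[k] V) : k :=
  LinearMap.trace k (LinearMap.range T)
    (T.restrict (p := LinearMap.range T) (q := LinearMap.range T)
      (fun x _ => LinearMap.mem_range_self T x))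

/-- The trace of a finite rank endomorphism can be computed on any finite-dimensional subspace
containing the range. -/
theorem ftr_eq (T : V →ₗ[k] V) (P : Submodule k V) [FiniteDimensional k P] (h : ∀ x, T x ∈ P) :
    ftr T = LinearMap.trace k P (T.restrict (fun x _ => h x)) := by
  have hle : LinearMap.range T ≤ P := by
    rintro _ ⟨x, rfl⟩
    exact h x
  haveI : FiniteDimensional k (LinearMap.range T) := Submodule.finiteDimensional_of_le hle
  let i : LinearMap.range T →ₗ[k] P := Submodule.inclusion hle
  let r : P →ₗ[k] LinearMap.range T :=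
    (T.comp P.subtype).codRestrict (LinearMap.range T) (fun x => LinearMap.mem_range_self T _)
  have h1 : T.restrict (p := LinearMap.range T) (q := LinearMap.range T)
      (fun x _ => LinearMap.mem_range_self T x) = r ∘ₗ i := by
    ext x
    rfl
  have h2 : T.restrict (p := P) (q := P) (fun x _ => h x) = i ∘ₗ r := by
    ext x
    rfl
  rw [ftr, h1, h2, LinearMap.trace_comp_comm']

theorem ftr_zero : ftr (0 : V →ₗ[k] V) = 0 := by
  rw [ftr_eq (0 : V →ₗ[k] V) ⊥ (fun x => by simp)]
  have : (0 : V →ₗ[k] V).restrict (p := ⊥) (q := ⊥) (fun x _ => by simp) = 0 := by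
    ext x
  rw [this, map_zero]

theorem ftr_eq_trace [FiniteDimensional k V] (T : V →ₗ[k] V) : ftr T = LinearMap.trace k V T := by
  let i : LinearMap.range T →ₗ[k] V := (LinearMap.range T).subtype
  let r : V →ₗ[k] LinearMap.range T := T.rangeRestrict
  have h1 : T.restrict (p := LinearMap.range T) (q := LinearMap.range T)
      (fun x _ => LinearMap.mem_range_self T x) = r ∘ₗ i := by
    ext x
    rfl
  have h2 : T = i ∘ₗ r := by
    ext x
    rfl
  rw [ftr, h1]
  conv_rhs => rw [h2]
  rw [LinearMap.trace_comp_comm']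

theorem ftr_add {S T : V →ₗ[k] V} (hS : FR S) (hT : FR T) : ftr (S + T) = ftr S + ftr T := by
  haveI : FiniteDimensional k (LinearMap.range S) := hS
  haveI : FiniteDimensional k (LinearMap.range T) := hT
  let P := LinearMap.range S ⊔ LinearMap.range T
  have hSP : ∀ x, S x ∈ P := fun x => Submodule.mem_sup_left (LinearMap.mem_range_self S x)
  have hTP : ∀ x, T x ∈ P := fun x => Submodule.mem_sup_right (LinearMap.mem_range_self T x)
  rw [ftr_eq S P hSP, ftr_eq T P hTP, ftr_eq (S + T) P (fun x => P.add_mem (hSP x) (hTP x)),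
    ← map_add]
  congr 1

theorem ftr_smul (c : k) {S : V →ₗ[k] V} (hS : FR S) : ftr (c • S) = c * ftr S := by
  haveI : FiniteDimensional k (LinearMap.range S) := hS
  let P := LinearMap.range S
  have hSP : ∀ x, S x ∈ P := fun x => LinearMap.mem_range_self S x
  rw [ftr_eq S P hSP, ftr_eq (c • S) P (fun x => P.smul_mem c (hSP x)), ← smul_eq_mul, ← map_smul]
  congr 1

theorem ftr_neg {S : V →ₗ[k] V} (hS : FR S) : ftr (-S) = - ftr S := by
  rw [← neg_one_smul k S, ftr_smul _ hS]
  ring

theorem ftr_sub {S T : V →ₗ[k] V} (hS : FR S) (hT : FR T) : ftr (S - T) = ftr S - ftr T := by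
  rw [sub_eq_add_neg, ftr_add hS hT.neg, ftr_neg hT, sub_eq_add_neg]

theorem ftr_sum {ι : Type*} (s : Finset ι) {S : ι → V →ₗ[k] V} (h : ∀ i ∈ s, FR (S i)) :
    ftr (∑ i ∈ s, S i) = ∑ i ∈ s, ftr (S i) := by
  classical
  induction s using Finset.induction_on with
  | empty => simpa using ftr_zero
  | insert a s ha ih =>
    rw [Finset.sum_insert ha, Finset.sum_insert ha, ftr_add (h a (Finset.mem_insert_self a s))
      (FR.sum s fun i hi => h i (Finset.mem_insert_of_mem hi)),
      ih fun i hi => h i (Finset.mem_insert_of_mem hi)]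

/-- `Tr (T ∘ S) = Tr (S ∘ T)` when `S` has finite rank. -/
theorem ftr_comm {S : V →ₗ[k] W} (hS : FR S) (T : W →ₗ[k] V) : ftr (T ∘ₗ S) = ftr (S ∘ₗ T) := by
  haveI : FiniteDimensional k (LinearMap.range S) := hS
  let R := LinearMap.range S
  let Q := R.map T
  have h1 : ∀ x, (T ∘ₗ S) x ∈ Q := fun x => ⟨S x, LinearMap.mem_range_self S x, rfl⟩
  have h2 : ∀ x, (S ∘ₗ T) x ∈ R := fun x => LinearMap.mem_range_self S _
  rw [ftr_eq (T ∘ₗ S) Q h1, ftr_eq (S ∘ₗ T) R h2]
  let T' : R →ₗ[k] Q := T.restrict (fun x hx => ⟨x, hx, rfl⟩)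
  let S' : Q →ₗ[k] R := S.restrict (fun x _ => LinearMap.mem_range_self S x)
  have e1 : (T ∘ₗ S).restrict (p := Q) (q := Q) (fun x _ => h1 x) = T' ∘ₗ S' := by
    ext x
    rfl
  have e2 : (S ∘ₗ T).restrict (p := R) (q := R) (fun x _ => h2 x) = S' ∘ₗ T' := by
    ext x
    rfl
  rw [e1, e2, LinearMap.trace_comp_comm']

/-- `Tr (T ∘ S) = Tr (S ∘ T)` when `T` has finite rank. -/
theorem ftr_comm' (S : V →ₗ[k] W) {T : W →ₗ[k] V} (hT : FR T) : ftr (T ∘ₗ S) = ftr (S ∘ₗ T) :=
  (ftr_comm hT S).symm

/-- The trace of a rank one operator. -/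
theorem ftr_smulRight (φ : V →ₗ[k] k) (v : V) : ftr (φ.smulRight v) = φ v := by
  have h : φ.smulRight v = (LinearMap.toSpanSingleton k V v) ∘ₗ φ := by
    ext x
    simp
  rw [h, ftr_comm (FR.of_target φ), ftr_eq_trace]
  have h2 : φ ∘ₗ LinearMap.toSpanSingleton k V v = φ v • LinearMap.id := by
    ext
    simp
  rw [h2, map_smul, LinearMap.trace_id]
  simp

/-- Trace of a block diagonal operator. -/
theorem ftr_pi {ι : Type*} [Fintype ι] {M : ι → Type*} [∀ i, AddCommGroup (M i)]
    [∀ i, Module k (M i)] (T : ∀ i, M i →ₗ[k] M i) (hT : ∀ i, FR (T i)) :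
    ftr (LinearMap.pi fun i => T i ∘ₗ LinearMap.proj i) = ∑ i, ftr (T i) := by
  classical
  have h : (LinearMap.pi fun i => T i ∘ₗ LinearMap.proj i : (∀ i, M i) →ₗ[k] (∀ i, M i)) =
      ∑ i, LinearMap.single k M i ∘ₗ (T i ∘ₗ LinearMap.proj i) := by
    ext x v j
    simp only [LinearMap.pi_apply, LinearMap.coe_comp, Function.comp_apply, LinearMap.proj_apply,
      LinearMap.sum_apply, Finset.sum_apply, LinearMap.single_apply]
    rw [Finset.sum_eq_single j]
    · simp
    · intro b _ hb
      rw [Pi.single_eq_of_ne' hb]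
    · intro hj
      exact absurd (Finset.mem_univ j) hj
  rw [h, ftr_sum]
  · refine Finset.sum_congr rfl fun i _ => ?_
    rw [ftr_comm ((hT i).comp_left _)]
    congr 1
    ext x
    simp
  · intro i _
    exact ((hT i).comp_left _).comp_right _

end Groth.Agent.CurvesB.FinTrace
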