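import Groth.Prelude.Def_ega3
import Mathlib.RingTheory.LocalRing.Module
import Mathlib.RingTheory.LocalProperties.Projective
import Mathlib.Algebra.Homology.ShortComplex.ModuleCat

/-!
# Algebra for cohomology and base change in degree one (used for S1596)

`P` a complex of finite projective `A`-modules, zero in very negative homological degrees, such that for
every maximal ideal `m`: `H_i(P ⊗ A/m) = 0` for `i ≤ -2` and `H_0(P) → H_0(P ⊗ A/m)` is onto.  Then
`H_i(P) = 0` for `i ≤ -2` and `H_{-1}(P)` is finite projective.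
-/

set_option autoImplicit false
universe u v

open CategoryTheory CategoryTheory.Limits TensorProduct

namespace Groth.Agent.CurvesB.FreeHOne

section Plain

variable {A : Type u} [CommRing A]
variable {P Q W : Type v} [AddCommGroup P] [Module A P] [AddCommGroup Q] [Module A Q]
  [AddCommGroup W] [Module A W]

/-- Surjectivity of a map into a finite module can be checked modulo all maximal ideals. -/
theorem surjective_of_forall_maximal (f : P →ₗ[A] Q) [Module.Finite A Q]
    (h : ∀ m : Ideal A, m.IsMaximal → Function.Surjective (f.rTensor (A ⧸ m))) :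
    Function.Surjective f := by
  rw [← LinearMap.range_eq_top]
  by_contra hne
  have hfin : Module.Finite A (Q ⧸ LinearMap.range f) := inferInstance
  have hnt : Nontrivial (Q ⧸ LinearMap.range f) := Submodule.Quotient.nontrivial_iff.mpr hne
  -- the annihilator of the quotient is a proper ideal
  have hann : Module.annihilator A (Q ⧸ LinearMap.range f) ≠ ⊤ := by
    intro h1
    exact not_subsingleton (Q ⧸ LinearMap.range f) (Module.annihilator_eq_top_iff.mp h1)
  obtain ⟨m, hm, hle⟩ := Ideal.exists_le_maximal _ hann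
  -- Nakayama: m • ⊤ ≠ ⊤ in the quotient
  have hq : (m • (⊤ : Submodule A (Q ⧸ LinearMap.range f))) = ⊤ := by
    rw [eq_top_iff]
    rintro x -
    obtain ⟨q, rfl⟩ := Submodule.Quotient.mk_surjective _ x
    obtain ⟨y, hy⟩ := h m hm (q ⊗ₜ 1)
    -- push to the quotient tensor A/m
    have h1 : ((LinearMap.range f).mkQ.rTensor (A ⧸ m)) (q ⊗ₜ 1) = 0 := by
      rw [← hy, ← LinearMap.comp_apply, ← LinearMap.rTensor_comp]
      have : (LinearMap.range f).mkQ ∘ₗ f = 0 := by
        ext z; simp
      rw [this]; simp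
    simp only [LinearMap.rTensor_tmul, Submodule.mkQ_apply] at h1
    have h2 := (TensorProduct.tensorQuotEquivQuotSMul (Q ⧸ LinearMap.range f) m)
    have h3 := congrArg (TensorProduct.tensorQuotEquivQuotSMul (Q ⧸ LinearMap.range f) m) h1
    rw [map_zero] at h3
    have h4 : (TensorProduct.tensorQuotEquivQuotSMul (Q ⧸ LinearMap.range f) m)
        ((Submodule.Quotient.mk q) ⊗ₜ[A] (1 : A ⧸ m)) = Submodule.Quotient.mk (Submodule.Quotient.mk q) := by
      have := TensorProduct.tensorQuotEquivQuotSMul_tmul_mk (M := Q ⧸ LinearMap.range f) m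
        (Submodule.Quotient.mk q) (1 : A)
      simpa using this
    rw [h4] at h3
    exact (Submodule.Quotient.mk_eq_zero _).mp h3
  have hmem := Submodule.exists_sub_one_mem_and_smul_eq_zero_of_fg_of_le_smul m
    (⊤ : Submodule A (Q ⧸ LinearMap.range f)) hfin.1 hq.ge
  obtain ⟨r, hr, hr0⟩ := hmem
  have hrann : r ∈ Module.annihilator A (Q ⧸ LinearMap.range f) := by
    rw [Module.mem_annihilator]
    intro x
    exact hr0 x trivial
  have hrm : r ∈ m := hle hrann
  have : (1 : A) ∈ m := by
    have := m.sub_mem hrm hr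
    simpa using this
  exact hm.ne_top ((Ideal.eq_top_iff_one m).mpr this)

/-- One step of the descending induction: if `ker g` is a direct summand of the finite projective
module `Q` and `P → Q → W` is exact modulo every maximal ideal, then it is exact and `ker f` is a direct
summand of `P`. -/
theorem step [Module.Finite A Q] [Module.Projective A Q] (f : P →ₗ[A] Q) (g : Q →ₗ[A] W)
    (hgf : g ∘ₗ f = 0)
    (r : Q →ₗ[A] LinearMap.ker g) (hr : r ∘ₗ (LinearMap.ker g).subtype = LinearMap.id)
    (hex : ∀ m : Ideal A, m.IsMaximal → Function.Exact (f.rTensor (A ⧸ m)) (g.rTensor (A ⧸ m))) :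
    Function.Exact f g ∧
      ∃ r' : P →ₗ[A] LinearMap.ker f, r' ∘ₗ (LinearMap.ker f).subtype = LinearMap.id := by
  have hrs : Function.Surjective r := fun z => ⟨z, LinearMap.congr_fun hr z⟩
  have : Module.Finite A (LinearMap.ker g) := Module.Finite.of_surjective r hrs
  have : Module.Projective A (LinearMap.ker g) :=
    Module.Projective.of_split (LinearMap.ker g).subtype r hr
  let f' : P →ₗ[A] LinearMap.ker g := f.codRestrict _ (fun x => LinearMap.congr_fun hgf x)
  have hf' : (LinearMap.ker g).subtype ∘ₗ f' = f := by ext x; rfl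
  have hrf : r ∘ₗ f = f' := by
    rw [← hf', ← LinearMap.comp_assoc, hr, LinearMap.id_comp]
  have hsurj : Function.Surjective f' := by
    apply surjective_of_forall_maximal
    intro m hm z
    have h1 : (g.rTensor (A ⧸ m)) (((LinearMap.ker g).subtype.rTensor (A ⧸ m)) z) = 0 := by
      rw [← LinearMap.comp_apply, ← LinearMap.rTensor_comp]
      have : g ∘ₗ (LinearMap.ker g).subtype = 0 := by ext x; exact x.2
      rw [this]; simp
    obtain ⟨y, hy⟩ := (hex m hm _).mp h1
    refine ⟨y, ?_⟩
    have h2 := congrArg (r.rTensor (A ⧸ m)) hy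
    rw [← LinearMap.comp_apply, ← LinearMap.rTensor_comp, hrf, ← LinearMap.comp_apply,
      ← LinearMap.rTensor_comp, hr, LinearMap.rTensor_id, LinearMap.id_apply] at h2
    exact h2
  refine ⟨?_, ?_⟩
  · intro y
    constructor
    · intro hy
      obtain ⟨x, hx⟩ := hsurj ⟨y, hy⟩
      exact ⟨x, congrArg Subtype.val hx⟩
    · rintro ⟨x, rfl⟩
      exact LinearMap.congr_fun hgf x
  · obtain ⟨s, hs⟩ := Module.projective_lifting_property f' LinearMap.id hsurj
    have hk : LinearMap.ker f' = LinearMap.ker f := by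
      ext x
      simp only [LinearMap.mem_ker]
      constructor
      · intro h; exact congrArg Subtype.val h
      · intro h; exact Subtype.ext h
    refine ⟨LinearMap.codRestrict _ (LinearMap.id - s ∘ₗ f') ?_, ?_⟩
    · intro x
      rw [← hk, LinearMap.mem_ker, LinearMap.sub_apply, map_sub, LinearMap.comp_apply,
        ← LinearMap.comp_apply f' s, hs]
      simp
    · ext x
      have hx : f' x = 0 := Subtype.ext x.2
      simp [hx]

/-- If modulo every maximal ideal each element of the kernel of `f ⊗ A/m` lifts to `ker f`, then the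
cokernel of `f : P → Z` is projective (`P`, `Z` finite projective). -/
theorem projective_coker [Module.Finite A P] [Module.Finite A Q] [Module.Projective A Q]
    (f : P →ₗ[A] Q)
    (h : ∀ m : Ideal A, m.IsMaximal → ∀ y : P ⊗[A] (A ⧸ m), f.rTensor (A ⧸ m) y = 0 →
      ∃ x : P, f x = 0 ∧ x ⊗ₜ (1 : A ⧸ m) = y) :
    Module.Projective A (Q ⧸ LinearMap.range f) := by
  have hfp : Module.FinitePresentation A (Q ⧸ LinearMap.range f) := by
    have : Module.FinitePresentation A Q := Module.finitePresentation_of_projective A Q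
    exact Module.finitePresentation_of_surjective (LinearMap.range f).mkQ
      (Submodule.mkQ_surjective _) (by
        rw [Submodule.ker_mkQ]
        rw [LinearMap.range_eq_map]
        exact (Module.Finite.fg_top).map f)
  -- injectivity of (range f) ⊗ A/m → Q ⊗ A/m
  have hinj : ∀ m : Ideal A, m.IsMaximal →
      Function.Injective ((LinearMap.range f).subtype.rTensor (A ⧸ m)) := by
    intro m hm
    rw [injective_iff_map_eq_zero]
    intro w hw
    have hs : Function.Surjective (f.rangeRestrict.rTensor (A ⧸ m)) :=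
      LinearMap.rTensor_surjective _ f.surjective_rangeRestrict
    obtain ⟨y, rfl⟩ := hs w
    rw [← LinearMap.comp_apply, ← LinearMap.rTensor_comp] at hw
    change f.rTensor (A ⧸ m) y = 0 at hw
    obtain ⟨x, hx, rfl⟩ := h m hm y hw
    have : f.rangeRestrict x = 0 := Subtype.ext hx
    rw [LinearMap.rTensor_tmul, this, zero_tmul]
  have key : ∀ (m : Ideal A) (hm : m.IsMaximal),
      Module.Projective (Localization.AtPrime m)
        (Localization.AtPrime m ⊗[A] (Q ⧸ LinearMap.range f)) := by
    intro m hm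
    set R := Localization.AtPrime m with hR
    have hfree : Module.Free R (R ⊗[A] Q) := Module.free_of_flat_of_isLocalRing
    have : Module.Free R (R ⊗[A] (Q ⧸ LinearMap.range f)) := by
      refine Module.free_of_lTensor_residueField_injective (R := R)
        (M := R ⊗[A] LinearMap.range f) (N := R ⊗[A] Q)
        ((LinearMap.range f).subtype.baseChange R) ((LinearMap.range f).mkQ.baseChange R)
        ?_ ?_ ?_
      · exact LinearMap.lTensor_surjective R (Submodule.mkQ_surjective _)
      · exact lTensor_exact R (LinearMap.exact_subtype_mkQ _) (Submodule.mkQ_surjective _)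
      · set κ := IsLocalRing.ResidueField R with hκ
        -- reduce to `κ ⊗[A] range f → κ ⊗[A] Q`
        have hcomm := AlgebraTensorModule.lTensor_comp_cancelBaseChange (R := A) (A := R) (B := R)
          (M := κ) (N := LinearMap.range f) (Q := Q) (LinearMap.range f).subtype
        have hκinj : Function.Injective
            (AlgebraTensorModule.lTensor R κ (LinearMap.range f).subtype) := by
          have e : (A ⧸ m) ≃ₗ[A] κ :=
            LinearEquiv.ofBijective (IsScalarTower.toAlgHom A (A ⧸ m) m.ResidueField).toLinearMap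
              (Ideal.bijective_algebraMap_quotient_residueField m)
          have h1 := hinj m hm
          have h2 : Function.Injective ((LinearMap.range f).subtype.rTensor κ) := by
            have hc : (LinearMap.range f).subtype.rTensor κ ∘ₗ e.toLinearMap.lTensor (LinearMap.range f) =
                e.toLinearMap.lTensor Q ∘ₗ (LinearMap.range f).subtype.rTensor (A ⧸ m) := by
              ext x; simp
            have he1 : Function.Bijective (e.toLinearMap.lTensor (LinearMap.range f)) :=
              (e.lTensor (LinearMap.range f)).bijective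
            have he2 : Function.Bijective (e.toLinearMap.lTensor Q) := (e.lTensor Q).bijective
            intro a b hab
            obtain ⟨a', rfl⟩ := he1.2 a
            obtain ⟨b', rfl⟩ := he1.2 b
            rw [← LinearMap.comp_apply, ← LinearMap.comp_apply, hc] at hab
            rw [h1 (he2.1 hab)]
          have h3 := (LinearMap.lTensor_inj_iff_rTensor_inj κ (LinearMap.range f).subtype).mpr h2
          exact h3
        have hb1 : Function.Injective (AlgebraTensorModule.lTensor R κ
            (AlgebraTensorModule.lTensor R R (LinearMap.range f).subtype)) := by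
          intro a b hab
          apply (AlgebraTensorModule.cancelBaseChange A R R κ (LinearMap.range f)).injective
          apply hκinj
          have hca := LinearMap.congr_fun hcomm a
          have hcb := LinearMap.congr_fun hcomm b
          simp only [LinearMap.comp_apply, LinearEquiv.coe_coe] at hca hcb
          rw [hca, hcb, hab]
        exact hb1
    infer_instance
  exact Module.projective_of_localization_maximal' (fun m _ => Localization.AtPrime m)
    (fun m _ => Localization.AtPrime m ⊗[A] (Q ⧸ LinearMap.range f))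
    (fun m _ => TensorProduct.mk A (Localization.AtPrime m) (Q ⧸ LinearMap.range f) 1)
    (inst := fun m _ => (isLocalizedModule_iff_isBaseChange m.primeCompl _ _).mpr
      (TensorProduct.isBaseChange A _ _))
    key

end Plain

section Complex

variable {A : Type u} [CommRing A]

/-- Exactness of `P ⊗ M` at `j` in terms of `rTensor`. -/
theorem exact_rTensor_of_isZero (P : ChainComplex (ModuleCat.{u} A) ℤ) (M : Type u) [AddCommGroup M]
    [Module A M] (i j k : ℤ) (hij : j + 1 = i) (hjk : k + 1 = j)
    (h : IsZero (CohIII.T P j (ModuleCat.of A M))) :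
    Function.Exact ((P.d i j).hom.rTensor M) ((P.d j k).hom.rTensor M) := by
  have h1 : (CohIII.tensorObj P (ModuleCat.of A M)).ExactAt j :=
    (HomologicalComplex.exactAt_iff_isZero_homology _ _).mpr h
  rw [HomologicalComplex.exactAt_iff' _ i j k (by simp [hij]) (by simp [← hjk])] at h1
  have h2 := (ShortComplex.ShortExact.moduleCat_exact_iff_function_exact _).mp h1
  exact h2

theorem exact_of_function_exact (P : ChainComplex (ModuleCat.{u} A) ℤ) (i j k : ℤ) (hij : j + 1 = i)
    (hjk : k + 1 = j) (h : Function.Exact (P.d i j).hom (P.d j k).hom) : IsZero (P.homology j) := by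
  rw [← HomologicalComplex.exactAt_iff_isZero_homology, HomologicalComplex.exactAt_iff' _ i j k (by simp [hij]) (by simp [← hjk])]
  exact (ShortComplex.ShortExact.moduleCat_exact_iff_function_exact _).mpr h

/-- `ker (d : P_i → P_{i-1})` is a direct summand of `P_i`. -/
def HasRet (P : ChainComplex (ModuleCat.{u} A) ℤ) (i : ℤ) : Prop :=
  ∃ r : P.X i →ₗ[A] LinearMap.ker (P.d i (i - 1)).hom,
      r ∘ₗ (LinearMap.ker (P.d i (i - 1)).hom).subtype = LinearMap.id

theorem step' (P : ChainComplex (ModuleCat.{u} A) ℤ)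
    (hP : ∀ i, Module.Finite A (P.X i) ∧ Module.Projective A (P.X i))
    (j : ℤ) (h2 : ∀ m : Ideal A, m.IsMaximal → IsZero (CohIII.T P j (ModuleCat.of A (A ⧸ m))))
    (hj : HasRet P j) :
    Function.Exact (P.d (j + 1) j).hom (P.d j (j - 1)).hom ∧ HasRet P (j + 1) := by
  obtain ⟨r, hr⟩ := hj
  have := (hP j).1
  have := (hP j).2
  obtain ⟨h3, r', hr'⟩ := step (P.d (j + 1) j).hom (P.d j (j - 1)).hom
    (by rw [← ModuleCat.hom_comp, P.d_comp_d]; rfl) r hr
    (fun m hm => exact_rTensor_of_isZero P (A ⧸ m) (j + 1) j (j - 1) rfl (by ring) (h2 m hm))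
  refine ⟨h3, ?_⟩
  have hi : j + 1 - 1 = j := by ring
  unfold HasRet
  rw [hi]
  exact ⟨r', hr'⟩

theorem hasRet_of_isZero (P : ChainComplex (ModuleCat.{u} A) ℤ) (i : ℤ) (hz : IsZero (P.X i)) :
    HasRet P i := by
  have : Subsingleton (P.X i) := ModuleCat.subsingleton_of_isZero hz
  exact ⟨0, by ext x; exact Subsingleton.elim _ _⟩

theorem hasRet (P : ChainComplex (ModuleCat.{u} A) ℤ)
    (hP : ∀ i, Module.Finite A (P.X i) ∧ Module.Projective A (P.X i))
    (b : ℤ) (hb : ∀ i, i < b → IsZero (P.X i))
    (h2 : ∀ m : Ideal A, m.IsMaximal → ∀ i ≤ (-2 : ℤ), IsZero (CohIII.T P i (ModuleCat.of A (A ⧸ m))))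
    (i : ℤ) (hi : i ≤ -1) : HasRet P i := by
  by_cases hib : i < b
  · exact hasRet_of_isZero P i (hb i hib)
  · have key : ∀ n : ℕ, b - 1 + n ≤ -1 → HasRet P (b - 1 + n) := by
      intro n
      induction n with
      | zero => exact fun _ => hasRet_of_isZero P _ (hb _ (by simp))
      | succ n ih =>
        intro hn
        push_cast at hn
        have h3 := (step' P hP (b - 1 + n) (fun m hm => h2 m hm _ (by omega)) (ih (by omega))).2
        have hi : b - 1 + ((n + 1 : ℕ) : ℤ) = b - 1 + n + 1 := by push_cast; ring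
        rw [hi]
        exact h3
    have hn : b - 1 + ((i - (b - 1)).toNat : ℤ) = i := by
      rw [Int.toNat_of_nonneg (by omega)]; ring
    rw [← hn]
    exact key _ (by rw [hn]; exact hi)

/-- A cycle description of the homology in degree `-1` of a complex. -/
theorem homology_linearEquiv (P : ChainComplex (ModuleCat.{u} A) ℤ) (i j k : ℤ) (hij : j + 1 = i)
    (hjk : k + 1 = j) (f' : P.X i →ₗ[A] LinearMap.ker (P.d j k).hom)
    (hf' : ∀ x, (f' x : P.X j) = (P.d i j).hom x) :
    Nonempty (P.homology j ≃ₗ[A] (LinearMap.ker (P.d j k).hom ⧸ LinearMap.range f')) := by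
  have e1 : P.homology j ≅ (P.sc' i j k).homology :=
    (ShortComplex.homologyMapIso (P.isoSc' i j k (by simp [hij]) (by simp [← hjk])))
  have e2 := (P.sc' i j k).moduleCatHomologyIso
  have hfe : (P.sc' i j k).moduleCatToCycles = f' := by
    ext x
    exact (hf' x).symm
  have e3 : (P.sc' i j k).moduleCatLeftHomologyData.H ≅
      ModuleCat.of A (LinearMap.ker (P.d j k).hom ⧸ LinearMap.range f') := by
    rw [← hfe]
    exact Iso.refl _
  exact ⟨((e1 ≪≫ e2) ≪≫ e3).toLinearEquiv⟩

/-- Lifting cycles in homological degree `0`: if `g : A → M` is onto and `T_0(A) → T_0(M)` is onto then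
`ker(d) → ker (d ⊗ M)` is onto. -/
theorem exists_lift (P : ChainComplex (ModuleCat.{u} A) ℤ)
    (M : Type u) [AddCommGroup M] [Module A M] (g : A →ₗ[A] M) (hg : Function.Surjective g)
    (h1 : Function.Surjective ((CohIII.TFun P 0).map (ModuleCat.ofHom g)).hom)
    (y : P.X 0 ⊗[A] M) (hy : (P.d 0 (-1)).hom.rTensor M y = 0) :
    ∃ x : P.X 0, (P.d 0 (-1)).hom x = 0 ∧ x ⊗ₜ (g 1) = y := by
  -- notation
  let K := CohIII.tensorObj P (ModuleCat.of A A)
  let L := CohIII.tensorObj P (ModuleCat.of A M)
  let φ : K ⟶ L := CohIII.tensorMap P (ModuleCat.ofHom g)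
  -- the cycle defined by `y`
  let k : ModuleCat.of A A ⟶ L.X 0 := ModuleCat.ofHom (LinearMap.toSpanSingleton A (P.X 0 ⊗[A] M) y)
  have hk : k ≫ L.d 0 (-1) = 0 := by
    ext
    change (P.d 0 (-1)).hom.rTensor M ((1 : A) • y) = 0
    rw [one_smul, hy]
  let z : ModuleCat.of A A ⟶ L.cycles 0 := L.liftCycles k (-1) (by simp) hk
  have hz : z ≫ L.iCycles 0 = k := L.liftCycles_i k (-1) (by simp) hk
  obtain ⟨c, hc⟩ := h1 ((L.homologyπ 0).hom (z.hom (1 : A)))
  obtain ⟨c', rfl⟩ : ∃ c', (K.homologyπ 0).hom c' = c :=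
    (ModuleCat.epi_iff_surjective (K.homologyπ 0)).mp inferInstance c
  have hnat : K.homologyπ 0 ≫ HomologicalComplex.homologyMap φ 0 =
      HomologicalComplex.cyclesMap φ 0 ≫ L.homologyπ 0 := HomologicalComplex.homologyπ_naturality φ 0
  have hc0 : (L.homologyπ 0).hom ((HomologicalComplex.cyclesMap φ 0).hom c' - z.hom (1 : A)) = 0 := by
    rw [map_sub, ← show (HomologicalComplex.homologyMap φ 0).hom ((K.homologyπ 0).hom c') =
      (L.homologyπ 0).hom ((HomologicalComplex.cyclesMap φ 0).hom c') from
        congr(($hnat).hom c'), sub_eq_zero]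
    exact hc
  -- correct by a boundary
  have hexact : (ShortComplex.mk (L.toCycles 1 0) (L.homologyπ 0) (L.toCycles_comp_homologyπ 1 0)).Exact :=
    ShortComplex.exact_of_g_is_cokernel _ (L.homologyIsCokernel 1 0 (by simp))
  obtain ⟨w, hw⟩ := (ShortComplex.moduleCat_exact_iff _).mp hexact _ hc0
  have hφ1 : Function.Surjective (φ.f 1).hom := LinearMap.lTensor_surjective (P.X 1) hg
  obtain ⟨w', rfl⟩ := hφ1 w
  have hto : K.toCycles 1 0 ≫ HomologicalComplex.cyclesMap φ 0 = φ.f 1 ≫ L.toCycles 1 0 := by
    rw [← cancel_mono (L.iCycles 0), Category.assoc, HomologicalComplex.cyclesMap_i,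
      HomologicalComplex.toCycles_i_assoc, Category.assoc, HomologicalComplex.toCycles_i]
    exact (φ.comm 1 0).symm
  have hw2 : (HomologicalComplex.cyclesMap φ 0).hom ((K.toCycles 1 0).hom w') =
      (L.toCycles 1 0).hom ((φ.f 1).hom w') := congr(($hto).hom w')
  let c'' := c' - (K.toCycles 1 0).hom w'
  have hc2 : (HomologicalComplex.cyclesMap φ 0).hom c'' = z.hom (1 : A) := by
    change (HomologicalComplex.cyclesMap φ 0).hom (c' - (K.toCycles 1 0).hom w') = _
    rw [map_sub, hw2]
    have hw3 : (L.toCycles 1 0).hom ((φ.f 1).hom w') =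
      (HomologicalComplex.cyclesMap φ 0).hom c' - z.hom (1 : A) := hw
    rw [hw3]
    abel
  have hx : (φ.f 0).hom ((K.iCycles 0).hom c'') = y := by
    have h3 : HomologicalComplex.cyclesMap φ 0 ≫ L.iCycles 0 = K.iCycles 0 ≫ φ.f 0 :=
      HomologicalComplex.cyclesMap_i φ 0
    have h4 : (L.iCycles 0).hom ((HomologicalComplex.cyclesMap φ 0).hom c'') =
      (φ.f 0).hom ((K.iCycles 0).hom c'') := congr(($h3).hom c'')
    rw [← h4, hc2]
    have h5 : (L.iCycles 0).hom (z.hom (1 : A)) = k.hom (1 : A) := congr(($hz).hom (1 : A))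
    rw [h5]
    exact one_smul A y
  have hd : (K.d 0 (-1)).hom ((K.iCycles 0).hom c'') = 0 := by
    have h6 : K.iCycles 0 ≫ K.d 0 (-1) = 0 := K.iCycles_d 0 (-1)
    exact congr(($h6).hom c'')
  obtain ⟨w, hw⟩ : ∃ w : P.X 0 ⊗[A] A, w = (K.iCycles 0).hom c'' := ⟨_, rfl⟩
  rw [← hw] at hx hd
  obtain ⟨x, rfl⟩ : ∃ x : P.X 0, x ⊗ₜ[A] (1 : A) = w :=
    ⟨TensorProduct.rid A (P.X 0) w, by
      rw [← TensorProduct.rid_symm_apply, LinearEquiv.symm_apply_apply]⟩
  refine ⟨x, ?_, ?_⟩
  · have h7 : (P.d 0 (-1)).hom x ⊗ₜ[A] (1 : A) = 0 := hd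
    have h8 := congrArg (TensorProduct.rid A (P.X (-1))) h7
    simpa using h8
  · exact hx

/-- The main statement on complexes. -/
theorem main (P : ChainComplex (ModuleCat.{u} A) ℤ)
    (hP : ∀ i, Module.Finite A (P.X i) ∧ Module.Projective A (P.X i))
    (b : ℤ) (hb : ∀ i, i < b → IsZero (P.X i))
    (h2 : ∀ m : Ideal A, m.IsMaximal → ∀ i ≤ (-2 : ℤ), IsZero (CohIII.T P i (ModuleCat.of A (A ⧸ m))))
    (h1 : ∀ m : Ideal A, m.IsMaximal →
      Function.Surjective ((CohIII.TFun P 0).map (ModuleCat.ofHom
        (Submodule.mkQ m : A →ₗ[A] A ⧸ m))).hom) :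
    (∀ i ≤ (-2 : ℤ), IsZero (P.homology i)) ∧ Module.Finite A (P.homology (-1)) ∧
      Module.Projective A (P.homology (-1)) := by
  have hret := hasRet P hP b hb h2
  refine ⟨fun i hi => exact_of_function_exact P (i + 1) i (i - 1) rfl (by ring)
    (step' P hP i (fun m hm => h2 m hm i hi) (hret i (by omega))).1, ?_⟩
  obtain ⟨r, hr⟩ := hret (-1) le_rfl
  have := (hP (-1)).1
  have := (hP (-1)).2
  have := (hP 0).1
  have hrs : Function.Surjective r := fun z => ⟨z, LinearMap.congr_fun hr z⟩
  have hZf : Module.Finite A (LinearMap.ker (P.d (-1) (-1 - 1)).hom) := Module.Finite.of_surjective r hrs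
  have hZp : Module.Projective A (LinearMap.ker (P.d (-1) (-1 - 1)).hom) :=
    Module.Projective.of_split (LinearMap.ker (P.d (-1) (-1 - 1)).hom).subtype r hr
  have hgf : (P.d (-1) (-1 - 1)).hom ∘ₗ (P.d 0 (-1)).hom = 0 := by
    rw [← ModuleCat.hom_comp, P.d_comp_d]; rfl
  obtain ⟨e⟩ := homology_linearEquiv P 0 (-1) (-1 - 1) rfl rfl
    ((P.d 0 (-1)).hom.codRestrict _ (fun x => LinearMap.congr_fun hgf x)) (fun x => rfl)
  have hproj : Module.Projective A (LinearMap.ker (P.d (-1) (-1 - 1)).hom ⧸
      LinearMap.range ((P.d 0 (-1)).hom.codRestrict (LinearMap.ker (P.d (-1) (-1 - 1)).hom)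
        (fun x => LinearMap.congr_fun hgf x))) := by
    apply projective_coker
    intro m hm y hy
    obtain ⟨x, hx, hxy⟩ := exists_lift P (A ⧸ m) (Submodule.mkQ m : A →ₗ[A] A ⧸ m)
      (Submodule.mkQ_surjective _) (h1 m hm) y (by
      have h3 := congrArg ((LinearMap.ker (P.d (-1) (-1 - 1)).hom).subtype.rTensor (A ⧸ m)) hy
      rw [← LinearMap.comp_apply, ← LinearMap.rTensor_comp, map_zero] at h3
      exact h3)
    exact ⟨x, Subtype.ext hx, hxy⟩
  exact ⟨Module.Finite.equiv e.symm, Module.Projective.of_equiv e.symm⟩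

end Complex

end Groth.Agent.CurvesB.FreeHOne
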