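import Groth.Prelude.Def_CurvBase
import Groth.Agent.CurvesB.CplMap

/-!
# Ordinary double points and semilinear isomorphisms

`Curv2.IsOrdDoublePt` is invariant under ring isomorphisms of local rings which are semilinear with
respect to an isomorphism of base fields.
-/

set_option autoImplicit false

universe u

namespace Groth.Agent.CurvesB.OdpSemilinear

/-- The isomorphism of power series rings induced by an isomorphism of coefficient rings. -/
noncomputable def psEquiv {K L : Type u} [Field K] [Field L] (σ : K ≃+* L) :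
    MvPowerSeries (Fin 2) K ≃+* MvPowerSeries (Fin 2) L :=
  RingEquiv.ofRingHom (MvPowerSeries.map (σ : K →+* L)) (MvPowerSeries.map (σ.symm : L →+* K))
    (by rw [← MvPowerSeries.map_comp]; simp [MvPowerSeries.map_id])
    (by rw [← MvPowerSeries.map_comp]; simp [MvPowerSeries.map_id])

@[simp]
theorem psEquiv_C {K L : Type u} [Field K] [Field L] (σ : K ≃+* L) (c : K) :
    psEquiv σ (MvPowerSeries.C c) = MvPowerSeries.C (σ c) :=
  MvPowerSeries.map_C (σ : K →+* L) c

@[simp]
theorem psEquiv_X {K L : Type u} [Field K] [Field L] (σ : K ≃+* L) (i : Fin 2) :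
    psEquiv σ (MvPowerSeries.X i) = MvPowerSeries.X i :=
  MvPowerSeries.map_X (σ : K →+* L) i

/-- The isomorphism `K[[x, y]]/(xy) ≃ L[[x, y]]/(xy)` induced by `K ≃ L`. -/
noncomputable def odpEquiv {K L : Type u} [Field K] [Field L] (σ : K ≃+* L) :
    (MvPowerSeries (Fin 2) K ⧸ Ideal.span {(MvPowerSeries.X 0 * MvPowerSeries.X 1 : MvPowerSeries (Fin 2) K)}) ≃+*
    (MvPowerSeries (Fin 2) L ⧸ Ideal.span {(MvPowerSeries.X 0 * MvPowerSeries.X 1 : MvPowerSeries (Fin 2) L)}) :=
  Ideal.quotientEquiv _ _ (psEquiv σ) (by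
    rw [Ideal.map_span, Set.image_singleton]
    change _ = Ideal.span {(psEquiv σ) (MvPowerSeries.X 0 * MvPowerSeries.X 1)}
    rw [map_mul, psEquiv_X, psEquiv_X])

theorem odpEquiv_mk_C {K L : Type u} [Field K] [Field L] (σ : K ≃+* L) (c : K) :
    odpEquiv σ (Ideal.Quotient.mk _ (MvPowerSeries.C c)) = Ideal.Quotient.mk _ (MvPowerSeries.C (σ c)) := by
  rw [odpEquiv, Ideal.quotientEquiv_mk, psEquiv_C]

/-- `IsOrdDoublePt` is invariant under semilinear isomorphisms. -/
theorem isOrdDoublePt_of_semilinear {K L : Type u} [Field K] [Field L] (σ : K ≃+* L)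
    {A B : Type u} [CommRing A] [CommRing B] [Algebra K A] [Algebra L B] [IsLocalRing A]
    [IsLocalRing B] (e : A ≃+* B) (he : ∀ c : K, e (algebraMap K A c) = algebraMap L B (σ c))
    (h : Curv2.IsOrdDoublePt K A) : Curv2.IsOrdDoublePt L B := by
  obtain ⟨e₀, he₀⟩ := h
  refine ⟨((CplMap.congrLocal e).symm.trans e₀).trans (odpEquiv σ), fun c => ?_⟩
  obtain ⟨d, rfl⟩ := σ.surjective c
  have h1 : (CplMap.congrLocal e).symm (algebraMap B _ (algebraMap L B (σ d))) =
      algebraMap A _ (algebraMap K A d) := by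
    rw [RingEquiv.symm_apply_eq, CplMap.congrLocal_algebraMap, he]
  rw [RingEquiv.trans_apply, RingEquiv.trans_apply, h1, he₀, odpEquiv_mk_C]

end Groth.Agent.CurvesB.OdpSemilinear
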