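import Groth.Prelude.Def_CurvBase
import Groth.Agent.CurvesB.OdpSemilinear
import Groth.Agent.CurvesB.ClosedIntegral
import Mathlib.AlgebraicGeometry.AlgClosed.Basic
import Mathlib.FieldTheory.IsAlgClosed.Basic

/-!
# Points of `X_K` over a closed point of `X` are permuted transitively by `Aut(K/k)`

`K` is an algebraically closed algebraic extension of `k` and `X` is locally of finite type over `k`.
-/

set_option autoImplicit false

universe u

open CategoryTheory CategoryTheory.Limits AlgebraicGeometry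

namespace Groth.Agent.CurvesB.GaloisTransitive

theorem exists_algEquiv_aux {k F L M : Type u} [Field k] [Field F] [Field L] [Field M]
    [Algebra k F] [Algebra F L] [Algebra F M] [Algebra k L] [Algebra k M] [IsScalarTower k F L]
    [IsScalarTower k F M] [IsAlgClosed L] [IsAlgClosed M] [Algebra.IsAlgebraic k L]
    [Algebra.IsAlgebraic k M] :
    ∃ σ : L ≃ₐ[k] M, ∀ a : F, σ (algebraMap F L a) = algebraMap F M a := by
  have : Algebra.IsAlgebraic F L := Algebra.IsAlgebraic.tower_top (K := k) F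
  have : Algebra.IsAlgebraic F M := Algebra.IsAlgebraic.tower_top (K := k) F
  have : IsAlgClosure F L := { isAlgClosed := inferInstance, isAlgebraic := inferInstance }
  have : IsAlgClosure F M := { isAlgClosed := inferInstance, isAlgebraic := inferInstance }
  exact ⟨(IsAlgClosure.equiv F L M).restrictScalars k, fun a =>
    (IsAlgClosure.equiv F L M).commutes a⟩

/-- Two embeddings of an extension `F/k` into an algebraically closed algebraic extension `K/k` differ
by an automorphism of `K` over `k`. -/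
theorem exists_algEquiv {k F K : Type u} [Field k] [Field F] [Field K] [Algebra k K]
    [IsAlgClosed K] [Algebra.IsAlgebraic k K] (ψ : k →+* F) (φ₀ φ : F →+* K)
    (h₀ : φ₀.comp ψ = algebraMap k K) (h : φ.comp ψ = algebraMap k K) :
    ∃ σ : K ≃ₐ[k] K, ∀ a, σ (φ₀ a) = φ a := by
  let : Algebra k F := ψ.toAlgebra
  exact @exists_algEquiv_aux k F K K _ _ _ _ _ φ₀.toAlgebra φ.toAlgebra _ _
    (@IsScalarTower.of_algebraMap_eq' k F K _ _ _ _ φ₀.toAlgebra _ h₀.symm)
    (@IsScalarTower.of_algebraMap_eq' k F K _ _ _ _ φ.toAlgebra _ h.symm) _ _ _ _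

/-- A morphism from the spectrum of a field through a point factors through the residue field. -/
theorem exists_residue_hom {K : Type u} [Field K] {X : Scheme.{u}}
    (s : Spec (CommRingCat.of K) ⟶ X) (x : X) (hx : s (IsLocalRing.closedPoint K) = x) :
    ∃ φ : X.residueField x ⟶ CommRingCat.of K, Spec.map φ ≫ X.fromSpecResidueField x = s := by
  subst hx
  exact ⟨_, Scheme.descResidueField_stalkClosedPointTo_fromSpecResidueField K X s⟩

section

variable (k : Type u) [Field k] (X : Scheme.{u}) [X.Over (Spec (CommRingCat.of k))]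
  (K : Type u) [Field K] [Algebra k K]

/-- The action of an automorphism of `K/k` on `X_K`. -/
noncomputable def gal (σ : K ≃ₐ[k] K) : Curv2.bc k X K ⟶ Curv2.bc k X K :=
  pullback.map _ _ _ _ (𝟙 X) (Spec.map (CommRingCat.ofHom (σ : K →ₐ[k] K).toRingHom)) (𝟙 _)
    (by simp) (by rw [Category.comp_id, ← Spec.map_comp, ← CommRingCat.ofHom_comp,
      AlgHom.toRingHom_eq_coe, AlgHom.comp_algebraMap])

@[reassoc]
theorem gal_fst (σ : K ≃ₐ[k] K) : gal k X K σ ≫ Curv2.bcFst k X K = Curv2.bcFst k X K :=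
  (pullback.lift_fst _ _ _).trans (Category.comp_id _)

@[reassoc]
theorem gal_snd (σ : K ≃ₐ[k] K) : gal k X K σ ≫ Curv2.bcSnd k X K =
    Curv2.bcSnd k X K ≫ Spec.map (CommRingCat.ofHom (σ : K →ₐ[k] K).toRingHom) :=
  pullback.lift_snd _ _ _

theorem gal_comp_gal_symm (σ : K ≃ₐ[k] K) : gal k X K σ ≫ gal k X K σ.symm = 𝟙 _ := by
  apply pullback.hom_ext
  · change (gal k X K σ ≫ gal k X K σ.symm) ≫ Curv2.bcFst k X K = 𝟙 _ ≫ Curv2.bcFst k X K
    rw [Category.assoc, gal_fst, gal_fst, Category.id_comp]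
  · change (gal k X K σ ≫ gal k X K σ.symm) ≫ Curv2.bcSnd k X K = 𝟙 _ ≫ Curv2.bcSnd k X K
    rw [Category.assoc, gal_snd, gal_snd_assoc, ← Spec.map_comp, ← CommRingCat.ofHom_comp,
      Category.id_comp]
    convert Category.comp_id _
    rw [← Spec.map_id]
    congr 1
    ext a
    simp

instance (σ : K ≃ₐ[k] K) : IsIso (gal k X K σ) :=
  ⟨gal k X K σ.symm, gal_comp_gal_symm k X K σ, by
    have := gal_comp_gal_symm k X K σ.symm
    rwa [AlgEquiv.symm_symm] at this⟩

end

section

variable (k : Type u) [Field k] (X : Scheme.{u}) [X.Over (Spec (CommRingCat.of k))]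
  (K : Type u) [Field K] [Algebra k K] [Algebra.IsAlgebraic k K]

instance : IsIntegralHom (Curv2.bcFst k X K) := by
  have : IsIntegralHom (Spec.map (CommRingCat.ofHom (algebraMap k K))) := by
    rw [IsIntegralHom.SpecMap_iff]
    exact Algebra.IsIntegral.isIntegral
  exact MorphismProperty.pullback_fst (P := @IsIntegralHom) _ _ this

variable [LocallyOfFiniteType (X ↘ (Spec (CommRingCat.of k)))] [IsAlgClosed K]

theorem exists_section (xb : Curv2.bc k X K) (x : X) (hxb : Curv2.bcFst k X K xb = x)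
    (hx : IsClosed ({x} : Set X)) :
    ∃ (s : Spec (CommRingCat.of K) ⟶ Curv2.bc k X K) (φ : X.residueField x ⟶ CommRingCat.of K),
      s (IsLocalRing.closedPoint K) = xb ∧ s ≫ Curv2.bcSnd k X K = 𝟙 _ ∧
      s ≫ Curv2.bcFst k X K = Spec.map φ ≫ X.fromSpecResidueField x := by
  have h1 : IsClosed ({xb} : Set (Curv2.bc k X K)) :=
    ClosedIntegral.isClosed_of_isIntegralHom (Curv2.bcFst k X K) xb (by rwa [hxb])
  let s := pointOfClosedPoint (Curv2.bcSnd k X K) xb h1
  obtain ⟨φ, hφ⟩ := exists_residue_hom (s ≫ Curv2.bcFst k X K) x (by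
    rw [Scheme.Hom.comp_apply, pointOfClosedPoint_apply, hxb])
  exact ⟨s, φ, pointOfClosedPoint_apply _ _ _ _, pointOfClosedPoint_comp _ _ _, hφ.symm⟩

/-- `Aut(K/k)` acts transitively on the points of `X_K` over a closed point of `X`. -/
theorem exists_gal (x : X) (hx : IsClosed ({x} : Set X)) (xb xb₀ : Curv2.bc k X K)
    (hxb : Curv2.bcFst k X K xb = x) (hxb₀ : Curv2.bcFst k X K xb₀ = x) :
    ∃ σ : K ≃ₐ[k] K, gal k X K σ xb = xb₀ := by
  obtain ⟨s, φ, hs, hs2, hs1⟩ := exists_section k X K xb x hxb hx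
  obtain ⟨s₀, φ₀, hs₀, hs₀2, hs₀1⟩ := exists_section k X K xb₀ x hxb₀ hx
  let ψ : CommRingCat.of k ⟶ X.residueField x :=
    Spec.preimage (X.fromSpecResidueField x ≫ (X ↘ (Spec (CommRingCat.of k))))
  have hψ : Spec.map ψ = X.fromSpecResidueField x ≫ (X ↘ (Spec (CommRingCat.of k))) :=
    Spec.map_preimage _
  have h1 : ψ ≫ φ = CommRingCat.ofHom (algebraMap k K) := by
    apply Spec.map_injective
    rw [Spec.map_comp, hψ, ← Category.assoc, ← hs1, Category.assoc]
    have := pullback.condition (f := X ↘ (Spec (CommRingCat.of k)))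
      (g := Spec.map (CommRingCat.ofHom (algebraMap k K)))
    erw [this]
    erw [← Category.assoc, hs2, Category.id_comp]
  have h2 : ψ ≫ φ₀ = CommRingCat.ofHom (algebraMap k K) := by
    apply Spec.map_injective
    rw [Spec.map_comp, hψ, ← Category.assoc, ← hs₀1, Category.assoc]
    have := pullback.condition (f := X ↘ (Spec (CommRingCat.of k)))
      (g := Spec.map (CommRingCat.ofHom (algebraMap k K)))
    erw [this]
    erw [← Category.assoc, hs₀2, Category.id_comp]
  obtain ⟨σ, hσ⟩ := exists_algEquiv (K := K) ψ.hom φ₀.hom φ.hom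
    (by rw [← CommRingCat.hom_comp, h2]; rfl) (by rw [← CommRingCat.hom_comp, h1]; rfl)
  have hσ' : φ₀ ≫ CommRingCat.ofHom (σ : K →ₐ[k] K).toRingHom = φ := by
    ext a
    exact hσ a
  refine ⟨σ, ?_⟩
  have key : s ≫ gal k X K σ =
      Spec.map (CommRingCat.ofHom (σ : K →ₐ[k] K).toRingHom) ≫ s₀ := by
    apply pullback.hom_ext
    · change (s ≫ gal k X K σ) ≫ Curv2.bcFst k X K =
        (Spec.map (CommRingCat.ofHom (σ : K →ₐ[k] K).toRingHom) ≫ s₀) ≫ Curv2.bcFst k X K
      rw [Category.assoc, gal_fst, Category.assoc, hs1, hs₀1, ← hσ', Spec.map_comp, Category.assoc]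
    · change (s ≫ gal k X K σ) ≫ Curv2.bcSnd k X K =
        (Spec.map (CommRingCat.ofHom (σ : K →ₐ[k] K).toRingHom) ≫ s₀) ≫ Curv2.bcSnd k X K
      rw [Category.assoc, gal_snd, Category.assoc, hs₀2, ← Category.assoc, hs2, Category.id_comp,
        Category.comp_id]
  rw [← hs, ← Scheme.Hom.comp_apply, key, Scheme.Hom.comp_apply, ← hs₀]
  congr 1
  exact Subsingleton.elim (α := PrimeSpectrum K) _ _

end

end Groth.Agent.CurvesB.GaloisTransitive
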