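import Groth.Agent.CurvesB.GenStk
import Mathlib.AlgebraicGeometry.Noetherian
import Mathlib.RingTheory.Localization.AtPrime.Basic

/-!
# Approximation for torsion-free modules on integral schemes of dimension one

`exists_approx`: for `F` quasi-coherent on an integral locally Noetherian scheme of dimension `≤ 1`,
`W` affine open, `y ∈ W` closed and `f ∈ F_η` there is `g ∈ F_η` which lies in `F_z` for all
`z ∈ W`, `z ≠ y`, and with `f - g ∈ F_y`.
-/

set_option autoImplicit false
universe u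
open CategoryTheory CategoryTheory.Limits AlgebraicGeometry Opposite TopologicalSpace

namespace Groth.Agent.CurvesB.GenApprox

open Groth.Agent.Ega1.ModGerm Groth.Agent.CurvesB.GenStk

theorem exists_pow_mul_mem {A : Type*} [CommRing A] [IsDomain A] [IsNoetherianRing A] (p : Ideal A)
    [p.IsPrime] (I : Ideal A) (hI : I ≠ ⊥)
    (hp : ∀ q : Ideal A, q.IsPrime → q ≤ p → q = ⊥ ∨ q = p) :
    ∃ (n : ℕ) (t : A), t ∉ p ∧ ∀ a ∈ p ^ n, t * a ∈ I := by
  let L := Localization.AtPrime p
  have hmap : p.map (algebraMap A L) ≤ (I.map (algebraMap A L)).radical := by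
    rw [Ideal.radical_eq_sInf]
    refine le_sInf ?_
    rintro Q ⟨hIQ, hQ⟩
    have hq : (Q.comap (algebraMap A L)).IsPrime := Ideal.comap_isPrime _ _
    have hqp : Q.comap (algebraMap A L) ≤ p := by
      have hQ1 : Q ≤ IsLocalRing.maximalIdeal L := IsLocalRing.le_maximalIdeal hQ.ne_top
      have := Ideal.comap_mono (f := algebraMap A L) hQ1
      exact this.trans_eq (Localization.AtPrime.under_maximalIdeal (I := p))
    rcases hp _ hq hqp with h | h
    · exfalso
      apply hI
      rw [eq_bot_iff, ← h]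
      exact Ideal.map_le_iff_le_comap.1 hIQ
    · rw [Ideal.map_le_iff_le_comap, h]
  obtain ⟨n, hn⟩ := Ideal.exists_pow_le_of_le_radical_of_fg hmap
    (((isNoetherianRing_iff_ideal_fg A).1 inferInstance p).map _)
  have hloc : ∀ a ∈ p ^ n, ∃ t ∉ p, t * a ∈ I := by
    intro a ha
    have h1 : algebraMap A L a ∈ I.map (algebraMap A L) := by
      apply hn
      rw [← Ideal.map_pow]
      exact Ideal.mem_map_of_mem _ ha
    rw [IsLocalization.algebraMap_mem_map_algebraMap_iff p.primeCompl] at h1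
    obtain ⟨m, hm, hma⟩ := h1
    exact ⟨m, hm, hma⟩
  obtain ⟨s, hs⟩ := (isNoetherianRing_iff_ideal_fg A).1 inferInstance (p ^ n)
  have hs' : ∀ a : s, ∃ t ∉ p, t * a.1 ∈ I := fun a => hloc a.1 (by
    rw [← hs]
    exact Submodule.subset_span a.2)
  choose t ht hta using hs'
  refine ⟨n, ∏ a : s, t a, ?_, ?_⟩
  · intro h
    obtain ⟨a, -, ha⟩ := (Ideal.IsPrime.prod_mem_iff (p := p)).1 h
    exact ht a ha
  · intro a ha
    have hJ : p ^ n ≤ Submodule.comap (LinearMap.mulLeft A (∏ a : s, t a) : A →ₗ[A] A) I := by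
      rw [← hs]
      refine Submodule.span_le.2 fun b hb => ?_
      change (∏ a : s, t a) * b ∈ I
      obtain ⟨c, hc⟩ : t ⟨b, hb⟩ ∣ ∏ a : s, t a := Finset.dvd_prod_of_mem _ (Finset.mem_univ _)
      rw [hc, mul_assoc, mul_left_comm]
      exact I.mul_mem_left _ (hta ⟨b, hb⟩)
    exact hJ ha

variable {X : Scheme.{u}} (F : X.Modules)

section Irred

variable [IrreducibleSpace X]

/-- `O_y → O_η`. -/
noncomputable def spO (y : X) : X.presheaf.stalk y →+* X.presheaf.stalk (genericPoint X) :=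
  (X.presheaf.stalkSpecializes (gspec y)).hom

theorem sp_smul (y : X) (a : X.presheaf.stalk y) (m : F.presheaf.stalk y) :
    sp F y (a • m) = spO y a • sp F y m :=
  Groth.Agent.CycB.ModStalk.stalkSpecializes_smul (gspec y) a m

theorem spO_germ {U : X.Opens} {y : X} (hy : y ∈ U) (s : Γ(X, U)) :
    spO y (X.presheaf.germ U y hy s) = X.presheaf.germ U (genericPoint X) (gmem hy) s :=
  TopCat.Presheaf.germ_stalkSpecializes_apply X.presheaf hy (gspec y) s

theorem gm_smul (U : X.Opens) (hU : genericPoint X ∈ U) (a : Γ(X, U)) (s : Γ(F, U)) :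
    gm F U hU (a • s) = X.presheaf.germ U _ hU a • gm F U hU s :=
  germ_smul F U _ hU a s

theorem smul_mem_rng {y : X} (a : X.presheaf.stalk y) {f : Eta F} (hf : f ∈ rng F y) :
    spO y a • f ∈ rng F y := by
  obtain ⟨m, rfl⟩ := hf
  exact ⟨a • m, sp_smul F y a m⟩

theorem germ_smul_mem_rng {U : X.Opens} {y : X} (hy : y ∈ U) (a : Γ(X, U)) {f : Eta F}
    (hf : f ∈ rng F y) : X.presheaf.germ U (genericPoint X) (gmem hy) a • f ∈ rng F y := by
  rw [← spO_germ hy]
  exact smul_mem_rng F _ hf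

/-- If `a` is invertible at `y` and `a f ∈ F_y` then `f ∈ F_y`. -/
theorem mem_rng_of_smul_mem {U : X.Opens} {y : X} (hy : y ∈ U) (a : Γ(X, U)) (ha : y ∈ X.basicOpen a)
    {f : Eta F} (hf : X.presheaf.germ U (genericPoint X) (gmem hy) a • f ∈ rng F y) : f ∈ rng F y := by
  obtain ⟨v, hv⟩ := (X.mem_basicOpen a y hy).mp ha
  have h1 : spO y (↑v⁻¹ : X.presheaf.stalk y) • (X.presheaf.germ U (genericPoint X) (gmem hy) a • f) =
      f := by
    rw [← spO_germ hy, ← hv, smul_smul, ← map_mul, Units.inv_mul, map_one, one_smul]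
  rw [← h1]
  exact smul_mem_rng F _ hf

/-- The ideal of denominators of `f` over `W`. -/
noncomputable def den (W : X.Opens) (hW : genericPoint X ∈ W) (f : Eta F) : Ideal Γ(X, W) where
  carrier := {a | X.presheaf.germ W _ hW a • f ∈ rngU F W hW}
  add_mem' {a b} ha hb := by
    change X.presheaf.germ W _ hW (a + b) • f ∈ rngU F W hW
    rw [map_add, add_smul]
    exact add_mem ha hb
  zero_mem' := by
    change X.presheaf.germ W _ hW 0 • f ∈ rngU F W hW
    rw [map_zero, zero_smul]
    exact zero_mem _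
  smul_mem' c a ha := by
    obtain ⟨s, hs⟩ := ha
    refine ⟨c • s, ?_⟩
    rw [gm_smul, hs, smul_eq_mul, map_mul, mul_smul]

theorem mem_den {W : X.Opens} {hW : genericPoint X ∈ W} {f : Eta F} {a : Γ(X, W)} :
    a ∈ den F W hW f ↔ X.presheaf.germ W _ hW a • f ∈ rngU F W hW := Iff.rfl

theorem mem_rng_of_mem_den {W : X.Opens} {f : Eta F} {a : Γ(X, W)} {y : X} (hy : y ∈ W)
    (ha : a ∈ den F W (gmem hy) f) (hay : y ∈ X.basicOpen a) : f ∈ rng F y := by
  apply mem_rng_of_smul_mem F hy a hay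
  rw [mem_den] at ha
  obtain ⟨s, hs⟩ := ha
  rw [← hs]
  exact gm_mem_rng F _ hy s

theorem isClosed_singleton (hd : DimLe X) {y : X} (hy : y ≠ genericPoint X) : IsClosed ({y} : Set X) := by
  have : closure ({y} : Set X) = {y} := by
    apply Set.eq_singleton_iff_unique_mem.2
    refine ⟨subset_closure rfl, fun z hz => ?_⟩
    rcases hd z y (specializes_iff_mem_closure.2 hz) with h | h
    · exact h.symm
    · exact absurd h hy
  rw [← this]
  exact isClosed_closure

end Irred

theorem exists_approx [IsIntegral X] [IsLocallyNoetherian X] (hF : Coh.IsQCoh F) (hd : DimLe X)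
    {W : X.Opens} (hW : IsAffineOpen W) {y : X} (hyW : y ∈ W) (hy : y ≠ genericPoint X) (f : Eta F) :
    ∃ g : Eta F, (∀ z ∈ W, z ≠ y → g ∈ rng F z) ∧ f - g ∈ rng F y := by
  have hη : genericPoint X ∈ W := gmem hyW
  have : Nonempty W := ⟨⟨y, hyW⟩⟩
  have : IsNoetherianRing Γ(X, W) := IsLocallyNoetherian.component_noetherian ⟨W, hW⟩
  have hyc := isClosed_singleton hd hy
  let P : PrimeSpectrum Γ(X, W) := hW.primeIdealOf ⟨y, hyW⟩
  -- the denominators
  have hI : den F W hη f ≠ ⊥ := by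
    obtain ⟨g, s, hg, hgs⟩ := Fdesc.QCohStalk.exists_germ_eq_smul F hW hF (genericPoint X) hη f
    intro h0
    have h1 : g ∈ den F W hη f := ⟨s, hgs⟩
    rw [h0, Ideal.mem_bot] at h1
    rw [h1] at hg
    simp at hg
  -- primes below `P`
  have hp : ∀ q : Ideal Γ(X, W), q.IsPrime → q ≤ P.asIdeal → q = ⊥ ∨ q = P.asIdeal := by
    intro q hq hqP
    let Q : PrimeSpectrum Γ(X, W) := ⟨q, hq⟩
    have hQP : Q ⤳ P := (PrimeSpectrum.le_iff_specializes Q P).1 hqP
    have h1 : hW.fromSpec Q ⤳ hW.fromSpec P := hQP.map hW.fromSpec.continuous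
    rw [hW.fromSpec_primeIdealOf] at h1
    rcases hd y _ h1 with h | h
    · right
      have h2 : hW.fromSpec Q = hW.fromSpec P := by
        rw [h, hW.fromSpec_primeIdealOf]
      exact congrArg PrimeSpectrum.asIdeal (hW.fromSpec.isOpenEmbedding.injective h2)
    · left
      let B : PrimeSpectrum Γ(X, W) := ⟨⊥, Ideal.isPrime_bot⟩
      have h3 : hW.fromSpec B ⤳ genericPoint X := by
        rw [← h]
        exact ((PrimeSpectrum.le_iff_specializes B Q).1 bot_le).map hW.fromSpec.continuous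
      have h4 : hW.fromSpec B = hW.fromSpec Q := by
        rw [h]
        exact (h3.antisymm (gspec _)).eq
      exact (congrArg PrimeSpectrum.asIdeal (hW.fromSpec.isOpenEmbedding.injective h4)).symm
  obtain ⟨n, t, ht, htI⟩ := exists_pow_mul_mem P.asIdeal (den F W hη f) hI hp
  have hmax : P.asIdeal.IsMaximal := hW.primeIdealOf_isMaximal_of_isClosed ⟨y, hyW⟩ hyc
  have hcop : P.asIdeal ^ n ⊔ Ideal.span {t} = ⊤ := by
    have h1 : P.asIdeal ⊔ Ideal.span {t} = ⊤ := by
      by_contra h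
      have h2 := hmax.eq_of_le h le_sup_left
      apply ht
      rw [h2]
      exact Ideal.mem_sup_right (Ideal.mem_span_singleton_self t)
    have h2 : IsCoprime P.asIdeal (Ideal.span {t}) := Ideal.isCoprime_iff_sup_eq.2 h1
    exact Ideal.isCoprime_iff_sup_eq.1 h2.pow_left
  obtain ⟨e₁, he₁, e₂, he₂, he⟩ := Submodule.mem_sup.1 ((Ideal.eq_top_iff_one _).1 hcop)
  obtain ⟨b, rfl⟩ := Ideal.mem_span_singleton'.1 he₂
  refine ⟨X.presheaf.germ W _ hη (b * t) • f, ?_, ?_⟩
  · intro z hz hzy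
    have hzP : ∃ a ∈ P.asIdeal, z ∈ X.basicOpen a := by
      by_contra h
      push Not at h
      apply hzy
      have h2 : P.asIdeal ≤ (hW.primeIdealOf ⟨z, hz⟩).asIdeal := by
        intro a ha
        by_contra h3
        exact h a ha ((Fdesc.QCohStalk.mem_basicOpen_iff hW z hz a).2 h3)
      have h3 : P = hW.primeIdealOf ⟨z, hz⟩ :=
        PrimeSpectrum.ext (hmax.eq_of_le (hW.primeIdealOf ⟨z, hz⟩).2.ne_top h2)
      have h4 := congrArg hW.fromSpec h3
      rw [hW.fromSpec_primeIdealOf, hW.fromSpec_primeIdealOf] at h4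
      exact h4.symm
    obtain ⟨a, ha, hza⟩ := hzP
    have h5 : z ∈ X.basicOpen (a ^ n) := by
      rcases Nat.eq_zero_or_pos n with h0 | h0
      · rw [h0, pow_zero]
        simpa using hz
      · rwa [X.basicOpen_pow _ h0]
    refine mem_rng_of_mem_den F hz (a := a ^ n) ?_ h5
    rw [mem_den, smul_smul, ← map_mul]
    change a ^ n * (b * t) ∈ den F W hη f
    have h6 : a ^ n * (b * t) = b * (t * a ^ n) := by ring
    rw [h6]
    exact Ideal.mul_mem_left _ _ (htI _ (Ideal.pow_mem_pow ha n))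
  · have h7 : f - X.presheaf.germ W _ hη (b * t) • f = X.presheaf.germ W _ hη e₁ • f := by
      rw [sub_eq_iff_eq_add, ← add_smul, ← map_add, he, map_one, one_smul]
    rw [h7]
    refine mem_rng_of_mem_den F hyW (a := t) ?_ ((Fdesc.QCohStalk.mem_basicOpen_iff hW y hyW t).2 ht)
    rw [mem_den, smul_smul, ← map_mul]
    exact htI _ he₁

end Groth.Agent.CurvesB.GenApprox
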