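import Groth.Agent.CurvesB.SubH1
import Groth.Agent.Fdesc.LocGen
import Mathlib.AlgebraicGeometry.Stalk
import Mathlib.AlgebraicGeometry.Morphisms.Preimmersion
import Mathlib.AlgebraicGeometry.Properties

/-!
# Stalks at generic points of reduced schemes, torsion-free modules
-/

set_option autoImplicit false
universe u
open CategoryTheory CategoryTheory.Limits AlgebraicGeometry TopologicalSpace Opposite

namespace Groth.Agent.CurvesB.GenStalk

open Groth.Agent.CycB.StalkExact SubH1

variable {X : Scheme.{u}}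

/-- The stalk at a generic point has a unique prime ideal. -/
theorem eq_maximalIdeal (ξ : X) (hξ : IsGen ξ) (p : PrimeSpectrum (X.presheaf.stalk ξ)) :
    p = IsLocalRing.closedPoint (X.presheaf.stalk ξ) := by
  have hinj : Function.Injective (X.fromSpecStalk ξ).base :=
    (X.fromSpecStalk ξ).isEmbedding.injective
  apply hinj
  have h1 : (X.fromSpecStalk ξ).base p ∈ Set.range (X.fromSpecStalk ξ).base := ⟨p, rfl⟩
  have h1' : (X.fromSpecStalk ξ).base p ⤳ ξ := by
    have h2 := X.range_fromSpecStalk (x := ξ)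
    rw [Set.ext_iff] at h2
    exact (h2 _).mp h1
  have h3 : (X.fromSpecStalk ξ).base (IsLocalRing.closedPoint (X.presheaf.stalk ξ)) = ξ :=
    X.fromSpecStalk_closedPoint
  exact (hξ _ h1').trans h3.symm

/-- The local ring at a generic point of a reduced scheme is a field. -/
theorem isField_stalk [IsReduced X] (ξ : X) (hξ : IsGen ξ) : IsField (X.presheaf.stalk ξ) := by
  rw [IsLocalRing.isField_iff_maximalIdeal_eq]
  rw [eq_bot_iff]
  intro a ha
  have hnil : a ∈ nilradical (X.presheaf.stalk ξ) := by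
    rw [nilradical_eq_sInf]
    simp only [Submodule.mem_sInf, Set.mem_ofPred_eq]
    intro p hp
    have := eq_maximalIdeal ξ hξ ⟨p, hp⟩
    have h2 : p = IsLocalRing.maximalIdeal (X.presheaf.stalk ξ) := congrArg PrimeSpectrum.asIdeal this
    rw [h2]; exact ha
  exact (mem_nilradical.mp hnil).eq_zero

/-- On a reduced scheme a function vanishing at all generic points is zero. -/
theorem eq_zero_of_germ_gen [IsReduced X] (U : X.Opens) (a : Γ(X, U))
    (h : ∀ (ξ : X) (hξ : ξ ∈ U), IsGen ξ → X.presheaf.germ U ξ hξ a = 0) : a = 0 := by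
  rw [← basicOpen_eq_bot_iff]
  by_contra hne
  obtain ⟨x, hx⟩ : ((X.basicOpen a : X.Opens) : Set X).Nonempty := by
    rw [Set.nonempty_iff_ne_empty]
    intro he
    exact hne (TopologicalSpace.Opens.ext he)
  obtain ⟨ξ, hξ, hξx⟩ := DimOneTop.exists_generic_specializes x
  have hξD : ξ ∈ X.basicOpen a := hξx.mem_open (X.basicOpen a).2 hx
  have hξU : ξ ∈ U := X.basicOpen_le a hξD
  have h1 := (X.mem_basicOpen a ξ hξU).mp hξD
  rw [h ξ hξU hξ] at h1
  exact not_isUnit_zero h1

/-- A module is torsion free if sections vanishing at all generic points vanish. -/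
def TorsionFree (F : X.Modules) : Prop :=
  ∀ (U : X.Opens) (s : Γ(F, U)),
    (∀ (ξ : X) (hξ : ξ ∈ U), IsGen ξ → F.presheaf.germ U ξ hξ s = 0) → s = 0

theorem TorsionFree.of_mono {F G : X.Modules} (f : F ⟶ G) [Mono f] (hG : TorsionFree G) :
    TorsionFree F := by
  intro U s hs
  have h1 : f.app U s = 0 := hG U _ fun ξ hξ hg => by
    rw [← stalkLin_germ, hs ξ hξ hg, map_zero]
  refine VarietyA.FiniteSupport.section_eq F s 0 fun x hx => ?_
  apply stalkLin_injective f x
  rw [stalkLin_germ, stalkLin_germ, h1, map_zero, map_zero, map_zero]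

theorem TorsionFree.hom_eq_zero {F G : X.Modules} (hG : TorsionFree G) (f : F ⟶ G)
    (h : ∀ ξ : X, IsGen ξ → stalkLin f ξ = 0) : f = 0 := by
  apply Scheme.Modules.hom_ext
  intro U
  ext s
  refine hG U _ fun ξ hξ hg => ?_
  rw [← stalkLin_germ, h ξ hg]
  rfl

/-- Torsion freeness is local. -/
theorem torsionFree_of_local {F : X.Modules}
    (h : ∀ x : X, ∃ V : X.Opens, x ∈ V ∧ ∀ (U : X.Opens), U ≤ V → ∀ (s : Γ(F, U)),
      (∀ (ξ : X) (hξ : ξ ∈ U), IsGen ξ → F.presheaf.germ U ξ hξ s = 0) → s = 0) : TorsionFree F := by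
  intro U s hs
  refine VarietyA.FiniteSupport.section_eq F s 0 fun x hx => ?_
  obtain ⟨V, hxV, hV⟩ := h x
  have h1 : F.presheaf.map (homOfLE (inf_le_left : U ⊓ V ≤ U)).op s = 0 := by
    refine hV (U ⊓ V) inf_le_right _ fun ξ hξ hg => ?_
    rw [TopCat.Presheaf.germ_res_apply]
    exact hs ξ hξ.1 hg
  rw [← TopCat.Presheaf.germ_res_apply F.presheaf (homOfLE (inf_le_left : U ⊓ V ≤ U)) x ⟨hx, hxV⟩ s, h1,
    map_zero, map_zero]

/-- Invertible modules on reduced schemes are torsion free. -/
theorem torsionFree_of_isInvertible [IsReduced X] {L : X.Modules} (hL : PicF.IsInvertible L) :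
    TorsionFree L := by
  refine torsionFree_of_local fun x => ?_
  obtain ⟨V, e, hxV, he⟩ := (Fdesc.LocGen.isInvertible_iff L).mp hL x
  refine ⟨V, hxV, fun U hU s hs => ?_⟩
  obtain ⟨a, rfl⟩ := (he U hU).2 s
  have ha : a = 0 := by
    refine eq_zero_of_germ_gen U a fun ξ hξ hg => ?_
    have h1 := hs ξ hξ hg
    simp only at h1
    rw [germ_smul] at h1
    -- `e` generates the stalk at `ξ`
    by_contra hne
    have hu : IsUnit (X.presheaf.germ U ξ hξ a) := by
      obtain ⟨b, hb⟩ := (isField_stalk ξ hg).mul_inv_cancel hne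
      exact IsUnit.of_mul_eq_one b hb
    have hmem : ξ ∈ X.basicOpen a := (X.mem_basicOpen a ξ hξ).mpr hu
    have h2 : L.presheaf.germ U ξ hξ (Fdesc.LocGen.res L hU e) = 0 := by
      rw [← hu.smul_left_cancel (a := X.presheaf.germ U ξ hξ a), h1, smul_zero]
    -- hence `e` vanishes near `ξ`
    obtain ⟨W, hξW, i, i', hW⟩ := L.presheaf.germ_eq ξ hξ hξ (Fdesc.LocGen.res L hU e) 0 (by rw [h2, map_zero])
    have hW' : Fdesc.LocGen.res L (i.le.trans hU) e = 0 := by
      rw [← Fdesc.LocGen.res_res L hU i.le]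
      exact hW.trans (map_zero _)
    have h3 := (he W (i.le.trans hU)).1 (a₁ := 1) (a₂ := 0) (by simp [hW'])
    have h4 : (1 : X.presheaf.stalk ξ) = 0 := by
      rw [← map_one (X.presheaf.germ W ξ hξW).hom, h3, map_zero]
    exact one_ne_zero h4
  rw [ha]
  simp

theorem isInvertible_structureModule : PicF.IsInvertible (Coh.structureModule X) :=
  (Fdesc.LocGen.isInvertible_iff _).mpr fun _ =>
    ⟨⊤, Fdesc.LocGen.one ⊤, trivial, Fdesc.LocGen.isGen_one ⊤⟩

theorem torsionFree_structureModule [IsReduced X] : TorsionFree (Coh.structureModule X) :=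
  torsionFree_of_isInvertible isInvertible_structureModule

end Groth.Agent.CurvesB.GenStalk
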