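import Groth.Agent.Fdesc.QCohStalk
import Groth.Agent.Ega1.ModGerm
import Groth.Agent.CycB.ModStalk
import Groth.Agent.CurvesB.HZero

/-!
# Torsion-free modules on an irreducible scheme inside the generic stalk

For `F : X.Modules` on an irreducible scheme, `Eta F` is the stalk at the generic point, `rng F y` the
image of `F_y`, `rngU F U` the image of `Γ(F, U)`.  If all `F_y → F_η` are injective (`TF F`) then
`rngU F U = ⋂_{y ∈ U} rng F y` (`mem_rngU_iff`), and `Γ(F, U) → F_η` is injective.
-/

set_option autoImplicit false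
universe u
open CategoryTheory CategoryTheory.Limits AlgebraicGeometry Opposite TopologicalSpace

namespace Groth.Agent.CurvesB.GenStk

open Groth.Agent.Ega1.ModGerm

variable {X : Scheme.{u}} [IrreducibleSpace X] (F : X.Modules)

/-- The stalk at the generic point. -/
abbrev Eta : Type u := F.presheaf.stalk (genericPoint X)

theorem gspec (y : X) : genericPoint X ⤳ y := genericPoint_specializes y

theorem gmem {U : X.Opens} {y : X} (hy : y ∈ U) : genericPoint X ∈ U := (gspec y).mem_open U.2 hy

/-- The specialization map `F_y → F_η`. -/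
noncomputable def sp (y : X) : F.presheaf.stalk y →+ Eta F := (F.presheaf.stalkSpecializes (gspec y)).hom

/-- The germ map `Γ(F, U) → F_η`. -/
noncomputable def gm (U : X.Opens) (hU : genericPoint X ∈ U) : Γ(F, U) →+ Eta F := germ F U _ hU

theorem sp_germ {U : X.Opens} {y : X} (hy : y ∈ U) (s : Γ(F, U)) :
    sp F y (germ F U y hy s) = gm F U (gmem hy) s :=
  TopCat.Presheaf.germ_stalkSpecializes_apply F.presheaf hy (gspec y) s

theorem gm_res {U V : X.Opens} (h : V ≤ U) (hV : genericPoint X ∈ V) (s : Γ(F, U)) :
    gm F V hV (F.presheaf.map (homOfLE h).op s) = gm F U (h hV) s :=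
  germ_res F h hV s

/-- The image of `F_y` in `F_η`. -/
noncomputable def rng (y : X) : AddSubgroup (Eta F) := (sp F y).range

/-- The image of `Γ(F, U)` in `F_η`. -/
noncomputable def rngU (U : X.Opens) (hU : genericPoint X ∈ U) : AddSubgroup (Eta F) := (gm F U hU).range

theorem gm_mem_rng {U : X.Opens} (hU : genericPoint X ∈ U) {y : X} (hy : y ∈ U) (s : Γ(F, U)) :
    gm F U hU s ∈ rng F y := ⟨germ F U y hy s, sp_germ F hy s⟩

/-- All maps `F_y → F_η` are injective. -/
def TF : Prop := ∀ y : X, Function.Injective (sp F y)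

variable {F}

theorem TF.gm_injective (hF : TF F) (U : X.Opens) (hU : genericPoint X ∈ U) :
    Function.Injective (gm F U hU) := by
  rw [injective_iff_map_eq_zero]
  intro s hs
  refine section_eq_zero F s fun y hy => ?_
  apply hF y
  rw [sp_germ, map_zero]
  exact hs

/-- `Γ(F, U) = ⋂_{y ∈ U} F_y` inside `F_η`. -/
theorem TF.mem_rngU_iff (hF : TF F) {U : X.Opens} (hU : genericPoint X ∈ U) (f : Eta F) :
    f ∈ rngU F U hU ↔ ∀ y ∈ U, f ∈ rng F y := by
  constructor
  · rintro ⟨s, rfl⟩ y hy
    exact gm_mem_rng F hU hy s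
  · intro h
    have h1 : ∀ y : U, ∃ (V : X.Opens) (_ : V ≤ U) (hV : y.1 ∈ V) (s : Γ(F, V)),
        gm F V (gmem hV) s = f := by
      intro y
      obtain ⟨a, ha⟩ := h y.1 y.2
      obtain ⟨V, hVU, hV, s, hs⟩ := exists_germ F a y.2
      refine ⟨V, hVU, hV, s, ?_⟩
      rw [← sp_germ F hV, hs]
      exact ha
    choose V hVU hV s hs using h1
    have hcov : U ≤ ⨆ i, V i := fun y hy => Opens.mem_iSup.2 ⟨⟨y, hy⟩, hV _⟩
    obtain ⟨t, ht, -⟩ := TopCat.Sheaf.existsUnique_gluing' ⟨_, F.isSheaf⟩ V U
      (fun i => homOfLE (hVU i)) hcov s (by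
        intro i j
        change F.presheaf.map (homOfLE inf_le_left).op (s i) =
          F.presheaf.map (homOfLE inf_le_right).op (s j)
        apply hF.gm_injective (V i ⊓ V j) ⟨gmem (hV i), gmem (hV j)⟩
        rw [gm_res, gm_res, hs, hs])
    refine ⟨t, ?_⟩
    have hη := hcov hU
    obtain ⟨i, hi⟩ := Opens.mem_iSup.1 hη
    have h2 : F.presheaf.map (homOfLE (hVU i)).op t = s i := ht i
    rw [← hs i, ← h2, gm_res]

theorem exists_gm_eq (f : Eta F) : ∃ (V : X.Opens) (hV : genericPoint X ∈ V) (s : Γ(F, V)),
    gm F V hV s = f := by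
  obtain ⟨V, -, hV, s, hs⟩ := exists_germ F f (U := ⊤) trivial
  exact ⟨V, hV, s, hs⟩

theorem TF.rngU_mono (hF : TF F) {U V : X.Opens} (h : V ≤ U) (hV : genericPoint X ∈ V) :
    rngU F U (h hV) ≤ rngU F V hV := by
  intro f hf
  rw [hF.mem_rngU_iff] at hf ⊢
  exact fun y hy => hf y (h hy)

/-- The set of points where `f` is not in `F_y` is closed. -/
theorem isClosed_bad (f : Eta F) : IsClosed {y : X | f ∉ rng F y} := by
  rw [← isOpen_compl_iff, isOpen_iff_forall_mem_open]
  intro y hy
  simp only [Set.mem_compl_iff, Set.mem_ofPred_eq, not_not] at hy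
  obtain ⟨a, ha⟩ := hy
  obtain ⟨V, -, hV, s, hs⟩ := exists_germ F a (U := ⊤) trivial
  refine ⟨V, fun z hz => ?_, V.2, hV⟩
  simp only [Set.mem_compl_iff, Set.mem_ofPred_eq, not_not]
  rw [← ha, ← hs, sp_germ]
  exact gm_mem_rng F _ hz s

theorem mem_rng_genericPoint (f : Eta F) : f ∈ rng F (genericPoint X) := by
  obtain ⟨V, hV, s, rfl⟩ := exists_gm_eq f
  exact gm_mem_rng F hV hV s

/-- `X` has "dimension at most one at `y`": the only points specializing to `y` are `y` and `η`. -/
def DimLe (X : Scheme.{u}) [IrreducibleSpace X] : Prop :=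
  ∀ y z : X, z ⤳ y → z = y ∨ z = genericPoint X

/-- Only finitely many closed points are bad. -/
theorem finite_bad [NoetherianSpace X] (hd : DimLe X) (f : Eta F) :
    {y : X | f ∉ rng F y}.Finite := by
  have hcl := isClosed_bad f
  set Z : Set X := {y : X | f ∉ rng F y} with hZ
  have hgen : genericPoint X ∉ Z := fun h => h (mem_rng_genericPoint f)
  have hnoeth : NoetherianSpace Z := inferInstance
  have hfin : (irreducibleComponents Z).Finite := NoetherianSpace.finite_irreducibleComponents
  -- every point of `Z` is an irreducible component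
  have key : ∀ z : Z, ({z} : Set Z) ∈ irreducibleComponents Z := by
    intro z
    have h1 : IsIrreducible (irreducibleComponent z) := isIrreducible_irreducibleComponent
    have h2 : IsClosed (irreducibleComponent z) := isClosed_irreducibleComponent
    have h3 : IsIrreducible ((Subtype.val : Z → X) '' irreducibleComponent z) :=
      h1.image _ continuous_subtype_val.continuousOn
    have h4 : IsClosed ((Subtype.val : Z → X) '' irreducibleComponent z) :=
      (hcl.isClosedEmbedding_subtypeVal).isClosedMap _ h2
    obtain ⟨g, hg⟩ := QuasiSober.sober h3 h4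
    have hgZ : g ∈ Z := by
      obtain ⟨a, -, ha⟩ := hg.mem
      exact ha ▸ a.2
    have hsub : irreducibleComponent z = {z} := by
      apply Set.eq_singleton_iff_unique_mem.2
      refine ⟨mem_irreducibleComponent, fun w hw => ?_⟩
      have e1 : ∀ v : Z, v ∈ irreducibleComponent z → v.1 = g := by
        intro v hv
        have : g ⤳ v.1 := by
          rw [specializes_iff_mem_closure, hg.def]
          exact ⟨v, hv, rfl⟩
        rcases hd v.1 g this with h | h
        · exact h.symm
        · exact absurd (h ▸ hgZ) hgen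
      exact Subtype.ext ((e1 w hw).trans (e1 z mem_irreducibleComponent).symm)
    rw [← hsub]
    exact irreducibleComponent_mem_irreducibleComponents z
  have hfinZ : Finite Z := by
    have : Function.Injective (fun z : Z => (⟨{z}, key z⟩ : irreducibleComponents Z)) := by
      intro a b h
      exact Set.singleton_injective (congrArg Subtype.val h)
    have := hfin.to_subtype
    exact Finite.of_injective _ ‹Function.Injective _›
  exact Set.toFinite Z

end Groth.Agent.CurvesB.GenStk
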