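import Groth.Agent.VarietyA.Flasque1
import Groth.Agent.VarietyA.ExtSurj
import Groth.Agent.VarietyA.Dim1Top
import Groth.Agent.S0453
import Groth.Agent.S0458

/-!
# Surjectivity on `H^1` of morphisms of sheaves which are surjective over a dense open of a
one-dimensional Noetherian scheme
-/

set_option autoImplicit false
universe u

open TopologicalSpace Opposite CategoryTheory CategoryTheory.Limits AlgebraicGeometry

namespace Groth.Agent.CurvesB.GenSurj

variable {X : Scheme.{u}}

/-- Abelian sheaves on a scheme. -/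
abbrev Sh (X : Scheme.{u}) := Sheaf (Opens.grothendieckTopology X) AddCommGrpCat.{u}

/-- If `φ : F ⟶ G` is surjective on sections over affine opens contained in `W` then the cokernel has no
nonzero sections over opens contained in `W`. -/
theorem cokernel_section_eq_zero {F G : Sh X} (φ : F ⟶ G) (W : X.Opens)
    (h : ∀ V : X.Opens, IsAffineOpen V → V ≤ W → Function.Surjective (φ.hom.app (op V)))
    (V : X.Opens) (hV : V ≤ W)
    (s : (cokernel φ : Sh X).obj.obj (op V)) : s = 0 := by
  have he : Epi (cokernel.π φ) := inferInstance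
  have hs : TopCat.Presheaf.IsLocallySurjective (cokernel.π φ).hom :=
    (TopCat.Sheaf.isLocallySurjective_iff_epi (cokernel.π φ)).mpr he
  have key := (TopCat.Presheaf.isLocallySurjective_iff (cokernel.π φ).hom).mp hs V s
  choose V' hV' t hx using key
  have hA : ∀ (x : X) (hxV : x ∈ V), ∃ A : X.Opens, IsAffineOpen A ∧ x ∈ A ∧ A ≤ V' x hxV :=
    fun x hxV => by
      obtain ⟨A, h1, h2, h3⟩ := exists_isAffineOpen_mem_and_subset (hx x hxV)
      exact ⟨A, h1, h2, h3⟩
  choose A hA1 hA2 hA3 using hA
  let C : TopCat.Sheaf AddCommGrpCat.{u} X := (cokernel φ : Sh X)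
  refine TopCat.Sheaf.eq_of_locally_eq' C (fun i : V => A i.1 i.2) V
    (fun i => homOfLE ((hA3 i.1 i.2).trans (hV' i.1 i.2))) ?_ s 0 ?_
  · intro x hxV
    exact Opens.mem_iSup.mpr ⟨⟨x, hxV⟩, hA2 x hxV⟩
  · rintro ⟨x, hxV⟩
    obtain ⟨t', ht'⟩ := t x hxV
    let t'' := G.obj.map (homOfLE (hA3 x hxV)).op t'
    obtain ⟨a, ha⟩ := h (A x hxV) (hA1 x hxV) ((hA3 x hxV).trans ((hV' x hxV).trans hV)) t''
    have h0 : (cokernel.π φ).hom.app (op (A x hxV)) t'' = 0 := by
      rw [← ha]
      have : φ.hom.app (op (A x hxV)) ≫ (cokernel.π φ).hom.app (op (A x hxV)) = 0 := by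
        rw [← NatTrans.comp_app, ← ObjectProperty.FullSubcategory.comp_hom, cokernel.condition]
        rfl
      rw [← ConcreteCategory.comp_apply, this]
      rfl
    have h1 : (cokernel.π φ).hom.app (op (A x hxV)) t'' =
        (cokernel φ : Sh X).obj.map (homOfLE (hA3 x hxV)).op ((cokernel.π φ).hom.app (op (V' x hxV)) t') :=
      ConcreteCategory.congr_hom ((cokernel.π φ).hom.naturality (homOfLE (hA3 x hxV)).op) t'
    rw [map_zero]
    rw [h1, ht'] at h0
    have h2 : (cokernel φ : Sh X).obj.map (homOfLE (hA3 x hxV)).op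
        ((cokernel φ : Sh X).obj.map (homOfLE (hV' x hxV)).op s) = 
        (cokernel φ : Sh X).obj.map (homOfLE ((hA3 x hxV).trans (hV' x hxV))).op s := by
      rw [← ConcreteCategory.comp_apply, ← Functor.map_comp]
      rfl
    rw [← h2]
    exact h0

/-- all subsets of the complement of a dense open in a one-dimensional Noetherian scheme are closed -/
theorem isClosed_of_subset_compl [IsNoetherian X] (hdim : topologicalKrullDim X ≤ 1) (U : X.Opens)
    (hU : Dense (U : Set X)) (T : Set X) (hT : T ⊆ (U : Set X)ᶜ) : IsClosed T := by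
  have hf : T.Finite := (VarietyA.Dim1Top.finite_compl hdim U hU).subset hT
  rw [← Set.biUnion_of_singleton T]
  exact hf.isClosed_biUnion fun x hx => (VarietyA.Dim1Top.point_of_compl hdim U hU x (hT hx)).1

/-- The cokernel of a morphism which is surjective over a dense open is flasque. -/
theorem cokernel_isFlasque [IsNoetherian X] (hdim : topologicalKrullDim X ≤ 1) (U : X.Opens)
    (hU : Dense (U : Set X)) {F G : Sh X} (φ : F ⟶ G)
    (h : ∀ V : X.Opens, IsAffineOpen V → V ≤ U → Function.Surjective (φ.hom.app (op V))) :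
    TopCat.Sheaf.IsFlasque (X := X.toTopCat) (cokernel φ : Sh X) := by
  refine VarietyA.Flasque1.isFlasque_of_support_subset (X := X.toTopCat) (cokernel φ : Sh X)
    ((U : Set X)ᶜ) (isClosed_of_subset_compl hdim U hU) ?_
  intro V hV s
  refine cokernel_section_eq_zero φ U h V ?_ s
  intro x hx
  by_contra hxU
  exact Set.disjoint_left.mp hV hx hxU

/-- A morphism of abelian sheaves which is surjective (on affines) over a dense open of a
Noetherian scheme of dimension `≤ 1` is surjective on `H^1`. -/
theorem h1_map_surjective [IsNoetherian X] (hdim : topologicalKrullDim X ≤ 1) (U : X.Opens)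
    (hU : Dense (U : Set X)) {F G : Sh X} (φ : F ⟶ G)
    (h : ∀ V : X.Opens, IsAffineOpen V → V ≤ U → Function.Surjective (φ.hom.app (op V))) :
    Function.Surjective (Sheaf.H.map.{u} φ 1) := by
  have hfl := cokernel_isFlasque hdim U hU φ h
  have h1 : Subsingleton (Sheaf.H.{u} (cokernel φ : Sh X) 1) :=
    Groth.Agent.S0453.result (X := X.toTopCat) (cokernel φ : Sh X) 0
  have hN : NoetherianSpace X.toTopCat := inferInstanceAs (NoetherianSpace X)
  have h2 : Subsingleton (Sheaf.H.{u} (kernel φ : Sh X) 2) :=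
    Groth.Agent.S0458.result (X := X.toTopCat) 1 (by exact_mod_cast hdim) (kernel φ : Sh X) 2 (by norm_num)
  exact VarietyA.ExtSurj.postcomp_surjective φ _ 1 h1 h2

end Groth.Agent.CurvesB.GenSurj
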