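import Groth.Prelude.Def_ClSub2
import Groth.Agent.CurvesB.HZero
import Mathlib.AlgebraicGeometry.Morphisms.ClosedImmersion

/-!
# Small helpers for comparing `H^1(O)` along a finite birational morphism
-/

set_option autoImplicit false
universe u
open CategoryTheory CategoryTheory.Limits AlgebraicGeometry Opposite

namespace Groth.Agent.CurvesB.GenusLib

theorem exists_opens_eq {X : Scheme.{u}} (U V : X.Opens) (hVU : V ≤ U) :
    ∃ V' : U.toScheme.Opens, U.ι ''ᵁ V' = V := by
  refine ⟨U.ι ⁻¹ᵁ V, ?_⟩
  rw [Scheme.Hom.image_preimage_eq_opensRange_inf, Scheme.Opens.opensRange_ι]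
  exact inf_eq_right.mpr hVU

/-- A morphism that is a closed immersion over `U` is surjective on sections over affine opens of `U`. -/
theorem app_surjective {X Y : Scheme.{u}} (f : Y ⟶ X) (U : X.Opens) (hfU : IsClosedImmersion (f ∣_ U))
    (V : X.Opens) (hV : IsAffineOpen V) (hVU : V ≤ U) : Function.Surjective (f.app V).hom := by
  obtain ⟨V', rfl⟩ := exists_opens_eq U V hVU
  rw [Scheme.Hom.isAffineOpen_iff_of_isOpenImmersion U.ι] at hV
  have h1 := Scheme.Hom.app_surjective (f ∣_ U) V' hV
  rw [morphismRestrict_app] at h1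
  have h2 : Function.Bijective (Y.presheaf.map (eqToHom (image_morphismRestrict_preimage f U V')).op) :=
    ConcreteCategory.bijective_of_isIso _
  intro y
  obtain ⟨x, hx⟩ := h1 (Y.presheaf.map (eqToHom (image_morphismRestrict_preimage f U V')).op y)
  exact ⟨x, h2.1 hx⟩

/-- A morphism that is an isomorphism over `U` is bijective on sections over opens of `U`. -/
theorem app_bijective {X Y : Scheme.{u}} (f : Y ⟶ X) (U : X.Opens) [IsIso (f ∣_ U)]
    (V : X.Opens) (hVU : V ≤ U) : Function.Bijective (f.app V).hom := by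
  obtain ⟨V', rfl⟩ := exists_opens_eq U V hVU
  have h1 : Function.Bijective ((f ∣_ U).app V') := ConcreteCategory.bijective_of_isIso _
  rw [morphismRestrict_app] at h1
  have h2 : Function.Bijective (Y.presheaf.map (eqToHom (image_morphismRestrict_preimage f U V')).op) :=
    ConcreteCategory.bijective_of_isIso _
  have h3 : Function.Bijective ((Y.presheaf.map (eqToHom (image_morphismRestrict_preimage f U V')).op).hom ∘
    (f.app (U.ι ''ᵁ V')).hom) := h1
  exact (Function.Bijective.of_comp_iff' h2 _).mp h3

/-- If `X` is reduced and `f` is an isomorphism over a dense open then `O_X → f_* O_Y` is injective. -/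
theorem app_injective {X Y : Scheme.{u}} [IsReduced X] (f : Y ⟶ X) (U : X.Opens)
    (hU : Dense (U : Set X)) [IsIso (f ∣_ U)] (V : X.Opens) :
    Function.Injective (f.app V).hom := by
  rw [injective_iff_map_eq_zero]
  intro s hs
  have h1 : X.presheaf.map (homOfLE (inf_le_left : V ⊓ U ≤ V)).op s = 0 := by
    apply (app_bijective f U (V ⊓ U) inf_le_right).1
    rw [map_zero]
    have h2 : (f.app (V ⊓ U)).hom (X.presheaf.map (homOfLE (inf_le_left : V ⊓ U ≤ V)).op s) =
        Y.presheaf.map ((TopologicalSpace.Opens.map f.base).map (homOfLE (inf_le_left : V ⊓ U ≤ V))).op ((f.app V).hom s) :=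
      congr($(f.naturality (homOfLE (inf_le_left : V ⊓ U ≤ V)).op) s)
    rw [h2, hs, map_zero]
  have h3 : X.basicOpen s ⊓ U = ⊥ := by
    have h4 := X.basicOpen_res s (homOfLE (inf_le_left : V ⊓ U ≤ V)).op
    rw [h1, Scheme.basicOpen_zero] at h4
    rw [eq_bot_iff, h4]
    exact le_inf (le_inf (inf_le_left.trans (X.basicOpen_le s)) inf_le_right) inf_le_left
  have h5 : X.basicOpen s = ⊥ := by
    by_contra hne
    have hne' : (X.basicOpen s : Set X).Nonempty :=
      (TopologicalSpace.Opens.ne_bot_iff_nonempty _).mp hne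
    obtain ⟨x, hx1, hx2⟩ := hU.inter_open_nonempty _ (X.basicOpen s).isOpen hne'
    have : x ∈ X.basicOpen s ⊓ U := ⟨hx1, hx2⟩
    rw [h3] at this
    exact this
  exact (basicOpen_eq_bot_iff s).mp h5

/-- the map on cohomology induced by a morphism of modules is linear -/
noncomputable def hmapₗ (k : Type u) [CommRing k] {X : Scheme.{u}} [X.Over (Spec (CommRingCat.of k))]
    {M N : X.Modules} (φ : M ⟶ N) (n : ℕ) : Coh.HH X M n →ₗ[k] Coh.HH X N n where
  toFun := Sheaf.H.map ((SheafOfModules.toSheaf X.ringCatSheaf).map φ) n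
  map_add' := map_add _
  map_smul' t x := by
    have h : Coh.smulAb M (HZero.gl k X t) ≫ (SheafOfModules.toSheaf X.ringCatSheaf).map φ =
        (SheafOfModules.toSheaf X.ringCatSheaf).map φ ≫ Coh.smulAb N (HZero.gl k X t) := by
      ext U m
      exact (φ.val.app U).hom.map_smul (Coh.resTop X U (HZero.gl k X t)) m
    change Sheaf.H.map ((SheafOfModules.toSheaf X.ringCatSheaf).map φ) n
      (Sheaf.H.map (Coh.smulAb M (HZero.gl k X t)) n x) =
      Sheaf.H.map (Coh.smulAb N (HZero.gl k X t)) n
        (Sheaf.H.map ((SheafOfModules.toSheaf X.ringCatSheaf).map φ) n x)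
    rw [← Sheaf.H.map_comp_apply, h, Sheaf.H.map_comp_apply]

/-- A scheme which is proper over a field is Noetherian. -/
theorem isNoetherian_of_proper {k : Type u} [Field k] {X : Scheme.{u}}
    (g : X ⟶ Spec (CommRingCat.of k)) [IsProper g] : IsNoetherian X := by
  have hLN : IsLocallyNoetherian X := LocallyOfFiniteType.isLocallyNoetherian g
  have hC : CompactSpace X := QuasiCompact.compactSpace_of_compactSpace g
  exact {}

end Groth.Agent.CurvesB.GenusLib
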