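import Groth.Agent.CurvesB.CurveRR
import Groth.Agent.CurvesB.InvEmb
import Groth.Prelude.Def_Curv2

/-!
# Global generation from `h^0(L) > h^1(O)` on an integral curve
-/

set_option autoImplicit false
universe u
open CategoryTheory CategoryTheory.Limits AlgebraicGeometry Opposite TopologicalSpace
open Groth.Agent.CurvesB.HZero
open Groth.Agent.CurvesB.Pairing Groth.Agent.CurvesB.RankOne Groth.Agent.CurvesB.CurveRR

namespace Groth.Agent.CurvesB.GlobGenRR

variable {X : Scheme.{u}}

/-- Free modules, with the expected type. -/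
noncomputable abbrev freeM (X : Scheme.{u}) (ι : Type u) : X.Modules :=
  SheafOfModules.free (R := X.ringCatSheaf) ι

/-- The evaluation map `O ⊗ Γ(X, L) → L`. -/
noncomputable def evMap (L : X.Modules) : freeM X Γ(L, ⊤) ⟶ L :=
  (SheafOfModules.freeHomEquiv (R := X.ringCatSheaf) L).symm
    (fun m => SheafOfModules.unitHomEquiv (R := X.ringCatSheaf) L (secHom L m))

/-- The inclusion of a summand of a free module. -/
noncomputable def ιM (X : Scheme.{u}) {ι : Type u} (i : ι) : Coh.structureModule X ⟶ freeM X ι :=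
  SheafOfModules.ιFree (R := X.ringCatSheaf) i

theorem ι_evMap (L : X.Modules) (m : Γ(L, ⊤)) : ιM X m ≫ evMap L = secHom L m := by
  have h := SheafOfModules.unitHomEquiv_symm_freeHomEquiv_apply (R := X.ringCatSheaf) (evMap L) m
  refine h.symm.trans ?_
  unfold evMap
  rw [Equiv.apply_symm_apply, Equiv.symm_apply_apply]

/-- Sections die in the cokernel of the evaluation map. -/
theorem cokernel_app_eq_zero (L : X.Modules) (m : Γ(L, ⊤)) : (cokernel.π (evMap L)).app ⊤ m = 0 := by
  have h1 : secHom L m ≫ cokernel.π (evMap L) = 0 := by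
    rw [← ι_evMap, Category.assoc, cokernel.condition, comp_zero]
  have h2 : homSec (secHom L m ≫ cokernel.π (evMap L)) = 0 := by
    rw [h1]
    rfl
  have h3 : homSec (secHom L m ≫ cokernel.π (evMap L)) = (cokernel.π (evMap L)).app ⊤ m := by
    rw [secHom_comp, homSec_secHom]
  rw [← h3, h2]

/-- A flasque module with no global sections is zero. -/
theorem isZero_of_flasque (T : X.Modules) [TopCat.Sheaf.IsFlasque (Coh.toAb T)]
    (h : Subsingleton Γ(T, ⊤)) : IsZero T := by
  rw [IsZero.iff_id_eq_zero]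
  ext U s
  have hs : Function.Surjective (T.presheaf.map (homOfLE (le_top (a := U))).op) :=
    (AddCommGrpCat.epi_iff_surjective _).1
      (TopCat.Presheaf.IsFlasque.epi (F := (Coh.toAb T).obj) (homOfLE (le_top (a := U))).op)
  obtain ⟨t, rfl⟩ := hs s
  have : t = 0 := Subsingleton.elim _ _
  rw [this, map_zero, map_zero]
  rfl

open Groth.Agent.VarietyA.EulerLES in
/-- If `h^0(L) > h^1(O_X)` on an integral curve, `L` is globally generated. -/
theorem isGloballyGenerated_of_lt (k : Type u) [Field k] [X.Over (Spec (CommRingCat.of k))]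
    [IsIntegral X] [IsNoetherian X] (hd : topologicalKrullDim X ≤ 1) (L : X.Modules) (hL : LocEmb L)
    [Module.Finite k (Coh.HH X (Coh.structureModule X) 1)]
    (hg : Curv2.genus k X < Module.finrank k (Coh.HH X L 0)) : Curv2.IsGloballyGenerated L := by
  refine ⟨Γ(L, ⊤), evMap L, ?_⟩
  by_contra hepi
  -- the short exact sequence `0 → F → L → Q → 0`
  let Q : X.Modules := cokernel (evMap L)
  let q : L ⟶ Q := cokernel.π (evMap L)
  let S : ShortComplex X.Modules := ShortComplex.mk (kernel.ι q) q (kernel.condition q)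
  have hS : S.ShortExact :=
    { exact := ShortComplex.exact_of_f_is_kernel _ (kernelIsKernel q)
      mono_f := inferInstanceAs (Mono (kernel.ι q))
      epi_g := inferInstanceAs (Epi (cokernel.π (evMap L))) }
  -- `evMap L ≠ 0`
  obtain ⟨x, hx⟩ : ∃ x : Coh.HH X L 0, x ≠ 0 := by
    by_contra hcon
    push Not at hcon
    have : Subsingleton (Coh.HH X L 0) := ⟨fun a b => (hcon a).trans (hcon b).symm⟩
    rw [Module.finrank_zero_of_subsingleton] at hg
    exact Nat.not_lt_zero _ hg
  have hev : evMap L ≠ 0 := by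
    intro h0
    have h1 : secHom L (equivAdd L x) ≠ 0 :=
      secHom_ne_zero ((map_ne_zero_iff _ (equivAdd L).injective).2 hx)
    apply h1
    rw [← ι_evMap, h0]
    exact comp_zero
  have hq : Epi q := inferInstanceAs (Epi (cokernel.π (evMap L)))
  have hQ : IsTors Q := isTors_of_epi hL (evMap L) hev q (cokernel.condition _)
  have hfl := hQ.isFlasque hd
  -- `H^0(Q) ≠ 0`
  have hQ0 : Nontrivial (Coh.HH X Q 0) := by
    by_contra hcon
    rw [not_nontrivial_iff_subsingleton] at hcon
    have : Subsingleton Γ(Q, ⊤) := (equivAdd Q).symm.injective.subsingleton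
    have hz := isZero_of_flasque Q this
    apply hepi
    exact Preadditive.epi_of_isZero_cokernel _ hz
  -- `H^0(L) → H^0(Q)` is zero
  have h0 : ∀ y : Coh.HH X L 0, mapA k S.g 0 y = 0 := by
    intro y
    apply (equivAdd Q).injective
    rw [map_zero]
    refine (equivAdd_map q y).trans ?_
    exact cokernel_app_eq_zero L _
  -- `H^1(F) ≠ 0`
  have hF1 : Nontrivial (Coh.HH X (kernel q) 1) := by
    obtain ⟨y, hy⟩ := exists_ne (0 : Coh.HH X Q 0)
    refine ⟨deltaA k S hS 0 1 rfl y, 0, fun h => hy ?_⟩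
    obtain ⟨z, hz⟩ := (exactA₃ k S hS 0 1 rfl y).1 h
    rw [← hz]
    exact h0 z
  have hFemb : LocEmb (kernel q) := LocEmb.of_mono (kernel.ι q) hL
  have key := finrank_H0_le_genus k hd hFemb hF1
  -- `H^0(F) = H^0(L)`
  have e : Coh.HH X (kernel q) 0 ≃ₗ[k] Coh.HH X L 0 :=
    LinearEquiv.ofBijective (mapA k S.f 0)
      ⟨injectiveA₀ k S hS, fun y => (exactA₂ k S hS 0 y).1 (h0 y)⟩
  rw [e.finrank_eq] at key
  omega

end Groth.Agent.CurvesB.GlobGenRR
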