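import Mathlib.RingTheory.Length
import Mathlib.RingTheory.HopkinsLevitzki
import Mathlib.Algebra.Module.Injective
import Mathlib.RingTheory.LocalRing.ResidueField.Basic
import Mathlib.Algebra.Category.ModuleCat.Injective
import Mathlib.RingTheory.Filtration
import Mathlib.RingTheory.LocalProperties.Reduced
import Mathlib.Algebra.Homology.ShortComplex.ModuleCat
import Groth.Prelude.Def_CAlg

/-!
# Gorenstein local rings in dimension at most one, by elementary means

* `baer_self`: an Artinian local ring with simple socle is self-injective.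
* `isGorenstein_of_simpleSocle`: a Noetherian local ring `A` with a nonzerodivisor `f` in the maximal ideal such
  that `A/f` is Artinian with simple socle, and `A_f` is injective over itself (e.g. `A` reduced), is Gorenstein.
-/

namespace Groth.Agent.CurvesB.GorDimOne

open IsLocalRing

universe u v

/-- The socle of the local ring is generated by any of its nonzero elements. -/
def SimpleSocle (R : Type*) [CommRing R] [IsLocalRing R] : Prop :=
  ∀ x y : R, (∀ m ∈ maximalIdeal R, m * x = 0) → (∀ m ∈ maximalIdeal R, m * y = 0) →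
    x = 0 ∨ ∃ c, y = c * x

section Artinian

variable {R : Type u} [CommRing R]

lemma length_add_quotient {M : Type*} [AddCommGroup M] [Module R M] (N : Submodule R M) :
    Module.length R M = Module.length R N + Module.length R (M ⧸ N) :=
  Module.length_eq_add_of_exact N.subtype N.mkQ N.subtype_injective N.mkQ_surjective
      (LinearMap.exact_subtype_mkQ N)

lemma length_ker_add_range {M N : Type*} [AddCommGroup M] [Module R M] [AddCommGroup N] [Module R N]
    (ρ : M →ₗ[R] N) : Module.length R M = Module.length R (LinearMap.ker ρ) +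
      Module.length R (LinearMap.range ρ) := by
  refine Module.length_eq_add_of_exact (LinearMap.ker ρ).subtype ρ.rangeRestrict
      (LinearMap.ker ρ).subtype_injective ρ.surjective_rangeRestrict ?_
  rw [LinearMap.exact_iff, LinearMap.ker_rangeRestrict, Submodule.range_subtype]

lemma length_ker_lcomp_le {M : Type*} [AddCommGroup M] [Module R M] (N : Submodule R M) :
    Module.length R (LinearMap.ker (LinearMap.lcomp R R N.subtype : (M →ₗ[R] R) →ₗ[R] (N →ₗ[R] R))) ≤
      Module.length R ((M ⧸ N) →ₗ[R] R) := by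
  let τ : ((M ⧸ N) →ₗ[R] R) →ₗ[R]
      LinearMap.ker (LinearMap.lcomp R R N.subtype : (M →ₗ[R] R) →ₗ[R] (N →ₗ[R] R)) :=
    LinearMap.codRestrict _ (LinearMap.lcomp R R N.mkQ) (by
      intro φ
      rw [LinearMap.mem_ker]
      ext n
      have : N.mkQ n = 0 := by simp
      simp only [LinearMap.lcomp_apply, Submodule.subtype_apply,
        this, map_zero, LinearMap.zero_apply])
  have hτ : Function.Surjective τ := by
    rintro ⟨φ, hφ⟩
    rw [LinearMap.mem_ker] at hφ
    refine ⟨N.liftQ φ ?_, ?_⟩
    · intro n hn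
      have := congrArg (fun l => l ⟨n, hn⟩) hφ
      simpa using this
    · ext m
      simp [τ]
  exact Module.length_le_of_surjective τ hτ

variable [IsLocalRing R]

lemma smul_eq_zero_of_simple {M : Type*} [AddCommGroup M] [Module R M] [IsSimpleModule R M]
    (m : R) (hm : m ∈ maximalIdeal R) (x : M) : m • x = 0 := by
  have h1 : (Ideal.span {m}) • (⊤ : Submodule R M) = ⊥ ∨ (Ideal.span {m}) • (⊤ : Submodule R M) = ⊤ :=
    eq_bot_or_eq_top _
  rcases h1 with h1 | h1
  · have : m • x ∈ (Ideal.span {m}) • (⊤ : Submodule R M) :=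
      Submodule.smul_mem_smul (Ideal.mem_span_singleton_self m) trivial
    rw [h1] at this
    exact this
  · have : (⊤ : Submodule R M) = ⊥ := by
      refine Submodule.eq_bot_of_le_smul_of_le_jacobson_bot (maximalIdeal R) ⊤ ?_ ?_ ?_
      · exact (inferInstance : Module.Finite R M).fg_top
      · calc (⊤ : Submodule R M) = (Ideal.span {m}) • (⊤ : Submodule R M) := h1.symm
          _ ≤ maximalIdeal R • ⊤ :=
            Submodule.smul_mono_left ((Ideal.span_singleton_le_iff_mem _).mpr hm)
      · exact IsLocalRing.maximalIdeal_le_jacobson _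
    have hx : x ∈ (⊤ : Submodule R M) := trivial
    rw [this] at hx
    rw [(Submodule.mem_bot R).mp hx, smul_zero]

lemma length_hom_simple_le (hs : SimpleSocle R) {M : Type u} [AddCommGroup M] [Module R M]
    [IsSimpleModule R M] : Module.length R (M →ₗ[R] R) ≤ 1 := by
  rcases subsingleton_or_nontrivial (M →ₗ[R] R) with h | h
  · rw [Module.length_eq_zero]; exact bot_le
  · have : Nontrivial M := IsSimpleModule.nontrivial R M
    obtain ⟨x, hx⟩ := exists_ne (0 : M)
    have hgen : ∀ y : M, ∃ r : R, y = r • x := by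
      intro y
      have := IsSimpleModule.toSpanSingleton_surjective R hx y
      obtain ⟨r, hr⟩ := this
      exact ⟨r, by rw [← hr]; rfl⟩
    have : IsSimpleModule R (M →ₗ[R] R) := by
      rw [isSimpleModule_iff_toSpanSingleton_surjective]
      refine ⟨h, fun f hf g => ?_⟩
      have hf1 : f x ≠ 0 := by
        intro h0
        apply hf
        ext y
        obtain ⟨r, rfl⟩ := hgen y
        simp [h0]
      have key : ∀ (φ : M →ₗ[R] R), ∀ m ∈ maximalIdeal R, m * φ x = 0 := by
        intro φ m hm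
        rw [← smul_eq_mul, ← map_smul, smul_eq_zero_of_simple m hm, map_zero]
      rcases hs (f x) (g x) (key f) (key g) with h0 | ⟨c, hc⟩
      · exact absurd h0 hf1
      · refine ⟨c, ?_⟩
        ext y
        obtain ⟨r, rfl⟩ := hgen y
        simp [hc]
    rw [Module.length_eq_one]

lemma length_hom_le (hs : SimpleSocle R) {M : Type u} [AddCommGroup M] [Module R M]
    (h : IsFiniteLength R M) : Module.length R (M →ₗ[R] R) ≤ Module.length R M := by
  induction h with
  | of_subsingleton =>
    rw [Module.length_eq_zero]; exact bot_le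
  | of_simple_quotient hN ih =>
    rename_i M _ _ N _
    have h1 := length_add_quotient N
    rw [h1, Module.length_eq_one R (M := M ⧸ N)]
    let ρ : (M →ₗ[R] R) →ₗ[R] (N →ₗ[R] R) := LinearMap.lcomp R R N.subtype
    have h2 := length_ker_add_range ρ
    have h3 : Module.length R (LinearMap.range ρ) ≤ Module.length R (N →ₗ[R] R) :=
      Module.length_le_of_injective _ (LinearMap.range ρ).subtype_injective
    have h4 : Module.length R (LinearMap.ker ρ) ≤ 1 :=
      (length_ker_lcomp_le N).trans (length_hom_simple_le hs)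
    rw [h2, add_comm (Module.length R N)]
    exact add_le_add h4 (h3.trans ih)

/-- An Artinian local ring with simple socle is self-injective (Baer form). -/
theorem baer_self [IsArtinianRing R] (hs : SimpleSocle R) : Module.Baer R R := by
  have hfinlen : IsFiniteLength R R := (isArtinianRing_iff_isFiniteLength R).mp inferInstance
  intro I g
  let ρ : (R →ₗ[R] R) →ₗ[R] (I →ₗ[R] R) := LinearMap.lcomp R R I.subtype
  suffices h : LinearMap.range ρ = ⊤ by
    obtain ⟨φ, hφ⟩ := (LinearMap.range_eq_top.mp h) g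
    exact ⟨φ, fun x hx => by rw [← hφ]; rfl⟩
  have hI : IsFiniteLength R I := hfinlen.of_injective I.subtype_injective
  have hRI : IsFiniteLength R (R ⧸ I) := hfinlen.of_surjective I.mkQ_surjective
  have e1 := length_add_quotient I
  have e2 := length_ker_add_range ρ
  have e3 : Module.length R (R →ₗ[R] R) = Module.length R R :=
    (LinearMap.ringLmapEquivSelf R R R).length_eq
  have e4 : Module.length R (LinearMap.ker ρ) ≤ Module.length R (R ⧸ I) :=
    (length_ker_lcomp_le I).trans (length_hom_le hs hRI)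
  have e5 : Module.length R (I →ₗ[R] R) ≤ Module.length R I := length_hom_le hs hI
  have e6 := length_add_quotient (LinearMap.range ρ)
  have f1 : Module.length R (R ⧸ I) ≠ ⊤ := Module.length_ne_top_iff.mpr hRI
  have f2 : Module.length R I ≠ ⊤ := Module.length_ne_top_iff.mpr hI
  have f3 : Module.length R (I →ₗ[R] R) ≠ ⊤ := ne_top_of_le_ne_top f2 e5
  have f4 : Module.length R (LinearMap.ker ρ) ≠ ⊤ := ne_top_of_le_ne_top f1 e4
  have f5 : Module.length R (LinearMap.range ρ) ≠ ⊤ := by
    intro h; rw [h, top_add] at e6; exact f3 e6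
  have f6 : Module.length R ((I →ₗ[R] R) ⧸ LinearMap.range ρ) ≠ ⊤ := by
    intro h; rw [h, add_top] at e6; exact f3 e6
  rw [e3, e1] at e2
  have : Module.length R ((I →ₗ[R] R) ⧸ LinearMap.range ρ) = 0 := by
    lift Module.length R (R ⧸ I) to ℕ using f1 with a ha
    lift Module.length R I to ℕ using f2 with b hb
    lift Module.length R (I →ₗ[R] R) to ℕ using f3 with c hc
    lift Module.length R (LinearMap.ker ρ) to ℕ using f4 with d hd
    lift Module.length R (LinearMap.range ρ) to ℕ using f5 with e he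
    lift Module.length R ((I →ₗ[R] R) ⧸ LinearMap.range ρ) to ℕ using f6 with f hf
    norm_cast at *
    omega
  rw [Module.length_eq_zero_iff] at this
  exact (Submodule.unique_quotient_iff_eq_top).mp ⟨Unique.mk' _⟩

end Artinian

section Powers

variable {A : Type u} [CommRing A] [IsLocalRing A]

/-- The socle of `A/f` is generated by any of its nonzero elements. -/
def SimpleSocleMod (f : A) : Prop :=
  ∀ x y : A, (∀ m ∈ maximalIdeal A, m * x ∈ Ideal.span {f}) →
    (∀ m ∈ maximalIdeal A, m * y ∈ Ideal.span {f}) →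
    x ∈ Ideal.span {f} ∨ ∃ c, y - c * x ∈ Ideal.span {f}

lemma SimpleSocleMod.pow {f : A} (hf : f ∈ nonZeroDivisors A) (hfm : f ∈ maximalIdeal A)
    (h : SimpleSocleMod f) (n : ℕ) : SimpleSocleMod (f ^ (n + 1)) := by
  have key : ∀ x : A, (∀ m ∈ maximalIdeal A, m * x ∈ Ideal.span {f ^ (n + 1)}) →
      ∃ a, x = f ^ n * a ∧ ∀ m ∈ maximalIdeal A, m * a ∈ Ideal.span {f} := by
    intro x hx
    obtain ⟨a, ha⟩ := Ideal.mem_span_singleton'.mp (hx f hfm)
    have h1 : x = f ^ n * a := by
      have : f * (x - f ^ n * a) = 0 := by rw [mul_sub, ← ha]; ring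
      have := (mem_nonZeroDivisors_iff.mp hf).1 _ this
      exact sub_eq_zero.mp this
    refine ⟨a, h1, fun m hm => ?_⟩
    obtain ⟨b, hb⟩ := Ideal.mem_span_singleton'.mp (hx m hm)
    rw [Ideal.mem_span_singleton']
    refine ⟨b, ?_⟩
    have hfn : f ^ n ∈ nonZeroDivisors A := pow_mem hf n
    have : f ^ n * (b * f - m * a) = 0 := by
      have : m * x = m * (f ^ n * a) := by rw [h1]
      rw [this] at hb
      rw [mul_sub, sub_eq_zero]
      calc f ^ n * (b * f) = b * f ^ (n + 1) := by ring
        _ = m * (f ^ n * a) := hb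
        _ = f ^ n * (m * a) := by ring
    exact sub_eq_zero.mp ((mem_nonZeroDivisors_iff.mp hfn).1 _ this)
  intro x y hx hy
  obtain ⟨a, rfl, ha⟩ := key x hx
  obtain ⟨b, rfl, hb⟩ := key y hy
  rcases h a b ha hb with h1 | ⟨c, hc⟩
  · left
    obtain ⟨d, rfl⟩ := Ideal.mem_span_singleton'.mp h1
    exact Ideal.mem_span_singleton'.mpr ⟨d, by ring⟩
  · right
    refine ⟨c, ?_⟩
    obtain ⟨d, hd⟩ := Ideal.mem_span_singleton'.mp hc
    refine Ideal.mem_span_singleton'.mpr ⟨d, ?_⟩
    calc d * f ^ (n + 1) = f ^ n * (d * f) := by ring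
      _ = f ^ n * (b - c * a) := by rw [hd]
      _ = f ^ n * b - c * (f ^ n * a) := by ring

lemma SimpleSocleMod.simpleSocle {f : A} (h : SimpleSocleMod f) [IsLocalRing (A ⧸ Ideal.span {f})] :
    SimpleSocle (A ⧸ Ideal.span {f}) := by
  intro x y hx hy
  obtain ⟨x, rfl⟩ := Ideal.Quotient.mk_surjective x
  obtain ⟨y, rfl⟩ := Ideal.Quotient.mk_surjective y
  have key : ∀ z : A, (∀ m ∈ maximalIdeal (A ⧸ Ideal.span {f}), m * (Ideal.Quotient.mk (Ideal.span {f}) z) = 0) →
      ∀ m ∈ maximalIdeal A, m * z ∈ Ideal.span {f} := by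
    intro z hz m hm
    rw [← Ideal.Quotient.eq_zero_iff_mem, map_mul]
    apply hz
    have : IsLocalHom (Ideal.Quotient.mk (Ideal.span {f})) :=
      IsLocalHom.of_surjective _ Ideal.Quotient.mk_surjective
    exact map_nonunit _ m hm
  rcases h x y (key x hx) (key y hy) with h1 | ⟨c, hc⟩
  · left; rwa [Ideal.Quotient.eq_zero_iff_mem]
  · right
    refine ⟨Ideal.Quotient.mk _ c, ?_⟩
    rw [← sub_eq_zero, ← map_mul, ← map_sub, Ideal.Quotient.eq_zero_iff_mem]
    exact hc

end Powers

section Baer

/-- Extension property over a quotient. -/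
lemma exists_mul_of_baer {A : Type*} {R : Type*} [CommRing A] [CommRing R] [Algebra A R]
    (hs : Function.Surjective (algebraMap A R)) (hR : Module.Baer R R) (I : Ideal A)
    (γ : I →ₗ[A] R) (hγ : ∀ x : I, algebraMap A R x = 0 → γ x = 0) :
    ∃ r : R, ∀ x : I, γ x = algebraMap A R x * r := by
  let J : Ideal R := I.map (algebraMap A R)
  let π : I →ₗ[A] J :=
    LinearMap.codRestrict (J.restrictScalars A) ((Algebra.linearMap A R) ∘ₗ I.subtype) (by
      intro c
      exact Ideal.mem_map_of_mem _ c.2)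
  have hπ : Function.Surjective π := by
    rintro ⟨j, hj⟩
    obtain ⟨x, hx, rfl⟩ := (Ideal.mem_map_iff_of_surjective _ hs).mp hj
    exact ⟨⟨x, hx⟩, rfl⟩
  have hker : LinearMap.ker π ≤ LinearMap.ker γ := by
    intro x hx
    rw [LinearMap.mem_ker] at hx ⊢
    exact hγ x (congrArg Subtype.val hx)
  let γ' : J →ₗ[A] R := ((LinearMap.ker π).liftQ γ hker) ∘ₗ (π.quotKerEquivOfSurjective hπ).symm
  have hγ' : ∀ x : I, γ' (π x) = γ x := by
    intro x
    have : (π.quotKerEquivOfSurjective hπ).symm (π x) = (LinearMap.ker π).mkQ x := by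
      rw [LinearEquiv.symm_apply_eq]
      rfl
    simp only [γ', LinearMap.coe_comp, Function.comp_apply, LinearEquiv.coe_coe, this]
    exact Submodule.liftQ_apply _ _ _
  let γ'' : J →ₗ[R] R := γ'.extendScalarsOfSurjective hs
  obtain ⟨g, hg⟩ := hR J γ''
  refine ⟨g 1, fun x => ?_⟩
  have h1 : g (π x : R) = γ'' (π x) := hg _ (π x).2
  have h2 : γ'' (π x) = γ x := hγ' x
  rw [← h2, ← h1]
  change g (algebraMap A R x) = _
  rw [← smul_eq_mul, ← map_smul, smul_eq_mul, mul_one]

/-- If every ideal `I` of `A` is, up to a power of the nonzerodivisor `f`, generated by one idempotent-like element,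
then `A_f` is injective over `A`. -/
lemma baer_away {A : Type*} [CommRing A] (f : A) (Q : Type*) [CommRing Q] [Algebra A Q]
    [IsLocalization.Away f Q]
    (H : ∀ I : Ideal A, ∃ x ∈ I, ∃ n : ℕ, ∀ y ∈ I, f ^ n * y = x * y) :
    Module.Baer A Q := by
  intro I g
  obtain ⟨x, hx, n, hxy⟩ := H I
  have hu : IsUnit (algebraMap A Q (f ^ n)) := IsLocalization.map_units Q (⟨f ^ n, n, rfl⟩ : Submonoid.powers f)
  obtain ⟨u, hu⟩ := hu
  refine ⟨LinearMap.toSpanSingleton A Q (↑u⁻¹ * g ⟨x, hx⟩), fun y hy => ?_⟩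
  rw [LinearMap.toSpanSingleton_apply]
  have h1 : f ^ n • g ⟨y, hy⟩ = y • g ⟨x, hx⟩ := by
    rw [← map_smul, ← map_smul]
    congr 1
    ext
    simp only [SetLike.mk_smul_mk, smul_eq_mul]
    rw [hxy y hy, mul_comm]
  rw [Algebra.smul_def, ← hu] at h1
  calc y • (↑u⁻¹ * g ⟨x, hx⟩) = ↑u⁻¹ * (y • g ⟨x, hx⟩) := by rw [mul_smul_comm]
    _ = g ⟨y, hy⟩ := by rw [← h1, ← mul_assoc, Units.inv_mul, one_mul]

/-- `A_f / A` is injective when all `A / f^n` are self-injective. -/
lemma baer_away_quotient {A : Type*} [CommRing A] [IsNoetherianRing A] (f : A)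
    (hf : f ∈ nonZeroDivisors A) (Q : Type*) [CommRing Q] [Algebra A Q] [IsLocalization.Away f Q]
    (H : ∀ n : ℕ, Module.Baer (A ⧸ Ideal.span {f ^ (n + 1)}) (A ⧸ Ideal.span {f ^ (n + 1)})) :
    Module.Baer A (Q ⧸ LinearMap.range (Algebra.linearMap A Q)) := by
  intro I g
  have hinj : Function.Injective (algebraMap A Q) :=
    IsLocalization.injective Q (Submonoid.powers_le.mpr hf)
  -- a common power killing `g`
  have h1 : ∀ e : Q ⧸ LinearMap.range (Algebra.linearMap A Q), ∃ n : ℕ, f ^ n • e = 0 := by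
    intro e
    obtain ⟨q, rfl⟩ := Submodule.mkQ_surjective _ e
    obtain ⟨⟨a, ⟨_, n, rfl⟩⟩, ha⟩ := IsLocalization.surj (Submonoid.powers f) q
    refine ⟨n, ?_⟩
    rw [← map_smul, Submodule.mkQ_apply, Submodule.Quotient.mk_eq_zero]
    refine ⟨a, ?_⟩
    rw [Algebra.linearMap_apply, ← ha, Algebra.smul_def, mul_comm]
  have h2 : ∃ n : ℕ, ∀ x : I, f ^ n • g x = 0 := by
    classical
    obtain ⟨s, hs⟩ := (inferInstance : Module.Finite A I).fg_top
    choose N hN using h1
    refine ⟨∑ x ∈ s, N (g x), fun x => ?_⟩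
    have hx : x ∈ Submodule.span A (s : Set I) := by rw [hs]; trivial
    induction hx using Submodule.span_induction with
    | mem x hx =>
      rw [← Finset.sum_erase_add _ _ (Finset.mem_coe.mp hx), pow_add, mul_smul, hN, smul_zero]
    | zero => rw [map_zero, smul_zero]
    | add x y _ _ hx hy => rw [map_add, smul_add, hx, hy, add_zero]
    | smul a x _ hx => rw [map_smul, smul_comm, hx, smul_zero]
  obtain ⟨n, hn⟩ := h2
  -- Artin-Rees
  obtain ⟨k, hk⟩ := Ideal.exists_pow_inf_eq_pow_smul (Ideal.span {f}) (M := A) I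
  let N := n + k
  have hAR : ∀ x ∈ I, x ∈ Ideal.span {f ^ (N + 1)} → ∃ y ∈ I, x = f ^ n * y := by
    intro x hx hx'
    have h3 : x ∈ (Ideal.span {f}) ^ N • (⊤ : Submodule A A) ⊓ I := by
      refine ⟨?_, hx⟩
      rw [Ideal.span_singleton_pow, smul_eq_mul, Ideal.mul_top]
      exact Ideal.span_singleton_le_span_singleton.mpr (pow_dvd_pow f (Nat.le_succ N)) hx'
    rw [hk N (Nat.le_add_left k n)] at h3
    have h4 : x ∈ Ideal.span {f ^ n} * I := by
      rw [show N - k = n from Nat.add_sub_cancel n k, Ideal.span_singleton_pow] at h3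
      exact Submodule.smul_mono le_rfl inf_le_right h3
    obtain ⟨y, hy, rfl⟩ := Ideal.mem_span_singleton_mul.mp h4
    exact ⟨y, hy, rfl⟩
  -- the iso of `A / f^(N+1)` with the `f^(N+1)`-torsion
  obtain ⟨u, hu⟩ : IsUnit (algebraMap A Q (f ^ (N + 1))) :=
    IsLocalization.map_units Q (⟨f ^ (N + 1), N + 1, rfl⟩ : Submonoid.powers f)
  let ψ₀ : A →ₗ[A] (Q ⧸ LinearMap.range (Algebra.linearMap A Q)) :=
    (Submodule.mkQ _) ∘ₗ LinearMap.toSpanSingleton A Q (↑u⁻¹ : Q)
  have hker : ∀ a : A, ψ₀ a = 0 ↔ a ∈ Ideal.span {f ^ (N + 1)} := by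
    intro a
    simp only [ψ₀, LinearMap.coe_comp, Function.comp_apply, LinearMap.toSpanSingleton_apply,
      Submodule.mkQ_apply, Submodule.Quotient.mk_eq_zero]
    rw [Ideal.mem_span_singleton']
    constructor
    · rintro ⟨b, hb⟩
      refine ⟨b, ?_⟩
      apply hinj
      rw [map_mul, ← hu]
      rw [Algebra.linearMap_apply] at hb
      rw [hb, Algebra.smul_def, mul_assoc, Units.inv_mul, mul_one]
    · rintro ⟨b, rfl⟩
      refine ⟨b, ?_⟩
      rw [Algebra.linearMap_apply, Algebra.smul_def, map_mul, ← hu, mul_assoc, Units.mul_inv, mul_one]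
  let ψ : (A ⧸ Ideal.span {f ^ (N + 1)}) →ₗ[A] (Q ⧸ LinearMap.range (Algebra.linearMap A Q)) :=
    Submodule.liftQ _ ψ₀ (fun a ha => (hker a).mpr ha)
  have hψ_mk : ∀ a : A, ψ (Ideal.Quotient.mk _ a) = ψ₀ a := fun a => Submodule.liftQ_apply _ _ _
  have hψ : Function.Injective ψ := by
    rw [injective_iff_map_eq_zero]
    intro a ha
    obtain ⟨a, rfl⟩ := Ideal.Quotient.mk_surjective a
    rw [hψ_mk, hker] at ha
    exact Ideal.Quotient.eq_zero_iff_mem.mpr ha
  have hmem : ∀ x : I, g x ∈ LinearMap.range ψ := by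
    intro x
    obtain ⟨q, hq⟩ := Submodule.mkQ_surjective _ (g x)
    have h5 : f ^ (N + 1) • g x = 0 := by
      rw [show N + 1 = (k + 1) + n by simp only [N]; ring, pow_add, mul_smul, hn, smul_zero]
    rw [← hq, ← map_smul, Submodule.mkQ_apply, Submodule.Quotient.mk_eq_zero] at h5
    obtain ⟨a, ha⟩ := h5
    refine ⟨Ideal.Quotient.mk _ a, ?_⟩
    rw [hψ_mk, ← hq]
    simp only [ψ₀, LinearMap.coe_comp, Function.comp_apply, LinearMap.toSpanSingleton_apply]
    congr 1
    rw [Algebra.linearMap_apply, Algebra.smul_def, ← hu] at ha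
    rw [Algebra.smul_def, ha, mul_comm, ← mul_assoc, Units.inv_mul, one_mul]
  let γ : I →ₗ[A] (A ⧸ Ideal.span {f ^ (N + 1)}) :=
    (LinearEquiv.ofInjective ψ hψ).symm ∘ₗ (LinearMap.codRestrict (LinearMap.range ψ) g hmem)
  have hγ : ∀ x, ψ (γ x) = g x := by
    intro x
    have : (LinearEquiv.ofInjective ψ hψ) (γ x) = ⟨g x, hmem x⟩ := by
      simp only [γ, LinearMap.coe_comp, Function.comp_apply, LinearEquiv.coe_coe,
        LinearEquiv.apply_symm_apply]
      rfl
    exact congrArg Subtype.val this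
  obtain ⟨r, hr⟩ := exists_mul_of_baer (A := A) (R := A ⧸ Ideal.span {f ^ (N + 1)})
    Ideal.Quotient.mk_surjective (H N) I γ (by
      intro x hx
      apply hψ
      rw [hγ, map_zero]
      obtain ⟨y, hy, hxy⟩ := hAR x x.2 (Ideal.Quotient.eq_zero_iff_mem.mp hx)
      have : x = f ^ n • (⟨y, hy⟩ : I) := Subtype.ext hxy
      rw [this, map_smul, hn])
  obtain ⟨r, rfl⟩ := Ideal.Quotient.mk_surjective r
  refine ⟨LinearMap.toSpanSingleton A _ (ψ₀ r), fun x hx => ?_⟩
  rw [LinearMap.toSpanSingleton_apply, ← map_smul, ← hψ_mk, ← hγ ⟨x, hx⟩, hr]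
  rfl

end Baer

section Main

open CategoryTheory

variable {A : Type u} [CommRing A] [IsLocalRing A] [IsNoetherianRing A]

lemma isArtinianRing_quotient [Ring.KrullDimLE 1 A] {f : A} (hf : f ∈ nonZeroDivisors A) :
    IsArtinianRing (A ⧸ Ideal.span {f}) := by
  rw [isArtinianRing_iff_isNoetherianRing_krullDimLE_zero]
  refine ⟨inferInstance, Ring.krullDimLE_zero_iff.mpr fun P hP => ?_⟩
  rcases (Ring.krullDimLE_one_iff.mp ‹Ring.KrullDimLE 1 A›)
    (P.comap (Ideal.Quotient.mk (Ideal.span {f}))) inferInstance with h | h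
  · exfalso
    refine notMem_nonZeroDivisors_of_mem_mem_minimalPrimes (x := f) ?_ h hf
    rw [Ideal.mem_comap, Ideal.Quotient.eq_zero_iff_mem.mpr (Ideal.mem_span_singleton_self f)]
    exact P.zero_mem
  · have h2 := Ideal.map_eq_top_or_isMaximal_of_surjective _
      (Ideal.Quotient.mk_surjective (I := Ideal.span {f})) h
    rw [Ideal.map_comap_of_surjective _ Ideal.Quotient.mk_surjective] at h2
    exact h2.resolve_left hP.ne_top

lemma isArtinianRing_away [Ring.KrullDimLE 1 A] {f : A} (hfm : f ∈ maximalIdeal A)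
    (Q : Type*) [CommRing Q] [Algebra A Q] [IsLocalization.Away f Q] :
    IsArtinianRing Q := by
  rw [isArtinianRing_iff_isNoetherianRing_krullDimLE_zero]
  refine ⟨IsLocalization.isNoetherianRing (Submonoid.powers f) Q inferInstance,
    Ring.krullDimLE_zero_iff.mpr fun P hP => ?_⟩
  obtain ⟨M, hM, hPM⟩ := P.exists_le_maximal hP.ne_top
  have hMp : M.IsPrime := hM.isPrime
  have h1 : M.comap (algebraMap A Q) ∈ minimalPrimes A := by
    rcases (Ring.krullDimLE_one_iff.mp ‹Ring.KrullDimLE 1 A›)
      (M.comap (algebraMap A Q)) inferInstance with h | h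
    · exact h
    · exfalso
      have h2 := IsLocalRing.eq_maximalIdeal h
      rw [← h2, Ideal.mem_comap] at hfm
      exact hM.ne_top (Ideal.eq_top_of_isUnit_mem _ hfm
        (IsLocalization.map_units Q (⟨f, 1, pow_one f⟩ : Submonoid.powers f)))
  have h3 : P.comap (algebraMap A Q) = M.comap (algebraMap A Q) := by
    refine le_antisymm (Ideal.comap_mono hPM) ?_
    exact h1.2 ⟨inferInstance, bot_le⟩ (Ideal.comap_mono hPM)
  have h4 : P = M := by
    have h5 := IsLocalization.map_under (Submonoid.powers f) Q P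
    have h6 := IsLocalization.map_under (Submonoid.powers f) Q M
    rw [← h5, ← h6]
    exact congrArg _ h3
  rw [h4]; exact hM

/-- A reduced Noetherian local ring of dimension at most one, with a nonzerodivisor `f` in the maximal ideal such
that `A/f` has simple socle, is Gorenstein. -/
theorem isGorensteinLocalRing_of_simpleSocleMod [IsReduced A] [Ring.KrullDimLE 1 A] {f : A}
    (hfm : f ∈ maximalIdeal A) (hf : f ∈ nonZeroDivisors A) (hsoc : SimpleSocleMod f) :
    LocCoh.IsGorensteinLocalRing A := by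
  refine { exists_hasInjectiveDimensionLT := ⟨2, ?_⟩ }
  let Q := Localization.Away f
  have hinj : Function.Injective (algebraMap A Q) :=
    IsLocalization.injective Q (Submonoid.powers_le.mpr hf)
  have hQart : IsArtinianRing Q := isArtinianRing_away hfm Q
  have hQred : IsReduced Q := isReduced_localizationPreserves (Submonoid.powers f) Q inferInstance
  have hQss : IsSemisimpleRing Q := IsArtinianRing.isSemisimpleRing_of_isReduced Q
  have hQ : Module.Baer A Q := by
    refine baer_away f Q fun I => ?_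
    obtain ⟨J', hJ'⟩ := exists_isCompl (I.map (algebraMap A Q))
    obtain ⟨e, he, e', he', hee'⟩ := Submodule.mem_sup.mp
      (show (1 : Q) ∈ I.map (algebraMap A Q) ⊔ J' by rw [hJ'.sup_eq_top]; trivial)
    obtain ⟨⟨⟨x, hx⟩, ⟨_, n, rfl⟩⟩, hxn⟩ :=
      (IsLocalization.mem_map_algebraMap_iff (Submonoid.powers f) Q).mp he
    refine ⟨x, hx, n, fun y hy => ?_⟩
    apply hinj
    have h1 : algebraMap A Q y * e' = 0 := by
      have h2 : algebraMap A Q y * e' ∈ I.map (algebraMap A Q) :=
        Ideal.mul_mem_right _ _ (Ideal.mem_map_of_mem _ hy)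
      have h3 : algebraMap A Q y * e' ∈ J' := Ideal.mul_mem_left _ _ he'
      exact (Submodule.disjoint_def.mp hJ'.disjoint) _ h2 h3
    have h4 : algebraMap A Q y = algebraMap A Q y * e := by
      calc algebraMap A Q y = algebraMap A Q y * (e + e') := by rw [hee', mul_one]
        _ = _ := by rw [mul_add, h1, add_zero]
    simp only at hxn
    rw [map_mul, map_mul, ← hxn]
    calc algebraMap A Q (f ^ n) * algebraMap A Q y
        = algebraMap A Q (f ^ n) * (algebraMap A Q y * e) := by rw [← h4]
      _ = _ := by ring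
  have hE : Module.Baer A (Q ⧸ LinearMap.range (Algebra.linearMap A Q)) := by
    refine baer_away_quotient f hf Q fun n => ?_
    have hfn : f ^ (n + 1) ∈ nonZeroDivisors A := pow_mem hf _
    have := isArtinianRing_quotient hfn
    have : Nontrivial (A ⧸ Ideal.span {f ^ (n + 1)}) :=
      Ideal.Quotient.nontrivial_iff.mpr (by
        intro h
        rw [Ideal.eq_top_iff_one, Ideal.mem_span_singleton'] at h
        obtain ⟨a, ha⟩ := h
        have h5 : IsUnit f := IsUnit.of_mul_eq_one (a * f ^ n) (by rw [← ha]; ring)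
        exact hfm h5)
    have : IsLocalRing (A ⧸ Ideal.span {f ^ (n + 1)}) :=
      IsLocalRing.of_surjective' (Ideal.Quotient.mk _) Ideal.Quotient.mk_surjective
    exact baer_self (hsoc.pow hf hfm n).simpleSocle
  have hQi : CategoryTheory.Injective (ModuleCat.of A Q) := by
    have := hQ.injective
    exact Module.injective_object_of_injective_module A Q
  have hEi : CategoryTheory.Injective
      (ModuleCat.of A (Q ⧸ LinearMap.range (Algebra.linearMap A Q))) := by
    have := hE.injective
    exact Module.injective_object_of_injective_module A _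
  let S : ShortComplex (ModuleCat.{u} A) :=
    ShortComplex.mk (X₁ := ModuleCat.of A A) (X₂ := ModuleCat.of A Q)
      (X₃ := ModuleCat.of A (Q ⧸ LinearMap.range (Algebra.linearMap A Q)))
      (ModuleCat.ofHom (Algebra.linearMap A Q))
      (ModuleCat.ofHom (LinearMap.range (Algebra.linearMap A Q)).mkQ) (by
        rw [← ModuleCat.ofHom_comp, LinearMap.range_mkQ_comp]
        rfl)
  have hS : S.ShortExact := by
    refine { exact := ?_, mono_f := ?_, epi_g := ?_ }
    · rw [ShortComplex.moduleCat_exact_iff_ker_sub_range S]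
      intro x hx
      have : (LinearMap.range (Algebra.linearMap A Q)).mkQ x = 0 := hx
      rwa [Submodule.mkQ_apply, Submodule.Quotient.mk_eq_zero] at this
    · exact (ModuleCat.mono_iff_injective _).mpr hinj
    · exact (ModuleCat.epi_iff_surjective _).mpr (Submodule.mkQ_surjective _)
  exact hS.hasInjectiveDimensionLT_X₁ 1 inferInstance inferInstance

end Main

end Groth.Agent.CurvesB.GorDimOne
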