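import Mathlib.Algebra.Module.Injective
import Mathlib.Algebra.Module.FinitePresentation
import Mathlib.RingTheory.Localization.BaseChange
import Mathlib.RingTheory.Localization.Ideal
import Mathlib.RingTheory.Noetherian.Basic

/-!
# Localizations of injective modules over Noetherian rings are injective
-/

set_option autoImplicit false

universe u v w

namespace Groth.Agent.CurvesB.InjLoc

/-- Over a Noetherian ring a localization of an injective module is injective over the localized ring (Baer form). -/
theorem baer_of_isLocalizedModule {P : Type u} [CommRing P] [IsNoetherianRing P] (S : Submonoid P)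
    (P' : Type v) [CommRing P'] [Algebra P P'] [IsLocalization S P'] {J J' : Type w} [AddCommGroup J] [Module P J]
    [AddCommGroup J'] [Module P J'] [Module P' J'] [IsScalarTower P P' J'] (f : J →ₗ[P] J')
    [IsLocalizedModule S f] (hJ : Module.Baer P J) : Module.Baer P' J' := by
  intro I' g
  let I : Ideal P := I'.comap (algebraMap P P')
  -- the restriction of `g` to `I`
  let g₀ : I →ₗ[P] J' :=
    { toFun := fun x => g ⟨algebraMap P P' x, x.2⟩
      map_add' := fun x y => by
        rw [← map_add]
        congr 1
        ext
        simp
      map_smul' := fun p x => by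
        rw [RingHom.id_apply, ← algebraMap_smul P' p (g _), ← map_smul]
        congr 1
        ext
        simp [Algebra.smul_def] }
  have : Module.FinitePresentation P I := Module.finitePresentation_of_finite P I
  obtain ⟨h, s, hs⟩ := Module.FinitePresentation.exists_lift_of_isLocalizedModule S f g₀
  obtain ⟨h', hh'⟩ := hJ I h
  have hu := IsLocalization.map_units P' s
  obtain ⟨t, ht⟩ := hu.exists_left_inv
  refine ⟨LinearMap.toSpanSingleton P' J' (t • f (h' 1)), ?_⟩
  intro x hx
  obtain ⟨⟨p, r⟩, hpr⟩ := IsLocalization.surj S x
  have hr := IsLocalization.map_units P' r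
  have hp : p ∈ I := by
    change algebraMap P P' p ∈ I'
    rw [← hpr]
    exact I'.mul_mem_right _ hx
  have key : algebraMap P P' s • g ⟨algebraMap P P' p, hp⟩ = algebraMap P P' p • f (h' 1) := by
    have h1 := LinearMap.congr_fun hs ⟨p, hp⟩
    simp only [LinearMap.comp_apply, LinearMap.smul_apply] at h1
    rw [← hh' p hp] at h1
    have h2 : h' p = p • h' 1 := by rw [← map_smul, smul_eq_mul, mul_one]
    rw [h2, map_smul] at h1
    rw [algebraMap_smul, algebraMap_smul, h1]
    rfl
  have hinj : Function.Injective (fun y : J' => (algebraMap P P' s * algebraMap P P' r) • y) := by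
    intro a b hab
    have := (hu.mul hr).smul_left_cancel.1 hab
    exact this
  apply hinj
  change (algebraMap P P' s * algebraMap P P' r) • (x • t • f (h' 1)) = (algebraMap P P' s * algebraMap P P' r) • g ⟨x, hx⟩
  have e1 : (algebraMap P P' s * algebraMap P P' r) • g ⟨x, hx⟩ = algebraMap P P' s • g ⟨algebraMap P P' p, hp⟩ := by
    rw [mul_smul, ← map_smul g (algebraMap P P' r)]
    congr 2
    apply Subtype.ext
    change algebraMap P P' r * x = algebraMap P P' p
    rw [mul_comm]
    exact hpr
  rw [e1, key, smul_smul, smul_smul, ← hpr]
  congr 1
  calc _ = (t * algebraMap P P' s) * (x * algebraMap P P' r) := by ring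
    _ = _ := by rw [ht, one_mul]

end Groth.Agent.CurvesB.InjLoc
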