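import Groth.Agent.CurvesB.LocCoext
import Groth.Agent.CurvesB.InjLoc
import Mathlib.CategoryTheory.Abelian.Injective.Ext
import Mathlib.Algebra.Category.ModuleCat.Injective

/-!
# `RHom_P(A, K)` commutes with localization

For `P` Noetherian, `P → A` finite, `K ∈ D⁺(P)`, `P' = S⁻¹P`, `A' = S⁻¹A`:
`RHom_P(A, K) ⊗_A A' ≅ RHom_{P'}(A', K ⊗_P P')`.
-/

set_option autoImplicit false

universe u

open CategoryTheory CategoryTheory.Limits

attribute [local instance] HasDerivedCategory.standard

namespace Groth.Agent.CurvesB.LocShriek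

open DerivedCategory Groth.Agent.LoccohB Groth.Agent.CurvesB.LocCoext

section Flat

variable {A B : Type u} [CommRing A] [CommRing B] (φ : A →+* B) [DRing.HasLBaseChange φ]

/-- Value of the derived base change along a flat map on ANY complex. -/
noncomputable def lbcFlatQIso (h : φ.Flat) (K : CochainComplex (ModuleCat.{u} A) ℤ) :
    (DRing.LBaseChange φ).obj (Q.obj K) ≅ Q.obj ((DivisorCx.extCx φ).obj K) :=
  haveI := ModuleCat.preservesFiniteLimits_extendScalars_of_flat h
  (FlatLBC.LBaseChangeIso φ h).app (Q.obj K) ≪≫
    (ModuleCat.extendScalars.{u, u, u} φ).mapDerivedCategoryFactors.app K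

end Flat

/-- An injective resolution of a module, as an object of the derived category. -/
theorem exists_res {P : Type u} [CommRing P] (M : ModuleCat.{u} P) :
    ∃ J : CochainComplex (ModuleCat.{u} P) ℤ, J.IsStrictlyGE 0 ∧ (∀ n, Injective (J.X n)) ∧
      Nonempty (Q.obj J ≅ (singleFunctor (ModuleCat.{u} P) 0).obj M) := by
  let R := InjectiveResolution.of M
  have h1 : IsIso (Q.map R.ι') := inferInstance
  refine ⟨R.cochainComplex, inferInstance, inferInstance,
    ⟨(asIso (Q.map R.ι')).symm ≪≫ ((DerivedCategory.singleFunctorIsoCompQ _ 0).app M).symm⟩⟩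

theorem injective_of_equiv {P' : Type u} [CommRing P'] {Q : Type u} [AddCommGroup Q] [Module P' Q]
    (X : ModuleCat.{u} P') (e : Q ≃ₗ[P'] X) (h : Module.Baer P' Q) : Injective X := by
  have := (Module.Baer.of_equiv e h).injective
  exact Module.injective_object_of_injective_module P' _

variable (P A P' A' : Type u) [CommRing P] [CommRing A] [CommRing P'] [CommRing A']
  [Algebra P A] [Algebra P P'] [Algebra A A'] [Algebra P' A'] [Algebra P A'] [IsScalarTower P A A']
  [IsScalarTower P P' A'] (S : Submonoid P) [IsLocalization S P']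
  [IsLocalization (Algebra.algebraMapSubmonoid A S) A']

include S in
/-- Termwise localization preserves injective terms over a Noetherian ring. -/
theorem injective_ext [IsNoetherianRing P] (J : ModuleCat.{u} P) [hJ : Injective J] :
    Injective ((ModuleCat.extendScalars.{u, u, u} (algebraMap P P')).obj J) := by
  have h1 : Module.Injective P J := Module.injective_module_of_injective_object P J
  have h2 : Module.Baer P' (TensorProduct P P' J) :=
    InjLoc.baer_of_isLocalizedModule S P' (TensorProduct.mk P P' J 1) (Module.Baer.of_injective h1)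
  exact injective_of_equiv _ (FlatLBC.extEquiv P P' J) h2

include S in
theorem loc_iso_cx [IsNoetherianRing P] [Module.FinitePresentation P A]
    [DRing.HasLBaseChange (algebraMap A A')] [DRing.HasLBaseChange (algebraMap P P')]
    {R : Dual.D P ⥤ Dual.D A} (adj : DRing.restrictD (algebraMap P A) ⊣ R)
    {R' : Dual.D P' ⥤ Dual.D A'} (adj' : DRing.restrictD (algebraMap P' A') ⊣ R')
    (J : CochainComplex (ModuleCat.{u} P) ℤ) (a : ℤ) [J.IsStrictlyGE a] [hJ : ∀ n, Injective (J.X n)] :
    Nonempty ((DRing.LBaseChange (algebraMap A A')).obj (R.obj (Q.obj J)) ≅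
      R'.obj ((DRing.LBaseChange (algebraMap P P')).obj (Q.obj J))) := by
  have h1 : J.IsKInjective := CochainComplex.isKInjective_of_injective J a
  let J' := (DivisorCx.extCx (algebraMap P P')).obj J
  have h2 : J'.IsStrictlyGE a := by
    rw [CochainComplex.isStrictlyGE_iff]
    intro i hi
    exact (ModuleCat.extendScalars.{u, u, u} (algebraMap P P')).map_isZero (J.isZero_of_isStrictlyGE a i hi)
  have h3 : ∀ n, Injective (J'.X n) := fun n => injective_ext P P' S (J.X n)
  have h4 : J'.IsKInjective := CochainComplex.isKInjective_of_injective J' a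
  have f1 : (algebraMap P P').Flat := by
    rw [RingHom.flat_algebraMap_iff]
    exact IsLocalization.flat P' S
  have f2 : (algebraMap A A').Flat := by
    rw [RingHom.flat_algebraMap_iff]
    exact IsLocalization.flat A' (Algebra.algebraMapSubmonoid A S)
  exact ⟨(DRing.LBaseChange (algebraMap A A')).mapIso (RAdj.objIso adj J) ≪≫
    lbcFlatQIso (algebraMap A A') f2 _ ≪≫
    Q.mapIso ((locCoextCxIso P A P' A' S).app J) ≪≫
    (RAdj.objIso adj' J').symm ≪≫ R'.mapIso (lbcFlatQIso (algebraMap P P') f1 J).symm⟩

end Groth.Agent.CurvesB.LocShriek
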