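import Groth.Prelude.Def_DualSh
import Groth.Agent.CurvesB.LocShriek
import Groth.Agent.LoccohB.GoodEval
import Groth.Agent.LoccohB.GorLci
import Groth.Agent.LoccohB.LBC2
import Groth.Agent.Flat2H.RegSpread
import Mathlib.Algebra.MvPolynomial.Equiv

/-!
# The dualizing complex of a local complete intersection
-/

set_option autoImplicit false

universe u

open CategoryTheory CategoryTheory.Limits

attribute [local instance] HasDerivedCategory.standard

namespace Groth.Agent.CurvesB.LciShriek

open DerivedCategory Groth.Agent.LoccohB Groth.Agent.LoccohB.Divisor Groth.Agent.LoccohB.GoodEval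

section Comp

variable {T P A : Type u} [CommRing T] [CommRing P] [CommRing A]

/-- Composition with an `m`-good map, value at the unit. -/
theorem good_comp_self {α : T →+* P} {m : ℤ} (hα : IsGood α m) (γ : P →+* A)
    {Rγ : Dual.D P ⥤ Dual.D A} (adj : DRing.restrictD γ ⊣ Rγ)
    {RT : Dual.D T ⥤ Dual.D A} (adjT : DRing.restrictD (γ.comp α) ⊣ RT) :
    Nonempty ((RT.obj (Dual.inD T T))⟦m⟧ ≅ Rγ.obj (Dual.inD P P)) := by
  have := LBC.hasLBaseChange α
  obtain ⟨e⟩ := hα inferInstance _ (RAdj.coextAdj α) (Dual.inD T T)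
  exact ⟨(shiftFunctor _ m).mapIso ((RAdj.compIso (RAdj.coextAdj α) adj adjT).app _) ≪≫
    (RAdj.shiftIso adj _ m).symm ≪≫ Rγ.mapIso (e ≪≫ LBC.lbcSelfIso α 0)⟩

end Comp

section Indep

open MvPolynomial in
/-- Independence of the presentation of `RHom_{R[x]}(A, R[x])[n]`. -/
theorem indep {R A : Type u} [CommRing R] [CommRing A] [Algebra R A] {n m : ℕ}
    (ψ : MvPolynomial (Fin n) R →ₐ[R] A) (hψ : Function.Surjective ψ)
    (f : MvPolynomial (Fin m) R →ₐ[R] A) (hf : Function.Surjective f)
    {Rψ : Dual.D (MvPolynomial (Fin n) R) ⥤ Dual.D A} (adj : DRing.restrictD ψ.toRingHom ⊣ Rψ)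
    {Rf : Dual.D (MvPolynomial (Fin m) R) ⥤ Dual.D A} (adjf : DRing.restrictD f.toRingHom ⊣ Rf) :
    Nonempty ((Rψ.obj (Dual.inD (MvPolynomial (Fin n) R) (MvPolynomial (Fin n) R)))⟦(n : ℤ)⟧ ≅
      (Rf.obj (Dual.inD (MvPolynomial (Fin m) R) (MvPolynomial (Fin m) R)))⟦(m : ℤ)⟧) := by
  choose c hc using fun j => hψ (f (X j))
  choose c' hc' using fun i => hf (ψ (X i))
  let α : MvPolynomial (Fin m) (MvPolynomial (Fin n) R) →+* MvPolynomial (Fin n) R := eval c
  let β : MvPolynomial (Fin m) (MvPolynomial (Fin n) R) →+* MvPolynomial (Fin m) R :=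
    (eval c').comp ((commAlgEquiv R (Fin m) (Fin n)).toRingEquiv : _ →+* _)
  have hα : IsGood α m := isGood_mvPolynomial_eval m c
  have hβ : IsGood β n := isGood_congr ((isGood_equiv (commAlgEquiv R (Fin m) (Fin n)).toRingEquiv).comp
    (isGood_mvPolynomial_eval n c')) rfl (by simp)
  have comm : ψ.toRingHom.comp α = f.toRingHom.comp β := by
    apply MvPolynomial.ringHom_ext
    · intro p
      induction p using MvPolynomial.induction_on with
      | C r => simp [α, β]
      | add p q hp hq => simp only [map_add] at hp hq ⊢; rw [hp, hq]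
      | mul_X p i hp =>
        simp only [map_mul] at hp ⊢
        rw [hp]
        congr 1
        simp [α, β, hc']
    · intro i
      simp [α, β, hc]
  obtain ⟨e1⟩ := good_comp_self hα ψ.toRingHom adj (RAdj.coextAdj _)
  obtain ⟨e2⟩ := good_comp_self hβ f.toRingHom adjf (RAdj.coextAdj _)
  rw [comm] at e1
  exact ⟨(shiftFunctor _ (n : ℤ)).mapIso e1.symm ≪≫ shiftComm _ _ _ ≪≫ (shiftFunctor _ (m : ℤ)).mapIso e2⟩

end Indep

section Local

variable (P A P' A' : Type u) [CommRing P] [CommRing A] [CommRing P'] [CommRing A']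
  [Algebra P A] [Algebra P P'] [Algebra A A'] [Algebra P' A'] [Algebra P A'] [IsScalarTower P A A']
  [IsScalarTower P P' A'] (S : Submonoid P) [IsLocalization S P']
  [IsLocalization (Algebra.algebraMapSubmonoid A S) A']

include S in
theorem algebraMap_eq_map :
    algebraMap P' A' = IsLocalization.map (T := Algebra.algebraMapSubmonoid A S) A' (algebraMap P A)
      (Submonoid.le_comap_map S) := by
  apply IsLocalization.ringHom_ext S
  ext x
  rw [RingHom.comp_apply, RingHom.comp_apply, IsLocalization.map_eq, ← IsScalarTower.algebraMap_apply,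
    ← IsScalarTower.algebraMap_apply]

include S in
theorem surjective_loc (h : Function.Surjective (algebraMap P A)) : Function.Surjective (algebraMap P' A') := by
  have : IsLocalization (S.map (algebraMap P A)) A' :=
    ‹IsLocalization (Algebra.algebraMapSubmonoid A S) A'›
  rw [algebraMap_eq_map P A P' A' S]
  exact IsLocalization.map_surjective_of_surjective _ _ _ h

include S in
theorem ker_loc : RingHom.ker (algebraMap P' A') = (RingHom.ker (algebraMap P A)).map (algebraMap P P') := by
  have : IsLocalization (S.map (algebraMap P A)) A' :=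
    ‹IsLocalization (Algebra.algebraMapSubmonoid A S) A'›
  rw [algebraMap_eq_map P A P' A' S]
  exact IsLocalization.ker_map A' _ rfl

include S in
/-- If the localized kernel is generated by a weakly regular sequence of length `c`, then
`RHom_P(A, P) ⊗ A' ≅ A'[-c]`. -/
theorem local_iso [IsNoetherianRing P] (hsurj : Function.Surjective (algebraMap P A))
    [DRing.HasLBaseChange (algebraMap A A')]
    {R : Dual.D P ⥤ Dual.D A} (adj : DRing.restrictD (algebraMap P A) ⊣ R)
    (l : List P') (hl : RingTheory.Sequence.IsWeaklyRegular P' l)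
    (hI : (RingHom.ker (algebraMap P A)).map (algebraMap P P') = Ideal.ofList l) :
    Nonempty ((DRing.LBaseChange (algebraMap A A')).obj (R.obj (Dual.inD P P)) ≅
      (Dual.inD A' A')⟦-(l.length : ℤ)⟧) := by
  have : Module.Finite P A := Module.Finite.of_surjective (Algebra.linearMap P A) hsurj
  have : Module.FinitePresentation P A := Module.finitePresentation_of_finite P A
  have := LBC.hasLBaseChange (algebraMap P P')
  have := LBC.hasLBaseChange (algebraMap P' A')
  obtain ⟨J, h1, h2, ⟨eJ⟩⟩ := LocShriek.exists_res (ModuleCat.of P P)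
  obtain ⟨e⟩ := LocShriek.loc_iso_cx P A P' A' S adj (RAdj.coextAdj (algebraMap P' A')) J 0
  have hg : IsGood (algebraMap P' A') l.length :=
    isGood_of_isWeaklyRegular l.length l rfl hl _ (surjective_loc P A P' A' S hsurj)
      ((ker_loc P A P' A' S).trans hI)
  obtain ⟨e2⟩ := hg inferInstance _ (RAdj.coextAdj (algebraMap P' A')) (Dual.inD P' P')
  let e3 : (RAdj.RCoext (algebraMap P' A')).obj (Dual.inD P' P') ≅ (Dual.inD A' A')⟦-(l.length : ℤ)⟧ :=
    (shiftShiftNeg _ (l.length : ℤ)).symm ≪≫ (shiftFunctor _ (-(l.length : ℤ))).mapIso (e2 ≪≫ LBC.lbcSelfIso _ 0)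
  exact ⟨(DRing.LBaseChange (algebraMap A A')).mapIso (R.mapIso eJ.symm) ≪≫ e ≪≫
    (RAdj.RCoext (algebraMap P' A')).mapIso
      ((DRing.LBaseChange (algebraMap P P')).mapIso eJ ≪≫ LBC.lbcSelfIso _ 0) ≪≫ e3⟩

end Local

end Groth.Agent.CurvesB.LciShriek
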