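import Groth.Agent.LoccohB.FlatLBC
import Groth.Agent.LoccohB.RAdj
import Mathlib.Algebra.Module.FinitePresentation
import Mathlib.RingTheory.Localization.BaseChange

/-!
# Localization and coextension of scalars

For `P → A` with `A` finitely presented as a `P`-module, `P' = S⁻¹P`, `A' = S⁻¹A`:
`A' ⊗_A Hom_P(A, M) ≅ Hom_{P'}(A', P' ⊗_P M)` naturally in `M`.
-/

set_option autoImplicit false

universe u

open CategoryTheory CategoryTheory.Limits
open scoped TensorProduct

namespace Groth.Agent.CurvesB.LocCoext

section One

variable (P A : Type u) [CommRing P] [CommRing A] [Algebra P A]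

/-- `Hom_P(A, M)` (Mathlib's coextension of scalars) as `P`-linear maps. -/
noncomputable def toLin (M : ModuleCat.{u} P) :
    (ModuleCat.coextendScalars.{u, u, u} (algebraMap P A)).obj M ≃+ (A →ₗ[P] M) where
  toFun h :=
    { toFun := fun a => h a
      map_add' := fun a b => map_add (ModuleCat.CoextendScalars.equiv (algebraMap P A) M h) a b
      map_smul' := fun p a => by
        rw [Algebra.smul_def]
        exact LinearMap.map_smul (ModuleCat.CoextendScalars.equiv (algebraMap P A) M h) p
          (show ((ModuleCat.restrictScalars (algebraMap P A)).obj (ModuleCat.of A A)) from a) }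
  invFun h := (ModuleCat.CoextendScalars.equiv (algebraMap P A) M).symm
    { toFun := fun a => h a
      map_add' := fun a b => map_add h a b
      map_smul' := fun p (a : A) => by
        change h ((algebraMap P A p) * a) = p • h a
        rw [← Algebra.smul_def, LinearMap.map_smul] }
  left_inv _ := rfl
  right_inv _ := rfl
  map_add' _ _ := rfl

@[simp] lemma toLin_apply (M : ModuleCat.{u} P)
    (h : (ModuleCat.coextendScalars.{u, u, u} (algebraMap P A)).obj M) (a : A) : toLin P A M h a = h a := rfl

@[simp] lemma toLin_symm_apply (M : ModuleCat.{u} P) (h : A →ₗ[P] M) (a : A) :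
    (toLin P A M).symm h a = h a := rfl

lemma toLin_smul_apply (M : ModuleCat.{u} P)
    (h : (ModuleCat.coextendScalars.{u, u, u} (algebraMap P A)).obj M) (a b : A) :
    toLin P A M (a • h) b = toLin P A M h (b * a) := rfl

lemma toLin_map {M N : ModuleCat.{u} P} (φ : M ⟶ N)
    (h : (ModuleCat.coextendScalars.{u, u, u} (algebraMap P A)).obj M) :
    toLin P A N ((ModuleCat.coextendScalars.{u, u, u} (algebraMap P A)).map φ h) = φ.hom ∘ₗ toLin P A M h := rfl

lemma toLin_algebraMap_smul (M : ModuleCat.{u} P)
    (h : (ModuleCat.coextendScalars.{u, u, u} (algebraMap P A)).obj M) (p : P) :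
    toLin P A M (algebraMap P A p • h) = p • toLin P A M h := by
  ext a
  rw [toLin_smul_apply, mul_comm, ← Algebra.smul_def, map_smul]
  rfl

end One

section Loc

variable (P A P' A' : Type u) [CommRing P] [CommRing A] [CommRing P'] [CommRing A']
  [Algebra P A] [Algebra P P'] [Algebra A A'] [Algebra P' A'] [Algebra P A'] [IsScalarTower P A A']
  [IsScalarTower P P' A'] (S : Submonoid P) [IsLocalization S P']
  [IsLocalization (Algebra.algebraMapSubmonoid A S) A']

/-- The localization map `Hom_P(A, M) → Hom_{P'}(A', P' ⊗ M)`. -/
noncomputable def locHom (M : Type u) [AddCommGroup M] [Module P M] :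
    (A →ₗ[P] M) →ₗ[P] (A' →ₗ[P'] P' ⊗[P] M) :=
  IsLocalizedModule.mapExtendScalars S (IsScalarTower.toAlgHom P A A').toLinearMap
    (TensorProduct.mk P P' M 1) P'

lemma locHom_apply (M : Type u) [AddCommGroup M] [Module P M] (h : A →ₗ[P] M) (a : A) :
    locHom P A P' A' S M h (algebraMap A A' a) = (1 : P') ⊗ₜ h a := by
  have := IsLocalizedModule.map_apply S (IsScalarTower.toAlgHom P A A').toLinearMap
    (TensorProduct.mk P P' M 1) h a
  exact this

include S in
lemma hom_ext' {N : Type u} [AddCommGroup N] [Module P' N] (f g : A' →ₗ[P'] N)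
    (h : ∀ a : A, f (algebraMap A A' a) = g (algebraMap A A' a)) : f = g := by
  let _ : Module P N := Module.compHom N (algebraMap P P')
  have : IsScalarTower P P' N := ⟨fun p q n => by
    rw [Algebra.smul_def, mul_smul]; rfl⟩
  have h1 : f.restrictScalars P = g.restrictScalars P := by
    refine IsLocalizedModule.ext S (IsScalarTower.toAlgHom P A A').toLinearMap ?_ ?_
    · intro s
      have := (IsLocalization.map_units P' s).map (algebraMap P' (Module.End P' N))
      rw [Module.End.isUnit_iff] at this ⊢
      exact this
    · ext a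
      exact h a
  ext a
  exact LinearMap.congr_fun h1 a

instance locHom_isLocalizedModule [Module.FinitePresentation P A] (M : Type u) [AddCommGroup M] [Module P M] :
    IsLocalizedModule S (locHom P A P' A' S M) := by
  unfold locHom
  infer_instance

/-- The localization map on the coextension of scalars. -/
noncomputable def beta (M : ModuleCat.{u} P) :
    (ModuleCat.coextendScalars.{u, u, u} (algebraMap P A)).obj M →+
      (ModuleCat.coextendScalars.{u, u, u} (algebraMap P' A')).obj
        ((ModuleCat.extendScalars.{u, u, u} (algebraMap P P')).obj M) where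
  toFun h := (toLin P' A' _).symm
    ((LoccohB.FlatLBC.extEquiv P P' M).toLinearMap ∘ₗ locHom P A P' A' S M (toLin P A M h))
  map_zero' := by
    rw [map_zero, map_zero, LinearMap.comp_zero, map_zero]
  map_add' h h' := by
    rw [map_add, map_add, LinearMap.comp_add, map_add]

lemma beta_apply (M : ModuleCat.{u} P)
    (h : (ModuleCat.coextendScalars.{u, u, u} (algebraMap P A)).obj M) (a : A) :
    toLin P' A' _ (beta P A P' A' S M h) (algebraMap A A' a) =
      LoccohB.FlatLBC.extEquiv P P' M ((1 : P') ⊗ₜ h a) := by
  change LoccohB.FlatLBC.extEquiv P P' M (locHom P A P' A' S M (toLin P A M h) (algebraMap A A' a)) = _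
  rw [locHom_apply]
  rfl

lemma beta_smul (M : ModuleCat.{u} P)
    (h : (ModuleCat.coextendScalars.{u, u, u} (algebraMap P A)).obj M) (a : A) :
    beta P A P' A' S M (a • h) = algebraMap A A' a • beta P A P' A' S M h := by
  apply (toLin P' A' _).injective
  apply hom_ext' P A P' A' S
  intro b
  rw [beta_apply, toLin_smul_apply, ← map_mul, beta_apply]
  rfl

lemma beta_map {M N : ModuleCat.{u} P} (φ : M ⟶ N)
    (h : (ModuleCat.coextendScalars.{u, u, u} (algebraMap P A)).obj M) :
    beta P A P' A' S N ((ModuleCat.coextendScalars.{u, u, u} (algebraMap P A)).map φ h) =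
      (ModuleCat.coextendScalars.{u, u, u} (algebraMap P' A')).map
        ((ModuleCat.extendScalars.{u, u, u} (algebraMap P P')).map φ) (beta P A P' A' S M h) := by
  apply (toLin P' A' _).injective
  apply hom_ext' P A P' A' S
  intro b
  rw [beta_apply, toLin_map]
  change _ = ((ModuleCat.extendScalars.{u, u, u} (algebraMap P P')).map φ) _
  rw [beta_apply]
  rfl

/-- The localization map on the coextension of scalars, `A`-linear. -/
noncomputable def betaHom (M : ModuleCat.{u} P) :
    (ModuleCat.coextendScalars.{u, u, u} (algebraMap P A)).obj M ⟶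
      (ModuleCat.restrictScalars.{u, u, u} (algebraMap A A')).obj
        ((ModuleCat.coextendScalars.{u, u, u} (algebraMap P' A')).obj
          ((ModuleCat.extendScalars.{u, u, u} (algebraMap P P')).obj M)) :=
  ModuleCat.ofHom (Y := (ModuleCat.restrictScalars.{u, u, u} (algebraMap A A')).obj
        ((ModuleCat.coextendScalars.{u, u, u} (algebraMap P' A')).obj
          ((ModuleCat.extendScalars.{u, u, u} (algebraMap P P')).obj M)))
    { toFun := beta P A P' A' S M
      map_add' := map_add _
      map_smul' := fun a h => beta_smul P A P' A' S M h a }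

/-- `A' ⊗_A Hom_P(A, M) → Hom_{P'}(A', P' ⊗ M)`. -/
noncomputable def alpha (M : ModuleCat.{u} P) :
    (ModuleCat.extendScalars.{u, u, u} (algebraMap A A')).obj
      ((ModuleCat.coextendScalars.{u, u, u} (algebraMap P A)).obj M) ⟶
      (ModuleCat.coextendScalars.{u, u, u} (algebraMap P' A')).obj
        ((ModuleCat.extendScalars.{u, u, u} (algebraMap P P')).obj M) :=
  ((ModuleCat.extendRestrictScalarsAdj.{u, u, u} (algebraMap A A')).homEquiv _ _).symm (betaHom P A P' A' S M)

lemma alpha_naturality {M N : ModuleCat.{u} P} (φ : M ⟶ N) :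
    (ModuleCat.extendScalars.{u, u, u} (algebraMap A A')).map
      ((ModuleCat.coextendScalars.{u, u, u} (algebraMap P A)).map φ) ≫ alpha P A P' A' S N =
    alpha P A P' A' S M ≫ (ModuleCat.coextendScalars.{u, u, u} (algebraMap P' A')).map
        ((ModuleCat.extendScalars.{u, u, u} (algebraMap P P')).map φ) := by
  unfold alpha
  rw [← Adjunction.homEquiv_naturality_left_symm, ← Adjunction.homEquiv_naturality_right_symm]
  congr 1
  ext h
  exact beta_map P A P' A' S φ h

lemma alpha_apply (M : ModuleCat.{u} P) (a : A')
    (h : (ModuleCat.coextendScalars.{u, u, u} (algebraMap P A)).obj M) :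
    alpha P A P' A' S M (LoccohB.FlatLBC.extEquiv A A' _ (a ⊗ₜ h)) = a • beta P A P' A' S M h := rfl

lemma toLin_comp_eq (M : ModuleCat.{u} P)
    (h : (ModuleCat.coextendScalars.{u, u, u} (algebraMap P A)).obj M) :
    toLin P' A' _ (beta P A P' A' S M h) =
      (LoccohB.FlatLBC.extEquiv P P' M).toLinearMap ∘ₗ locHom P A P' A' S M (toLin P A M h) := rfl

lemma alpha_bijective [Module.FinitePresentation P A] (M : ModuleCat.{u} P) :
    Function.Bijective (alpha P A P' A' S M) := by
  set N' := (ModuleCat.coextendScalars.{u, u, u} (algebraMap P' A')).obj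
        ((ModuleCat.extendScalars.{u, u, u} (algebraMap P P')).obj M) with hN'
  let _ : Module A N' := Module.compHom N' (algebraMap A A')
  have hst : IsScalarTower A A' N' := ⟨fun p q n => by
    rw [Algebra.smul_def, mul_smul]; rfl⟩
  let b : (ModuleCat.coextendScalars.{u, u, u} (algebraMap P A)).obj M →ₗ[A] N' :=
    { toFun := beta P A P' A' S M
      map_add' := map_add _
      map_smul' := fun a h => beta_smul P A P' A' S M h a }
  have hb : IsLocalizedModule (Algebra.algebraMapSubmonoid A S) b := by
    constructor
    · rintro ⟨s, hs⟩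
      have := (IsLocalization.map_units A' (⟨s, hs⟩ : Algebra.algebraMapSubmonoid A S)).map
        (algebraMap A' (Module.End A' N'))
      rw [Module.End.isUnit_iff] at this ⊢
      exact this
    · intro y
      obtain ⟨⟨h, s⟩, hs⟩ := IsLocalizedModule.surj S (locHom P A P' A' S M)
        ((LoccohB.FlatLBC.extEquiv P P' M).symm.toLinearMap ∘ₗ toLin P' A' _ y)
      refine ⟨⟨(toLin P A M).symm h, ⟨algebraMap P A s, Algebra.mem_algebraMapSubmonoid_of_mem s⟩⟩, ?_⟩
      apply (toLin P' A' _).injective
      change toLin P' A' _ (algebraMap A A' (algebraMap P A s) • y) = toLin P' A' _ (beta P A P' A' S M _)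
      rw [toLin_comp_eq, AddEquiv.apply_symm_apply]
      dsimp only at hs
      rw [← hs, ← IsScalarTower.algebraMap_apply, IsScalarTower.algebraMap_apply P P' A', toLin_algebraMap_smul]
      ext a
      simp only [LinearMap.smul_apply, LinearMap.comp_apply, LinearEquiv.coe_coe]
      rw [Submonoid.smul_def, ← algebraMap_smul P' (s : P), map_smul, LinearEquiv.apply_symm_apply]
    · intro h₁ h₂ he
      have h1 : locHom P A P' A' S M (toLin P A M h₁) = locHom P A P' A' S M (toLin P A M h₂) := by
        have := congrArg (toLin P' A' _) he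
        change toLin P' A' _ (beta P A P' A' S M _) = toLin P' A' _ (beta P A P' A' S M _) at this
        rw [toLin_comp_eq, toLin_comp_eq] at this
        ext a
        exact (LoccohB.FlatLBC.extEquiv P P' M).injective (LinearMap.congr_fun this a)
      obtain ⟨c, hc⟩ := IsLocalizedModule.exists_of_eq (S := S) h1
      refine ⟨⟨algebraMap P A c, Algebra.mem_algebraMapSubmonoid_of_mem c⟩, ?_⟩
      apply (toLin P A _).injective
      change toLin P A _ (algebraMap P A c • h₁) = toLin P A _ (algebraMap P A c • h₂)
      rw [toLin_algebraMap_smul, toLin_algebraMap_smul]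
      exact hc
  have hbc : IsBaseChange A' b := IsLocalizedModule.isBaseChange (Algebra.algebraMapSubmonoid A S) A' b
  have key : ∀ t, alpha P A P' A' S M (LoccohB.FlatLBC.extEquiv A A' _ t) = hbc.equiv t := by
    intro t
    induction t using TensorProduct.induction_on with
    | zero => rw [map_zero, map_zero, map_zero]
    | tmul a h =>
      rw [alpha_apply, IsBaseChange.equiv_tmul]
      rfl
    | add x y hx hy => rw [map_add, map_add, hx, hy, map_add]
  have h2 : Function.Bijective (fun t => alpha P A P' A' S M (LoccohB.FlatLBC.extEquiv A A' _ t)) := by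
    have : (fun t => alpha P A P' A' S M (LoccohB.FlatLBC.extEquiv A A' _ t)) = hbc.equiv := funext key
    rw [this]
    exact hbc.equiv.bijective
  exact (Function.Bijective.of_comp_iff _ (LoccohB.FlatLBC.extEquiv A A' _).bijective).1 h2

/-- Localization commutes with coextension of scalars along a finitely presented `P → A`. -/
noncomputable def locCoextIso [Module.FinitePresentation P A] :
    ModuleCat.coextendScalars.{u, u, u} (algebraMap P A) ⋙ ModuleCat.extendScalars.{u, u, u} (algebraMap A A') ≅
      ModuleCat.extendScalars.{u, u, u} (algebraMap P P') ⋙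
        ModuleCat.coextendScalars.{u, u, u} (algebraMap P' A') :=
  NatIso.ofComponents (fun M =>
    haveI : IsIso (alpha P A P' A' S M) := (ConcreteCategory.isIso_iff_bijective _).2 (alpha_bijective P A P' A' S M)
    asIso (alpha P A P' A' S M)) (fun φ => alpha_naturality P A P' A' S φ)

/-- Localization commutes with coextension of scalars along a finitely presented `P → A`, for complexes. -/
noncomputable def locCoextCxIso [Module.FinitePresentation P A] :
    LoccohB.DivisorCx.coextCx (algebraMap P A) ⋙ LoccohB.DivisorCx.extCx (algebraMap A A') ≅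
      LoccohB.DivisorCx.extCx (algebraMap P P') ⋙ LoccohB.DivisorCx.coextCx (algebraMap P' A') :=
  (Functor.mapHomologicalComplexCompIso (locCoextIso P A P' A' S) (ComplexShape.up ℤ)) 

end Loc

end Groth.Agent.CurvesB.LocCoext
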