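import Mathlib.RingTheory.Kaehler.TensorProduct
import Mathlib.RingTheory.Etale.Kaehler
import Mathlib.RingTheory.Localization.Ideal
import Mathlib.RingTheory.IsTensorProduct
import Mathlib.RingTheory.Unramified.Field
import Mathlib.RingTheory.Unramified.LocalRing
import Mathlib.RingTheory.Etale.Field
import Mathlib.RingTheory.LocalRing.ResidueField.Basic
import Mathlib.RingTheory.Flat.FaithfullyFlat.Algebra

/-!
# Localizations of `A ⊗_k K`

For a pushout `C` of `k → A`, `k → K` and a localization `B` of `C`.
-/

set_option autoImplicit false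

namespace Groth.Agent.CurvesB.LocPushout

open TensorProduct

section Kaehler

variable (k K A C B : Type*) [CommRing k] [CommRing K] [CommRing A] [CommRing C] [CommRing B]
  [Algebra k K] [Algebra k A] [Algebra k C] [Algebra K C] [Algebra A C]
  [IsScalarTower k K C] [IsScalarTower k A C]
  [Algebra k B] [Algebra K B] [Algebra A B] [Algebra C B]
  [IsScalarTower k K B] [IsScalarTower k A B] [IsScalarTower A C B] [IsScalarTower K C B]

theorem isBaseChange_kaehler_pushout [Algebra.IsPushout k K A C] :
    IsBaseChange C (KaehlerDifferential.map k K A C) := by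
  refine IsBaseChange.of_equiv (KaehlerDifferential.tensorKaehlerEquiv k K A C) ?_
  intro x
  have : (((KaehlerDifferential.tensorKaehlerEquiv k K A C).toLinearMap.restrictScalars A).comp
      (TensorProduct.mk A C (Ω[A⁄k]) 1)) = KaehlerDifferential.map k K A C := by
    apply Derivation.liftKaehlerDifferential_unique
    ext a
    simp
  exact LinearMap.congr_fun this x

/-- `Ω_{B/K}` is the base change of `Ω_{A/k}` when `B` is a localization of a pushout. -/
theorem isBaseChange_kaehler [Algebra.IsPushout k K A C] (M : Submonoid C) [IsLocalization M B] :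
    IsBaseChange B (KaehlerDifferential.map k K A B) := by
  have := Algebra.FormallyEtale.of_isLocalization (Rₘ := B) M
  have h1 := (isBaseChange_kaehler_pushout k K A C).comp
    (KaehlerDifferential.isBaseChange_of_formallyEtale K C B)
  have h2 : ((KaehlerDifferential.map K K C B).restrictScalars A).comp
      (KaehlerDifferential.map k K A C) = KaehlerDifferential.map k K A B := by
    apply Derivation.liftKaehlerDifferential_unique
    ext a
    simp [← IsScalarTower.algebraMap_apply A C B]
  rwa [h2] at h1

end Kaehler

section Residue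

open IsLocalRing

variable {k K A B κ : Type*} [Field k] [Field K] [Algebra k K] [CommRing A] [IsLocalRing A] [Algebra k A]
  [CommRing B] [IsLocalRing B] [Algebra k B] [Algebra K B] [Algebra A B] [IsScalarTower k A B]
  [IsScalarTower k K B] [IsLocalHom (algebraMap A B)] [Field κ] [Algebra A κ] [Algebra k κ]
  [IsScalarTower k A κ]

omit [Algebra k κ] [IsScalarTower k A κ] [Field k] [Algebra k A] in
theorem ker_algebraMap_eq (hκ : Function.Surjective (algebraMap A κ)) :
    RingHom.ker (algebraMap A κ) = maximalIdeal A :=
  eq_maximalIdeal (RingHom.ker_isMaximal_of_surjective _ hκ)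

/-- The map from the residue field of `A` to a quotient of `B` in which `m_A` becomes zero. -/
theorem exists_residue_map {Q : Type*} [CommRing Q] (hκ : Function.Surjective (algebraMap A κ))
    (f : A →+* Q) (hf : ∀ a ∈ maximalIdeal A, f a = 0) :
    ∃ j : κ →+* Q, ∀ a, j (algebraMap A κ a) = f a := by
  have hf' : ∀ a ∈ RingHom.ker (algebraMap A κ), f a = 0 := by
    intro a ha
    rw [ker_algebraMap_eq hκ] at ha
    exact hf a ha
  refine ⟨(Ideal.Quotient.lift (RingHom.ker (algebraMap A κ)) f hf').comp
      (RingHom.quotientKerEquivOfSurjective hκ).symm.toRingHom, ?_⟩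
  intro a
  have : (RingHom.quotientKerEquivOfSurjective hκ).symm (algebraMap A κ a) =
      Ideal.Quotient.mk _ a := by
    rw [RingEquiv.symm_apply_eq]; rfl
  change Ideal.Quotient.lift _ f hf' ((RingHom.quotientKerEquivOfSurjective hκ).symm (algebraMap A κ a)) = _
  rw [this, Ideal.Quotient.lift_mk]

omit [IsLocalHom (algebraMap A B)] in
/-- If `Ω_{B/K}` is the base change of `Ω_{A/k}`, `m_A B = m_B` and `K` is the residue field of `B`, then the residue
field of `A` is formally unramified over `k`. -/
theorem formallyUnramified_of_map_eq (hκ : Function.Surjective (algebraMap A κ))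
    (h : IsBaseChange B (KaehlerDifferential.map k K A B))
    (hres : Function.Surjective ((residue B).comp (algebraMap K B)))
    (hm : (maximalIdeal A).map (algebraMap A B) = maximalIdeal B) :
    Algebra.FormallyUnramified k κ := by
  obtain ⟨j, hj⟩ := exists_residue_map hκ ((residue B).comp (algebraMap A B)) (by
    intro a ha
    rw [RingHom.comp_apply, residue_eq_zero_iff, ← hm]
    exact Ideal.mem_map_of_mem _ ha)
  have _ : IsScalarTower k A (ResidueField B) := inferInstance
  have key : ∀ D : Derivation k κ κ, D = 0 := by
    intro D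
    -- the derivation `A → κ → κ → L`
    let D1 : Derivation k A (ResidueField B) := Derivation.mk'
      { toFun := fun a => j (D (algebraMap A κ a))
        map_add' := fun x y => by rw [map_add, map_add, map_add]
        map_smul' := fun r x => by
          have e1 : algebraMap A κ (r • x) = r • algebraMap A κ x := by
            rw [Algebra.smul_def, Algebra.smul_def, map_mul, ← IsScalarTower.algebraMap_apply]
          have e2 : algebraMap k κ r = algebraMap A κ (algebraMap k A r) :=
            IsScalarTower.algebraMap_apply k A κ r
          rw [e1, D.map_smul, Algebra.smul_def, map_mul, e2, hj, RingHom.id_apply, Algebra.smul_def]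
          congr 1
          change residue B _ = algebraMap B (ResidueField B) (algebraMap k B r)
          rw [IsScalarTower.algebraMap_apply k A B]
          rfl }
      (fun x y => by
        change j (D (algebraMap A κ (x * y))) = x • j (D (algebraMap A κ y)) + y • j (D (algebraMap A κ x))
        rw [map_mul, D.leibniz, map_add, smul_eq_mul, smul_eq_mul, map_mul, map_mul, hj, hj,
          Algebra.smul_def, Algebra.smul_def]
        rfl)
    have hD1 : ∀ a, D1 a = j (D (algebraMap A κ a)) := fun a => rfl
    let g := D1.liftKaehlerDifferential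
    have hg : ∀ a, g (KaehlerDifferential.D k A a) = D1 a := fun a => D1.liftKaehlerDifferential_comp_D a
    let D2 : Derivation K B (ResidueField B) := (h.lift g).compDer (KaehlerDifferential.D K B)
    have hD2 : ∀ b, D2 b = h.lift g (KaehlerDifferential.D K B b) := fun b => rfl
    have hD2A : ∀ a, D2 (algebraMap A B a) = D1 a := by
      intro a
      rw [hD2, ← hg, ← h.lift_eq g, KaehlerDifferential.map_D]
    have hD2m : ∀ b ∈ maximalIdeal B, D2 b = 0 := by
      intro b hb
      rw [← hm] at hb
      have hzero : ∀ b' : B, b' ∈ maximalIdeal B → ∀ x : ResidueField B, b' • x = 0 := by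
        intro b' hb' x
        rw [Algebra.smul_def]
        have : algebraMap B (ResidueField B) b' = 0 := (residue_eq_zero_iff b').mpr hb'
        rw [this, zero_mul]
      refine Submodule.span_induction (p := fun b _ => D2 b = 0) ?_ ?_ ?_ ?_ hb
      · rintro _ ⟨a, ha, rfl⟩
        rw [hD2A, hD1]
        have : algebraMap A κ a = 0 := by
          rw [← RingHom.mem_ker, ker_algebraMap_eq hκ]; exact ha
        rw [this, map_zero, map_zero]
      · exact map_zero _
      · intro x y _ _ hx hy
        rw [map_add, hx, hy, add_zero]
      · intro c x hx' hx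
        have hxm : x ∈ maximalIdeal B := by
          rw [← hm]; exact hx'
        rw [smul_eq_mul, D2.leibniz, hx, smul_zero, zero_add]
        exact hzero x hxm _
    have hD2' : ∀ b, D2 b = 0 := by
      intro b
      obtain ⟨t, ht⟩ := hres (residue B b)
      have hb : b - algebraMap K B t ∈ maximalIdeal B := by
        rw [← residue_eq_zero_iff, map_sub, sub_eq_zero]; exact ht.symm
      have e : b = algebraMap K B t + (b - algebraMap K B t) := by ring
      rw [e, map_add, D2.map_algebraMap, hD2m _ hb, add_zero]
    ext x
    obtain ⟨a, rfl⟩ := hκ x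
    have := hD2' (algebraMap A B a)
    rw [hD2A, hD1] at this
    have h0 : j (D (algebraMap A κ a)) = j 0 := by rw [this, map_zero]
    simpa using j.injective h0
  refine ⟨⟨fun x y => ?_⟩⟩
  rw [← sub_eq_zero]
  rw [← Module.forall_dual_apply_eq_zero_iff κ]
  intro φ
  have h1 : φ.compDer (KaehlerDifferential.D k κ) = 0 := key _
  have h2 : φ = 0 := by
    apply Derivation.liftKaehlerDifferential_unique
    rw [h1]
    ext; simp
  rw [h2]; simp

/-- If `Ω_{B/K}` is the base change of `Ω_{A/k}`, `B` is essentially of finite type over `K` and the residue field of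
`A` is formally unramified over `k`, then `m_A B = m_B`. -/
theorem map_maximalIdeal_eq_of_formallyUnramified (hκ : Function.Surjective (algebraMap A κ))
    (h : IsBaseChange B (KaehlerDifferential.map k K A B)) [Algebra.EssFiniteType K B]
    [Algebra.FormallyUnramified k κ] :
    (maximalIdeal A).map (algebraMap A B) = maximalIdeal B ∧
      Module.Finite K (ResidueField B) ∧ Algebra.IsSeparable K (ResidueField B) := by
  set J := (maximalIdeal A).map (algebraMap A B) with hJ
  have hle : J ≤ maximalIdeal B :=
    Ideal.map_le_iff_le_comap.mpr (IsLocalRing.maximalIdeal_comap (algebraMap A B)).ge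
  have hJtop : J ≠ ⊤ := fun h => (maximalIdeal.isMaximal B).ne_top (top_le_iff.mp (h ▸ hle))
  have : Nontrivial (B ⧸ J) := Ideal.Quotient.nontrivial_iff.mpr hJtop
  have : IsLocalRing (B ⧸ J) := IsLocalRing.of_surjective' (Ideal.Quotient.mk J) Ideal.Quotient.mk_surjective
  obtain ⟨j, hj⟩ := exists_residue_map hκ ((Ideal.Quotient.mk J).comp (algebraMap A B)) (by
    intro a ha
    rw [RingHom.comp_apply, Ideal.Quotient.eq_zero_iff_mem]
    exact Ideal.mem_map_of_mem _ ha)
  have hunr : Algebra.FormallyUnramified K (B ⧸ J) := by
    -- the map `Ω_{B/K} → Ω_{Q/K}` is zero and surjective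
    let _ : Algebra κ (B ⧸ J) := j.toAlgebra
    have hk : ∀ t : k, algebraMap κ (B ⧸ J) (algebraMap k κ t) = algebraMap k (B ⧸ J) t := by
      intro t
      rw [IsScalarTower.algebraMap_apply k A κ]
      change j _ = _
      rw [hj, RingHom.comp_apply, ← IsScalarTower.algebraMap_apply k A B]
      rfl
    have _ : IsScalarTower k κ (B ⧸ J) := IsScalarTower.of_algebraMap_eq fun t => (hk t).symm
    have hDκ : ∀ x : κ, KaehlerDifferential.D K (B ⧸ J) (algebraMap κ (B ⧸ J) x) = 0 := by
      intro x
      let D0 : Derivation k κ (Ω[(B ⧸ J)⁄K]) := Derivation.mk'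
        { toFun := fun x => KaehlerDifferential.D K (B ⧸ J) (algebraMap κ (B ⧸ J) x)
          map_add' := fun x y => by rw [map_add, map_add]
          map_smul' := fun r x => by
            rw [RingHom.id_apply]
            have e : algebraMap κ (B ⧸ J) (r • x) = (algebraMap k K r) • algebraMap κ (B ⧸ J) x := by
              rw [Algebra.smul_def, map_mul, hk, Algebra.smul_def, ← IsScalarTower.algebraMap_apply]
            rw [e, Derivation.map_smul, algebraMap_smul] }
        (fun x y => by
          change KaehlerDifferential.D K (B ⧸ J) (algebraMap κ (B ⧸ J) (x * y)) = _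
          rw [map_mul, Derivation.leibniz, algebraMap_smul, algebraMap_smul]
          rfl)
      have hsub : Subsingleton (Ω[κ⁄k]) := Algebra.FormallyUnramified.subsingleton_kaehlerDifferential
      have h0 : D0 x = 0 := by
        rw [← D0.liftKaehlerDifferential_comp_D x, Subsingleton.elim (KaehlerDifferential.D k κ x) 0, map_zero]
      exact h0
    have hmapA : ∀ a : A, KaehlerDifferential.map K K B (B ⧸ J)
        (KaehlerDifferential.D K B (algebraMap A B a)) = 0 := by
      intro a
      rw [KaehlerDifferential.map_D]
      have : algebraMap B (B ⧸ J) (algebraMap A B a) = algebraMap κ (B ⧸ J) (algebraMap A κ a) := (hj a).symm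
      rw [this, hDκ]
    have hmap0 : KaehlerDifferential.map K K B (B ⧸ J) = 0 := by
      apply h.algHom_ext'
      rw [LinearMap.restrictScalars_zero, LinearMap.zero_comp]
      apply Derivation.liftKaehlerDifferential_unique
      ext a
      change KaehlerDifferential.map K K B (B ⧸ J) (KaehlerDifferential.map k K A B
        (KaehlerDifferential.D k A a)) = 0
      rw [KaehlerDifferential.map_D]
      exact hmapA a
    refine ⟨⟨fun x y => ?_⟩⟩
    have hsurj : Function.Surjective (KaehlerDifferential.map K K B (B ⧸ J)) :=
      KaehlerDifferential.map_surjective_of_surjective K K B (B ⧸ J) Ideal.Quotient.mk_surjective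
    obtain ⟨x, rfl⟩ := hsurj x
    obtain ⟨y, rfl⟩ := hsurj y
    rw [hmap0]; rfl
  have : Algebra.EssFiniteType K (B ⧸ J) := Algebra.EssFiniteType.comp K B (B ⧸ J)
  have hfin : Module.Finite K (B ⧸ J) := Algebra.FormallyUnramified.finite_of_free K (B ⧸ J)
  have hred : IsReduced (B ⧸ J) := Algebra.FormallyUnramified.isReduced_of_field K (B ⧸ J)
  have hart : IsArtinianRing (B ⧸ J) := isArtinian_of_tower K inferInstance
  have hmax : maximalIdeal (B ⧸ J) = ⊥ := by
    have hnil := IsArtinianRing.isNilpotent_jacobson_bot (R := B ⧸ J)
    rw [IsLocalRing.jacobson_eq_maximalIdeal ⊥ bot_ne_top] at hnil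
    obtain ⟨n, hn⟩ := hnil
    rw [eq_bot_iff]
    intro x hx
    have : x ^ n = 0 := by
      have := Ideal.pow_mem_pow hx n
      rw [hn] at this
      exact this
    exact IsReduced.eq_zero x ⟨n, this⟩
  have hJeq : J = maximalIdeal B := by
    apply le_antisymm hle
    intro b hb
    rw [← Ideal.Quotient.eq_zero_iff_mem, ← Ideal.mem_bot, ← hmax]
    intro hu
    have : IsLocalHom (Ideal.Quotient.mk J) := IsLocalHom.of_surjective _ Ideal.Quotient.mk_surjective
    exact hb (this.map_nonunit b hu)
  refine ⟨hJeq, ?_⟩
  have hres : Algebra.FormallyUnramified K (ResidueField B) ∧ Module.Finite K (ResidueField B) := by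
    rw [hJeq] at hunr hfin
    exact ⟨hunr, hfin⟩
  obtain ⟨h1, h2⟩ := hres
  exact ⟨h2, Algebra.FormallyUnramified.isSeparable K (ResidueField B)⟩

end Residue

end Groth.Agent.CurvesB.LocPushout
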