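import Groth.Prelude.Def_CurvBase
import Groth.Agent.CurvesB.EtaleCompl
import Mathlib.RingTheory.Unramified.LocalRing
import Mathlib.RingTheory.Etale.Basic
import Mathlib.FieldTheory.IsAlgClosed.Basic

set_option autoImplicit false

open IsLocalRing Curv2

universe u

namespace Groth.Agent.CurvesB.OrdDouble

variable {K : Type u} [Field K]

theorem isOrdDoublePt_iff_of_completion {A B : Type u} [CommRing A] [CommRing B] [Algebra K A]
    [Algebra K B] [IsLocalRing A] [IsLocalRing B] [Algebra A B] [IsScalarTower K A B]
    (e : AdicCompletion (maximalIdeal A) A ≃+* AdicCompletion (maximalIdeal B) B)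
    (he : ∀ a, e (algebraMap A _ a) = algebraMap B _ (algebraMap A B a)) :
    IsOrdDoublePt K A ↔ IsOrdDoublePt K B := by
  constructor
  · rintro ⟨f, hf⟩
    refine ⟨e.symm.trans f, fun c => ?_⟩
    rw [IsScalarTower.algebraMap_apply K A B c, ← he, RingEquiv.trans_apply,
      RingEquiv.symm_apply_apply, hf]
  · rintro ⟨f, hf⟩
    refine ⟨e.trans f, fun c => ?_⟩
    rw [RingEquiv.trans_apply, he, ← IsScalarTower.algebraMap_apply K A B c, hf]

/-- The constant coefficient on `K[[x,y]]/(xy)`. -/
noncomputable def constCoeffQuot (K : Type u) [Field K] :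
    (MvPowerSeries (Fin 2) K ⧸ Ideal.span
      {(MvPowerSeries.X 0 * MvPowerSeries.X 1 : MvPowerSeries (Fin 2) K)}) →+* K :=
  Ideal.Quotient.lift _ (MvPowerSeries.constantCoeff (σ := Fin 2) (R := K)) (by
    intro a ha
    have : Ideal.span {(MvPowerSeries.X 0 * MvPowerSeries.X 1 : MvPowerSeries (Fin 2) K)} ≤
        RingHom.ker (MvPowerSeries.constantCoeff (σ := Fin 2) (R := K)) := by
      rw [Ideal.span_singleton_le_iff_mem, RingHom.mem_ker]
      simp
    exact this ha)

/-- If `A` is an ordinary double point over `K` then `K → A/m` is surjective. -/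
theorem residue_surj_of_isOrdDoublePt {A : Type u} [CommRing A] [Algebra K A] [IsLocalRing A]
    (h : IsOrdDoublePt K A) (a : A) : ∃ c : K, a - algebraMap K A c ∈ maximalIdeal A := by
  obtain ⟨e, he⟩ := h
  obtain ⟨p, hp⟩ := Ideal.Quotient.mk_surjective (e (algebraMap A _ a))
  refine ⟨MvPowerSeries.constantCoeff p, ?_⟩
  rw [mem_maximalIdeal, mem_nonunits_iff]
  intro hu
  have h1 : IsUnit (constCoeffQuot K (e (algebraMap A _
      (a - algebraMap K A (MvPowerSeries.constantCoeff p))))) :=
    ((hu.map (algebraMap A _)).map e).map (constCoeffQuot K)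
  have h2 : ∀ q : MvPowerSeries (Fin 2) K,
      constCoeffQuot K (Ideal.Quotient.mk _ q) = MvPowerSeries.constantCoeff q := fun q => rfl
  rw [map_sub, map_sub, ← hp, he, map_sub, h2, h2, MvPowerSeries.constantCoeff_C, sub_self] at h1
  exact not_isUnit_zero h1

theorem isOrdDoublePt_iff_of_etale [IsAlgClosed K] {A B : Type u} [CommRing A] [CommRing B]
    [Algebra K A] [Algebra K B] [IsLocalRing A] [IsLocalRing B] [Algebra A B] [IsScalarTower K A B]
    [IsLocalHom (algebraMap A B)] [Module.Flat A B] [Algebra.FormallyUnramified A B]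
    [Algebra.EssFiniteType A B] :
    IsOrdDoublePt K A ↔ IsOrdDoublePt K B := by
  have hm := Algebra.FormallyUnramified.map_maximalIdeal (R := A) (S := B)
  have key : (∀ b : B, ∃ a : A, b - algebraMap A B a ∈ maximalIdeal B) →
      (IsOrdDoublePt K A ↔ IsOrdDoublePt K B) := fun hres => by
    obtain ⟨e, he⟩ := EtaleCompl.exists_completion_ringEquiv_of_flat hm hres
    exact isOrdDoublePt_iff_of_completion e he
  constructor
  · intro h
    refine (key ?_).1 h
    have h1 := residue_surj_of_isOrdDoublePt h
    have : Algebra.IsIntegral K (ResidueField A) := by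
      have hs : Function.Surjective (algebraMap K (ResidueField A)) := by
        intro x
        obtain ⟨a, rfl⟩ := residue_surjective x
        obtain ⟨c, hc⟩ := h1 a
        refine ⟨c, ?_⟩
        rw [IsScalarTower.algebraMap_apply K A (ResidueField A), ResidueField.algebraMap_eq]
        rw [← sub_eq_zero, ← map_sub, residue_eq_zero_iff, ← neg_sub]
        exact neg_mem hc
      exact ⟨fun x => by obtain ⟨c, rfl⟩ := hs x; exact isIntegral_algebraMap⟩
    have : IsScalarTower K (ResidueField A) (ResidueField B) := by
      refine IsScalarTower.of_algebraMap_eq fun c => ?_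
      rw [IsScalarTower.algebraMap_apply K A (ResidueField A),
        IsScalarTower.algebraMap_apply K B (ResidueField B), IsScalarTower.algebraMap_apply K A B]
      rfl
    have : Algebra.IsIntegral K (ResidueField B) := Algebra.IsIntegral.trans (ResidueField A)
    have hs : Function.Surjective (algebraMap K (ResidueField B)) :=
      (IsAlgClosed.algebraMap_bijective_of_isIntegral (k := K) (K := ResidueField B)).2
    intro b
    obtain ⟨c, hc⟩ := hs (residue B b)
    refine ⟨algebraMap K A c, ?_⟩
    rw [← residue_eq_zero_iff, map_sub, ← hc, sub_eq_zero, ← IsScalarTower.algebraMap_apply K A B]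
    rfl
  · intro h
    refine (key ?_).2 h
    intro b
    obtain ⟨c, hc⟩ := residue_surj_of_isOrdDoublePt h b
    exact ⟨algebraMap K A c, by rwa [← IsScalarTower.algebraMap_apply K A B]⟩

end Groth.Agent.CurvesB.OrdDouble
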