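import Groth.Prelude.Def_CurvBase
import Groth.Agent.CurvesB.OrdDouble
import Mathlib.AlgebraicGeometry.Morphisms.Etale
import Mathlib.AlgebraicGeometry.Morphisms.Finite
import Mathlib.AlgebraicGeometry.PullbackCarrier

set_option autoImplicit false

open CategoryTheory CategoryTheory.Limits AlgebraicGeometry IsLocalRing Curv2

universe u

namespace Groth.Agent.CurvesB.NodeEtale

theorem stalkMap_eq (K : Type u) [Field K] {Z : Scheme.{u}}
    [Z.Over (Spec (CommRingCat.of K))] (z : Z) :
    stalkMap K Z z = ((Scheme.ΓSpecIso (CommRingCat.of K)).inv ≫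
      (Z ↘ Spec (CommRingCat.of K)).appTop ≫
        Z.presheaf.germ ⊤ z (TopologicalSpace.Opens.mem_top z)).hom := rfl

theorem stalkMap_comp_stalkMap (K : Type u) [Field K] {Z W : Scheme.{u}}
    [Z.Over (Spec (CommRingCat.of K))] [W.Over (Spec (CommRingCat.of K))] (h : W ⟶ Z)
    (hh : h ≫ (Z ↘ Spec (CommRingCat.of K)) = W ↘ Spec (CommRingCat.of K)) (w : W) :
    (h.stalkMap w).hom.comp (stalkMap K Z (h w)) = stalkMap K W w := by
  rw [stalkMap_eq, stalkMap_eq, ← hh, ← CommRingCat.hom_comp, Category.assoc, Category.assoc,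
    Scheme.Hom.germ_stalkMap]
  simp only [Scheme.Hom.comp_appTop, Category.assoc]
  rfl

theorem isOrdDoublePt_stalk_iff (K : Type u) [Field K] [IsAlgClosed K] {Z W : Scheme.{u}}
    [Z.Over (Spec (CommRingCat.of K))] [W.Over (Spec (CommRingCat.of K))] (h : W ⟶ Z)
    (hh : h ≫ (Z ↘ Spec (CommRingCat.of K)) = W ↘ Spec (CommRingCat.of K)) [Etale h] (w : W) :
    @IsOrdDoublePt K _ (Z.presheaf.stalk (h w)) _ (stalkAlgebra K Z (h w)) _ ↔
      @IsOrdDoublePt K _ (W.presheaf.stalk w) _ (stalkAlgebra K W w) _ := by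
  let := stalkAlgebra K Z (h w)
  let := stalkAlgebra K W w
  let : Algebra (Z.presheaf.stalk (h w)) (W.presheaf.stalk w) := (h.stalkMap w).hom.toAlgebra
  have : IsScalarTower K (Z.presheaf.stalk (h w)) (W.presheaf.stalk w) :=
    IsScalarTower.of_algebraMap_eq' (stalkMap_comp_stalkMap K h hh w).symm
  have : IsLocalHom (algebraMap (Z.presheaf.stalk (h w)) (W.presheaf.stalk w)) :=
    inferInstanceAs (IsLocalHom (h.stalkMap w).hom)
  have : Module.Flat (Z.presheaf.stalk (h w)) (W.presheaf.stalk w) := Flat.stalkMap h w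
  have : Algebra.FormallyUnramified (Z.presheaf.stalk (h w)) (W.presheaf.stalk w) :=
    FormallyUnramified.stalkMap h w
  have : Algebra.EssFiniteType (Z.presheaf.stalk (h w)) (W.presheaf.stalk w) :=
    LocallyOfFiniteType.stalkMap h w
  exact OrdDouble.isOrdDoublePt_iff_of_etale

/-- The base change to a field extension of a morphism of `k`-schemes. -/
noncomputable def bcMap (k : Type u) [Field k] {X Y : Scheme.{u}}
    [X.Over (Spec (CommRingCat.of k))] [Y.Over (Spec (CommRingCat.of k))] (g : Y ⟶ X)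
    (hg : g ≫ (X ↘ Spec (CommRingCat.of k)) = Y ↘ Spec (CommRingCat.of k))
    (K : Type u) [Field K] [Algebra k K] : bc k Y K ⟶ bc k X K :=
  pullback.lift (bcFst k Y K ≫ g) (bcSnd k Y K) (by rw [Category.assoc, hg, pullback.condition])

section

variable (k : Type u) [Field k] {X Y : Scheme.{u}}
    [X.Over (Spec (CommRingCat.of k))] [Y.Over (Spec (CommRingCat.of k))] (g : Y ⟶ X)
    (hg : g ≫ (X ↘ Spec (CommRingCat.of k)) = Y ↘ Spec (CommRingCat.of k))
    (K : Type u) [Field K] [Algebra k K]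

theorem bcMap_fst : bcMap k g hg K ≫ bcFst k X K = bcFst k Y K ≫ g := pullback.lift_fst _ _ _

theorem bcMap_snd : bcMap k g hg K ≫ bcSnd k X K = bcSnd k Y K := pullback.lift_snd _ _ _

theorem isPullback_bcMap : IsPullback (bcMap k g hg K) (bcFst k Y K) (bcFst k X K) g := by
  refine IsPullback.of_right (h₁₂ := bcSnd k X K)
    (h₂₂ := X ↘ Spec (CommRingCat.of k)) (v₁₃ := Spec.map (CommRingCat.ofHom (algebraMap k K)))
    ?_ (bcMap_fst k g hg K) (IsPullback.of_hasPullback _ _).flip
  rw [bcMap_snd, hg]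
  exact (IsPullback.of_hasPullback _ _).flip

theorem etale_bcMap [Etale g] : Etale (bcMap k g hg K) :=
  MorphismProperty.of_isPullback (isPullback_bcMap k g hg K).flip inferInstance

include hg in
/-- Nodes and étale morphisms. -/
theorem isNode_iff_of_etale [LocallyOfFiniteType (X ↘ Spec (CommRingCat.of k))] [Etale g] (y : Y)
    (hy : IsClosed ({y} : Set Y)) : IsNode k X (g y) ↔ IsNode k Y y := by
  have := LocallyOfFiniteType.jacobsonSpace (X ↘ Spec (CommRingCat.of k))
  have hx : IsClosed ({g y} : Set X) := g.closePoints_subset_preimage_closedPoints hy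
  have := etale_bcMap k g hg (AlgebraicClosure k)
  let i1 : (bc k X (AlgebraicClosure k)).Over (Spec (CommRingCat.of (AlgebraicClosure k))) :=
      ⟨bcSnd k X (AlgebraicClosure k)⟩
  let i2 : (bc k Y (AlgebraicClosure k)).Over (Spec (CommRingCat.of (AlgebraicClosure k))) :=
      ⟨bcSnd k Y (AlgebraicClosure k)⟩
  constructor
  · rintro ⟨-, xb, hxb, h⟩
    refine ⟨hy, ?_⟩
    obtain ⟨yb, hyb1, hyb2⟩ := Scheme.Pullback.exists_preimage_pullback xb y hxb
    let e := (isPullback_bcMap k g hg (AlgebraicClosure k)).isoPullback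
    refine ⟨e.inv yb, ?_, ?_⟩
    · rw [← hyb2, ← Scheme.Hom.comp_apply, IsPullback.isoPullback_inv_snd]
    · have h3 : bcMap k g hg (AlgebraicClosure k) (e.inv yb) = xb := by
        rw [← hyb1, ← Scheme.Hom.comp_apply, IsPullback.isoPullback_inv_fst]
      have := isOrdDoublePt_stalk_iff (AlgebraicClosure k) (bcMap k g hg (AlgebraicClosure k))
        (bcMap_snd k g hg (AlgebraicClosure k)) (e.inv yb)
      rw [h3] at this
      exact this.1 h
  · rintro ⟨-, yb, hyb, h⟩
    refine ⟨hx, bcMap k g hg _ yb, ?_, ?_⟩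
    · rw [← Scheme.Hom.comp_apply, bcMap_fst, Scheme.Hom.comp_apply, hyb]
    · exact (isOrdDoublePt_stalk_iff (AlgebraicClosure k) (bcMap k g hg (AlgebraicClosure k))
        (bcMap_snd k g hg (AlgebraicClosure k)) yb).2 h

end

end Groth.Agent.CurvesB.NodeEtale
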