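import Groth.Prelude.Def_CurvBase
import Groth.Agent.CurvesB.NodeEtale
import Groth.Agent.CurvesB.DimOneEtale

set_option autoImplicit false

open CategoryTheory CategoryTheory.Limits AlgebraicGeometry IsLocalRing Curv2

universe u

namespace Groth.Agent.CurvesB.NodalEtale

section

variable (k : Type u) [Field k] {X Y : Scheme.{u}}
    [X.Over (Spec (CommRingCat.of k))] [Y.Over (Spec (CommRingCat.of k))] (g : Y ⟶ X)
    (hg : g ≫ (X ↘ Spec (CommRingCat.of k)) = Y ↘ Spec (CommRingCat.of k))

include hg in
/-- At-worst-nodal singularities ascend along étale morphisms. -/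
theorem atWorstNodal_of_etale [LocallyOfFiniteType (X ↘ Spec (CommRingCat.of k))] [Etale g]
    (h : AtWorstNodal k X) : AtWorstNodal k Y := by
  intro y hy
  have := LocallyOfFiniteType.jacobsonSpace (X ↘ Spec (CommRingCat.of k))
  have hx : IsClosed ({g y} : Set X) := g.closePoints_subset_preimage_closedPoints hy
  rcases h (g y) hx with ⟨U, hU, hsm⟩ | hn
  · left
    refine ⟨g ⁻¹ᵁ U, hU, ?_⟩
    rw [← hg, ← Category.assoc, ← morphismRestrict_ι, Category.assoc]
    infer_instance
  · right
    exact (NodeEtale.isNode_iff_of_etale k g hg y hy).1 hn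

end

section

variable {X Y S : Scheme.{u}} (f : X ⟶ S) (g : Y ⟶ X) (s : S)

/-- The map on fibres induced by a morphism of `S`-schemes. -/
noncomputable def fiberMap : (g ≫ f).fiber s ⟶ f.fiber s :=
  pullback.lift ((g ≫ f).fiberι s ≫ g) ((g ≫ f).fiberToSpecResidueField s)
    (by rw [Category.assoc, Scheme.Hom.fiber_fac])

theorem fiberMap_ι : fiberMap f g s ≫ f.fiberι s = (g ≫ f).fiberι s ≫ g :=
  pullback.lift_fst _ _ _

theorem fiberMap_snd :
    fiberMap f g s ≫ f.fiberToSpecResidueField s = (g ≫ f).fiberToSpecResidueField s :=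
  pullback.lift_snd _ _ _

theorem isPullback_fiberMap : IsPullback (fiberMap f g s) ((g ≫ f).fiberι s) (f.fiberι s) g := by
  refine IsPullback.of_right (h₁₂ := f.fiberToSpecResidueField s)
    (h₂₂ := f) (v₁₃ := S.fromSpecResidueField s)
    ?_ (fiberMap_ι f g s) (IsPullback.of_hasPullback _ _).flip
  rw [fiberMap_snd]
  exact (IsPullback.of_hasPullback _ _).flip

instance etale_fiberMap [Etale g] : Etale (fiberMap f g s) :=
  MorphismProperty.of_isPullback (isPullback_fiberMap f g s).flip inferInstance

theorem isNodalFamily_precomp_etale (hf : IsNodalFamily f) [Etale g] : IsNodalFamily (g ≫ f) := by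
  obtain ⟨h1, h2, h3⟩ := hf
  refine ⟨inferInstance, inferInstance, fun s => ?_⟩
  have hft : LocallyOfFiniteType (f.fiberToSpecResidueField s) :=
    MorphismProperty.pullback_snd _ _ inferInstance
  refine ⟨?_, ?_⟩
  · have := DimOneEtale.locallyQuasiFinite_of_formallyUnramified (fiberMap f g s)
    exact DimOneEtale.forall_dim_eq_one_of_etale (fiberMap f g s) (h3 s).1
  · let i1 : (f.fiber s).Over (Spec (CommRingCat.of (S.residueField s))) :=
      ⟨f.fiberToSpecResidueField s⟩
    let i2 : ((g ≫ f).fiber s).Over (Spec (CommRingCat.of (S.residueField s))) :=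
      ⟨(g ≫ f).fiberToSpecResidueField s⟩
    have : LocallyOfFiniteType (f.fiber s ↘ Spec (CommRingCat.of (S.residueField s))) := hft
    exact atWorstNodal_of_etale (S.residueField s) (fiberMap f g s) (fiberMap_snd f g s) (h3 s).2

end

end Groth.Agent.CurvesB.NodalEtale
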