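import Groth.Prelude.Def_CurvBase
import Groth.Agent.CurvesB.OdpSemilinear

/-!
# Isomorphisms of schemes over isomorphisms of base fields: stalks

If `g : X ⟶ Y` is an isomorphism lying over `Spec σ : Spec L ⟶ Spec K` then the stalk
isomorphism is `σ`-semilinear; hence ordinary double points correspond.
-/

set_option autoImplicit false

universe u

open CategoryTheory CategoryTheory.Limits AlgebraicGeometry

namespace Groth.Agent.CurvesB.StalkSemilinear

variable {K L : Type u} [Field K] [Field L] {X Y : Scheme.{u}}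

/-- `Curv2.stalkMap` for an explicit structure morphism. -/
noncomputable abbrev stMap (f : X ⟶ Spec (CommRingCat.of K)) (x : X) : K →+* X.presheaf.stalk x :=
  @Curv2.stalkMap K _ X ⟨f⟩ x

theorem stMap_apply (f : X ⟶ Spec (CommRingCat.of K)) (x : X) (c : K) :
    stMap f x c = X.presheaf.germ ⊤ x trivial (f.appTop ((Scheme.ΓSpecIso (CommRingCat.of K)).inv c)) :=
  rfl

/-- Functoriality of `stMap` for a commutative square over `Spec σ`. -/
theorem stalkMap_stMap (g : X ⟶ Y) (f : X ⟶ Spec (CommRingCat.of L)) (h : Y ⟶ Spec (CommRingCat.of K))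
    (σ : K →+* L) (w : g ≫ h = f ≫ Spec.map (CommRingCat.ofHom σ)) (x : X) (c : K) :
    g.stalkMap x (stMap h (g x) c) = stMap f x (σ c) := by
  rw [stMap_apply, stMap_apply]
  have h1 : h.appTop ≫ g.appTop = (Spec.map (CommRingCat.ofHom σ)).appTop ≫ f.appTop := by
    rw [← Scheme.Hom.comp_appTop, ← Scheme.Hom.comp_appTop, w]
  have h2 := Scheme.ΓSpecIso_inv_naturality (CommRingCat.ofHom σ)
  have h3 : (Spec.map (CommRingCat.ofHom σ)).appTop ((Scheme.ΓSpecIso (CommRingCat.of K)).inv c) =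
      (Scheme.ΓSpecIso (CommRingCat.of L)).inv (σ c) :=
    (ConcreteCategory.congr_hom h2 c).symm
  have h4 : g.appTop (h.appTop ((Scheme.ΓSpecIso (CommRingCat.of K)).inv c)) =
      f.appTop ((Scheme.ΓSpecIso (CommRingCat.of L)).inv (σ c)) := by
    rw [← h3]
    exact congr($h1 ((Scheme.ΓSpecIso (CommRingCat.of K)).inv c))
  rw [← h4]
  exact Scheme.Hom.germ_stalkMap_apply g ⊤ x trivial _

theorem isOrdDoublePt_of_iso (g : X ⟶ Y) [IsIso g] (f : X ⟶ Spec (CommRingCat.of L))
    (h : Y ⟶ Spec (CommRingCat.of K)) (σ : K ≃+* L)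
    (w : g ≫ h = f ≫ Spec.map (CommRingCat.ofHom (σ : K →+* L))) (x : X) (y : Y) (hy : g x = y)
    (H : @Curv2.IsOrdDoublePt K _ (Y.presheaf.stalk y) _ (@Curv2.stalkAlgebra K _ Y ⟨h⟩ y) _) :
    @Curv2.IsOrdDoublePt L _ (X.presheaf.stalk x) _ (@Curv2.stalkAlgebra L _ X ⟨f⟩ x) _ := by
  subst hy
  let := @Curv2.stalkAlgebra K _ Y ⟨h⟩ (g x)
  let := @Curv2.stalkAlgebra L _ X ⟨f⟩ x
  refine OdpSemilinear.isOrdDoublePt_of_semilinear σ (asIso (g.stalkMap x)).commRingCatIsoToRingEquiv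
    (fun c => ?_) H
  exact stalkMap_stMap g f h (σ : K →+* L) w x c

end Groth.Agent.CurvesB.StalkSemilinear
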