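import Groth.Prelude.Def_CurvBase
import Groth.Agent.CurvesB.NodeEtale
import Groth.Agent.CurvesB.StalkSemilinear
import Mathlib.FieldTheory.IsAlgClosed.Basic
import Mathlib.FieldTheory.IsAlgClosed.AlgebraicClosure
import Mathlib.AlgebraicGeometry.Morphisms.Etale
import Mathlib.CategoryTheory.Limits.Shapes.Diagonal

/-!
# Nodes and restriction of the base field

If `k'/k` is an algebraic extension with `Spec k' ⟶ Spec k` unramified and `X` is a scheme over `k'`
then a node of `X` over `k'` is a node of `X` over `k`.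
-/

set_option autoImplicit false

open CategoryTheory CategoryTheory.Limits AlgebraicGeometry IsLocalRing Curv2

universe u

namespace Groth.Agent.CurvesB.NodeRestrict

theorem etale_mapDesc {X Y T S : Scheme.{u}} (f : X ⟶ T) (g : Y ⟶ T) (i : T ⟶ S)
    [FormallyUnramified i] [LocallyOfFiniteType i] : Etale (pullback.mapDesc f g i) := by
  have h1 : Etale (pullback.diagonal i) := inferInstance
  exact MorphismProperty.of_isPullback (pullback_map_diagonal_isPullback f g i) h1

theorem isNode_restrict {k k' : Type u} [Field k] [Field k'] [Algebra k k']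
    [Algebra.IsAlgebraic k k']
    [FormallyUnramified (Spec.map (CommRingCat.ofHom (algebraMap k k')))]
    [LocallyOfFiniteType (Spec.map (CommRingCat.ofHom (algebraMap k k')))]
    {X : Scheme.{u}} (p : X ⟶ Spec (CommRingCat.of k')) (q : X ⟶ Spec (CommRingCat.of k))
    (hpq : p ≫ Spec.map (CommRingCat.ofHom (algebraMap k k')) = q) (x : X)
    (hx : @IsNode k' _ X ⟨p⟩ x) : @IsNode k _ X ⟨q⟩ x := by
  obtain ⟨hcl, xb, hxb, hodp⟩ := hx
  refine ⟨hcl, ?_⟩
  let φ : AlgebraicClosure k' ≃ₐ[k] AlgebraicClosure k :=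
    IsAlgClosure.equivOfAlgebraic k k' (AlgebraicClosure k') (AlgebraicClosure k)
  let i := Spec.map (CommRingCat.ofHom (algebraMap k k'))
  let r' := Spec.map (CommRingCat.ofHom (algebraMap k' (AlgebraicClosure k')))
  let r := Spec.map (CommRingCat.ofHom (algebraMap k (AlgebraicClosure k)))
  let s := Spec.map (CommRingCat.ofHom (φ : AlgebraicClosure k' →+* AlgebraicClosure k))
  have : IsIso s := by
    have : IsIso (CommRingCat.ofHom (φ : AlgebraicClosure k' →+* AlgebraicClosure k)) :=
      (φ.toRingEquiv.toCommRingCatIso).isIso_hom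
    infer_instance
  have hs : s ≫ r' ≫ i = r := by
    simp only [s, r', i, r, ← Spec.map_comp, ← CommRingCat.ofHom_comp]
    congr 2
    rw [← IsScalarTower.algebraMap_eq]
    ext c
    simp
  let m1 : pullback p r' ⟶ pullback (p ≫ i) (r' ≫ i) := pullback.mapDesc p r' i
  have hm1 : Etale m1 := etale_mapDesc p r' i
  let m2 : pullback q r ⟶ pullback (p ≫ i) (r' ≫ i) :=
    pullback.map q r (p ≫ i) (r' ≫ i) (𝟙 X) s (𝟙 _) (by simp [i, hpq]) (by simp [hs])
  have hm2 : IsIso m2 := inferInstance
  refine ⟨inv m2 (m1 xb), ?_, ?_⟩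
  · have h1 : inv m2 ≫ pullback.fst q r = pullback.fst (p ≫ i) (r' ≫ i) := by
      rw [IsIso.inv_comp_eq]
      exact (Category.comp_id _).symm.trans (pullback.lift_fst _ _ _).symm
    have h2 : m1 ≫ pullback.fst (p ≫ i) (r' ≫ i) = pullback.fst p r' :=
      (pullback.lift_fst _ _ _).trans (Category.comp_id _)
    have h3 : (m1 ≫ inv m2) ≫ pullback.fst q r = pullback.fst p r' := by
      rw [Category.assoc, h1, h2]
    have h4 := congrArg (fun t => t xb) h3
    exact h4.trans hxb
  · let j1 : (pullback p r').Over (Spec (CommRingCat.of (AlgebraicClosure k'))) :=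
      ⟨pullback.snd p r'⟩
    let j2 : (pullback (p ≫ i) (r' ≫ i)).Over (Spec (CommRingCat.of (AlgebraicClosure k'))) :=
      ⟨pullback.snd (p ≫ i) (r' ≫ i)⟩
    have hodp2 : @IsOrdDoublePt (AlgebraicClosure k') _
        ((pullback (p ≫ i) (r' ≫ i)).presheaf.stalk (m1 xb)) _
        (@stalkAlgebra (AlgebraicClosure k') _ (pullback (p ≫ i) (r' ≫ i))
          ⟨pullback.snd (p ≫ i) (r' ≫ i)⟩ (m1 xb)) _ := by
      refine (NodeEtale.isOrdDoublePt_stalk_iff (AlgebraicClosure k') m1 ?_ xb).2 hodp
      exact (pullback.lift_snd _ _ _).trans (Category.comp_id _)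
    refine StalkSemilinear.isOrdDoublePt_of_iso (K := AlgebraicClosure k')
      (L := AlgebraicClosure k) m2 (pullback.snd q r)
      (pullback.snd (p ≫ i) (r' ≫ i)) φ.toRingEquiv ?_ _ (m1 xb) ?_ hodp2
    · simp only [m2, pullback.map, pullback.lift_snd]
      rfl
    · rw [← Scheme.Hom.comp_apply, IsIso.inv_hom_id]
      rfl

end Groth.Agent.CurvesB.NodeRestrict
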