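import Groth.Prelude.Def_CurvBase
import Groth.Agent.CurvesB.NodalEtale
import Groth.Agent.CurvesB.NodeRestrict
import Mathlib.RingTheory.Etale.Field
import Mathlib.AlgebraicGeometry.Fiber
import Mathlib.AlgebraicGeometry.Morphisms.FlatMono

/-!
# Postcomposing an at-worst-nodal family with an étale morphism
-/

set_option autoImplicit false

open CategoryTheory CategoryTheory.Limits AlgebraicGeometry IsLocalRing Curv2

universe u

namespace Groth.Agent.CurvesB.NodalPostcomp

section

variable {X S' S : Scheme.{u}} (f : X ⟶ S') (e : S' ⟶ S)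

theorem etale_residueField [Etale e] (s' : S') :
    letI : Algebra (S.residueField (e s')) (S'.residueField s') := (e.residueFieldMap s').hom.toAlgebra
    Algebra.Etale (S.residueField (e s')) (S'.residueField s') := by
  algebraize [(e.stalkMap s').hom]
  have : IsLocalHom (algebraMap (S.presheaf.stalk (e s')) (S'.presheaf.stalk s')) :=
    inferInstanceAs <| IsLocalHom (e.stalkMap s').hom
  have : Algebra.EssFiniteType (S.presheaf.stalk (e s')) (S'.presheaf.stalk s') := by
    rw [← RingHom.essFiniteType_algebraMap, RingHom.algebraMap_toAlgebra]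
    exact LocallyOfFiniteType.stalkMap e s'
  have : Algebra.FormallyUnramified (S.presheaf.stalk (e s')) (S'.presheaf.stalk s') := by
    rw [← RingHom.formallyUnramified_algebraMap, RingHom.algebraMap_toAlgebra]
    exact FormallyUnramified.stalkMap e s'
  have hsep : Algebra.IsSeparable (IsLocalRing.ResidueField <| S.presheaf.stalk (e s'))
      (IsLocalRing.ResidueField <| S'.presheaf.stalk s') := inferInstance
  have hfe : Algebra.FormallyEtale (IsLocalRing.ResidueField <| S.presheaf.stalk (e s'))
      (IsLocalRing.ResidueField <| S'.presheaf.stalk s') := Algebra.FormallyEtale.of_isSeparable _ _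
  have hfp : Algebra.FinitePresentation (IsLocalRing.ResidueField <| S.presheaf.stalk (e s'))
      (IsLocalRing.ResidueField <| S'.presheaf.stalk s') :=
    Algebra.FinitePresentation.of_finiteType.1 inferInstance
  have het : Algebra.Etale (IsLocalRing.ResidueField <| S.presheaf.stalk (e s'))
      (IsLocalRing.ResidueField <| S'.presheaf.stalk s') := {}
  convert! het
  refine Algebra.algebra_ext _ _ fun x ↦ ?_
  obtain ⟨x, rfl⟩ := IsLocalRing.residue_surjective x
  rfl

/-- `Spec κ(s') ⟶ Spec κ(e s')` is étale for `e` étale. -/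
theorem etale_specMap_residueFieldMap [Etale e] (s' : S') :
    Etale (Spec.map (e.residueFieldMap s')) := by
  rw [HasRingHomProperty.Spec_iff (P := @Etale)]
  exact etale_residueField e s'

theorem etale_asFiberHom [Etale e] (s' : S') : Etale (e.asFiberHom s') := by
  have h1 : Etale (e.asFiberHom s' ≫ e.fiberToSpecResidueField (e s')) := by
    rw [Scheme.Hom.asFiberHom_fiberToSpecResidueField]
    exact etale_specMap_residueFieldMap e s'
  have h2 : Etale (e.fiberToSpecResidueField (e s')) :=
    MorphismProperty.pullback_snd _ _ inferInstance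
  exact Etale.of_comp _ (e.fiberToSpecResidueField (e s'))

/-- the map from the fibre of the composition to the fibre of `e`. -/
noncomputable def fiberProj (s : S) : (f ≫ e).fiber s ⟶ e.fiber s :=
  pullback.lift ((f ≫ e).fiberι s ≫ f) ((f ≫ e).fiberToSpecResidueField s)
    (by rw [Category.assoc, Scheme.Hom.fiber_fac])

theorem fiberProj_ι (s : S) : fiberProj f e s ≫ e.fiberι s = (f ≫ e).fiberι s ≫ f :=
  pullback.lift_fst _ _ _

theorem fiberProj_snd (s : S) :
    fiberProj f e s ≫ e.fiberToSpecResidueField s = (f ≫ e).fiberToSpecResidueField s :=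
  pullback.lift_snd _ _ _

theorem isPullback_fiberProj (s : S) :
    IsPullback ((f ≫ e).fiberι s) (fiberProj f e s) f (e.fiberι s) := by
  refine IsPullback.of_bot (v₂₁ := e.fiberToSpecResidueField s) (v₂₂ := e)
    (h₃₁ := S.fromSpecResidueField s) ?_ (fiberProj_ι f e s).symm (IsPullback.of_hasPullback _ _)
  rw [fiberProj_snd]
  exact IsPullback.of_hasPullback _ _

/-- The inclusion of the fibre over `s'` into the fibre over `e s'` of the composition. -/
noncomputable def fiberIncl (s' : S') : f.fiber s' ⟶ (f ≫ e).fiber (e s') :=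
  pullback.lift (f.fiberι s') (f.fiberToSpecResidueField s' ≫ Spec.map (e.residueFieldMap s'))
    (by rw [Scheme.Hom.fiber_fac_assoc, Category.assoc, Scheme.Hom.SpecMap_residueFieldMap_fromSpecResidueField])

theorem fiberIncl_ι (s' : S') : fiberIncl f e s' ≫ (f ≫ e).fiberι (e s') = f.fiberι s' :=
  pullback.lift_fst _ _ _

theorem fiberIncl_snd (s' : S') :
    fiberIncl f e s' ≫ (f ≫ e).fiberToSpecResidueField (e s') =
      f.fiberToSpecResidueField s' ≫ Spec.map (e.residueFieldMap s') :=
  pullback.lift_snd _ _ _

theorem fiberIncl_fiberProj (s' : S') :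
    fiberIncl f e s' ≫ fiberProj f e (e s') = f.fiberToSpecResidueField s' ≫ e.asFiberHom s' := by
  apply pullback.hom_ext
  · change (fiberIncl f e s' ≫ fiberProj f e (e s')) ≫ e.fiberι (e s') =
      (f.fiberToSpecResidueField s' ≫ e.asFiberHom s') ≫ e.fiberι (e s')
    rw [Category.assoc, fiberProj_ι, ← Category.assoc, fiberIncl_ι, Category.assoc,
      Scheme.Hom.asFiberHom_fiberι, Scheme.Hom.fiber_fac]
  · change (fiberIncl f e s' ≫ fiberProj f e (e s')) ≫ e.fiberToSpecResidueField (e s') =
      (f.fiberToSpecResidueField s' ≫ e.asFiberHom s') ≫ e.fiberToSpecResidueField (e s')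
    rw [Category.assoc, fiberProj_snd, fiberIncl_snd, Category.assoc,
      Scheme.Hom.asFiberHom_fiberToSpecResidueField]

theorem isPullback_fiberIncl (s' : S') :
    IsPullback (fiberIncl f e s') (f.fiberToSpecResidueField s') (fiberProj f e (e s'))
      (e.asFiberHom s') := by
  refine IsPullback.of_right (h₁₂ := (f ≫ e).fiberι (e s'))
    (h₂₂ := e.fiberι (e s')) (v₁₃ := f)
    ?_ (fiberIncl_fiberProj f e s') (isPullback_fiberProj f e (e s'))
  rw [fiberIncl_ι, Scheme.Hom.asFiberHom_fiberι]
  exact IsPullback.of_hasPullback _ _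

theorem etale_fiberIncl [Etale e] (s' : S') : Etale (fiberIncl f e s') := by
  have := etale_asFiberHom e s'
  exact MorphismProperty.of_isPullback (isPullback_fiberIncl f e s').flip this

theorem isOpenImmersion_fiberIncl [Etale e] (s' : S') : IsOpenImmersion (fiberIncl f e s') := by
  have := etale_fiberIncl f e s'
  have : IsPreimmersion (fiberIncl f e s') :=
    MorphismProperty.of_isPullback (isPullback_fiberIncl f e s').flip inferInstance
  exact IsOpenImmersion.of_flat_of_mono _

/-- Smooth neighbourhoods and open immersions. -/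
theorem exists_smooth_nhd_of_openImmersion {X' F T : Scheme.{u}} (j : X' ⟶ F) [IsOpenImmersion j]
    (q : F ⟶ T) (x' : X') (U : X'.Opens) (hU : x' ∈ U) (h : Smooth (U.ι ≫ j ≫ q)) :
    ∃ V : F.Opens, j x' ∈ V ∧ Smooth (V.ι ≫ q) := by
  refine ⟨(U.ι ≫ j).opensRange, ⟨⟨x', hU⟩, rfl⟩, ?_⟩
  have h1 : (U.ι ≫ j).opensRange.ι = (U.ι ≫ j).isoOpensRange.inv ≫ U.ι ≫ j := by
    rw [Iso.eq_inv_comp, Scheme.Hom.isoOpensRange_hom_ι]
  rw [h1, Category.assoc, Category.assoc]
  infer_instance

/-- The same inclusion, for all points of `S'` over a given point. -/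
noncomputable def fiberIncl' (s : S) (i : {s' : S' // e s' = s}) :
    f.fiber i.1 ⟶ (f ≫ e).fiber s :=
  Eq.rec (motive := fun t _ => f.fiber i.1 ⟶ (f ≫ e).fiber t) (fiberIncl f e i.1) i.2

theorem exists_fiberIncl_eq (s : S) (x : (f ≫ e).fiber s) :
    ∃ (i : {s' : S' // e s' = s}) (x' : f.fiber i.1), fiberIncl' f e s i x' = x := by
  have h1 : (f ≫ e) ((f ≫ e).fiberι s x) = s := by
    have : (f ≫ e).fiberι s x ∈ Set.range ((f ≫ e).fiberι s) := ⟨x, rfl⟩
    rw [Scheme.Hom.range_fiberι] at this
    exact this
  obtain ⟨s', hs'⟩ : ∃ s', s' = f ((f ≫ e).fiberι s x) := ⟨_, rfl⟩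
  have h2 : e s' = s := by rw [hs', ← Scheme.Hom.comp_apply]; exact h1
  subst h2
  obtain ⟨x', hx'⟩ : (f ≫ e).fiberι (e s') x ∈ Set.range (f.fiberι s') := by
    rw [Scheme.Hom.range_fiberι]
    exact hs'.symm
  refine ⟨⟨s', rfl⟩, x', ?_⟩
  apply ((f ≫ e).fiberι (e s')).isEmbedding.injective
  rw [← hx', ← fiberIncl_ι f e s', Scheme.Hom.comp_apply]
  rfl

theorem isNodalFamily_postcomp_etale (hf : IsNodalFamily f) [Etale e] : IsNodalFamily (f ≫ e) := by
  obtain ⟨h1, h2, h3⟩ := hf
  refine ⟨inferInstance, inferInstance, fun s => ⟨?_, ?_⟩⟩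
  · have het : ∀ i : {s' : S' // e s' = s}, Etale (fiberIncl' f e s i) := by
      rintro ⟨s', rfl⟩
      exact etale_fiberIncl f e s'
    have hqf : ∀ i : {s' : S' // e s' = s}, LocallyQuasiFinite (fiberIncl' f e s i) :=
      fun i => DimOneEtale.locallyQuasiFinite_of_formallyUnramified _
    exact DimOneEtale.forall_dim_eq_one_of_etale_cover (fiberIncl' f e s)
      (fun x => exists_fiberIncl_eq f e s x) (fun i => (h3 i.1).1)
  · intro x hx
    obtain ⟨⟨s', rfl⟩, x', rfl⟩ := exists_fiberIncl_eq f e s x
    change IsClosed ({fiberIncl f e s' x'} : Set _) at hx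
    have hoi := isOpenImmersion_fiberIncl f e s'
    have hx' : IsClosed ({x'} : Set (f.fiber s')) := by
      have : ({x'} : Set (f.fiber s')) = fiberIncl f e s' ⁻¹' {fiberIncl f e s' x'} := by
        ext z
        exact ⟨fun h => congrArg _ h, fun h => (fiberIncl f e s').isOpenEmbedding.injective h⟩
      rw [this]
      exact hx.preimage (fiberIncl f e s').continuous
    let i0 : (f.fiber s').Over (Spec (CommRingCat.of (S'.residueField s'))) :=
      ⟨f.fiberToSpecResidueField s'⟩
    let i1 : ((f ≫ e).fiber (e s')).Over (Spec (CommRingCat.of (S.residueField (e s')))) :=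
      ⟨(f ≫ e).fiberToSpecResidueField (e s')⟩
    let : Algebra (S.residueField (e s')) (S'.residueField s') :=
      (e.residueFieldMap s').hom.toAlgebra
    have het : Algebra.Etale (S.residueField (e s')) (S'.residueField s') :=
      etale_residueField e s'
    have het' := etale_specMap_residueFieldMap e s'
    rcases (h3 s').2 x' hx' with ⟨U, hU, hsm⟩ | hn
    · left
      refine exists_smooth_nhd_of_openImmersion (fiberIncl f e s')
        ((f ≫ e).fiberToSpecResidueField (e s')) x' U hU ?_
      rw [fiberIncl_snd, ← Category.assoc]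
      have : Smooth (U.ι ≫ f.fiberToSpecResidueField s') := hsm
      infer_instance
    · right
      have hft : LocallyOfFiniteType ((f ≫ e).fiberToSpecResidueField (e s')) :=
        MorphismProperty.pullback_snd _ _ inferInstance
      have : Module.Finite (S.residueField (e s')) (S'.residueField s') :=
        Algebra.FormallyUnramified.finite_of_free _ _
      have hu : FormallyUnramified (Spec.map (CommRingCat.ofHom
          (algebraMap (S.residueField (e s')) (S'.residueField s')))) :=
        inferInstanceAs (FormallyUnramified (Spec.map (e.residueFieldMap s')))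
      have hu' : LocallyOfFiniteType (Spec.map (CommRingCat.ofHom
          (algebraMap (S.residueField (e s')) (S'.residueField s')))) :=
        inferInstanceAs (LocallyOfFiniteType (Spec.map (e.residueFieldMap s')))
      have h4 := NodeRestrict.isNode_restrict (k := S.residueField (e s'))
        (k' := S'.residueField s') (f.fiberToSpecResidueField s')
        (f.fiberToSpecResidueField s' ≫ Spec.map (e.residueFieldMap s')) rfl x' hn
      let i2 : (f.fiber s').Over (Spec (CommRingCat.of (S.residueField (e s')))) :=
        ⟨f.fiberToSpecResidueField s' ≫ Spec.map (e.residueFieldMap s')⟩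
      have : LocallyOfFiniteType ((f ≫ e).fiber (e s') ↘
        Spec (CommRingCat.of (S.residueField (e s')))) := hft
      exact (NodeEtale.isNode_iff_of_etale (S.residueField (e s')) (fiberIncl f e s')
        (fiberIncl_snd f e s') x' hx').2 h4

end

end Groth.Agent.CurvesB.NodalPostcomp
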