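import Mathlib.RingTheory.MvPowerSeries.Equiv
import Mathlib.RingTheory.MvPowerSeries.Inverse
import Mathlib.RingTheory.AdicCompletion.Completeness
import Mathlib.RingTheory.AdicCompletion.RingHom
import Mathlib.RingTheory.AdicCompletion.Functoriality
import Mathlib.RingTheory.LocalRing.MaximalIdeal.Basic

/-!
# Evaluating power series in an adically complete ring

* `mem_span_range_X_iff`: a power series in finitely many variables lies in the ideal of the variables iff its
  constant coefficient vanishes.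
* `exists_eval`: for `T` an `m`-adically complete ring, `σ : R →+* T` and elements `c i ∈ m` there is a ring
  homomorphism `R[[X_i]] → T` extending `σ` with `X_i ↦ c_i`.
* `eval_surjective`: it is surjective if `m = (c_i)` and `R → T/m` is surjective.
-/

set_option autoImplicit false

namespace Groth.Agent.CurvesB.SeriesEval

open MvPowerSeries

variable {ι : Type*} [Finite ι] {R : Type*} [CommRing R]

theorem mem_span_range_X_iff (f : MvPowerSeries ι R) :
    f ∈ (Ideal.span (Set.range X) : Ideal (MvPowerSeries ι R)) ↔ constantCoeff f = 0 := by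
  constructor
  · intro hf
    have : (Ideal.span (Set.range X) : Ideal (MvPowerSeries ι R)) ≤
        RingHom.ker (constantCoeff (σ := ι) (R := R)) := by
      refine Ideal.span_le.mpr ?_
      rintro _ ⟨i, rfl⟩
      simp
    exact this hf
  · intro hf
    set e := (toAdicCompletionAlgEquiv ι R).toRingEquiv with he
    have hmap : Ideal.map e (Ideal.span (Set.range X)) =
        (MvPolynomial.idealOfVars ι R).map (algebraMap _ (AdicCompletion (MvPolynomial.idealOfVars ι R)
          (MvPolynomial ι R))) := by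
      simp_rw [Ideal.map_span, ← Set.range_comp]
      congr 2; ext1
      simp [he, AdicCompletion.algebraMap_apply, ← MvPolynomial.coe_X, toAdicCompletion_coe]
    have h1 : e f ∈ Ideal.map e (Ideal.span (Set.range X)) := by
      rw [hmap, ← AdicCompletion.ker_evalOneₐ_eq_map _ (MvPolynomial.idealOfVars_fg ι R)]
      change AdicCompletion.evalOneₐ _ (e f) = 0
      rw [← AdicCompletion.factorₐ_evalₐ_one]
      have h2 : AdicCompletion.evalₐ (MvPolynomial.idealOfVars ι R) 1 (e f) =
          Ideal.Quotient.mk _ (truncTotal 1 f) := by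
        have := AdicCompletion.evalₐ_liftAlgHom (MvPolynomial.idealOfVars ι R)
          (truncTotalAlgHom ι R) (fun h ↦ AlgHom.ext fun _ ↦ by
            simpa [Ideal.Quotient.mk_eq_mk_iff_sub_mem] using
              truncTotal_sub_truncTotal_mem_pow_idealOfVars h (le_refl _) _) 1 f
        exact this
      have h3 : truncTotal 1 f = 0 := by
        ext d
        by_cases hd : d.degree < 1
        · rw [coeff_truncTotal _ hd]
          have : d = 0 := by
            have h4 := Nat.lt_one_iff.mp hd
            rwa [Finsupp.degree_eq_zero_iff] at h4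
          subst this
          simpa using hf
        · rw [coeff_truncTotal_eq_zero _ (not_lt.mp hd)]
          simp
      rw [h2, h3]
      simp
    obtain ⟨x, hx, hxe⟩ := (Ideal.mem_map_of_equiv e _).mp h1
    have := e.injective hxe
    rwa [← this]

section Eval

variable {T : Type*} [CommRing T] (m : Ideal T) (σ : R →+* T) (c : ι → T)

/-- The truncated evaluation maps `R[[X_i]] → T / m ^ n`. -/
noncomputable def evalTrunc (hc : ∀ i, c i ∈ m) (n : ℕ) : MvPowerSeries ι R →+* T ⧸ m ^ n :=
  (Ideal.quotientMap (m ^ n) (MvPolynomial.eval₂Hom σ c) (by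
    rw [← Ideal.map_le_iff_le_comap, Ideal.map_pow]
    refine Ideal.pow_right_mono ?_ n
    rw [Ideal.map_span, Ideal.span_le]
    rintro _ ⟨_, ⟨i, rfl⟩, rfl⟩
    simpa using hc i) :
      MvPolynomial ι R ⧸ (MvPolynomial.idealOfVars ι R) ^ n →+* T ⧸ m ^ n).comp
    (truncTotalAlgHom ι R n).toRingHom

theorem evalTrunc_apply (hc : ∀ i, c i ∈ m) (n : ℕ) (f : MvPowerSeries ι R) :
    evalTrunc m σ c hc n f = Ideal.Quotient.mk (m ^ n) (MvPolynomial.eval₂Hom σ c (truncTotal n f)) :=
  rfl

theorem evalTrunc_coe (hc : ∀ i, c i ∈ m) (n : ℕ) (p : MvPolynomial ι R) :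
    evalTrunc m σ c hc n (p : MvPowerSeries ι R) =
      Ideal.Quotient.mk (m ^ n) (MvPolynomial.eval₂Hom σ c p) := by
  rw [evalTrunc_apply, Ideal.Quotient.mk_eq_mk_iff_sub_mem, ← map_sub]
  have h1 : truncTotal n (p : MvPowerSeries ι R) - p ∈ MvPolynomial.idealOfVars ι R ^ n := by
    refine (MvPolynomial.mem_pow_idealOfVars_iff' ..).mpr (fun x hx ↦ ?_)
    rw [MvPolynomial.coeff_sub, sub_eq_zero, coeff_truncTotal _ hx, MvPolynomial.coeff_coe]
  have h2 : (MvPolynomial.idealOfVars ι R ^ n) ≤ (m ^ n).comap (MvPolynomial.eval₂Hom σ c) := by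
    rw [← Ideal.map_le_iff_le_comap, Ideal.map_pow]
    refine Ideal.pow_right_mono ?_ n
    rw [Ideal.map_span, Ideal.span_le]
    rintro _ ⟨_, ⟨i, rfl⟩, rfl⟩
    simpa using hc i
  exact h2 h1

theorem factorPow_comp_evalTrunc (hc : ∀ i, c i ∈ m) {k n : ℕ} (hle : k ≤ n) :
    (Ideal.Quotient.factorPow m hle).comp (evalTrunc m σ c hc n) = evalTrunc m σ c hc k := by
  ext f
  rw [RingHom.comp_apply, evalTrunc_apply, evalTrunc_apply]
  change Ideal.Quotient.mk (m ^ k) _ = _
  rw [Ideal.Quotient.mk_eq_mk_iff_sub_mem, ← map_sub]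
  have h2 : (MvPolynomial.idealOfVars ι R ^ k) ≤ (m ^ k).comap (MvPolynomial.eval₂Hom σ c) := by
    rw [← Ideal.map_le_iff_le_comap, Ideal.map_pow]
    refine Ideal.pow_right_mono ?_ k
    rw [Ideal.map_span, Ideal.span_le]
    rintro _ ⟨_, ⟨i, rfl⟩, rfl⟩
    simpa using hc i
  exact h2 (truncTotal_sub_truncTotal_mem_pow_idealOfVars hle le_rfl f)

variable [IsAdicComplete m T]

/-- Evaluation of power series in an `m`-adically complete ring at elements of `m`. -/
noncomputable def eval (hc : ∀ i, c i ∈ m) : MvPowerSeries ι R →+* T :=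
  IsAdicComplete.liftRingHom m (evalTrunc m σ c hc) (fun hle => factorPow_comp_evalTrunc m σ c hc hle)

theorem mk_eval (hc : ∀ i, c i ∈ m) (n : ℕ) (f : MvPowerSeries ι R) :
    Ideal.Quotient.mk (m ^ n) (eval m σ c hc f) = evalTrunc m σ c hc n f :=
  IsAdicComplete.mk_liftRingHom m _ _ n f

theorem eval_coe (hc : ∀ i, c i ∈ m) (p : MvPolynomial ι R) :
    eval m σ c hc (p : MvPowerSeries ι R) = MvPolynomial.eval₂Hom σ c p := by
  rw [IsHausdorff.eq_iff_smodEq (I := m)]
  intro n
  rw [SModEq.sub_mem]
  have := mk_eval m σ c hc n (p : MvPowerSeries ι R)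
  rw [evalTrunc_coe, Ideal.Quotient.mk_eq_mk_iff_sub_mem] at this
  simpa using this

theorem eval_C (hc : ∀ i, c i ∈ m) (r : R) : eval m σ c hc (C r) = σ r := by
  have := eval_coe m σ c hc (MvPolynomial.C r)
  simpa using this

theorem eval_X (hc : ∀ i, c i ∈ m) (i : ι) : eval m σ c hc (X i) = c i := by
  have := eval_coe m σ c hc (MvPolynomial.X i)
  simpa using this

theorem eval_surjective (hc : ∀ i, c i ∈ m) (hm : m = Ideal.span (Set.range c))
    (hσ : Function.Surjective ((Ideal.Quotient.mk m).comp σ)) :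
    Function.Surjective (eval m σ c hc) := by
  have hmap : (Ideal.span (Set.range X) : Ideal (MvPowerSeries ι R)).map (eval m σ c hc) = m := by
    rw [Ideal.map_span, ← Set.range_comp]
    refine Eq.trans ?_ hm.symm
    congr 1
    ext z
    constructor
    · rintro ⟨i, rfl⟩; exact ⟨i, (eval_X m σ c hc i).symm⟩
    · rintro ⟨i, rfl⟩; exact ⟨i, (eval_X m σ c hc i)⟩
  have h1 : IsHausdorff ((Ideal.span (Set.range X) : Ideal (MvPowerSeries ι R)).map
      (eval m σ c hc)) T := by
    rw [hmap]; infer_instance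
  refine surjective_of_mk_map_comp_surjective (I := (Ideal.span (Set.range X) :
    Ideal (MvPowerSeries ι R))) (eval m σ c hc) ?_
  rw [hmap]
  intro y
  obtain ⟨r, hr⟩ := hσ y
  refine ⟨C r, ?_⟩
  rw [← hr, RingHom.comp_apply, RingHom.comp_apply, eval_C]

end Eval

end Groth.Agent.CurvesB.SeriesEval
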