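import Groth.Agent.CurvesB.NodeNewton
import Groth.Agent.CurvesB.SeriesEval
import Mathlib.RingTheory.MvPowerSeries.NoZeroDivisors
import Mathlib.RingTheory.PowerSeries.Inverse
import Mathlib.FieldTheory.IsAlgClosed.AlgebraicClosure
import Mathlib.RingTheory.AdicCompletion.LocalRing
import Mathlib.RingTheory.AdicCompletion.AsTensorProduct
import Mathlib.RingTheory.Filtration

/-!
# The rings `κ[[u, v]]/(q)` and node-like complete local rings

* `nodeLike_quad`: `κ[[u, v]]/(α u² + β u v + γ v²)` is node-like when `4αγ - β² ≠ 0`.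
* `exists_quad_equiv`: a complete local ring with a coefficient field and generators of the maximal ideal satisfying
  the quadratic relation `q`, no power of whose maximal ideal is principal, is isomorphic to `κ[[u, v]]/(q)`.
* `nodeLike_iff_adicCompletion`: node-likeness of a Noetherian local ring and of its completion.
-/

set_option autoImplicit false

namespace Groth.Agent.CurvesB.Node

open IsLocalRing MvPowerSeries

section Zeros

/-- A binary quadratic form over an algebraically closed field with nonzero discriminant has two independent zeros. -/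
theorem exists_zeros {K : Type*} [Field K] [IsAlgClosed K] {α β γ : K} (h : 4 * α * γ - β ^ 2 ≠ 0) :
    ∃ u v u' v' : K, α * u ^ 2 + β * u * v + γ * v ^ 2 = 0 ∧
      α * u' ^ 2 + β * u' * v' + γ * v' ^ 2 = 0 ∧ u * v' - u' * v ≠ 0 := by
  by_cases hα : α = 0
  · subst hα
    refine ⟨1, 0, -γ, β, by ring, by ring, ?_⟩
    have : β ≠ 0 := by rintro rfl; apply h; ring
    simpa using this
  · obtain ⟨r, hr⟩ : ∃ r : K, α * r ^ 2 + β * r + γ = 0 := by
      obtain ⟨z, hz⟩ := IsAlgClosed.exists_root (Polynomial.C α * Polynomial.X ^ 2 +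
        Polynomial.C β * Polynomial.X + Polynomial.C γ) (by
          rw [Polynomial.degree_quadratic hα]; norm_num)
      exact ⟨z, by simpa [Polynomial.IsRoot] using hz⟩
    refine ⟨r, 1, -β / α - r, 1, by linear_combination hr, ?_, ?_⟩
    · field_simp
      linear_combination α * hr
    · intro hcon
      apply h
      field_simp at hcon
      have hcon' : 2 * α * r = -β := by linear_combination hcon
      have : 4 * α * (α * r ^ 2 + β * r + γ) = (2 * α * r + β) ^ 2 + (4 * α * γ - β ^ 2) := by ring
      rw [hr, hcon'] at this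
      linear_combination -this

end Zeros

section Quad

variable {κ : Type*} [Field κ]

/-- The quadratic power series attached to three coefficients. -/
noncomputable abbrev quadForm (α β γ : κ) : MvPowerSeries (Fin 2) κ :=
  C α * X 0 ^ 2 + C β * X 0 * X 1 + C γ * X 1 ^ 2

theorem maximalIdeal_mvPowerSeries :
    maximalIdeal (MvPowerSeries (Fin 2) κ) = Ideal.span {X 0, X 1} := by
  have h1 : (Set.range X : Set (MvPowerSeries (Fin 2) κ)) = {X 0, X 1} := by
    ext z
    constructor
    · rintro ⟨i, rfl⟩
      fin_cases i <;> simp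
    · rintro (rfl | rfl)
      exacts [⟨0, rfl⟩, ⟨1, rfl⟩]
  rw [← h1]
  ext f
  rw [SeriesEval.mem_span_range_X_iff, mem_maximalIdeal, mem_nonunits_iff,
    MvPowerSeries.isUnit_iff_constantCoeff, isUnit_iff_ne_zero, not_not]

theorem quadForm_mem (α β γ : κ) : quadForm α β γ ∈ maximalIdeal (MvPowerSeries (Fin 2) κ) := by
  rw [maximalIdeal_mvPowerSeries]
  exact Ideal.mem_span_pair.mpr ⟨C α * X 0 + C β * X 1, C γ * X 1, by
    simp only [quadForm]; ring⟩

theorem nontrivial_quad (α β γ : κ) :
    Nontrivial (MvPowerSeries (Fin 2) κ ⧸ Ideal.span {quadForm α β γ}) := by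
  apply Ideal.Quotient.nontrivial_iff.mpr
  intro h
  have h1 : (1 : MvPowerSeries (Fin 2) κ) ∈ Ideal.span {quadForm α β γ} := by
    rw [h]; trivial
  have h2 : Ideal.span {quadForm α β γ} ≤ maximalIdeal (MvPowerSeries (Fin 2) κ) := by
    rw [Ideal.span_le]
    rintro z rfl
    exact quadForm_mem α β γ
  exact (mem_nonunits_iff.mp ((mem_maximalIdeal _).mp (h2 h1))) isUnit_one

theorem isLocalRing_quad (α β γ : κ) :
    IsLocalRing (MvPowerSeries (Fin 2) κ ⧸ Ideal.span {quadForm α β γ}) :=
  have := nontrivial_quad α β γ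
  IsLocalRing.of_surjective' (Ideal.Quotient.mk _) Ideal.Quotient.mk_surjective

theorem maximalIdeal_quad (α β γ : κ)
    [IsLocalRing (MvPowerSeries (Fin 2) κ ⧸ Ideal.span {quadForm α β γ})] :
    maximalIdeal (MvPowerSeries (Fin 2) κ ⧸ Ideal.span {quadForm α β γ}) =
      Ideal.span {Ideal.Quotient.mk _ (X 0), Ideal.Quotient.mk _ (X 1)} := by
  rw [← map_maximalIdeal_of_surjective (Ideal.Quotient.mk (Ideal.span {quadForm α β γ}))
    Ideal.Quotient.mk_surjective, maximalIdeal_mvPowerSeries, Ideal.map_span, Set.image_pair]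

theorem quad_relation (α β γ : κ) :
    Ideal.Quotient.mk (Ideal.span {quadForm α β γ}) (C α) *
        Ideal.Quotient.mk (Ideal.span {quadForm α β γ}) (X 0) ^ 2 +
      Ideal.Quotient.mk (Ideal.span {quadForm α β γ}) (C β) *
        Ideal.Quotient.mk (Ideal.span {quadForm α β γ}) (X 0) *
        Ideal.Quotient.mk (Ideal.span {quadForm α β γ}) (X 1) +
      Ideal.Quotient.mk (Ideal.span {quadForm α β γ}) (C γ) *
        Ideal.Quotient.mk (Ideal.span {quadForm α β γ}) (X 1) ^ 2 = 0 := by
  have h : Ideal.Quotient.mk (Ideal.span {quadForm α β γ}) (quadForm α β γ) = 0 :=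
    Ideal.Quotient.eq_zero_iff_mem.mpr (Ideal.mem_span_singleton_self _)
  simpa only [quadForm, map_add, map_mul, map_pow] using h

end Quad

section BranchMap

variable {κ K : Type*} [Field κ] [Field K] [Algebra κ K]

/-- The "branch" homomorphism `κ[[x, y]]/(q) → K[[T]]`, `x ↦ u T`, `y ↦ v T` attached to a zero `(u, v)` of `q`. -/
theorem exists_branch {α β γ : κ} {u v : K}
    (h : algebraMap κ K α * u ^ 2 + algebraMap κ K β * u * v + algebraMap κ K γ * v ^ 2 = 0) :
    ∃ φ : (MvPowerSeries (Fin 2) κ ⧸ Ideal.span {quadForm α β γ}) →+* PowerSeries K,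
      φ (Ideal.Quotient.mk _ (X 0)) = PowerSeries.C u * PowerSeries.X ∧
      φ (Ideal.Quotient.mk _ (X 1)) = PowerSeries.C v * PowerSeries.X ∧
      ∀ f : MvPowerSeries (Fin 2) κ, PowerSeries.constantCoeff (φ (Ideal.Quotient.mk _ f)) =
        algebraMap κ K (constantCoeff f) := by
  set c : Fin 2 → PowerSeries K := ![PowerSeries.C u * PowerSeries.X, PowerSeries.C v * PowerSeries.X]
    with hc
  have hcm : ∀ i, c i ∈ (Ideal.span {PowerSeries.X} : Ideal (PowerSeries K)) := by
    intro i
    fin_cases i
    · exact Ideal.mul_mem_left _ _ (Ideal.mem_span_singleton_self _)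
    · exact Ideal.mul_mem_left _ _ (Ideal.mem_span_singleton_self _)
  set ev := SeriesEval.eval (Ideal.span {PowerSeries.X} : Ideal (PowerSeries K))
    ((PowerSeries.C (R := K)).comp (algebraMap κ K)) c hcm with hev
  have e0 : ev (X 0) = PowerSeries.C u * PowerSeries.X := SeriesEval.eval_X _ _ _ _ 0
  have e1 : ev (X 1) = PowerSeries.C v * PowerSeries.X := SeriesEval.eval_X _ _ _ _ 1
  have eC : ∀ t : κ, ev (C t) = PowerSeries.C (algebraMap κ K t) := fun t => SeriesEval.eval_C _ _ _ _ t
  have hq : ev (quadForm α β γ) = 0 := by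
    have : ev (quadForm α β γ) = PowerSeries.C (algebraMap κ K α * u ^ 2 + algebraMap κ K β * u * v +
        algebraMap κ K γ * v ^ 2) * PowerSeries.X ^ 2 := by
      simp only [quadForm, map_add, map_mul, map_pow, e0, e1, eC]
      ring
    rw [this, h, map_zero, zero_mul]
  refine ⟨Ideal.Quotient.lift _ ev ?_, ?_, ?_, ?_⟩
  · intro a ha
    obtain ⟨b, rfl⟩ := Ideal.mem_span_singleton'.mp ha
    rw [map_mul, hq, mul_zero]
  · rw [Ideal.Quotient.lift_mk, e0]
  · rw [Ideal.Quotient.lift_mk, e1]
  · intro f
    rw [Ideal.Quotient.lift_mk]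
    have h1 : f - C (constantCoeff f) ∈ (Ideal.span (Set.range X) : Ideal (MvPowerSeries (Fin 2) κ)) := by
      rw [SeriesEval.mem_span_range_X_iff]; simp
    have h2 : (Ideal.span (Set.range X) : Ideal (MvPowerSeries (Fin 2) κ)) ≤
        (Ideal.span {PowerSeries.X} : Ideal (PowerSeries K)).comap ev := by
      rw [Ideal.span_le]
      rintro _ ⟨i, rfl⟩
      have h5 : ev (X i) ∈ (Ideal.span {PowerSeries.X} : Ideal (PowerSeries K)) := by
        rw [hev, SeriesEval.eval_X]
        exact hcm i
      exact h5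
    have h3 : ev (f - C (constantCoeff f)) ∈ (Ideal.span {PowerSeries.X} : Ideal (PowerSeries K)) := h2 h1
    obtain ⟨g, hg⟩ := Ideal.mem_span_singleton'.mp h3
    have h4 : ev f = g * PowerSeries.X + PowerSeries.C (algebraMap κ K (constantCoeff f)) := by
      rw [hg, map_sub, eC]; ring
    rw [h4]
    simp

end BranchMap

section NodeLikeQuad

variable {κ : Type*} [Field κ]

theorem not_isPrincipal_quad {α β γ : κ} (h : 4 * α * γ - β ^ 2 ≠ 0)
    [IsLocalRing (MvPowerSeries (Fin 2) κ ⧸ Ideal.span {quadForm α β γ})] (n : ℕ) (hn : 1 ≤ n) :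
    ¬ (maximalIdeal (MvPowerSeries (Fin 2) κ ⧸ Ideal.span {quadForm α β γ}) ^ n).IsPrincipal := by
  rintro ⟨F, hF⟩
  have hF' : maximalIdeal (MvPowerSeries (Fin 2) κ ⧸ Ideal.span {quadForm α β γ}) ^ n =
    Ideal.span {F} := hF
  obtain ⟨m, rfl⟩ := Nat.exists_eq_add_of_le' hn
  set K := AlgebraicClosure κ
  set mk := Ideal.Quotient.mk (Ideal.span {quadForm α β γ}) with hmk
  have hx0 : mk (X 0) ∈ maximalIdeal (MvPowerSeries (Fin 2) κ ⧸ Ideal.span {quadForm α β γ}) := by
    rw [maximalIdeal_quad]; exact Ideal.subset_span (Or.inl rfl)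
  have hx1 : mk (X 1) ∈ maximalIdeal (MvPowerSeries (Fin 2) κ ⧸ Ideal.span {quadForm α β γ}) := by
    rw [maximalIdeal_quad]; exact Ideal.subset_span (Or.inr rfl)
  have m0 : mk (X 1) ^ (m + 1) ∈ Ideal.span {F} := hF' ▸ Ideal.pow_mem_pow hx1 _
  have mn : mk (X 0) ^ (m + 1) ∈ Ideal.span {F} := hF' ▸ Ideal.pow_mem_pow hx0 _
  have m1 : mk (X 0) * mk (X 1) ^ m ∈ Ideal.span {F} := by
    rw [← hF', pow_succ']
    exact Ideal.mul_mem_mul hx0 (Ideal.pow_mem_pow hx1 _)
  obtain ⟨x0, h0⟩ := Ideal.mem_span_singleton'.mp m0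
  obtain ⟨xn, hn'⟩ := Ideal.mem_span_singleton'.mp mn
  obtain ⟨x1, h1⟩ := Ideal.mem_span_singleton'.mp m1
  obtain ⟨x0, rfl⟩ := Ideal.Quotient.mk_surjective x0
  obtain ⟨x1, rfl⟩ := Ideal.Quotient.mk_surjective x1
  obtain ⟨xn, rfl⟩ := Ideal.Quotient.mk_surjective xn
  -- the constants attached to a zero of `q`
  have key : ∀ u v : K, algebraMap κ K α * u ^ 2 + algebraMap κ K β * u * v +
      algebraMap κ K γ * v ^ 2 = 0 → ∃ l : K, v ^ (m + 1) = algebraMap κ K (constantCoeff x0) * l ∧
        u ^ (m + 1) = algebraMap κ K (constantCoeff xn) * l ∧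
        u * v ^ m = algebraMap κ K (constantCoeff x1) * l := by
    intro u v huv
    obtain ⟨φ, φ0, φ1, φc⟩ := exists_branch huv
    have hle : maximalIdeal (MvPowerSeries (Fin 2) κ ⧸ Ideal.span {quadForm α β γ}) ≤
        (Ideal.span {PowerSeries.X} : Ideal (PowerSeries K)).comap φ := by
      rw [maximalIdeal_quad, Ideal.span_le]
      rintro z (rfl | rfl)
      · rw [SetLike.mem_coe, Ideal.mem_comap, φ0]
        exact Ideal.mul_mem_left _ _ (Ideal.mem_span_singleton_self _)
      · rw [SetLike.mem_coe, Ideal.mem_comap, φ1]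
        exact Ideal.mul_mem_left _ _ (Ideal.mem_span_singleton_self _)
    have hFm : F ∈ maximalIdeal (MvPowerSeries (Fin 2) κ ⧸ Ideal.span {quadForm α β γ}) ^ (m + 1) := by
      rw [hF']; exact Ideal.mem_span_singleton_self _
    have hφF : φ F ∈ (Ideal.span {PowerSeries.X} : Ideal (PowerSeries K)) ^ (m + 1) := by
      have h1 := Ideal.mem_map_of_mem φ hFm
      rw [Ideal.map_pow] at h1
      exact Ideal.pow_right_mono (Ideal.map_le_iff_le_comap.mpr hle) _ h1
    rw [Ideal.span_singleton_pow] at hφF
    obtain ⟨G, hG⟩ := Ideal.mem_span_singleton'.mp hφF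
    refine ⟨PowerSeries.constantCoeff G, ?_, ?_, ?_⟩
    · have e := congrArg φ h0
      rw [map_mul, ← hG, map_pow, φ1] at e
      have e' : PowerSeries.X ^ (m + 1) * (φ (mk x0) * G) =
          PowerSeries.X ^ (m + 1) * PowerSeries.C (v ^ (m + 1)) := by
        rw [map_pow]; linear_combination e
      have e'' := mul_left_cancel₀ (pow_ne_zero _ PowerSeries.X_ne_zero) e'
      have := congrArg PowerSeries.constantCoeff e''
      rw [map_mul, φc] at this
      simpa using this.symm
    · have e := congrArg φ hn'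
      rw [map_mul, ← hG, map_pow, φ0] at e
      have e' : PowerSeries.X ^ (m + 1) * (φ (mk xn) * G) =
          PowerSeries.X ^ (m + 1) * PowerSeries.C (u ^ (m + 1)) := by
        rw [map_pow]; linear_combination e
      have e'' := mul_left_cancel₀ (pow_ne_zero _ PowerSeries.X_ne_zero) e'
      have := congrArg PowerSeries.constantCoeff e''
      rw [map_mul, φc] at this
      simpa using this.symm
    · have e := congrArg φ h1
      rw [map_mul, ← hG, map_mul, map_pow, φ0, φ1] at e
      have e' : PowerSeries.X ^ (m + 1) * (φ (mk x1) * G) =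
          PowerSeries.X ^ (m + 1) * PowerSeries.C (u * v ^ m) := by
        rw [map_mul, map_pow]; linear_combination e
      have e'' := mul_left_cancel₀ (pow_ne_zero _ PowerSeries.X_ne_zero) e'
      have := congrArg PowerSeries.constantCoeff e''
      rw [map_mul, φc] at this
      simpa using this.symm
  have h' : 4 * algebraMap κ K α * algebraMap κ K γ - algebraMap κ K β ^ 2 ≠ 0 := by
    intro hcon
    apply h
    apply (algebraMap κ K).injective
    rw [map_zero, ← hcon]
    simp only [map_sub, map_mul, map_pow, map_ofNat]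
  obtain ⟨u, v, u', v', z1, z2, hind⟩ := exists_zeros h'
  obtain ⟨l, a0, an, a1⟩ := key u v z1
  obtain ⟨l', b0, bn, b1⟩ := key u' v' z2
  set r0 := algebraMap κ K (constantCoeff x0)
  set r1 := algebraMap κ K (constantCoeff x1)
  set rn := algebraMap κ K (constantCoeff xn)
  by_cases hr0 : r0 = 0
  · have hv : v = 0 := by
      have : v ^ (m + 1) = 0 := by rw [a0, hr0, zero_mul]
      exact pow_eq_zero_iff (by omega) |>.mp this
    have hv' : v' = 0 := by
      have : v' ^ (m + 1) = 0 := by rw [b0, hr0, zero_mul]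
      exact pow_eq_zero_iff (by omega) |>.mp this
    apply hind
    rw [hv, hv']; ring
  · have claim : ∀ (u v l : K), (u, v) ≠ (0, 0) → v ^ (m + 1) = r0 * l → u ^ (m + 1) = rn * l →
        u * v ^ m = r1 * l → u * r0 = r1 * v := by
      intro u v l hne c0 cn c1
      have hl : l ≠ 0 := by
        rintro rfl
        rw [mul_zero] at c0 cn
        apply hne
        rw [pow_eq_zero_iff (by omega) |>.mp c0, pow_eq_zero_iff (by omega) |>.mp cn]
      have hv : v ≠ 0 := by
        rintro rfl
        rw [zero_pow (by omega)] at c0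
        exact (mul_ne_zero hr0 hl) c0.symm
      have : v ^ m * (u * r0) = v ^ m * (r1 * v) := by
        apply mul_left_cancel₀ hl
        linear_combination (l * r0) * c1 - (l * r1) * c0
      exact mul_left_cancel₀ (pow_ne_zero _ hv) this
    have hne1 : (u, v) ≠ (0, 0) := by
      intro hcon
      obtain ⟨rfl, rfl⟩ := Prod.mk.inj hcon
      apply hind; ring
    have hne2 : (u', v') ≠ (0, 0) := by
      intro hcon
      obtain ⟨rfl, rfl⟩ := Prod.mk.inj hcon
      apply hind; ring
    have c1 := claim u v l hne1 a0 an a1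
    have c2 := claim u' v' l' hne2 b0 bn b1
    apply hind
    apply mul_left_cancel₀ hr0
    linear_combination v' * c1 - v * c2

/-- The ring `κ[[u, v]]/(q)` is node-like if the quadratic form `q` is nondegenerate. -/
theorem nodeLike_quad {α β γ : κ} (h : 4 * α * γ - β ^ 2 ≠ 0)
    [IsLocalRing (MvPowerSeries (Fin 2) κ ⧸ Ideal.span {quadForm α β γ})] :
    NodeLike (MvPowerSeries (Fin 2) κ ⧸ Ideal.span {quadForm α β γ}) := by
  refine ⟨⟨_, _, _, _, _, maximalIdeal_quad α β γ, ?_, quad_relation α β γ⟩,
    not_isPrincipal_quad h⟩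
  have h1 : IsUnit (4 * α * γ - β ^ 2) := isUnit_iff_ne_zero.mpr h
  have := h1.map ((Ideal.Quotient.mk (Ideal.span {quadForm α β γ})).comp (C (σ := Fin 2) (R := κ)))
  simpa only [map_sub, map_mul, map_pow, map_ofNat, RingHom.comp_apply] using this

end NodeLikeQuad

section Complete

variable {κ T : Type*} [Field κ] [CommRing T] [IsLocalRing T]

/-- A complete local ring with coefficient field `κ`, whose maximal ideal is generated by two elements satisfying the
quadratic relation `q` and none of the powers of whose maximal ideal is principal, is isomorphic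
to `κ[[u, v]]/(q)`. -/
theorem exists_quad_equiv [IsAdicComplete (maximalIdeal T) T] (σ : κ →+* T)
    (hσ : Function.Surjective ((residue T).comp σ)) {α β γ : κ} (hne : ¬ (α = 0 ∧ β = 0 ∧ γ = 0))
    {a b : T} (hm : maximalIdeal T = Ideal.span {a, b})
    (hr : σ α * a ^ 2 + σ β * a * b + σ γ * b ^ 2 = 0)
    (hT : ∀ n : ℕ, 1 ≤ n → ¬ ((maximalIdeal T) ^ n).IsPrincipal) :
    ∃ e : T ≃+* (MvPowerSeries (Fin 2) κ ⧸ Ideal.span {quadForm α β γ}),
      ∀ t : κ, e (σ t) = Ideal.Quotient.mk _ (C t) := by
  have ha : a ∈ maximalIdeal T := by rw [hm]; exact Ideal.subset_span (by simp)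
  have hb : b ∈ maximalIdeal T := by rw [hm]; exact Ideal.subset_span (by simp)
  set c : Fin 2 → T := ![a, b] with hc
  have hcm : ∀ i, c i ∈ maximalIdeal T := by
    intro i
    fin_cases i
    exacts [ha, hb]
  set ev := SeriesEval.eval (maximalIdeal T) σ c hcm with hev
  have e0 : ev (X 0) = a := SeriesEval.eval_X _ _ _ _ 0
  have e1 : ev (X 1) = b := SeriesEval.eval_X _ _ _ _ 1
  have eC : ∀ t : κ, ev (C t) = σ t := fun t => SeriesEval.eval_C _ _ _ _ t
  have hq : ev (quadForm α β γ) = 0 := by
    simp only [quadForm, map_add, map_mul, map_pow, e0, e1, eC]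
    exact hr
  have hsurj : Function.Surjective ev := by
    refine SeriesEval.eval_surjective (maximalIdeal T) σ c hcm ?_ hσ
    rw [hm]
    congr 1
    ext z
    constructor
    · rintro (rfl | rfl)
      exacts [⟨0, rfl⟩, ⟨1, rfl⟩]
    · rintro ⟨i, rfl⟩
      fin_cases i <;> simp [hc]
  have hle : ∀ x ∈ Ideal.span {quadForm α β γ}, ev x = 0 := by
    intro x hx
    obtain ⟨y, rfl⟩ := Ideal.mem_span_singleton'.mp hx
    rw [map_mul, hq, mul_zero]
  set φ : (MvPowerSeries (Fin 2) κ ⧸ Ideal.span {quadForm α β γ}) →+* T :=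
    Ideal.Quotient.lift _ ev hle with hφ
  have hφs : Function.Surjective φ := Ideal.Quotient.lift_surjective_of_surjective _ hle hsurj
  have := isLocalRing_quad α β γ
  have hinj : Function.Injective φ := by
    refine injective_of_not_principal φ hφs ?_ ?_ hT
    · exact Ideal.iInf_pow_eq_bot_of_isLocalRing _ (Ideal.IsPrime.ne_top inferInstance)
    · intro n hn
      rw [maximalIdeal_quad]
      refine exists_pair_pow ?_ (quad_relation α β γ) hn
      have hu : ∀ t : κ, t ≠ 0 → IsUnit (Ideal.Quotient.mk (Ideal.span {quadForm α β γ}) (C t)) :=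
        fun t ht => (isUnit_iff_ne_zero.mpr ht).map
          ((Ideal.Quotient.mk (Ideal.span {quadForm α β γ})).comp (C (σ := Fin 2) (R := κ)))
      by_cases h1 : α = 0
      · by_cases h2 : β = 0
        · by_cases h3 : γ = 0
          · exact absurd ⟨h1, h2, h3⟩ hne
          · exact Or.inr (Or.inr (hu _ h3))
        · exact Or.inr (Or.inl (hu _ h2))
      · exact Or.inl (hu _ h1)
  let e := RingEquiv.ofBijective φ ⟨hinj, hφs⟩
  refine ⟨e.symm, ?_⟩
  intro t
  rw [RingEquiv.symm_apply_eq, RingEquiv.ofBijective_apply, hφ, Ideal.Quotient.lift_mk, eC]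

/-- A node-like complete local ring with coefficient field `κ` is isomorphic to `κ[[u, v]]/(q)` for a nondegenerate
quadratic form `q` over `κ`. -/
theorem NodeLike.exists_quad_equiv [IsAdicComplete (maximalIdeal T) T] (hT : NodeLike T) (σ : κ →+* T)
    (hσ : Function.Surjective ((residue T).comp σ)) :
    ∃ α β γ : κ, 4 * α * γ - β ^ 2 ≠ 0 ∧
      ∃ e : T ≃+* (MvPowerSeries (Fin 2) κ ⧸ Ideal.span {quadForm α β γ}),
      ∀ t : κ, e (σ t) = Ideal.Quotient.mk _ (C t) := by
  obtain ⟨a, b, β, γ, hm, hd, hr⟩ := hT.exists_monic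
  have ha : a ∈ maximalIdeal T := by rw [hm]; exact Ideal.subset_span (by simp)
  have hb : b ∈ maximalIdeal T := by rw [hm]; exact Ideal.subset_span (by simp)
  obtain ⟨β₀, hβ₀⟩ := hσ (residue T β)
  obtain ⟨γ₀, hγ₀⟩ := hσ (residue T γ)
  have hβ : σ β₀ - β ∈ maximalIdeal T := by
    rw [← residue_eq_zero_iff, map_sub, sub_eq_zero]; exact hβ₀
  have hγ : σ γ₀ - γ ∈ maximalIdeal T := by
    rw [← residue_eq_zero_iff, map_sub, sub_eq_zero]; exact hγ₀
  have hd0 : IsUnit (4 * σ γ₀ - σ β₀ ^ 2) := by
    by_contra hcon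
    have hcon' : 4 * σ γ₀ - σ β₀ ^ 2 ∈ maximalIdeal T := hcon
    have : 4 * γ - β ^ 2 ∈ maximalIdeal T := by
      have e : 4 * γ - β ^ 2 = (4 * σ γ₀ - σ β₀ ^ 2) - 4 * (σ γ₀ - γ) +
        (σ β₀ + β) * (σ β₀ - β) := by ring
      rw [e]
      exact Ideal.add_mem _ (Ideal.sub_mem _ hcon' (Ideal.mul_mem_left _ _ hγ))
        (Ideal.mul_mem_left _ _ hβ)
    exact this hd
  have happ : a ^ 2 + σ β₀ * a * b + σ γ₀ * b ^ 2 ∈ maximalIdeal T ^ 3 := by
    have e : a ^ 2 + σ β₀ * a * b + σ γ₀ * b ^ 2 = (σ β₀ - β) * (a * b) + (σ γ₀ - γ) * (b * b) := by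
      linear_combination hr
    have e3 : maximalIdeal T ^ 3 = maximalIdeal T * (maximalIdeal T * maximalIdeal T) := by ring
    rw [e, e3]
    exact Ideal.add_mem _ (Ideal.mul_mem_mul hβ (Ideal.mul_mem_mul ha hb))
      (Ideal.mul_mem_mul hγ (Ideal.mul_mem_mul hb hb))
  obtain ⟨a', b', hm', -, -, hr'⟩ := exists_newton hm hd0 happ
  refine ⟨1, β₀, γ₀, ?_, ?_⟩
  · intro hcon
    have : (4 * σ γ₀ - σ β₀ ^ 2) = 0 := by
      have := congrArg σ hcon
      simpa only [mul_one, map_sub, map_mul, map_pow, map_ofNat, map_zero] using this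
    rw [this] at hd0
    exact not_isUnit_zero hd0
  · refine Node.exists_quad_equiv σ hσ (by simp) hm' ?_ hT.not_principal
    rw [map_one]
    linear_combination hr'

/-- Over an algebraically closed field the form can be taken to be `u v`. -/
theorem NodeLike.exists_xy_equiv [IsAlgClosed κ] [IsAdicComplete (maximalIdeal T) T] (hT : NodeLike T)
    (σ : κ →+* T) (hσ : Function.Surjective ((residue T).comp σ)) :
    ∃ e : T ≃+* (MvPowerSeries (Fin 2) κ ⧸ Ideal.span {(X 0 * X 1 : MvPowerSeries (Fin 2) κ)}),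
      ∀ t : κ, e (σ t) = Ideal.Quotient.mk _ (C t) := by
  have hXY : quadForm (0 : κ) 1 0 = X 0 * X 1 := by
    simp [quadForm]
  obtain ⟨α, β, γ, hd, e, he⟩ := hT.exists_quad_equiv σ hσ
  -- generators `a, b` with `σ α a² + σ β a b + σ γ b² = 0`
  set a := e.symm (Ideal.Quotient.mk _ (X 0)) with ha
  set b := e.symm (Ideal.Quotient.mk _ (X 1)) with hb
  have := isLocalRing_quad α β γ
  have hmab : maximalIdeal T = Ideal.span {a, b} := by
    have h1 := map_maximalIdeal_of_surjective e.symm.toRingHom e.symm.surjective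
    rw [maximalIdeal_quad, Ideal.map_span, Set.image_pair] at h1
    exact h1.symm
  have hsym : ∀ t : κ, e.symm (Ideal.Quotient.mk _ (C t)) = σ t := by
    intro t; rw [RingEquiv.symm_apply_eq]; exact (he t).symm
  have hrel : σ α * a ^ 2 + σ β * a * b + σ γ * b ^ 2 = 0 := by
    have := congrArg e.symm (quad_relation α β γ)
    simpa only [map_add, map_mul, map_pow, map_zero, hsym] using this
  obtain ⟨u, v, u', v', z1, z2, hind⟩ := exists_zeros hd
  -- new generators: `v a - u b` and `v' a - u' b`
  set x := σ v * a - σ u * b with hx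
  set y := σ v' * a - σ u' * b with hy
  set D := u * v' - u' * v with hD
  have hDu : IsUnit (σ D) := (isUnit_iff_ne_zero.mpr hind).map σ
  obtain ⟨s, hs⟩ := hDu.exists_left_inv
  have hD' : σ D = σ u * σ v' - σ u' * σ v := by simp [hD]
  have hmxy : maximalIdeal T = Ideal.span {x, y} := by
    rw [hmab]
    symm
    apply span_pair_eq_of
    · exact Ideal.mem_span_pair.mpr ⟨σ v, -σ u, by rw [hx]; ring⟩
    · exact Ideal.mem_span_pair.mpr ⟨σ v', -σ u', by rw [hy]; ring⟩
    · refine Ideal.mem_span_pair.mpr ⟨-s * σ u', s * σ u, ?_⟩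
      rw [hx, hy]
      rw [hD'] at hs
      linear_combination a * hs
    · refine Ideal.mem_span_pair.mpr ⟨-s * σ v', s * σ v, ?_⟩
      rw [hx, hy]
      rw [hD'] at hs
      linear_combination b * hs
  -- the relation `x y = 0`
  have hxy : x * y = 0 := by
    -- `q` is proportional to the product of the two linear forms
    have hprop : ∃ c : κ, c ≠ 0 ∧ α = c * (v * v') ∧ β = -(c * (u * v' + u' * v)) ∧ γ = c * (u * u') := by
      -- solve the linear system given by the two zeros
      have hDne : D ≠ 0 := hind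
      -- the vector `(α, β, γ)` is orthogonal to `(u², u v, v²)` and `(u'², u' v', v'²)`
      have k1 : α * (D * (u * u')) = γ * (D * (v * v')) := by
        rw [hD]; linear_combination (u' * v') * z1 - (u * v) * z2
      have k2 : β * (D * (v * v')) = -(α * (D * (u * v' + u' * v))) := by
        rw [hD]; linear_combination (v' ^ 2) * z1 - (v ^ 2) * z2
      have k3 : β * (D * (u * u')) = -(γ * (D * (u * v' + u' * v))) := by
        rw [hD]; linear_combination -(u' ^ 2) * z1 + (u ^ 2) * z2
      have k1' : α * (u * u') = γ * (v * v') := by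
        apply mul_left_cancel₀ hDne; linear_combination k1
      have k2' : β * (v * v') = -(α * (u * v' + u' * v)) := by
        apply mul_left_cancel₀ hDne; linear_combination k2
      have k3' : β * (u * u') = -(γ * (u * v' + u' * v)) := by
        apply mul_left_cancel₀ hDne; linear_combination k3
      by_cases h1 : v * v' = 0
      · by_cases h2 : u * u' = 0
        · -- then `u v' + u' v ≠ 0`
          have h3 : u * v' + u' * v ≠ 0 := by
            intro h3
            apply hDne
            have : D ^ 2 = (u * v' + u' * v) ^ 2 - 4 * (u * u') * (v * v') := by rw [hD]; ring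
            rw [h3, h1, h2] at this
            have : D ^ 2 = 0 := by rw [this]; ring
            exact pow_eq_zero_iff (by norm_num) |>.mp this
          have hα0 : α = 0 := by
            rw [h1, mul_zero] at k2'
            have := neg_eq_zero.mp k2'.symm
            exact (mul_eq_zero.mp this).resolve_right h3
          have hγ0 : γ = 0 := by
            rw [h2, mul_zero] at k3'
            have := neg_eq_zero.mp k3'.symm
            exact (mul_eq_zero.mp this).resolve_right h3
          refine ⟨-β / (u * v' + u' * v), ?_, ?_, ?_, ?_⟩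
          · intro hc
            rw [div_eq_zero_iff] at hc
            rcases hc with hc | hc
            · apply hd
              rw [hα0, hγ0, neg_eq_zero.mp hc]; ring
            · exact h3 hc
          · rw [h1, mul_zero, hα0]
          · field_simp
          · rw [h2, mul_zero, hγ0]
        · refine ⟨γ / (u * u'), ?_, ?_, ?_, ?_⟩
          · intro hc
            rw [div_eq_zero_iff] at hc
            rcases hc with hc | hc
            · rw [hc, zero_mul] at k1'
              rw [hc, zero_mul, neg_zero] at k3'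
              have e1 := (mul_eq_zero.mp k1').resolve_right h2
              have e2 := (mul_eq_zero.mp k3').resolve_right h2
              apply hd
              rw [e1, e2, hc]; ring
            · exact h2 hc
          · rw [div_mul_eq_mul_div, eq_div_iff h2]; exact k1'
          · rw [div_mul_eq_mul_div, ← neg_div, eq_div_iff h2]; exact k3'
          · rw [div_mul_cancel₀ _ h2]
      · refine ⟨α / (v * v'), ?_, ?_, ?_, ?_⟩
        · intro hc
          rw [div_eq_zero_iff] at hc
          rcases hc with hc | hc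
          · rw [hc, zero_mul] at k1'
            rw [hc, zero_mul, neg_zero] at k2'
            have e1 := (mul_eq_zero.mp k1'.symm).resolve_right h1
            have e2 := (mul_eq_zero.mp k2').resolve_right h1
            apply hd
            rw [e1, e2, hc]; ring
          · exact h1 hc
        · rw [div_mul_cancel₀ _ h1]
        · rw [div_mul_eq_mul_div, ← neg_div, eq_div_iff h1]; exact k2'
        · rw [div_mul_eq_mul_div, eq_div_iff h1]; exact k1'.symm
    obtain ⟨c, hc, eα, eβ, eγ⟩ := hprop
    have hcu : IsUnit (σ c) := (isUnit_iff_ne_zero.mpr hc).map σ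
    obtain ⟨t, ht⟩ := hcu.exists_left_inv
    have hcxy : σ c * (x * y) = 0 := by
      have : σ c * (x * y) = σ α * a ^ 2 + σ β * a * b + σ γ * b ^ 2 := by
        rw [eα, eβ, eγ, hx, hy]
        simp only [map_mul, map_neg, map_add]
        ring
      rw [this, hrel]
    linear_combination t * hcxy - (x * y) * ht
  have hfin := Node.exists_quad_equiv (α := (0 : κ)) (β := 1) (γ := 0) σ hσ (by simp) hmxy
    (by rw [map_zero, map_one]; linear_combination hxy) hT.not_principal
  rw [hXY] at hfin
  exact hfin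

end Complete

section AdicCompletion

variable {A : Type*} [CommRing A] [IsLocalRing A] [IsNoetherianRing A]

theorem nodeLike_iff_adicCompletion :
    NodeLike A ↔ NodeLike (AdicCompletion (maximalIdeal A) A) := by
  have := AdicCompletion.flat_of_isNoetherian (maximalIdeal A)
  exact nodeLike_iff_of_flat_of_isLocalHom AdicCompletion.maximalIdeal_eq_map.symm

end AdicCompletion

end Groth.Agent.CurvesB.Node
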