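import Groth.Prelude.Def_CurvBase
import Groth.Agent.CurvesB.NodeQuad

/-!
# Ordinary double points are the node-like local rings (over an algebraically closed field)
-/

set_option autoImplicit false

universe u

namespace Groth.Agent.CurvesB.Node

open IsLocalRing

/-- A Noetherian local ring whose completion is `κ[[u, v]]/(q)`, `q` nondegenerate, is node-like. -/
theorem nodeLike_of_quad_equiv {A : Type*} [CommRing A] [IsLocalRing A] [IsNoetherianRing A]
    {κ : Type*} [Field κ] {α β γ : κ} (h : 4 * α * γ - β ^ 2 ≠ 0)
    (e : AdicCompletion (maximalIdeal A) A ≃+*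
      (MvPowerSeries (Fin 2) κ ⧸ Ideal.span {quadForm α β γ})) : NodeLike A := by
  have := isLocalRing_quad α β γ
  rw [nodeLike_iff_adicCompletion]
  exact NodeLike.of_ringEquiv e.symm (nodeLike_quad h)

/-- An ordinary double point (with Noetherian local ring) is node-like. -/
theorem nodeLike_of_isOrdDoublePt (K : Type u) [Field K] (A : Type u) [CommRing A] [Algebra K A]
    [IsLocalRing A] [IsNoetherianRing A] (h : Curv2.IsOrdDoublePt K A) : NodeLike A := by
  obtain ⟨e, -⟩ := h
  have hXY : quadForm (0 : K) 1 0 = MvPowerSeries.X 0 * MvPowerSeries.X 1 := by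
    simp [quadForm]
  rw [← hXY] at e
  exact nodeLike_of_quad_equiv (α := (0 : K)) (β := 1) (γ := 0) (by simp) e

/-- Over an algebraically closed field `K`, a node-like Noetherian local `K`-algebra with residue field `K` is an
ordinary double point. -/
theorem isOrdDoublePt_of_nodeLike (K : Type u) [Field K] [IsAlgClosed K] (A : Type u) [CommRing A]
    [Algebra K A] [IsLocalRing A] [IsNoetherianRing A]
    (hres : Function.Surjective ((residue A).comp (algebraMap K A))) (h : NodeLike A) :
    Curv2.IsOrdDoublePt K A := by
  rw [nodeLike_iff_adicCompletion] at h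
  refine h.exists_xy_equiv ((algebraMap A (AdicCompletion (maximalIdeal A) A)).comp
    (algebraMap K A)) ?_
  intro y
  obtain ⟨z, rfl⟩ := (AdicCompletion.residueField_map_bijective A).2 y
  obtain ⟨t, ht⟩ := hres z
  refine ⟨t, ?_⟩
  rw [← ht]
  rfl

end Groth.Agent.CurvesB.Node
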