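import Groth.Agent.CurvesB.NodeNewton
import Mathlib.RingTheory.Kaehler.TensorProduct
import Mathlib.RingTheory.Etale.Kaehler
import Mathlib.RingTheory.Flat.EquationalCriterion
import Mathlib.RingTheory.Flat.Stability
import Mathlib.RingTheory.Ideal.Cotangent

/-!
# The differential criterion at a node

Let `B` be a local `K`-algebra with residue field `K` which is node-like.  If `J` is an ideal with
`m_B² ≤ J ≤ m_B` such that `(B/J) ⊗ Ω_{B/K}` is flat over `B/J` then `J = m_B`.
Consequence (`map_maximalIdeal_eq_of_nodeLike`): for a local homomorphism `A → B` of a `k`-algebra to a `K`-algebra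
such that `Ω_{B/K}` is the base change of `Ω_{A/k}` (e.g. `B` a localization of `A ⊗_k K`), if `B` is node-like then
`m_A B = m_B`.
-/

set_option autoImplicit false

namespace Groth.Agent.CurvesB.Node

open IsLocalRing TensorProduct

section FlatPair

variable {F M : Type*} [CommRing F] [IsLocalRing F] [AddCommGroup M] [Module F M] [Module.Flat F M]

theorem eq_zero_of_smul_eq_zero_of_flat {z : M} (hz : z ∉ maximalIdeal F • (⊤ : Submodule F M))
    {r : F} (h : r • z = 0) : r = 0 := by
  obtain ⟨k, a, y, hy, ha⟩ := Module.Flat.isTrivialRelation_of_sum_smul_eq_zero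
    (ι := Fin 1) (f := fun _ => r) (x := fun _ => z) (by simpa using h)
  obtain ⟨j, hj⟩ : ∃ j, IsUnit (a 0 j) := by
    by_contra hcon
    push Not at hcon
    apply hz
    have h0 : z = ∑ j, a 0 j • y j := hy 0
    rw [h0]
    exact Submodule.sum_mem _ fun j _ => Submodule.smul_mem_smul (hcon j) trivial
  have := ha j
  simp only [Finset.univ_unique, Fin.default_eq_zero, Fin.isValue, Finset.sum_singleton] at this
  exact (hj.mul_left_eq_zero).mp this

theorem eq_zero_of_flat_pair {x y : M}
    (hind : ∀ p q : F, p • x + q • y ∈ maximalIdeal F • (⊤ : Submodule F M) →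
      p ∈ maximalIdeal F ∧ q ∈ maximalIdeal F)
    {c d : F} (h : c • x + d • y = 0) : c = 0 ∧ d = 0 := by
  obtain ⟨k, a, z, hz, ha⟩ := Module.Flat.isTrivialRelation_of_sum_smul_eq_zero
    (ι := Fin 2) (f := ![c, d]) (x := ![x, y]) (by simpa using h)
  obtain ⟨j, hj⟩ : ∃ j, IsUnit (a 0 j) := by
    by_contra hcon
    push Not at hcon
    have hx : x ∈ maximalIdeal F • (⊤ : Submodule F M) := by
      have := hz 0
      simp only [Fin.isValue, Matrix.cons_val_zero] at this
      rw [this]
      exact Submodule.sum_mem _ fun j _ => Submodule.smul_mem_smul (hcon j) trivial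
    have := (hind 1 0 (by simpa using hx)).1
    exact this isUnit_one
  have h1 := ha j
  simp only [Fin.sum_univ_two, Fin.isValue, Matrix.cons_val_zero, Matrix.cons_val_one] at h1
  obtain ⟨s, hs⟩ := hj.exists_left_inv
  have hc : c = d * (-(s * a 1 j)) := by linear_combination s * h1 - c * hs
  have h2 : d • ((-(s * a 1 j)) • x + y) = 0 := by
    rw [smul_add, smul_smul, ← hc, h]
  have hd : d = 0 := by
    refine eq_zero_of_smul_eq_zero_of_flat ?_ h2
    intro hmem
    have := (hind (-(s * a 1 j)) 1 (by simpa using hmem)).2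
    exact this isUnit_one
  refine ⟨?_, hd⟩
  rw [hc, hd, zero_mul]

end FlatPair

section Cotangent

/-- The universal derivation of a local `K`-algebra `B` with residue field `K` into the cotangent space. -/
theorem exists_cotangent_derivation {K B : Type*} [Field K] [CommRing B] [IsLocalRing B] [Algebra K B]
    (hres : Function.Surjective ((residue B).comp (algebraMap K B))) :
    ∃ θ : Derivation K B (maximalIdeal B).Cotangent,
      ∀ x : maximalIdeal B, θ (x : B) = (maximalIdeal B).toCotangent x := by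
  let σ : K ≃+* ResidueField B := RingEquiv.ofBijective ((residue B).comp (algebraMap K B))
    ⟨RingHom.injective _, hres⟩
  let s : B →+* B := (algebraMap K B).comp ((σ.symm : ResidueField B →+* K).comp (residue B))
  have hs : ∀ b, b - s b ∈ maximalIdeal B := by
    intro b
    rw [← residue_eq_zero_iff, map_sub, sub_eq_zero]
    exact (σ.apply_symm_apply (residue B b)).symm
  have hsK : ∀ t : K, s (algebraMap K B t) = algebraMap K B t := by
    intro t
    have : σ.symm (residue B (algebraMap K B t)) = t := σ.symm_apply_apply t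
    exact congrArg (algebraMap K B) this
  have hsm : ∀ b ∈ maximalIdeal B, s b = 0 := by
    intro b hb
    have : residue B b = 0 := (residue_eq_zero_iff b).mpr hb
    change algebraMap K B (σ.symm (residue B b)) = 0
    rw [this, map_zero, map_zero]
  refine ⟨Derivation.mk' { toFun := fun b => (maximalIdeal B).toCotangent ⟨b - s b, hs b⟩
                           map_add' := ?_, map_smul' := ?_ } ?_, ?_⟩
  · intro x y
    rw [← map_add]
    congr 1
    ext
    simp only [map_add, Submodule.coe_add]
    ring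
  · intro r x
    rw [RingHom.id_apply]
    have e1 : (⟨r • x - s (r • x), hs _⟩ : maximalIdeal B) =
        (algebraMap K B r) • (⟨x - s x, hs x⟩ : maximalIdeal B) := by
      apply Subtype.ext
      change r • x - s (r • x) = (algebraMap K B r) * (x - s x)
      rw [Algebra.smul_def, map_mul, hsK]
      ring
    rw [e1, map_smul]
    exact algebraMap_smul B r _
  · intro x y
    change (maximalIdeal B).toCotangent _ = x • (maximalIdeal B).toCotangent _ +
      y • (maximalIdeal B).toCotangent _
    rw [← map_smul, ← map_smul, ← map_add, Ideal.toCotangent_eq]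
    have : (x * y - s (x * y) - (x * (y - s y) + y * (x - s x)) : B) =
        -((x - s x) * (y - s y)) := by
      rw [map_mul]; ring
    change (x * y - s (x * y) - (x * (y - s y) + y * (x - s x)) : B) ∈ _
    rw [this, pow_two]
    exact Ideal.neg_mem_iff _ |>.mpr (Ideal.mul_mem_mul (hs x) (hs y))
  · intro x
    change (maximalIdeal B).toCotangent _ = _
    congr 1
    ext
    change (x : B) - s (x : B) = x
    rw [hsm x x.2, sub_zero]

end Cotangent

section Main

variable {K B : Type*} [Field K] [CommRing B] [IsLocalRing B] [Algebra K B]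

/-- The differential criterion. -/
theorem eq_maximalIdeal_of_flat_kaehler
    (hres : Function.Surjective ((residue B).comp (algebraMap K B))) (hB : NodeLike B)
    (J : Ideal B) (h2 : maximalIdeal B ^ 2 ≤ J) (h1 : J ≤ maximalIdeal B)
    (hflat : Module.Flat (B ⧸ J) ((B ⧸ J) ⊗[B] Ω[B⁄K])) : J = maximalIdeal B := by
  obtain ⟨⟨u, v, α, β, γ, hm, hd, hr⟩, hnp⟩ := hB
  have hnp1 : ¬ (maximalIdeal B).IsPrincipal := by simpa using hnp 1 le_rfl
  have hJ : J ≠ ⊤ := fun h => (maximalIdeal.isMaximal B).ne_top (top_le_iff.mp (h ▸ h1))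
  have : Nontrivial (B ⧸ J) := Ideal.Quotient.nontrivial_iff.mpr hJ
  have : IsLocalRing (B ⧸ J) := IsLocalRing.of_surjective' (Ideal.Quotient.mk J) Ideal.Quotient.mk_surjective
  have hum : u ∈ maximalIdeal B := by rw [hm]; exact Ideal.subset_span (by simp)
  have hvm : v ∈ maximalIdeal B := by rw [hm]; exact Ideal.subset_span (by simp)
  obtain ⟨θ, hθ⟩ := exists_cotangent_derivation (K := K) (B := B) hres
  let ψ : Ω[B⁄K] →ₗ[B] (maximalIdeal B).Cotangent := θ.liftKaehlerDifferential
  have hψ : ∀ b, ψ (KaehlerDifferential.D K B b) = θ b := fun b => θ.liftKaehlerDifferential_comp_D b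
  -- `m_B` kills the cotangent space
  have hkill : ∀ b ∈ maximalIdeal B, ∀ c : (maximalIdeal B).Cotangent, b • c = 0 := by
    intro b hb c
    obtain ⟨c, rfl⟩ := Ideal.toCotangent_surjective _ c
    rw [← map_smul, Ideal.toCotangent_eq_zero, pow_two]
    exact Ideal.mul_mem_mul hb c.2
  -- extend `ψ` to `(B/J) ⊗ Ω`
  let Ψ : (B ⧸ J) ⊗[B] Ω[B⁄K] →ₗ[B] (maximalIdeal B).Cotangent :=
    TensorProduct.lift (Submodule.liftQ J (LinearMap.toSpanSingleton B _ ψ) (by
      intro b hb
      rw [LinearMap.mem_ker]
      refine LinearMap.ext fun ω => ?_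
      exact hkill b (h1 hb) _))
  have hΨ : ∀ (b : B) (ω : Ω[B⁄K]), Ψ ((Ideal.Quotient.mk J b) ⊗ₜ ω) = b • ψ ω := by
    intro b ω
    rfl
  have hΨ0 : ∀ z ∈ maximalIdeal (B ⧸ J) • (⊤ : Submodule (B ⧸ J) ((B ⧸ J) ⊗[B] Ω[B⁄K])), Ψ z = 0 := by
    intro z hz
    refine Submodule.smul_induction_on hz ?_ ?_
    · intro r hr' z _
      obtain ⟨b, rfl⟩ := Ideal.Quotient.mk_surjective r
      have hb : b ∈ maximalIdeal B := by
        by_contra hcon
        have hu : IsUnit b := by
          by_contra hu; exact hcon hu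
        exact hr' (hu.map (Ideal.Quotient.mk J))
      have : (Ideal.Quotient.mk J b) • z = b • z := algebraMap_smul (B ⧸ J) b z
      rw [this, map_smul]
      exact hkill b hb _
    · intro x y hx hy
      rw [map_add, hx, hy, add_zero]
  -- the classes of `du`, `dv`
  set ω₁ : (B ⧸ J) ⊗[B] Ω[B⁄K] := 1 ⊗ₜ KaehlerDifferential.D K B u with hω₁
  set ω₂ : (B ⧸ J) ⊗[B] Ω[B⁄K] := 1 ⊗ₜ KaehlerDifferential.D K B v with hω₂
  have hind : ∀ p q : B ⧸ J, p • ω₁ + q • ω₂ ∈
      maximalIdeal (B ⧸ J) • (⊤ : Submodule (B ⧸ J) ((B ⧸ J) ⊗[B] Ω[B⁄K])) →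
      p ∈ maximalIdeal (B ⧸ J) ∧ q ∈ maximalIdeal (B ⧸ J) := by
    intro p q hpq
    obtain ⟨p, rfl⟩ := Ideal.Quotient.mk_surjective p
    obtain ⟨q, rfl⟩ := Ideal.Quotient.mk_surjective q
    have h3 := hΨ0 _ hpq
    have e1 : (Ideal.Quotient.mk J p) • ω₁ = (Ideal.Quotient.mk J p) ⊗ₜ KaehlerDifferential.D K B u := by
      rw [hω₁, TensorProduct.smul_tmul', smul_eq_mul, mul_one]
    have e2 : (Ideal.Quotient.mk J q) • ω₂ = (Ideal.Quotient.mk J q) ⊗ₜ KaehlerDifferential.D K B v := by
      rw [hω₂, TensorProduct.smul_tmul', smul_eq_mul, mul_one]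
    rw [e1, e2, map_add, hΨ, hΨ, hψ, hψ, hθ ⟨u, hum⟩, hθ ⟨v, hvm⟩, ← map_smul, ← map_smul, ← map_add,
      Ideal.toCotangent_eq_zero] at h3
    have h4 : p * u + q * v ∈ maximalIdeal B ^ 2 := h3
    -- so `p, q` lie in the maximal ideal
    have key : ∀ p q : B, p * u + q * v ∈ maximalIdeal B ^ 2 → p ∈ maximalIdeal B ∧ q ∈ maximalIdeal B := by
      intro p q hpq
      rw [pow_two] at hpq
      nth_rewrite 2 [hm] at hpq
      rw [Ideal.span_insert, Ideal.mul_sup] at hpq
      obtain ⟨x, hx, y, hy, hxy⟩ := Submodule.mem_sup.mp hpq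
      obtain ⟨δ, hδ, rfl⟩ := Ideal.mem_mul_span_singleton.mp hx
      obtain ⟨ε, hε, rfl⟩ := Ideal.mem_mul_span_singleton.mp hy
      have hrel : (p - δ) * u + (q - ε) * v = 0 := by linear_combination -hxy
      have hmem : (p - δ) ∈ maximalIdeal B ∧ (q - ε) ∈ maximalIdeal B := by
        constructor
        · intro hc
          obtain ⟨s, hs⟩ := hc.exists_left_inv
          apply hnp1
          rw [hm]
          refine ⟨v, le_antisymm (Ideal.span_le.mpr ?_) (Ideal.span_mono (by simp))⟩
          rintro z (rfl | rfl)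
          · exact Ideal.mem_span_singleton'.mpr ⟨- s * (q - ε), by
              linear_combination (-s) * hrel + z * hs⟩
          · exact Ideal.subset_span (by simp)
        · intro hc
          obtain ⟨s, hs⟩ := hc.exists_left_inv
          apply hnp1
          rw [hm]
          refine ⟨u, le_antisymm (Ideal.span_le.mpr ?_) (Ideal.span_mono (by simp))⟩
          rintro z (rfl | rfl)
          · exact Ideal.subset_span (by simp)
          · exact Ideal.mem_span_singleton'.mpr ⟨- s * (p - δ), by
              linear_combination (-s) * hrel + z * hs⟩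
      refine ⟨?_, ?_⟩
      · have : p = (p - δ) + δ := by ring
        rw [this]; exact Ideal.add_mem _ hmem.1 hδ
      · have : q = (q - ε) + ε := by ring
        rw [this]; exact Ideal.add_mem _ hmem.2 hε
    obtain ⟨hp, hq⟩ := key p q h4
    have hmap := map_maximalIdeal_of_surjective (Ideal.Quotient.mk J) Ideal.Quotient.mk_surjective
    constructor
    · rw [← hmap]; exact Ideal.mem_map_of_mem _ hp
    · rw [← hmap]; exact Ideal.mem_map_of_mem _ hq
  -- the relation obtained by differentiating
  have hrelΩ : (2 * α * u + β * v) • KaehlerDifferential.D K B u +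
      (β * u + 2 * γ * v) • KaehlerDifferential.D K B v +
      (u ^ 2) • KaehlerDifferential.D K B α + (u * v) • KaehlerDifferential.D K B β +
      (v ^ 2) • KaehlerDifferential.D K B γ = 0 := by
    have := congrArg (KaehlerDifferential.D K B) hr
    simp only [map_add, Derivation.leibniz, Derivation.leibniz_pow, map_zero, smul_add, smul_smul,
      pow_one, Nat.add_one_sub_one] at this
    rw [← this]
    module
  have hJz : ∀ b ∈ J, ∀ ω : Ω[B⁄K], (1 : B ⧸ J) ⊗ₜ[B] (b • ω) = 0 := by
    intro b hb ω
    rw [← TensorProduct.smul_tmul]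
    have : b • (1 : B ⧸ J) = 0 := by
      rw [Algebra.smul_def, mul_one]
      exact Ideal.Quotient.eq_zero_iff_mem.mpr hb
    rw [this, TensorProduct.zero_tmul]
  have hrelF : (Ideal.Quotient.mk J (2 * α * u + β * v)) • ω₁ +
      (Ideal.Quotient.mk J (β * u + 2 * γ * v)) • ω₂ = 0 := by
    have h5 := congrArg (fun ω => (1 : B ⧸ J) ⊗ₜ[B] ω) hrelΩ
    simp only [TensorProduct.tmul_add, TensorProduct.tmul_zero] at h5
    have hu2 : u ^ 2 ∈ J := h2 (Ideal.pow_mem_pow hum 2)
    have hv2 : v ^ 2 ∈ J := h2 (Ideal.pow_mem_pow hvm 2)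
    have huv2 : u * v ∈ J := h2 (by rw [pow_two]; exact Ideal.mul_mem_mul hum hvm)
    rw [hJz _ hu2, hJz _ hv2, hJz _ huv2, add_zero, add_zero, add_zero] at h5
    rw [← h5]
    congr 1
    · rw [hω₁, TensorProduct.smul_tmul', smul_eq_mul, mul_one, ← TensorProduct.smul_tmul,
        Algebra.smul_def, mul_one]
      rfl
    · rw [hω₂, TensorProduct.smul_tmul', smul_eq_mul, mul_one, ← TensorProduct.smul_tmul,
        Algebra.smul_def, mul_one]
      rfl
  obtain ⟨z1, z2⟩ := eq_zero_of_flat_pair hind hrelF
  rw [Ideal.Quotient.eq_zero_iff_mem] at z1 z2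
  -- `u`, `v` lie in `J`
  obtain ⟨s, hs⟩ := hd.exists_left_inv
  apply le_antisymm h1
  rw [hm, Ideal.span_le]
  rintro z (rfl | rfl)
  · have e : z = s * ((2 * γ) * (2 * α * z + β * v) - β * (β * z + 2 * γ * v)) := by
      linear_combination (-z) * hs
    rw [SetLike.mem_coe, e]
    exact Ideal.mul_mem_left _ _ (Ideal.sub_mem _ (Ideal.mul_mem_left _ _ z1) (Ideal.mul_mem_left _ _ z2))
  · have e : z = s * ((2 * α) * (β * u + 2 * γ * z) - β * (2 * α * u + β * z)) := by
      linear_combination (-z) * hs
    rw [SetLike.mem_coe, e]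
    exact Ideal.mul_mem_left _ _ (Ideal.sub_mem _ (Ideal.mul_mem_left _ _ z2) (Ideal.mul_mem_left _ _ z1))

end Main

section BaseChange

/-- If `N'` is the base change along `A → B` of a module over the local ring `A`, and `F` is a `B`-algebra in which
`m_A` becomes zero, then `F ⊗_B N'` is flat over `F`. -/
theorem flat_tensor_of_isBaseChange {A B F N N' : Type*} [CommRing A] [IsLocalRing A] [CommRing B]
    [CommRing F] [Algebra A B] [Algebra B F] [AddCommGroup N] [Module A N] [AddCommGroup N']
    [Module B N'] [Module A N'] [IsScalarTower A B N'] {g : N →ₗ[A] N'} (hg : IsBaseChange B g)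
    (hF : (maximalIdeal A).map ((algebraMap B F).comp (algebraMap A B)) = ⊥) :
    Module.Flat F (F ⊗[B] N') := by
  let _ : Algebra A F := ((algebraMap B F).comp (algebraMap A B)).toAlgebra
  have _ : IsScalarTower A B F := IsScalarTower.of_algebraMap_eq fun _ => rfl
  let f : ResidueField A →+* F := Ideal.Quotient.lift (maximalIdeal A) (algebraMap A F) (by
    intro a ha
    have : algebraMap A F a ∈ (maximalIdeal A).map ((algebraMap B F).comp (algebraMap A B)) :=
      Ideal.mem_map_of_mem _ ha
    rw [hF] at this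
    exact this)
  let _ : Algebra (ResidueField A) F := f.toAlgebra
  have _ : IsScalarTower A (ResidueField A) F := IsScalarTower.of_algebraMap_eq fun a => by
    change _ = f (residue A a)
    rfl
  have e1 : F ⊗[B] (B ⊗[A] N) ≃ₗ[F] F ⊗[A] N :=
    AlgebraTensorModule.cancelBaseChange A B F F N
  have e2 : F ⊗[ResidueField A] (ResidueField A ⊗[A] N) ≃ₗ[F] F ⊗[A] N :=
    AlgebraTensorModule.cancelBaseChange A (ResidueField A) F F N
  have e3 : F ⊗[B] (B ⊗[A] N) ≃ₗ[F] F ⊗[B] N' :=
    AlgebraTensorModule.congr (LinearEquiv.refl F F) hg.equiv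
  exact Module.Flat.of_linearEquiv (e3.symm ≪≫ₗ e1 ≪≫ₗ e2.symm)

/-- **Omega lemma.**  Let `A` be a local `k`-algebra, `B` a local `K`-algebra with residue field `K`, and `A → B` a local
homomorphism such that `Ω_{B/K}` is the base change of `Ω_{A/k}`.  If `B` is node-like then `m_A B = m_B`. -/
theorem map_maximalIdeal_eq_of_nodeLike {k K A B : Type*} [Field k] [Field K] [Algebra k K]
    [CommRing A] [IsLocalRing A] [Algebra k A] [CommRing B] [IsLocalRing B] [Algebra k B] [Algebra K B]
    [Algebra A B] [IsScalarTower k A B] [IsScalarTower k K B] [IsLocalHom (algebraMap A B)]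
    (h : IsBaseChange B (KaehlerDifferential.map k K A B))
    (hres : Function.Surjective ((residue B).comp (algebraMap K B))) (hB : NodeLike B) :
    (maximalIdeal A).map (algebraMap A B) = maximalIdeal B := by
  have hle : (maximalIdeal A).map (algebraMap A B) ≤ maximalIdeal B :=
    Ideal.map_le_iff_le_comap.mpr (IsLocalRing.maximalIdeal_comap (algebraMap A B)).ge
  set J : Ideal B := (maximalIdeal A).map (algebraMap A B) ⊔ maximalIdeal B ^ 2 with hJ
  have hJ1 : J ≤ maximalIdeal B := sup_le hle (Ideal.pow_le_self (by norm_num))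
  have hJeq : J = maximalIdeal B := by
    refine eq_maximalIdeal_of_flat_kaehler hres hB J le_sup_right hJ1 ?_
    refine flat_tensor_of_isBaseChange h ?_
    rw [← Ideal.map_map]
    have : Ideal.map (algebraMap B (B ⧸ J)) (Ideal.map (algebraMap A B) (maximalIdeal A)) ≤
        Ideal.map (algebraMap B (B ⧸ J)) J := Ideal.map_mono le_sup_left
    rw [eq_bot_iff]
    refine this.trans ?_
    rw [Ideal.Quotient.algebraMap_eq, Ideal.map_quotient_self]
  have hfg : (maximalIdeal B).FG := by
    obtain ⟨⟨u, v, -, -, -, hm, -, -⟩, -⟩ := hB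
    rw [hm]; exact Submodule.fg_span (Set.toFinite _)
  refine le_antisymm hle ?_
  refine Submodule.le_of_le_smul_of_le_jacobson_bot (I := maximalIdeal B) hfg
    (IsLocalRing.maximalIdeal_le_jacobson _) ?_
  rw [smul_eq_mul, ← pow_two]
  exact hJeq.ge

end BaseChange

end Groth.Agent.CurvesB.Node
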