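import Groth.Agent.CurvesB.StalkField
import Groth.Agent.CurvesB.NodeOdp
import Groth.Agent.CurvesB.OmegaLemma
import Groth.Agent.CurvesB.OrdDouble
import Mathlib.AlgebraicGeometry.Morphisms.Finite

/-!
# The criterion for nodes in terms of local rings

A point `x` of a scheme `X` locally of finite type over a field `k` is a node if and only if its residue
field is finite separable over `k` and its local ring is node-like.
-/

set_option autoImplicit false

universe u

open CategoryTheory CategoryTheory.Limits AlgebraicGeometry IsLocalRing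

namespace Groth.Agent.CurvesB.Node

open StalkSemilinear StalkField

section Def

variable {K : Type u} [Field K] {X : Scheme.{u}}

/-- The residue field of `x` is finite and separable over the base field. -/
def ResFS (f : X ⟶ Spec (CommRingCat.of K)) (x : X) : Prop :=
  @Module.Finite K (X.residueField x) _ _ (@Curv2.resAlgebra K _ X ⟨f⟩ x).toModule ∧
  @Algebra.IsSeparable K (X.residueField x) _ _ (@Curv2.resAlgebra K _ X ⟨f⟩ x)

theorem essFiniteType_resMap (f : X ⟶ Spec (CommRingCat.of K)) [LocallyOfFiniteType f] (x : X) :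
    (@Curv2.resMap K _ X ⟨f⟩ x).EssFiniteType := by
  refine RingHom.EssFiniteType.comp (essFiniteType_stMap f x) ?_
  exact (RingHom.FiniteType.of_surjective _ (X.residue_surjective x)).essFiniteType

theorem resFS_iff (f : X ⟶ Spec (CommRingCat.of K)) [LocallyOfFiniteType f] (x : X) :
    ResFS f x ↔ @Algebra.FormallyUnramified K (X.residueField x) _ _ (@Curv2.resAlgebra K _ X ⟨f⟩ x) := by
  let _ := @Curv2.resAlgebra K _ X ⟨f⟩ x
  have _ : Algebra.EssFiniteType K (X.residueField x) := essFiniteType_resMap f x
  constructor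
  · rintro ⟨-, h⟩
    exact Algebra.FormallyUnramified.of_isSeparable K (X.residueField x)
  · intro h
    exact ⟨Algebra.FormallyUnramified.finite_of_free K (X.residueField x),
      Algebra.FormallyUnramified.isSeparable K (X.residueField x)⟩

end Def

section Pullback

variable {k K : Type u} [Field k] [Field K] [Algebra k K] {X Y : Scheme.{u}} {p : Y ⟶ X}
  {f : X ⟶ Spec (CommRingCat.of k)} {q : Y ⟶ Spec (CommRingCat.of K)}

/-- Descent of node-likeness and separability of the residue field. -/
theorem descend (H : IsPullback p q f (Spec.map (CommRingCat.ofHom (algebraMap k K))))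
    [LocallyOfFiniteType f] (y : Y)
    (hres : Function.Surjective ((residue (Y.presheaf.stalk y)).comp (stMap q y)))
    (hB : NodeLike (Y.presheaf.stalk y)) :
    ResFS f (p y) ∧ NodeLike (X.presheaf.stalk (p y)) := by
  let _ : Algebra k (X.presheaf.stalk (p y)) := (stMap f (p y)).toAlgebra
  let _ : Algebra K (Y.presheaf.stalk y) := (stMap q y).toAlgebra
  let _ : Algebra (X.presheaf.stalk (p y)) (Y.presheaf.stalk y) := (p.stalkMap y).hom.toAlgebra
  let _ : Algebra k (Y.presheaf.stalk y) := ((p.stalkMap y).hom.comp (stMap f (p y))).toAlgebra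
  have _ : IsScalarTower k (X.presheaf.stalk (p y)) (Y.presheaf.stalk y) :=
    IsScalarTower.of_algebraMap_eq' rfl
  have _ : IsScalarTower k K (Y.presheaf.stalk y) :=
    IsScalarTower.of_algebraMap_eq' (stalkMap_comp_stMap H y)
  have _ : IsLocalHom (algebraMap (X.presheaf.stalk (p y)) (Y.presheaf.stalk y)) :=
    inferInstanceAs (IsLocalHom (p.stalkMap y).hom)
  have hΩ := isBaseChange_kaehler_stalk H y rfl rfl rfl
  have hm := map_maximalIdeal_eq_of_nodeLike hΩ hres hB
  have hflat : Flat p := MorphismProperty.of_isPullback H.flip inferInstance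
  have _ : Module.Flat (X.presheaf.stalk (p y)) (Y.presheaf.stalk y) := Flat.stalkMap p y
  refine ⟨?_, (nodeLike_iff_of_flat_of_isLocalHom hm).2 hB⟩
  rw [resFS_iff]
  let _ := @Curv2.resAlgebra k _ X ⟨f⟩ (p y)
  let _ : Algebra (X.presheaf.stalk (p y)) (X.residueField (p y)) := (X.residue (p y)).hom.toAlgebra
  have _ : IsScalarTower k (X.presheaf.stalk (p y)) (X.residueField (p y)) :=
    IsScalarTower.of_algebraMap_eq' rfl
  exact LocPushout.formallyUnramified_of_map_eq (X.residue_surjective (p y)) hΩ hres hm

/-- Ascent of node-likeness and separability of the residue field. -/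
theorem ascend (H : IsPullback p q f (Spec.map (CommRingCat.ofHom (algebraMap k K))))
    [LocallyOfFiniteType f] (y : Y) (h1 : ResFS f (p y)) (h2 : NodeLike (X.presheaf.stalk (p y))) :
    ResFS q y ∧ NodeLike (Y.presheaf.stalk y) := by
  have hq : LocallyOfFiniteType q := MorphismProperty.of_isPullback H inferInstance
  let _ : Algebra k (X.presheaf.stalk (p y)) := (stMap f (p y)).toAlgebra
  let _ : Algebra K (Y.presheaf.stalk y) := (stMap q y).toAlgebra
  let _ : Algebra (X.presheaf.stalk (p y)) (Y.presheaf.stalk y) := (p.stalkMap y).hom.toAlgebra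
  let _ : Algebra k (Y.presheaf.stalk y) := ((p.stalkMap y).hom.comp (stMap f (p y))).toAlgebra
  have _ : IsScalarTower k (X.presheaf.stalk (p y)) (Y.presheaf.stalk y) :=
    IsScalarTower.of_algebraMap_eq' rfl
  have _ : IsScalarTower k K (Y.presheaf.stalk y) :=
    IsScalarTower.of_algebraMap_eq' (stalkMap_comp_stMap H y)
  have _ : IsLocalHom (algebraMap (X.presheaf.stalk (p y)) (Y.presheaf.stalk y)) :=
    inferInstanceAs (IsLocalHom (p.stalkMap y).hom)
  have hΩ := isBaseChange_kaehler_stalk H y rfl rfl rfl
  let _ := @Curv2.resAlgebra k _ X ⟨f⟩ (p y)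
  let _ : Algebra (X.presheaf.stalk (p y)) (X.residueField (p y)) := (X.residue (p y)).hom.toAlgebra
  have _ : IsScalarTower k (X.presheaf.stalk (p y)) (X.residueField (p y)) :=
    IsScalarTower.of_algebraMap_eq' rfl
  have _ : Algebra.FormallyUnramified k (X.residueField (p y)) := (resFS_iff f (p y)).1 h1
  have _ : Algebra.EssFiniteType K (Y.presheaf.stalk y) := essFiniteType_stMap q y
  obtain ⟨hm, hfin, hsep⟩ := LocPushout.map_maximalIdeal_eq_of_formallyUnramified
    (X.residue_surjective (p y)) hΩ
  have hflat : Flat p := MorphismProperty.of_isPullback H.flip inferInstance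
  have _ : Module.Flat (X.presheaf.stalk (p y)) (Y.presheaf.stalk y) := Flat.stalkMap p y
  exact ⟨⟨hfin, hsep⟩, (nodeLike_iff_of_flat_of_isLocalHom hm).1 h2⟩

end Pullback

section AlgClosed

variable {K : Type u} [Field K] [IsAlgClosed K] {X : Scheme.{u}}

/-- Over an algebraically closed field: ordinary double points are the points with finite separable
residue field and node-like local ring. -/
theorem isOrdDoublePt_iff (f : X ⟶ Spec (CommRingCat.of K)) [LocallyOfFiniteType f] (x : X) :
    @Curv2.IsOrdDoublePt K _ (X.presheaf.stalk x) _ (@Curv2.stalkAlgebra K _ X ⟨f⟩ x) _ ↔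
      ResFS f x ∧ NodeLike (X.presheaf.stalk x) := by
  have _ : IsLocallyNoetherian X := LocallyOfFiniteType.isLocallyNoetherian f
  let _ := @Curv2.stalkAlgebra K _ X ⟨f⟩ x
  constructor
  · intro h
    have hres : Function.Surjective ((residue (X.presheaf.stalk x)).comp (stMap f x)) := by
      intro z
      obtain ⟨a, rfl⟩ := residue_surjective z
      obtain ⟨c, hc⟩ := OrdDouble.residue_surj_of_isOrdDoublePt h a
      refine ⟨c, ?_⟩
      have := (residue_eq_zero_iff (a - algebraMap K _ c)).2 hc
      rw [map_sub, sub_eq_zero] at this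
      exact this.symm
    refine ⟨?_, nodeLike_of_isOrdDoublePt K _ h⟩
    rw [resFS_iff]
    let _ := @Curv2.resAlgebra K _ X ⟨f⟩ x
    exact Algebra.FormallyUnramified.of_surjective (Algebra.ofId K _) hres
  · rintro ⟨⟨h1, -⟩, h2⟩
    refine isOrdDoublePt_of_nodeLike K _ ?_ h2
    let _ := @Curv2.resAlgebra K _ X ⟨f⟩ x
    have _ : Module.Finite K (X.residueField x) := h1
    exact (IsAlgClosed.algebraMap_bijective_of_isIntegral (k := K) (K := X.residueField x)).2

end AlgClosed

section Closed

variable {K : Type u} [Field K] {X : Scheme.{u}}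

theorem fromSpecStalk_comp (f : X ⟶ Spec (CommRingCat.of K)) (x : X) :
    X.fromSpecStalk x ≫ f = Spec.map (CommRingCat.ofHom (stMap f x)) := by
  apply ext_of_isAffine
  rw [Scheme.Hom.comp_appTop, Scheme.fromSpecStalk_appTop]
  have h2 := Scheme.ΓSpecIso_inv_naturality (CommRingCat.ofHom (stMap f x))
  rw [← cancel_epi (Scheme.ΓSpecIso (CommRingCat.of K)).inv, ← h2]
  have h3 : (Spec (X.presheaf.stalk x)).presheaf.map (homOfLE (le_top : (⊤ : (Spec (X.presheaf.stalk x)).Opens) ≤ ⊤)).op = 𝟙 _ :=
    (Spec (X.presheaf.stalk x)).presheaf.map_id _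
  erw [h3, Category.comp_id]
  rfl

theorem fromSpecResidueField_comp (f : X ⟶ Spec (CommRingCat.of K)) (x : X) :
    X.fromSpecResidueField x ≫ f = Spec.map (CommRingCat.ofHom (@Curv2.resMap K _ X ⟨f⟩ x)) := by
  rw [Scheme.fromSpecResidueField, Category.assoc, fromSpecStalk_comp, ← Spec.map_comp]
  rfl

theorem isClosed_iff_finite (f : X ⟶ Spec (CommRingCat.of K)) [LocallyOfFiniteType f] (x : X) :
    IsClosed ({x} : Set X) ↔
      @Module.Finite K (X.residueField x) _ _ (@Curv2.resAlgebra K _ X ⟨f⟩ x).toModule := by
  have _ : JacobsonSpace X := LocallyOfFiniteType.jacobsonSpace f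
  rw [isClosed_singleton_iff_locallyOfFiniteType]
  let _ := @Curv2.resAlgebra K _ X ⟨f⟩ x
  constructor
  · intro h
    have h1 : LocallyOfFiniteType (X.fromSpecResidueField x ≫ f) := inferInstance
    rw [fromSpecResidueField_comp, ← isFinite_iff_locallyOfFiniteType_of_jacobsonSpace,
      IsFinite.SpecMap_iff] at h1
    exact h1
  · intro h
    have h1 : LocallyOfFiniteType (X.fromSpecResidueField x ≫ f) := by
      rw [fromSpecResidueField_comp, ← isFinite_iff_locallyOfFiniteType_of_jacobsonSpace,
        IsFinite.SpecMap_iff]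
      exact h
    exact locallyOfFiniteType_of_comp _ f

end Closed

section Main

variable {k K : Type u} [Field k] [Field K] [Algebra k K] {X Y : Scheme.{u}} {p : Y ⟶ X}
  {f : X ⟶ Spec (CommRingCat.of k)} {q : Y ⟶ Spec (CommRingCat.of K)}

/-- For a base change to an algebraically closed field `K`: the local ring at `y` is an ordinary double
point if and only if the image `x` has finite separable residue field and node-like local ring. -/
theorem isOrdDoublePt_iff_of_isPullback [IsAlgClosed K]
    (H : IsPullback p q f (Spec.map (CommRingCat.ofHom (algebraMap k K))))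
    [LocallyOfFiniteType f] (y : Y) :
    @Curv2.IsOrdDoublePt K _ (Y.presheaf.stalk y) _ (@Curv2.stalkAlgebra K _ Y ⟨q⟩ y) _ ↔
      ResFS f (p y) ∧ NodeLike (X.presheaf.stalk (p y)) := by
  have hq : LocallyOfFiniteType q := MorphismProperty.of_isPullback H inferInstance
  rw [isOrdDoublePt_iff q y]
  constructor
  · rintro ⟨⟨h1, h1'⟩, h2⟩
    refine descend H y ?_ h2
    let _ := @Curv2.resAlgebra K _ Y ⟨q⟩ y
    have _ : Module.Finite K (Y.residueField y) := h1
    exact (IsAlgClosed.algebraMap_bijective_of_isIntegral (k := K) (K := Y.residueField y)).2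
  · rintro ⟨h1, h2⟩
    exact ascend H y h1 h2

/-- **Criterion for nodes.** -/
theorem isNode_iff_resFS (k : Type u) [Field k] (X : Scheme.{u}) [X.Over (Spec (CommRingCat.of k))]
    [LocallyOfFiniteType (X ↘ Spec (CommRingCat.of k))] (x : X) :
    Curv2.IsNode k X x ↔
      ResFS (X ↘ Spec (CommRingCat.of k)) x ∧ NodeLike (X.presheaf.stalk x) := by
  constructor
  · rintro ⟨-, xb, rfl, h⟩
    exact (isOrdDoublePt_iff_of_isPullback (IsPullback.of_hasPullback _ _) xb).1 h
  · rintro ⟨h1, h2⟩
    refine ⟨(isClosed_iff_finite _ x).2 h1.1, ?_⟩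
    obtain ⟨xb, rfl⟩ := (Curv2.bcFst k X (AlgebraicClosure k)).surjective x
    exact ⟨xb, rfl, (isOrdDoublePt_iff_of_isPullback (IsPullback.of_hasPullback _ _) xb).2 ⟨h1, h2⟩⟩

/-- **Criterion for nodes.**  A point of a scheme locally of finite type over a field is a node if and only
if its residue field is finite separable and its local ring is node-like. -/
theorem isNode_iff (k : Type u) [Field k] (X : Scheme.{u}) [X.Over (Spec (CommRingCat.of k))]
    [LocallyOfFiniteType (X ↘ Spec (CommRingCat.of k))] (x : X) :
    Curv2.IsNode k X x ↔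
      (@Module.Finite k (X.residueField x) _ _ (Curv2.resAlgebra k X x).toModule ∧
        @Algebra.IsSeparable k (X.residueField x) _ _ (Curv2.resAlgebra k X x)) ∧
      NodeLike (X.presheaf.stalk x) :=
  isNode_iff_resFS k X x

/-- The residue field and node-likeness under base change along a field extension. -/
theorem resFS_nodeLike_iff (H : IsPullback p q f (Spec.map (CommRingCat.ofHom (algebraMap k K))))
    [LocallyOfFiniteType f] (y : Y) :
    (ResFS f (p y) ∧ NodeLike (X.presheaf.stalk (p y))) ↔
      (ResFS q y ∧ NodeLike (Y.presheaf.stalk y)) := by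
  constructor
  · rintro ⟨h1, h2⟩
    exact ascend H y h1 h2
  · intro h
    have hq : LocallyOfFiniteType q := MorphismProperty.of_isPullback H inferInstance
    let L := AlgebraicClosure K
    let g : Spec (CommRingCat.of L) ⟶ Spec (CommRingCat.of K) :=
      Spec.map (CommRingCat.ofHom (algebraMap K L))
    have H2 : IsPullback (pullback.fst q g) (pullback.snd q g) q g := IsPullback.of_hasPullback _ _
    have hs : Surjective (pullback.fst q g) := MorphismProperty.of_isPullback H2.flip inferInstance
    obtain ⟨z, rfl⟩ := (pullback.fst q g).surjective y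
    have h3 := (isOrdDoublePt_iff_of_isPullback H2 z).2 h
    have e : g ≫ Spec.map (CommRingCat.ofHom (algebraMap k K)) =
        Spec.map (CommRingCat.ofHom (algebraMap k L)) := by
      rw [← Spec.map_comp]
      congr 1
    have H3 : IsPullback (pullback.fst q g ≫ p) (pullback.snd q g) f
        (Spec.map (CommRingCat.ofHom (algebraMap k L))) := by
      rw [← e]
      exact H2.paste_horiz H
    exact (isOrdDoublePt_iff_of_isPullback H3 z).1 h3

end Main

end Groth.Agent.CurvesB.Node
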