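import Mathlib.RingTheory.Flat.FaithfullyFlat.Algebra
import Mathlib.RingTheory.RingHom.FaithfullyFlat
import Mathlib.RingTheory.LocalRing.MaximalIdeal.Basic
import Mathlib.RingTheory.LocalRing.ResidueField.Basic
import Mathlib.RingTheory.Nakayama
import Mathlib.RingTheory.Ideal.Operations
import Mathlib.Tactic.LinearCombination
import Mathlib.Tactic.Ring
import Mathlib.Tactic.FieldSimp

/-!
# Node-like local rings

`NodeLike A`: the maximal ideal of the local ring `A` is generated by two elements `a, b` satisfying a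
nondegenerate quadratic relation, and no positive power of the maximal ideal is principal.
This is the intrinsic form of "the completion of `A` is `κ[[u, v]]/(q)`, `q` nondegenerate quadratic".

Main result: `nodeLike_iff_of_faithfullyFlat` : for `A → B` faithfully flat with `m_A B = m_B` the two
conditions `NodeLike A` and `NodeLike B` are equivalent.
-/

set_option autoImplicit false

namespace Groth.Agent.CurvesB.Node

open IsLocalRing

/-- A local ring is node-like if its maximal ideal is generated by two elements satisfying a nondegenerate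
quadratic relation and no positive power of the maximal ideal is principal. -/
structure NodeLike (A : Type*) [CommRing A] [IsLocalRing A] : Prop where
  exists_gens : ∃ a b α β γ : A, maximalIdeal A = Ideal.span {a, b} ∧ IsUnit (4 * α * γ - β ^ 2) ∧
    α * a ^ 2 + β * a * b + γ * b ^ 2 = 0
  not_principal : ∀ n : ℕ, 1 ≤ n → ¬ (maximalIdeal A ^ n).IsPrincipal

section Generators

variable {B : Type*} [CommRing B] [IsLocalRing B]

/-- In a local ring, if a principal ideal is generated by a set `S` containing zero then it is generated by one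
element of `S`. -/
theorem exists_mem_span_singleton_eq {S : Set B} (h0 : (0 : B) ∈ S)
    (hI : (Ideal.span S).IsPrincipal) : ∃ c ∈ S, Ideal.span S = Ideal.span {c} := by
  by_contra hcon
  push Not at hcon
  obtain ⟨f, hf⟩ := hI
  have hf' : Ideal.span S = Ideal.span {f} := hf
  have hle : Ideal.span S ≤ maximalIdeal B • Ideal.span S := by
    refine Ideal.span_le.mpr ?_
    intro c hc
    have hc' : c ∈ Ideal.span {f} := hf' ▸ Ideal.subset_span hc
    obtain ⟨r, rfl⟩ := Ideal.mem_span_singleton'.mp hc'
    by_cases hr : IsUnit r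
    · exfalso
      apply hcon _ hc
      rw [hf']
      exact (Ideal.span_singleton_mul_left_unit hr f).symm
    · have : r ∈ maximalIdeal B := hr
      change r • f ∈ _
      refine Submodule.smul_mem_smul this ?_
      rw [hf']
      exact Ideal.mem_span_singleton_self f
  have hfg : (Ideal.span S).FG := by
    rw [hf']
    exact ⟨{f}, by simp [Ideal.span]⟩
  have hbot : Ideal.span S = ⊥ :=
    Submodule.eq_bot_of_le_smul_of_le_jacobson_bot _ _ hfg hle
      (IsLocalRing.maximalIdeal_le_jacobson _)
  apply hcon 0 h0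
  rw [hbot]
  simp

/-- Exchange lemma in a local ring. -/
theorem exchange {S : Set B} {x y : B} (hS : Ideal.span S = Ideal.span {x, y})
    (hx : x ∉ Ideal.span {y}) : ∃ c ∈ S, Ideal.span S = Ideal.span {c, y} := by
  by_contra hcon
  push Not at hcon
  have key : ∀ c ∈ S, ∃ p ∈ maximalIdeal B, ∃ q : B, p * x + q * y = c := by
    intro c hc
    have hc' : c ∈ Ideal.span {x, y} := hS ▸ Ideal.subset_span hc
    obtain ⟨p, q, hpq⟩ := Ideal.mem_span_pair.mp hc'
    refine ⟨p, ?_, q, hpq⟩
    intro hp
    apply hcon c hc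
    rw [hS]
    apply le_antisymm
    · refine Ideal.span_le.mpr ?_
      rintro z (rfl | rfl)
      · obtain ⟨p', hp'⟩ := hp.exists_left_inv
        refine Ideal.mem_span_pair.mpr ⟨p', -p' * q, ?_⟩
        rw [← hpq]
        linear_combination z * hp'
      · exact Ideal.subset_span (by simp)
    · refine Ideal.span_le.mpr ?_
      rintro z (rfl | rfl)
      · exact hc'
      · exact Ideal.subset_span (by simp)
  have hxS : x ∈ Ideal.span S := hS ▸ Ideal.subset_span (by simp)
  have key2 : ∀ z ∈ Ideal.span S, ∃ p ∈ maximalIdeal B, ∃ q : B, p * x + q * y = z := by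
    intro z hz
    induction hz using Submodule.span_induction with
    | mem z hz => exact key z hz
    | zero => exact ⟨0, Ideal.zero_mem _, 0, by ring⟩
    | add z w _ _ hz hw =>
      obtain ⟨p, hp, q, rfl⟩ := hz
      obtain ⟨p', hp', q', rfl⟩ := hw
      exact ⟨p + p', Ideal.add_mem _ hp hp', q + q', by ring⟩
    | smul a z _ hz =>
      obtain ⟨p, hp, q, rfl⟩ := hz
      exact ⟨a * p, Ideal.mul_mem_left _ _ hp, a * q, by simp only [smul_eq_mul]; ring⟩
  obtain ⟨p, hp, q, hpq⟩ := key2 x hxS
  have hu : IsUnit (1 - p) := by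
    rcases IsLocalRing.isUnit_or_isUnit_one_sub_self p with h | h
    · exact absurd h hp
    · exact h
  apply hx
  obtain ⟨s, hs⟩ := hu.exists_left_inv
  refine Ideal.mem_span_singleton'.mpr ⟨s * q, ?_⟩
  linear_combination s * hpq + x * hs

/-- In a local ring, an ideal generated by a set `S` containing `0` and generated by two elements is generated by two
elements of `S`. -/
theorem exists_pair_span_eq {S : Set B} (h0 : (0 : B) ∈ S) {x y : B}
    (hS : Ideal.span S = Ideal.span {x, y}) :
    ∃ c ∈ S, ∃ d ∈ S, Ideal.span S = Ideal.span {c, d} := by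
  by_cases hx : x ∈ Ideal.span {y}
  · have hpr : (Ideal.span S).IsPrincipal := by
      refine ⟨y, ?_⟩
      rw [hS]
      apply le_antisymm
      · refine Ideal.span_le.mpr ?_
        rintro z (rfl | rfl)
        · exact hx
        · exact Ideal.subset_span rfl
      · exact Ideal.span_mono (by simp)
    obtain ⟨c, hc, h⟩ := exists_mem_span_singleton_eq h0 hpr
    refine ⟨c, hc, 0, h0, ?_⟩
    rw [h]
    apply le_antisymm
    · exact Ideal.span_mono (by simp)
    · refine Ideal.span_le.mpr ?_
      rintro z (rfl | rfl)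
      · exact Ideal.subset_span rfl
      · exact Ideal.zero_mem _
  · obtain ⟨c, hc, h⟩ := exchange hS hx
    by_cases hy : y ∈ Ideal.span {c}
    · refine ⟨c, hc, 0, h0, ?_⟩
      rw [h]
      apply le_antisymm
      · refine Ideal.span_le.mpr ?_
        rintro z (rfl | rfl)
        · exact Ideal.subset_span (by simp)
        · exact Ideal.span_mono (by simp) hy
      · refine Ideal.span_le.mpr ?_
        rintro z (rfl | rfl)
        · exact Ideal.subset_span (by simp)
        · exact Ideal.zero_mem _
    · obtain ⟨d, hd, h'⟩ := exchange (x := y) (y := c) (by rw [h, Set.pair_comm]) hy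
      exact ⟨d, hd, c, hc, h'⟩

/-- In a local ring, if a `2`-generated ideal is generated by three elements, then one of these is in the ideal
generated by the other two. -/
theorem mem_of_span_triple_eq {p q r x y : B} (h : Ideal.span {p, q, r} = Ideal.span {x, y}) :
    p ∈ Ideal.span {q, r} ∨ q ∈ Ideal.span {p, r} ∨ r ∈ Ideal.span {p, q} := by
  have h' : Ideal.span ({0, p, q, r} : Set B) = Ideal.span {x, y} := by
    rw [Ideal.span_insert, h]; simp
  obtain ⟨c, hc, d, hd, hcd⟩ := exists_pair_span_eq (by simp) h'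
  have hp : p ∈ Ideal.span {c, d} := hcd ▸ Ideal.subset_span (by simp)
  have hq : q ∈ Ideal.span {c, d} := hcd ▸ Ideal.subset_span (by simp)
  have hr : r ∈ Ideal.span {c, d} := hcd ▸ Ideal.subset_span (by simp)
  have mono : ∀ {s t : Set B} {z : B}, z ∈ Ideal.span s → s ⊆ (Ideal.span t : Ideal B) →
      z ∈ Ideal.span t := fun hz hst => (Ideal.span_le.mpr hst) hz
  rcases hc with rfl | rfl | rfl | rfl <;> rcases hd with rfl | rfl | rfl | rfl
  · left; exact mono hp (by rintro z (rfl | rfl) <;> exact Ideal.zero_mem _)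
  · right; left; exact mono hq (by
      rintro z (rfl | rfl)
      · exact Ideal.zero_mem _
      · exact Ideal.subset_span (by simp))
  · left; exact mono hp (by
      rintro z (rfl | rfl)
      · exact Ideal.zero_mem _
      · exact Ideal.subset_span (by simp))
  · left; exact mono hp (by
      rintro z (rfl | rfl)
      · exact Ideal.zero_mem _
      · exact Ideal.subset_span (by simp))
  · right; left; exact mono hq (by
      rintro z (rfl | rfl)
      · exact Ideal.subset_span (by simp)
      · exact Ideal.zero_mem _)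
  · right; left; exact mono hq (by
      rintro z (rfl | rfl) <;> exact Ideal.subset_span (by simp))
  · right; right; exact hr
  · right; left; exact hq
  · left; exact mono hp (by
      rintro z (rfl | rfl)
      · exact Ideal.subset_span (by simp)
      · exact Ideal.zero_mem _)
  · right; right; rw [Set.pair_comm]; exact hr
  · left; exact mono hp (by
      rintro z (rfl | rfl) <;> exact Ideal.subset_span (by simp))
  · left; exact hp
  · left; exact mono hp (by
      rintro z (rfl | rfl)
      · exact Ideal.subset_span (by simp)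
      · exact Ideal.zero_mem _)
  · right; left; rw [Set.pair_comm]; exact hq
  · left; rw [Set.pair_comm]; exact hp
  · left; exact mono hp (by
      rintro z (rfl | rfl) <;> exact Ideal.subset_span (by simp))

end Generators

section Forms

variable {A : Type*} [CommRing A] [IsLocalRing A]

omit [IsLocalRing A] in
/-- The square of an ideal generated by two elements. -/
theorem span_pair_sq (a b : A) :
    (Ideal.span {a, b} : Ideal A) ^ 2 = Ideal.span {a ^ 2, a * b, b ^ 2} := by
  rw [pow_two, Ideal.span_pair_mul_span_pair]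
  apply le_antisymm
  · refine Ideal.span_le.mpr ?_
    rintro z (rfl | rfl | rfl | rfl)
    · exact Ideal.subset_span (by simp [pow_two])
    · exact Ideal.subset_span (by simp)
    · exact Ideal.subset_span (by simp [mul_comm])
    · exact Ideal.subset_span (by simp [pow_two])
  · refine Ideal.span_le.mpr ?_
    rintro z (rfl | rfl | rfl)
    · exact Ideal.subset_span (by simp [pow_two])
    · exact Ideal.subset_span (by simp)
    · exact Ideal.subset_span (by simp [pow_two])

/-- If the discriminant is a unit, one of the coefficients is a unit. -/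
theorem isUnit_or_of_disc {α β γ : A} (h : IsUnit (4 * α * γ - β ^ 2)) :
    IsUnit α ∨ IsUnit β ∨ IsUnit γ := by
  by_contra hcon
  push Not at hcon
  obtain ⟨ha, hb, -⟩ := hcon
  have ha' : α ∈ maximalIdeal A := ha
  have hb' : β ∈ maximalIdeal A := hb
  have : 4 * α * γ - β ^ 2 ∈ maximalIdeal A := by
    refine Ideal.sub_mem _ ?_ ?_
    · exact Ideal.mul_mem_right _ _ (Ideal.mul_mem_left _ _ ha')
    · exact Ideal.pow_mem_of_mem _ hb' 2 (by norm_num)
  exact this h

omit [IsLocalRing A] in
/-- If `q(a,b) = 0` and some coefficient of `q` is a unit, then the square of the ideal `(a,b)` is generated by two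
elements. -/
theorem exists_pair_sq {a b α β γ : A} (hu : IsUnit α ∨ IsUnit β ∨ IsUnit γ)
    (h : α * a ^ 2 + β * a * b + γ * b ^ 2 = 0) :
    ∃ c d : A, (Ideal.span {a, b} : Ideal A) ^ 2 = Ideal.span {c, d} := by
  rw [span_pair_sq]
  rcases hu with hu | hu | hu
  · obtain ⟨s, hs⟩ := hu.exists_left_inv
    refine ⟨a * b, b ^ 2, ?_⟩
    refine le_antisymm (Ideal.span_le.mpr ?_) (Ideal.span_mono (by intro z; simp; tauto))
    rintro z (rfl | rfl | rfl)
    · exact Ideal.mem_span_pair.mpr ⟨- s * β, -s * γ, by linear_combination (-s) * h + a ^ 2 * hs⟩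
    · exact Ideal.subset_span (by simp)
    · exact Ideal.subset_span (by simp)
  · obtain ⟨s, hs⟩ := hu.exists_left_inv
    refine ⟨a ^ 2, b ^ 2, ?_⟩
    refine le_antisymm (Ideal.span_le.mpr ?_) (Ideal.span_mono (by intro z; simp; tauto))
    rintro z (rfl | rfl | rfl)
    · exact Ideal.subset_span (by simp)
    · exact Ideal.mem_span_pair.mpr ⟨- s * α, -s * γ, by linear_combination (-s) * h + a * b * hs⟩
    · exact Ideal.subset_span (by simp)
  · obtain ⟨s, hs⟩ := hu.exists_left_inv
    refine ⟨a ^ 2, a * b, ?_⟩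
    refine le_antisymm (Ideal.span_le.mpr ?_) (Ideal.span_mono (by intro z; simp; tauto))
    rintro z (rfl | rfl | rfl)
    · exact Ideal.subset_span (by simp)
    · exact Ideal.subset_span (by simp)
    · exact Ideal.mem_span_pair.mpr ⟨- s * α, -s * β, by linear_combination (-s) * h + b ^ 2 * hs⟩

/-- Parallel vectors in a field: if `x ≠ 0` is parallel to `y` and `disc y ≠ 0` then `disc x ≠ 0`. -/
theorem disc_ne_zero_of_parallel {κ : Type*} [Field κ] {x₁ x₂ x₃ y₁ y₂ y₃ : κ}
    (hx : ¬ (x₁ = 0 ∧ x₂ = 0 ∧ x₃ = 0)) (hy : 4 * y₁ * y₃ - y₂ ^ 2 ≠ 0)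
    (h12 : x₁ * y₂ = x₂ * y₁) (h13 : x₁ * y₃ = x₃ * y₁) (h23 : x₂ * y₃ = x₃ * y₂) :
    4 * x₁ * x₃ - x₂ ^ 2 ≠ 0 := by
  have hyy : ¬ (y₁ = 0 ∧ y₂ = 0 ∧ y₃ = 0) := by
    rintro ⟨rfl, rfl, rfl⟩; apply hy; ring
  have key : ∃ c : κ, x₁ = c * y₁ ∧ x₂ = c * y₂ ∧ x₃ = c * y₃ := by
    by_cases h1 : y₁ = 0
    · by_cases h2 : y₂ = 0
      · have h3 : y₃ ≠ 0 := fun h3 => hyy ⟨h1, h2, h3⟩
        refine ⟨x₃ / y₃, ?_, ?_, ?_⟩
        · field_simp; linear_combination h13
        · field_simp; linear_combination h23
        · field_simp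
      · refine ⟨x₂ / y₂, ?_, ?_, ?_⟩
        · field_simp; linear_combination h12
        · field_simp
        · field_simp; linear_combination -h23
    · refine ⟨x₁ / y₁, ?_, ?_, ?_⟩
      · field_simp
      · field_simp; linear_combination -h12
      · field_simp; linear_combination -h13
  obtain ⟨c, rfl, rfl, rfl⟩ := key
  have hc : c ≠ 0 := by
    rintro rfl; apply hx; simp
  have : 4 * (c * y₁) * (c * y₃) - (c * y₂) ^ 2 = c ^ 2 * (4 * y₁ * y₃ - y₂ ^ 2) := by ring
  rw [this]
  exact mul_ne_zero (pow_ne_zero 2 hc) hy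

/-- In a local ring whose maximal ideal has non-principal square, two quadratic relations between generators
are proportional modulo the maximal ideal. -/
theorem minor_mem {u v x₁ x₂ x₃ y₁ y₂ y₃ : A} (hm : maximalIdeal A = Ideal.span {u, v})
    (hn : ¬ (maximalIdeal A ^ 2).IsPrincipal)
    (hx : x₁ * u ^ 2 + x₂ * u * v + x₃ * v ^ 2 = 0)
    (hy : y₁ * u ^ 2 + y₂ * u * v + y₃ * v ^ 2 = 0) :
    ¬ IsUnit (x₁ * y₂ - x₂ * y₁) ∧ ¬ IsUnit (x₁ * y₃ - x₃ * y₁) ∧ ¬ IsUnit (x₂ * y₃ - x₃ * y₂) := by
  rw [hm, span_pair_sq] at hn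
  refine ⟨?_, ?_, ?_⟩
  · intro hu
    obtain ⟨s, hs⟩ := hu.exists_left_inv
    apply hn
    refine ⟨v ^ 2, le_antisymm (Ideal.span_le.mpr ?_) (Ideal.span_mono (by simp))⟩
    rintro z (rfl | rfl | rfl)
    · refine Ideal.mem_span_singleton'.mpr ⟨- s * (x₃ * y₂ - x₂ * y₃), ?_⟩
      linear_combination (-s * y₂) * hx + (s * x₂) * hy + u ^ 2 * hs
    · refine Ideal.mem_span_singleton'.mpr ⟨- s * (x₁ * y₃ - x₃ * y₁), ?_⟩
      linear_combination (s * y₁) * hx - (s * x₁) * hy + u * v * hs
    · exact Ideal.subset_span (by simp)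
  · intro hu
    obtain ⟨s, hs⟩ := hu.exists_left_inv
    apply hn
    refine ⟨u * v, le_antisymm (Ideal.span_le.mpr ?_) (Ideal.span_mono (by simp))⟩
    rintro z (rfl | rfl | rfl)
    · refine Ideal.mem_span_singleton'.mpr ⟨- s * (x₂ * y₃ - x₃ * y₂), ?_⟩
      linear_combination (-s * y₃) * hx + (s * x₃) * hy + u ^ 2 * hs
    · exact Ideal.subset_span (by simp)
    · refine Ideal.mem_span_singleton'.mpr ⟨- s * (x₁ * y₂ - x₂ * y₁), ?_⟩
      linear_combination (s * y₁) * hx - (s * x₁) * hy + v ^ 2 * hs
  · intro hu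
    obtain ⟨s, hs⟩ := hu.exists_left_inv
    apply hn
    refine ⟨u ^ 2, le_antisymm (Ideal.span_le.mpr ?_) (Ideal.span_mono (by simp))⟩
    rintro z (rfl | rfl | rfl)
    · exact Ideal.subset_span (by simp)
    · refine Ideal.mem_span_singleton'.mpr ⟨- s * (x₁ * y₃ - x₃ * y₁), ?_⟩
      linear_combination (-s * y₃) * hx + (s * x₃) * hy + u * v * hs
    · refine Ideal.mem_span_singleton'.mpr ⟨ s * (x₁ * y₂ - x₂ * y₁), ?_⟩
      linear_combination (s * y₂) * hx - (s * x₂) * hy + v ^ 2 * hs

/-- The key nondegeneracy statement: in a node-like ring, any quadratic relation with a unit coefficient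
between generators of the maximal ideal is nondegenerate. -/
theorem isUnit_disc_of_relation (hA : NodeLike A) {a b α β γ : A}
    (hm : maximalIdeal A = Ideal.span {a, b}) (hu : IsUnit α ∨ IsUnit β ∨ IsUnit γ)
    (h : α * a ^ 2 + β * a * b + γ * b ^ 2 = 0) : IsUnit (4 * α * γ - β ^ 2) := by
  obtain ⟨⟨u, v, e, f, g, hm', hdisc, hrel⟩, hnp⟩ := hA
  have hnp1 : ¬ (maximalIdeal A).IsPrincipal := by simpa using hnp 1 le_rfl
  -- relations between `u, v` have coefficients in the maximal ideal
  have hrel_mem : ∀ c d : A, c * u + d * v = 0 → c ∈ maximalIdeal A ∧ d ∈ maximalIdeal A := by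
    intro c d hcd
    constructor
    · intro hc
      obtain ⟨s, hs⟩ := hc.exists_left_inv
      apply hnp1
      rw [hm']
      refine ⟨v, le_antisymm (Ideal.span_le.mpr ?_) (Ideal.span_mono (by simp))⟩
      rintro z (rfl | rfl)
      · exact Ideal.mem_span_singleton'.mpr ⟨- s * d, by linear_combination (-s) * hcd + z * hs⟩
      · exact Ideal.subset_span (by simp)
    · intro hd
      obtain ⟨s, hs⟩ := hd.exists_left_inv
      apply hnp1
      rw [hm']
      refine ⟨u, le_antisymm (Ideal.span_le.mpr ?_) (Ideal.span_mono (by simp))⟩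
      rintro z (rfl | rfl)
      · exact Ideal.subset_span (by simp)
      · exact Ideal.mem_span_singleton'.mpr ⟨- s * c, by linear_combination (-s) * hcd + z * hs⟩
  have ha : a ∈ Ideal.span {u, v} := by rw [← hm', hm]; exact Ideal.subset_span (by simp)
  have hb : b ∈ Ideal.span {u, v} := by rw [← hm', hm]; exact Ideal.subset_span (by simp)
  have hu' : u ∈ Ideal.span {a, b} := by rw [← hm, hm']; exact Ideal.subset_span (by simp)
  have hv' : v ∈ Ideal.span {a, b} := by rw [← hm, hm']; exact Ideal.subset_span (by simp)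
  obtain ⟨p, q, hpq⟩ := Ideal.mem_span_pair.mp ha
  obtain ⟨r, s, hrs⟩ := Ideal.mem_span_pair.mp hb
  obtain ⟨p', q', hpq'⟩ := Ideal.mem_span_pair.mp hu'
  obtain ⟨r', s', hrs'⟩ := Ideal.mem_span_pair.mp hv'
  obtain ⟨h11, h12⟩ := hrel_mem (p' * p + q' * r - 1) (p' * q + q' * s)
    (by linear_combination hpq' + p' * hpq + q' * hrs)
  obtain ⟨h21, h22⟩ := hrel_mem (r' * p + s' * r) (r' * q + s' * s - 1)
    (by linear_combination hrs' + r' * hpq + s' * hrs)
  -- the determinant of the base change is a unit
  have hdet : IsUnit (p * s - q * r) := by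
    by_contra hcon
    have hcon' : p * s - q * r ∈ maximalIdeal A := hcon
    have : (1 : A) ∈ maximalIdeal A := by
      have e1 : (1 : A) = (p' * s' - q' * r') * (p * s - q * r)
          - ((p' * p + q' * r - 1) * (r' * q + s' * s) + (r' * q + s' * s - 1)
            - (p' * q + q' * s) * (r' * p + s' * r)) := by ring
      rw [e1]
      refine Ideal.sub_mem _ (Ideal.mul_mem_left _ _ hcon') ?_
      refine Ideal.sub_mem _ (Ideal.add_mem _ (Ideal.mul_mem_right _ _ h11) h22)
        (Ideal.mul_mem_right _ _ h12)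
    exact this isUnit_one
  -- the transformed relation
  have hrel' : (α * p ^ 2 + β * p * r + γ * r ^ 2) * u ^ 2 +
      (2 * α * p * q + β * (p * s + q * r) + 2 * γ * r * s) * u * v +
      (α * q ^ 2 + β * q * s + γ * s ^ 2) * v ^ 2 = 0 := by
    rw [← hpq, ← hrs] at h
    linear_combination h
  obtain ⟨m12, m13, m23⟩ := minor_mem hm' (hnp 2 (by norm_num)) hrel' hrel
  -- pass to the residue field
  set π := residue A with hπ
  have toRes : ∀ x : A, ¬ IsUnit x → π x = 0 := fun x hx =>
    (residue_eq_zero_iff x).mpr hx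
  have toRes' : ∀ x : A, IsUnit x → π x ≠ 0 := fun x hx => (hx.map π).ne_zero
  have hy : 4 * π e * π g - π f ^ 2 ≠ 0 := by
    have := toRes' _ hdisc
    simpa only [map_sub, map_mul, map_pow, map_ofNat] using this
  have hdet' : π p * π s - π q * π r ≠ 0 := by
    have := toRes' _ hdet
    simpa using this
  by_contra hcon
  have hcon' : 4 * π α * π γ - π β ^ 2 = 0 := by
    have := toRes _ hcon
    simpa only [map_sub, map_mul, map_pow, map_ofNat] using this
  have e12 := toRes _ m12
  have e13 := toRes _ m13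
  have e23 := toRes _ m23
  have hd := disc_ne_zero_of_parallel (κ := ResidueField A)
    (x₁ := π (α * p ^ 2 + β * p * r + γ * r ^ 2))
    (x₂ := π (2 * α * p * q + β * (p * s + q * r) + 2 * γ * r * s))
    (x₃ := π (α * q ^ 2 + β * q * s + γ * s ^ 2))
    (y₁ := π e) (y₂ := π f) (y₃ := π g) ?_ hy
    (by rw [← sub_eq_zero, ← e12]; simp)
    (by rw [← sub_eq_zero, ← e13]; simp)
    (by rw [← sub_eq_zero, ← e23]; simp)
  · apply hd
    simp only [map_add, map_mul, map_pow, map_ofNat]
    linear_combination (π p * π s - π q * π r) ^ 2 * hcon'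
  · -- not all coefficients vanish
    rintro ⟨z1, z2, z3⟩
    simp only [map_add, map_mul, map_pow, map_ofNat] at z1 z2 z3
    -- invert the base change
    have g1 : (π p * π s - π q * π r) ^ 2 * π α = 0 := by
      linear_combination (π s) ^ 2 * z1 - (π r) * (π s) * z2 + (π r) ^ 2 * z3
    have g3 : (π p * π s - π q * π r) ^ 2 * π γ = 0 := by
      linear_combination (π q) ^ 2 * z1 - (π p) * (π q) * z2 + (π p) ^ 2 * z3
    have g2 : (π p * π s - π q * π r) ^ 2 * π β = 0 := by
      linear_combination (-2 * (π q) * (π s)) * z1 + ((π p) * (π s) + (π q) * (π r)) * z2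
        - 2 * (π p) * (π r) * z3
    have hne := pow_ne_zero 2 hdet'
    rcases hu with hu | hu | hu
    · exact toRes' _ hu ((mul_eq_zero.mp g1).resolve_left hne)
    · exact toRes' _ hu ((mul_eq_zero.mp g2).resolve_left hne)
    · exact toRes' _ hu ((mul_eq_zero.mp g3).resolve_left hne)

end Forms

section Main

variable {A B : Type*} [CommRing A] [IsLocalRing A] [CommRing B] [IsLocalRing B] [Algebra A B]

theorem NodeLike.of_map_eq [Module.FaithfullyFlat A B]
    (h : (maximalIdeal A).map (algebraMap A B) = maximalIdeal B) (hA : NodeLike A) : NodeLike B := by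
  obtain ⟨⟨a, b, α, β, γ, hm, hdisc, hrel⟩, hnp⟩ := hA
  refine ⟨⟨algebraMap A B a, algebraMap A B b, algebraMap A B α, algebraMap A B β,
    algebraMap A B γ, ?_, ?_, ?_⟩, ?_⟩
  · rw [← h, hm, Ideal.map_span, Set.image_pair]
  · have := hdisc.map (algebraMap A B)
    simpa only [map_sub, map_mul, map_pow, map_ofNat] using this
  · have := congrArg (algebraMap A B) hrel
    simpa using this
  · intro n hn hpr
    have h1 : maximalIdeal B ^ n = Ideal.span (algebraMap A B '' (maximalIdeal A ^ n : Ideal A)) := by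
      rw [← h, ← Ideal.map_pow]; rfl
    rw [h1] at hpr
    have h0 : (0 : B) ∈ algebraMap A B '' (maximalIdeal A ^ n : Ideal A) :=
      ⟨0, Ideal.zero_mem _, map_zero _⟩
    obtain ⟨c, hc, hc'⟩ := exists_mem_span_singleton_eq h0 hpr
    obtain ⟨c, hc, rfl⟩ := hc
    have h2 : (maximalIdeal A ^ n).map (algebraMap A B) = (Ideal.span {c}).map (algebraMap A B) := by
      rw [Ideal.map_span, Set.image_singleton, ← hc']; rfl
    have h3 := Ideal.map_injective_of_faithfullyFlat (B := B) h2
    exact hnp n hn ⟨c, h3⟩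

theorem NodeLike.of_map_eq' [Module.FaithfullyFlat A B]
    (h : (maximalIdeal A).map (algebraMap A B) = maximalIdeal B) (hB : NodeLike B) : NodeLike A := by
  have hB' := hB
  obtain ⟨⟨u, v, e, f, g, hm, hdisc, hrel⟩, hnp⟩ := hB'
  -- generators
  have h1 : maximalIdeal B = Ideal.span (algebraMap A B '' (maximalIdeal A : Ideal A)) := by
    rw [← h]; rfl
  obtain ⟨a', ⟨a, ha, rfl⟩, b', ⟨b, hb, rfl⟩, hab⟩ := exists_pair_span_eq
    (S := algebraMap A B '' (maximalIdeal A : Ideal A)) ⟨0, Ideal.zero_mem _, map_zero _⟩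
    (x := u) (y := v) (by rw [← h1, hm])
  have hmA : maximalIdeal A = Ideal.span {a, b} := by
    apply Ideal.map_injective_of_faithfullyFlat (B := B)
    rw [Ideal.map_span, Set.image_pair, ← hab]; rfl
  have hmB : maximalIdeal B = Ideal.span {algebraMap A B a, algebraMap A B b} := by
    rw [h1, hab]
  -- the relation
  obtain ⟨c, d, hcd⟩ := exists_pair_sq (isUnit_or_of_disc hdisc) hrel
  have hsq : Ideal.span {algebraMap A B a ^ 2, algebraMap A B a * algebraMap A B b,
      algebraMap A B b ^ 2} = Ideal.span {c, d} := by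
    rw [← hcd, ← span_pair_sq, ← hmB, hm]
  have hmap : ∀ x : A, ∀ y z : A, algebraMap A B x ∈ Ideal.span {algebraMap A B y, algebraMap A B z} →
      x ∈ Ideal.span {y, z} := by
    intro x y z hx
    have : Ideal.span {algebraMap A B y, algebraMap A B z} =
        (Ideal.span {y, z}).map (algebraMap A B) := by
      rw [Ideal.map_span, Set.image_pair]
    rw [this] at hx
    have h2 : x ∈ ((Ideal.span {y, z}).map (algebraMap A B)).comap (algebraMap A B) := hx
    rwa [Ideal.comap_map_eq_self_of_faithfullyFlat] at h2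
  have hex : ∃ α β γ : A, (IsUnit α ∨ IsUnit β ∨ IsUnit γ) ∧
      α * a ^ 2 + β * a * b + γ * b ^ 2 = 0 := by
    rcases mem_of_span_triple_eq hsq with h3 | h3 | h3
    · have h4 := hmap (a ^ 2) (a * b) (b ^ 2) (by simpa using h3)
      obtain ⟨r, s, hrs⟩ := Ideal.mem_span_pair.mp h4
      exact ⟨1, -r, -s, Or.inl isUnit_one, by linear_combination - hrs⟩
    · have h4 := hmap (a * b) (a ^ 2) (b ^ 2) (by simpa using h3)
      obtain ⟨r, s, hrs⟩ := Ideal.mem_span_pair.mp h4
      exact ⟨-r, 1, -s, Or.inr (Or.inl isUnit_one), by linear_combination - hrs⟩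
    · have h4 := hmap (b ^ 2) (a ^ 2) (a * b) (by simpa using h3)
      obtain ⟨r, s, hrs⟩ := Ideal.mem_span_pair.mp h4
      exact ⟨-r, -s, 1, Or.inr (Or.inr isUnit_one), by linear_combination - hrs⟩
  obtain ⟨α, β, γ, hu, hrelA⟩ := hex
  refine ⟨⟨a, b, α, β, γ, hmA, ?_, hrelA⟩, ?_⟩
  · -- nondegeneracy
    have huB : IsUnit (algebraMap A B α) ∨ IsUnit (algebraMap A B β) ∨
        IsUnit (algebraMap A B γ) := by
      rcases hu with hu | hu | hu
      · exact Or.inl (hu.map _)
      · exact Or.inr (Or.inl (hu.map _))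
      · exact Or.inr (Or.inr (hu.map _))
    have := isUnit_disc_of_relation hB hmB huB
      (by have := congrArg (algebraMap A B) hrelA; simpa using this)
    have hloc : IsLocalHom (algebraMap A B) := Module.FaithfullyFlat.isLocalHom A B
    apply hloc.map_nonunit
    simpa only [map_sub, map_mul, map_pow, map_ofNat] using this
  · intro n hn hpr
    apply hnp n hn
    obtain ⟨c, hc⟩ := hpr
    refine ⟨algebraMap A B c, ?_⟩
    have hc' : maximalIdeal A ^ n = Ideal.span {c} := hc
    rw [← h, ← Ideal.map_pow, hc', Ideal.map_span, Set.image_singleton]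

/-- Node-likeness is insensitive to faithfully flat local extensions `A → B` with `m_A B = m_B`. -/
theorem nodeLike_iff_of_faithfullyFlat [Module.FaithfullyFlat A B]
    (h : (maximalIdeal A).map (algebraMap A B) = maximalIdeal B) : NodeLike A ↔ NodeLike B :=
  ⟨NodeLike.of_map_eq h, NodeLike.of_map_eq' h⟩

/-- Node-likeness is insensitive to flat local extensions `A → B` with `m_A B = m_B`. -/
theorem nodeLike_iff_of_flat_of_isLocalHom [Module.Flat A B] [IsLocalHom (algebraMap A B)]
    (h : (maximalIdeal A).map (algebraMap A B) = maximalIdeal B) : NodeLike A ↔ NodeLike B :=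
  have := Module.FaithfullyFlat.of_flat_of_isLocalHom (A := A) (B := B)
  nodeLike_iff_of_faithfullyFlat h

end Main

/-- Node-likeness is invariant under ring isomorphism. -/
theorem NodeLike.of_ringEquiv {A B : Type*} [CommRing A] [IsLocalRing A] [CommRing B] [IsLocalRing B]
    (e : A ≃+* B) (hA : NodeLike A) : NodeLike B := by
  let _ : Algebra A B := e.toRingHom.toAlgebra
  have hbij : Function.Bijective (algebraMap A B) := e.bijective
  have hff : Module.FaithfullyFlat A B := by
    have : RingHom.FaithfullyFlat (algebraMap A B) := RingHom.FaithfullyFlat.of_bijective hbij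
    exact (RingHom.faithfullyFlat_algebraMap_iff).mp this
  refine NodeLike.of_map_eq (A := A) (B := B) ?_ hA
  apply le_antisymm
  · rw [Ideal.map_le_iff_le_comap]
    intro x hx
    change ¬ IsUnit _
    intro hu
    exact hx ((MulEquiv.isUnit_map e).mp hu)
  · intro y hy
    obtain ⟨x, rfl⟩ := e.surjective y
    refine Ideal.mem_map_of_mem (algebraMap A B) ?_
    intro hx
    exact hy ((MulEquiv.isUnit_map e).mpr hx)

end Groth.Agent.CurvesB.Node
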