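import Groth.Prelude.Def_CurvBase
import Groth.Agent.CurvesB.NodalEtale

/-!
# At-worst-nodal families are étale local on the source
-/

set_option autoImplicit false

open CategoryTheory CategoryTheory.Limits AlgebraicGeometry IsLocalRing Curv2

universe u

namespace Groth.Agent.CurvesB.NodalCover

section

variable {X S : Scheme.{u}} (f : X ⟶ S) {ι : Type u} {U : ι → Scheme.{u}} (g : ∀ i, U i ⟶ X)

theorem exists_fiberMap_eq (hsurj : ∀ x : X, ∃ i, x ∈ Set.range (g i)) (s : S) (x : f.fiber s) :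
    ∃ i, x ∈ Set.range (NodalEtale.fiberMap f (g i) s) := by
  obtain ⟨i, v, hv⟩ := hsurj (f.fiberι s x)
  obtain ⟨z, hz1, hz2⟩ := Scheme.Pullback.exists_preimage_pullback x v hv.symm
  let e := (NodalEtale.isPullback_fiberMap f (g i) s).isoPullback
  refine ⟨i, e.inv z, ?_⟩
  rw [← hz1, ← Scheme.Hom.comp_apply, IsPullback.isoPullback_inv_fst]

/-- Irreducible components of the fibres. -/
theorem forall_dim_eq_one [∀ i, Etale (g i)] (hsurj : ∀ x : X, ∃ i, x ∈ Set.range (g i))
    (h : ∀ i, IsNodalFamily (g i ≫ f)) (s : S) :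
    ∀ Z ∈ irreducibleComponents (f.fiber s : Type u), topologicalKrullDim Z = 1 := by
  have hqf : ∀ i, LocallyQuasiFinite (NodalEtale.fiberMap f (g i) s) :=
    fun i => DimOneEtale.locallyQuasiFinite_of_formallyUnramified _
  exact DimOneEtale.forall_dim_eq_one_of_etale_cover (fun i => NodalEtale.fiberMap f (g i) s)
    (exists_fiberMap_eq f g hsurj s) (fun i => ((h i).2.2 s).1)

/-- `AtWorstNodal` descends along jointly surjective families of étale morphisms, given descent of
smoothness along étale surjections on the source. -/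
theorem atWorstNodal_of_etale_cover (k : Type u) [Field k] {X : Scheme.{u}}
    [X.Over (Spec (CommRingCat.of k))] [LocallyOfFiniteType (X ↘ Spec (CommRingCat.of k))]
    {U : ι → Scheme.{u}} [∀ i, (U i).Over (Spec (CommRingCat.of k))] (g : ∀ i, U i ⟶ X)
    (hg : ∀ i, g i ≫ (X ↘ Spec (CommRingCat.of k)) = U i ↘ Spec (CommRingCat.of k))
    [∀ i, Etale (g i)] (hsurj : ∀ x : X, ∃ i, x ∈ Set.range (g i))
    (hsm : ∀ {V W : Scheme.{u}} (p : V ⟶ W) (q : W ⟶ Spec (CommRingCat.of k)) [Surjective p]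
      [Etale p] [LocallyOfFiniteType q] [Smooth (p ≫ q)], Smooth q)
    (h : ∀ i, AtWorstNodal k (U i)) : AtWorstNodal k X := by
  intro x hx
  obtain ⟨i, v, hv⟩ := hsurj x
  have hft : LocallyOfFiniteType (U i ↘ Spec (CommRingCat.of k)) := by
    rw [← hg i]; infer_instance
  have := LocallyOfFiniteType.jacobsonSpace (U i ↘ Spec (CommRingCat.of k))
  obtain ⟨y, hyx, hy⟩ := nonempty_inter_closedPoints (X := U i) (Z := g i ⁻¹' {x}) ⟨v, hv⟩
    (hx.preimage (g i).continuous).isLocallyClosed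
  have hyx' : g i y = x := hyx
  subst hyx'
  rcases h i y hy with ⟨V, hV, hVs⟩ | hn
  · left
    let m : (V : Scheme.{u}) ⟶ X := V.ι ≫ g i
    let W : X.Opens := ⟨Set.range m, m.isOpenMap.isOpen_range⟩
    refine ⟨W, ⟨⟨y, hV⟩, rfl⟩, ?_⟩
    let m' : (V : Scheme.{u}) ⟶ (W : Scheme.{u}) :=
      IsOpenImmersion.lift W.ι m (by simp [W])
    have hm' : m' ≫ W.ι = m := IsOpenImmersion.lift_fac _ _ _
    have hes : Etale (m' ≫ W.ι) := by rw [hm']; infer_instance
    have he : Etale m' := Etale.of_comp m' W.ι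
    have hs : Surjective m' := ⟨by
      rintro ⟨w, z, hz⟩
      refine ⟨z, ?_⟩
      apply W.ι.injective
      rw [← Scheme.Hom.comp_apply, hm', hz]
      rfl⟩
    have hsm' : Smooth (m' ≫ W.ι ≫ (X ↘ Spec (CommRingCat.of k))) := by
      rw [← Category.assoc, hm', Category.assoc, hg i]
      exact hVs
    exact hsm m' (W.ι ≫ (X ↘ Spec (CommRingCat.of k)))
  · right
    exact (NodeEtale.isNode_iff_of_etale k (g i) (hg i) y hy).2 hn

end

end Groth.Agent.CurvesB.NodalCover
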