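import Groth.Prelude.Def_CurvBase
import Groth.Agent.CurvesC.NodeFinal
import Groth.Agent.Models.NodeNodal
import Groth.Agent.Models.SmoothCase
import Groth.Agent.CurvesB.NodeCriterion
import Groth.Agent.CurvesB.NodalPostcomp
import Groth.Agent.Smoothlim.SmoothLocusBC
import Groth.Agent.VarietyA.SmoothLocusSch
import Groth.Agent.S1593

/-!
# The largest open on which a morphism is at-worst-nodal of relative dimension one

`Chart f x`: étale locally on source and target `f` is `C[u,v]/(uv-c)` over `C` around `x`.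
-/

set_option autoImplicit false

open CategoryTheory CategoryTheory.Limits AlgebraicGeometry

universe u

namespace Groth.Agent.CurvesB.MaxNodal

open Groth.Agent.Models.NodeBlow Groth.Agent.Models.NodeRing

/-- The structure morphism of the model `Spec C[u,v]/(uv-c) ⟶ Spec C`. -/
noncomputable abbrev str (C : Type u) [CommRing C] (c : C) :
    Spec (CommRingCat.of (W C c)) ⟶ Spec (CommRingCat.of C) :=
  Spec.map (CommRingCat.ofHom (algebraMap C (W C c)))

/-- Around `x`, `f` is étale locally on source and target the model `uv = c`. -/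
def Chart {X S : Scheme.{u}} (f : X ⟶ S) (x : X) : Prop :=
  ∃ (U : Scheme.{u}) (g : U ⟶ X) (C : Type u) (_ : CommRing C) (c : C)
    (e : U ⟶ Spec (CommRingCat.of (W C c))) (h : Spec (CommRingCat.of C) ⟶ S),
    Etale g ∧ Etale e ∧ Etale h ∧ g ≫ f = e ≫ str C c ≫ h ∧ x ∈ Set.range g

theorem etale_spec_comp {A B : Type u} [CommRing A] [CommRing B] (φ : A →+* B) (hφ : φ.Etale) {X : Scheme.{u}}
    (j : Spec (CommRingCat.of A) ⟶ X) [IsOpenImmersion j] : Etale (Spec.map (CommRingCat.ofHom φ) ≫ j) := by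
  haveI : Etale (Spec.map (CommRingCat.ofHom φ)) :=
    (HasRingHomProperty.Spec_iff (P := @Etale) (Q := RingHom.Etale)).mpr hφ
  infer_instance

/-- Theorem A: charts at nodes of fibres. -/
theorem chart_of_isNode {X S : Scheme.{u}} (f : X ⟶ S) [Flat f] [LocallyOfFinitePresentation f] (x : X)
    (hx : @Curv2.IsNode (S.residueField (f x)) _ (f.fiber (f x))
      ⟨f.fiberToSpecResidueField (f x)⟩ (f.asFiber x)) : Chart f x := by
  obtain ⟨R, A, _, _, _, jS, jX, _, _, hcomm, _, _, K, _, _, _, _, _, hxK, φ, hN⟩ :=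
    Groth.Agent.CurvesC.NodeScheme.exists_affine_node f x hx
  obtain ⟨C, A₂, _, _, ρ, ι, c, κ, χ, hρ, hι, hκ, hc, hχ⟩ := Groth.Agent.CurvesC.NodeFinal.exists_model φ hN
  refine ⟨Spec (CommRingCat.of A₂), Spec.map (CommRingCat.ofHom ρ) ≫ jX, C, inferInstance, c,
    Spec.map (CommRingCat.ofHom κ), Spec.map (CommRingCat.ofHom ι) ≫ jS, etale_spec_comp ρ hρ jX, ?_,
    etale_spec_comp ι hι jS, ?_, ?_⟩
  · exact (HasRingHomProperty.Spec_iff (P := @Etale) (Q := RingHom.Etale)).mpr hκ
  · rw [Category.assoc, hcomm, ← Category.assoc, ← Spec.map_comp, ← CommRingCat.ofHom_comp, hc, CommRingCat.ofHom_comp,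
      Spec.map_comp, Category.assoc, CommRingCat.ofHom_comp, Spec.map_comp, Category.assoc]
    rfl
  · let z : Spec (CommRingCat.of A₂) := ⟨RingHom.ker χ, RingHom.ker_isPrime _⟩
    refine ⟨z, ?_⟩
    change jX (Spec.map (CommRingCat.ofHom ρ) z) = x
    rw [← hxK]
    congr 1
    refine PrimeSpectrum.ext ?_
    change Ideal.comap ρ (RingHom.ker χ) = RingHom.ker (algebraMap A K)
    rw [RingHom.comap_ker, hχ]

/-- Charts are nodal. -/
theorem isNodalFamily_chart {U S : Scheme.{u}} (C : Type u) [CommRing C] (c : C)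
    (e : U ⟶ Spec (CommRingCat.of (W C c))) (h : Spec (CommRingCat.of C) ⟶ S) [Etale e] [Etale h] :
    Curv2.IsNodalFamily (e ≫ str C c ≫ h) := by
  rw [← Category.assoc]
  exact NodalPostcomp.isNodalFamily_postcomp_etale _ h
    (NodalEtale.isNodalFamily_precomp_etale (str C c) e (Models.NodeNodal.isNodalFamily C c))

/-- Theorem C: a family with charts everywhere is nodal. -/
theorem isNodalFamily_of_chart {X S : Scheme.{u}} (f : X ⟶ S) (H : ∀ x, Chart f x) :
    Curv2.IsNodalFamily f := by
  choose U g C iC c e h hg he hh hfac hx using H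
  let U' : X → Scheme.{u} := U
  have := hg
  refine Groth.Agent.S1593.result f X U g (fun x => ⟨x, hx x⟩) (fun x => ?_)
  rw [hfac x]
  have := he x
  have := hh x
  exact isNodalFamily_chart (C x) (c x) (e x) (h x)

end Groth.Agent.CurvesB.MaxNodal
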