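import Groth.Agent.CurvesB.NodalDescent
import Groth.Agent.CurvesB.NodalPostcomp
import Groth.Agent.CurvesB.NodalEtale
import Mathlib.AlgebraicGeometry.Geometrically.Connected

/-!
# Restricting nodal families to open subschemes of the base
-/

set_option autoImplicit false

universe u

open CategoryTheory CategoryTheory.Limits AlgebraicGeometry Curv2

namespace Groth.Agent.CurvesB.NodalBase

open NodalPostcomp

variable {X S S' : Scheme.{u}} (g : X ⟶ S') (e : S' ⟶ S)

theorem isPullback_of_mono [Mono e] : IsPullback (𝟙 X) g (g ≫ e) e := by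
  have h := (IsPullback.of_horiz_isIso (fst := 𝟙 X) (snd := g) (f := g) (g := 𝟙 S') ⟨by simp⟩).paste_vert
    (IsKernelPair.id_of_mono e)
  simpa using h

theorem surjective_fiberIncl [IsOpenImmersion e] (s' : S') :
    Function.Surjective (fiberIncl g e s') := by
  intro y
  have h1 : (g ≫ e) ((g ≫ e).fiberι (e s') y) = e s' := by
    have : (g ≫ e).fiberι (e s') y ∈ Set.range ((g ≫ e).fiberι (e s')) := ⟨y, rfl⟩
    rw [Scheme.Hom.range_fiberι] at this
    exact this
  have h2 : g ((g ≫ e).fiberι (e s') y) = s' := by
    rw [Scheme.Hom.comp_apply] at h1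
    exact e.isOpenEmbedding.injective h1
  have h3 : (g ≫ e).fiberι (e s') y ∈ Set.range (g.fiberι s') := by
    rw [Scheme.Hom.range_fiberι]
    exact h2
  obtain ⟨x', hx'⟩ := h3
  refine ⟨x', ?_⟩
  apply ((g ≫ e).fiberι (e s')).isEmbedding.injective
  rw [← Scheme.Hom.comp_apply, fiberIncl_ι, hx']

theorem isIso_fiberIncl [IsOpenImmersion e] (s' : S') : IsIso (fiberIncl g e s') := by
  have h1 : IsOpenImmersion (fiberIncl g e s') := isOpenImmersion_fiberIncl g e s'
  have h2 : Surjective (fiberIncl g e s') := ⟨surjective_fiberIncl g e s'⟩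
  exact (isIso_iff_isOpenImmersion_and_surjective _).2 ⟨h1, h2⟩

/-- A family of curves over an open subscheme of the base is nodal if it is nodal over the whole base. -/
theorem isNodalFamily_of_comp [IsOpenImmersion e] (h : IsNodalFamily (g ≫ e)) : IsNodalFamily g := by
  obtain ⟨h1, h2, h3⟩ := h
  have hpb := isPullback_of_mono g e
  refine ⟨MorphismProperty.of_isPullback hpb h1, MorphismProperty.of_isPullback hpb h2, fun s' => ?_⟩
  have := isIso_fiberIncl g e s'
  have hft' : LocallyOfFiniteType ((g ≫ e).fiberToSpecResidueField (e s')) :=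
    MorphismProperty.pullback_snd _ _ inferInstance
  have hjac : JacobsonSpace ((g ≫ e).fiber (e s')) :=
    LocallyOfFiniteType.jacobsonSpace ((g ≫ e).fiberToSpecResidueField (e s'))
  have hdim : ∀ Z ∈ irreducibleComponents (g.fiber s' : Type u), topologicalKrullDim Z = 1 := by
    have := DimOneEtale.locallyQuasiFinite_of_formallyUnramified (fiberIncl g e s')
    exact DimOneEtale.forall_dim_eq_one_of_etale (fiberIncl g e s') (h3 (e s')).1
  refine ⟨hdim, ?_⟩
  letI : Algebra (S'.residueField s') (S.residueField (e s')) := (inv (e.residueFieldMap s')).hom.toAlgebra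
  letI i1 : (g.fiber s').Over (Spec (CommRingCat.of (S'.residueField s'))) := ⟨g.fiberToSpecResidueField s'⟩
  letI i2 : ((g ≫ e).fiber (e s')).Over (Spec (CommRingCat.of (S.residueField (e s')))) :=
    ⟨(g ≫ e).fiberToSpecResidueField (e s')⟩
  have hfp : LocallyOfFinitePresentation ((g.fiber s') ↘ Spec (CommRingCat.of (S'.residueField s'))) := by
    have : LocallyOfFinitePresentation g := MorphismProperty.of_isPullback hpb h2
    exact MorphismProperty.pullback_snd _ _ this
  refine NodalDescent.atWorstNodal_of_isPullback (S'.residueField s') (S.residueField (e s'))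
    (inv (fiberIncl g e s')) ?_ hdim (h3 (e s')).2
  have hw : inv (fiberIncl g e s') ≫ g.fiberToSpecResidueField s' =
      (g ≫ e).fiberToSpecResidueField (e s') ≫ Spec.map (inv (e.residueFieldMap s')) := by
    rw [IsIso.inv_comp_eq, ← Category.assoc, fiberIncl_snd, Category.assoc, ← Spec.map_comp]
    simp
  have : IsIso (Spec.map (CommRingCat.ofHom (algebraMap (S'.residueField s') (S.residueField (e s'))))) := by
    change IsIso (Spec.map (inv (e.residueFieldMap s')))
    infer_instance
  exact IsPullback.of_horiz_isIso ⟨hw⟩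

/-- The restriction of a nodal family to an open of the base is nodal. -/
theorem isNodalFamily_morphismRestrict {X S : Scheme.{u}} (f : X ⟶ S) (hf : IsNodalFamily f)
    (V : S.Opens) : IsNodalFamily (f ∣_ V) := by
  apply isNodalFamily_of_comp (f ∣_ V) V.ι
  rw [morphismRestrict_ι]
  exact NodalEtale.isNodalFamily_precomp_etale f (f ⁻¹ᵁ V).ι hf

/-- The restriction of a nodal family to an affine open `V` of the base, as a family over the spectrum of
the sections over `V`. -/
theorem isNodalFamily_affine {X S : Scheme.{u}} (f : X ⟶ S) (hf : IsNodalFamily f)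
    {V : S.Opens} (hV : IsAffineOpen V) : IsNodalFamily ((f ∣_ V) ≫ hV.isoSpec.hom) :=
  isNodalFamily_postcomp_etale (f ∣_ V) hV.isoSpec.hom (isNodalFamily_morphismRestrict f hf V)

theorem geometricallyConnected_affine {X S : Scheme.{u}} (f : X ⟶ S) [GeometricallyConnected f]
    {V : S.Opens} (hV : IsAffineOpen V) : GeometricallyConnected ((f ∣_ V) ≫ hV.isoSpec.hom) := by
  have h : IsPullback (𝟙 _) (f ∣_ V) ((f ∣_ V) ≫ hV.isoSpec.hom) hV.isoSpec.hom := isPullback_of_mono _ _
  rw [MorphismProperty.cancel_right_of_respectsIso @GeometricallyConnected]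
  infer_instance

end Groth.Agent.CurvesB.NodalBase
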