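import Groth.Agent.CurvesB.NodalLocal
import Mathlib.RingTheory.Ideal.AssociatedPrime.Finiteness

/-!
# Coordinates on a two-dimensional local ring given by two derivations, and nodes
-/

set_option autoImplicit false

universe u

namespace Groth.Agent.CurvesB.NodalLocal

open IsLocalRing

section NonPrincipal

/-- If some power of the maximal ideal of a Noetherian local ring, containing a non zero divisor, is principal,
then the maximal ideal is principal. -/
theorem isPrincipal_of_pow {T : Type*} [CommRing T] [IsLocalRing T] (n : ℕ)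
    (hn : (maximalIdeal T ^ (n + 1)).IsPrincipal) (hreg : ∃ t ∈ maximalIdeal T, t ∈ nonZeroDivisors T) :
    (maximalIdeal T).IsPrincipal := by
  obtain ⟨c, hc⟩ := hn
  have hc' : maximalIdeal T ^ (n + 1) = Ideal.span {c} := hc
  obtain ⟨t, htm, ht⟩ := hreg
  -- c is a non zero divisor
  have hcreg : ∀ z, z * c = 0 → z = 0 := by
    intro z hz
    have h1 : t ^ (n + 1) ∈ Ideal.span {c} := by rw [← hc']; exact Ideal.pow_mem_pow htm _
    obtain ⟨s, hs⟩ := Ideal.mem_span_singleton'.mp h1
    have h2 : z * t ^ (n + 1) = 0 := by rw [← hs]; linear_combination s * hz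
    have h3 : t ^ (n + 1) ∈ nonZeroDivisors T := pow_mem ht _
    exact (mem_nonZeroDivisors_iff_right.mp h3) z h2
  -- c is a product x * y, up to unit
  have key : ∃ x ∈ maximalIdeal T, ∃ y ∈ maximalIdeal T ^ n, ∃ w, IsUnit w ∧ x * y = c * w := by
    by_contra hcon
    push Not at hcon
    have h1 : ∀ z ∈ maximalIdeal T * maximalIdeal T ^ n, ∃ w ∈ maximalIdeal T, z = c * w := by
      intro z hz
      refine Submodule.mul_induction_on hz ?_ ?_
      · intro x hx y hy
        have h2 : x * y ∈ Ideal.span {c} := by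
          rw [← hc', pow_succ']
          exact Ideal.mul_mem_mul hx hy
        obtain ⟨w, hw⟩ := Ideal.mem_span_singleton'.mp h2
        refine ⟨w, ?_, by rw [← hw]; ring⟩
        intro hwu
        exact hcon x hx y hy w hwu (by rw [← hw]; ring)
      · rintro a b ⟨w, hw, rfl⟩ ⟨w', hw', rfl⟩
        exact ⟨w + w', Ideal.add_mem _ hw hw', by ring⟩
    obtain ⟨w, hw, hcw⟩ := h1 c (by rw [← pow_succ', hc']; exact Ideal.mem_span_singleton_self c)
    have h3 : (1 - w) * c = 0 := by linear_combination hcw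
    have h4 := hcreg _ h3
    have : w = 1 := by linear_combination -h4
    rw [this] at hw
    exact hw isUnit_one
  obtain ⟨x, hx, y, hy, w, hw, hxy⟩ := key
  obtain ⟨v, hv⟩ := hw.exists_left_inv
  refine ⟨x, le_antisymm ?_ ((Ideal.span_singleton_le_iff_mem _).mpr hx)⟩
  intro z hz
  have h1 : z * y ∈ Ideal.span {c} := by
    rw [← hc', pow_succ']
    exact Ideal.mul_mem_mul hz hy
  obtain ⟨s, hs⟩ := Ideal.mem_span_singleton'.mp h1
  -- y * (z - s v x) = 0
  have h2 : (z - s * v * x) * y = 0 := by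
    linear_combination (-1 : T) * hs - s * v * hxy - s * c * hv
  have h3 : (z - s * v * x) * c = 0 := by
    have : c = x * y * v := by linear_combination (-v) * hxy - c * hv
    rw [this]
    linear_combination (x * v) * h2
  have h4 := hcreg _ h3
  exact Ideal.mem_span_singleton'.mpr ⟨s * v, by linear_combination -h4⟩

/-- In a Noetherian local ring in which no nonzero element is killed by the maximal ideal, the maximal ideal
contains a non zero divisor. -/
theorem exists_nonZeroDivisor {T : Type*} [CommRing T] [IsLocalRing T] [IsNoetherianRing T]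
    (h : ∀ z : T, (∀ x ∈ maximalIdeal T, x * z = 0) → z = 0) :
    ∃ t ∈ maximalIdeal T, t ∈ nonZeroDivisors T := by
  by_contra hcon
  push Not at hcon
  have fin := associatedPrimes.finite T T
  have h1 : ((maximalIdeal T : Ideal T) : Set T) ⊆ ⋃ p ∈ associatedPrimes T T, (p : Set T) := by
    rw [biUnion_associatedPrimes_eq_compl_nonZeroDivisors]
    intro t ht
    exact hcon t ht
  obtain ⟨P, hP, hle⟩ := ((maximalIdeal T).subset_union_prime_finite fin (f := id) 0 0
    (fun _ h _ _ ↦ h.isPrime)).1 h1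
  obtain ⟨hPp, z, hz⟩ := hP
  have hz0 : z ≠ 0 := by
    rintro rfl
    apply hPp.ne_top
    rw [hz, Ideal.radical_eq_top, eq_top_iff]
    intro x _
    simp [Submodule.mem_colon_singleton]
  apply hz0
  have hpow : ∀ n : ℕ, ∀ z : T, (∀ x ∈ maximalIdeal T ^ n, x * z = 0) → z = 0 := by
    intro n
    induction n with
    | zero =>
      intro z hz
      have := hz 1 (by simp)
      rwa [one_mul] at this
    | succ n ih =>
      intro z hz
      apply ih
      intro x hx
      apply h
      intro t ht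
      rw [← mul_assoc]
      apply hz
      rw [pow_succ']
      exact Ideal.mul_mem_mul ht hx
  have hle' : maximalIdeal T ≤ ((⊥ : Submodule T T).colon {z}).radical := by
    rw [← hz]; exact hle
  obtain ⟨n, hn⟩ := Ideal.exists_pow_le_of_le_radical_of_fg hle'
    ((isNoetherianRing_iff_ideal_fg T).mp inferInstance _)
  apply hpow n
  intro x hx
  have h2 := hn hx
  rw [Submodule.mem_colon_singleton] at h2
  simpa using h2

end NonPrincipal

section Coord

variable {R : Type*} [CommRing R] [IsLocalRing R]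

/-- Two derivations forming coordinates at the closed point. -/
structure Coord (D : Fin 2 → R → R) : Prop where
  add : ∀ i x y, D i (x + y) = D i x + D i y
  mul : ∀ i x y, D i (x * y) = x * D i y + y * D i x
  exists_det : ∃ a ∈ maximalIdeal R, ∃ b ∈ maximalIdeal R, IsUnit (D 0 a * D 1 b - D 1 a * D 0 b)
  inj : ∀ x ∈ maximalIdeal R, (∀ i, D i x ∈ maximalIdeal R) → x ∈ maximalIdeal R ^ 2

variable {D : Fin 2 → R → R}

theorem Coord.sub (hD : Coord D) (i : Fin 2) (x y : R) : D i (x - y) = D i x - D i y := by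
  have h := hD.add i (x - y) y
  rw [sub_add_cancel] at h
  linear_combination -h

theorem Coord.zero (hD : Coord D) (i : Fin 2) : D i 0 = 0 := by
  have h := hD.add i 0 0
  rw [add_zero] at h
  linear_combination -h

/-- Derivatives of elements of the square of the maximal ideal are in the maximal ideal. -/
theorem Coord.mem_of_mem_sq (hD : Coord D) (i : Fin 2) (x : R) (hx : x ∈ maximalIdeal R ^ 2) :
    D i x ∈ maximalIdeal R := by
  rw [pow_two] at hx
  refine Submodule.mul_induction_on hx ?_ ?_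
  · intro m hm n hn
    rw [hD.mul]
    exact Ideal.add_mem _ (Ideal.mul_mem_right _ _ hm) (Ideal.mul_mem_right _ _ hn)
  · intro u v hu hv
    rw [hD.add]
    exact Ideal.add_mem _ hu hv

theorem Coord.mem_sq_of_sub (hD : Coord D) (i : Fin 2) (x y : R) (h : x - y ∈ maximalIdeal R ^ 2) :
    D i x - D i y ∈ maximalIdeal R := by
  rw [← hD.sub]
  exact hD.mem_of_mem_sq i _ h

variable [IsNoetherianRing R]

/-- Nakayama in the form used here. -/
theorem eq_of_le_sup_sq {I : Ideal R} (hI : I ≤ maximalIdeal R)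
    (h : maximalIdeal R ≤ I ⊔ maximalIdeal R ^ 2) : maximalIdeal R = I := by
  apply le_antisymm _ hI
  have hfg : (maximalIdeal R).FG := (isNoetherianRing_iff_ideal_fg R).mp inferInstance _
  refine Submodule.le_of_le_smul_of_le_jacobson_bot hfg (maximalIdeal_le_jacobson _) ?_
  rw [smul_eq_mul, ← pow_two]
  exact h

theorem Coord.span_eq_of_det (hD : Coord D) {a b : R} (ha : a ∈ maximalIdeal R)
    (hb : b ∈ maximalIdeal R) (hdet : IsUnit (D 0 a * D 1 b - D 1 a * D 0 b)) :
    maximalIdeal R = Ideal.span {a, b} := by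
  apply eq_of_le_sup_sq
  · refine Ideal.span_le.mpr ?_
    rintro z (rfl | rfl)
    · exact ha
    · exact hb
  · intro x hx
    obtain ⟨s, hs⟩ := hdet.exists_left_inv
    obtain ⟨u, hu⟩ : ∃ u, u = s * (D 0 x * D 1 b - D 1 x * D 0 b) := ⟨_, rfl⟩
    obtain ⟨v, hv⟩ : ∃ v, v = s * (D 0 a * D 1 x - D 1 a * D 0 x) := ⟨_, rfl⟩
    have e0 : u * D 0 a + v * D 0 b = D 0 x := by
      rw [hu, hv]; linear_combination (D 0 x) * hs
    have e1 : u * D 1 a + v * D 1 b = D 1 x := by
      rw [hu, hv]; linear_combination (D 1 x) * hs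
    have hy : x - (u * a + v * b) ∈ maximalIdeal R ^ 2 := by
      apply hD.inj
      · exact Ideal.sub_mem _ hx (Ideal.add_mem _ (Ideal.mul_mem_left _ _ ha) (Ideal.mul_mem_left _ _ hb))
      · intro i
        rw [hD.sub, hD.add, hD.mul i u a, hD.mul i v b]
        have e : D i x - (u * D i a + a * D i u + (v * D i b + b * D i v)) =
            (D i x - (u * D i a + v * D i b)) - (a * D i u + b * D i v) := by ring
        rw [e]
        refine Ideal.sub_mem _ ?_ (Ideal.add_mem _ (Ideal.mul_mem_right _ _ ha) (Ideal.mul_mem_right _ _ hb))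
        fin_cases i
        · simp only [Fin.zero_eta]; rw [e0, sub_self]; exact Ideal.zero_mem _
        · simp only [Fin.mk_one]; rw [e1, sub_self]; exact Ideal.zero_mem _
    have : x = (u * a + v * b) + (x - (u * a + v * b)) := by ring
    rw [this]
    exact Ideal.add_mem _ (Ideal.mem_sup_left (Ideal.mem_span_pair.mpr ⟨u, v, rfl⟩)) (Ideal.mem_sup_right hy)

omit [IsNoetherianRing R] in
theorem Coord.det_of_span_eq (hD : Coord D) {a b : R} (hm : maximalIdeal R = Ideal.span {a, b}) :
    IsUnit (D 0 a * D 1 b - D 1 a * D 0 b) := by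
  obtain ⟨a', ha', b', hb', hdet⟩ := hD.exists_det
  have ha : a ∈ maximalIdeal R := by rw [hm]; exact Ideal.subset_span (by simp)
  have hb : b ∈ maximalIdeal R := by rw [hm]; exact Ideal.subset_span (by simp)
  rw [hm] at ha' hb'
  obtain ⟨p, q, rfl⟩ := Ideal.mem_span_pair.mp ha'
  obtain ⟨r, s, rfl⟩ := Ideal.mem_span_pair.mp hb'
  by_contra hcon
  have hcon' : D 0 a * D 1 b - D 1 a * D 0 b ∈ maximalIdeal R := hcon
  have : D 0 (p * a + q * b) * D 1 (r * a + s * b) - D 1 (p * a + q * b) * D 0 (r * a + s * b) ∈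
      maximalIdeal R := by
    simp only [hD.add, hD.mul]
    have e : (p * D 0 a + a * D 0 p + (q * D 0 b + b * D 0 q)) * (r * D 1 a + a * D 1 r + (s * D 1 b + b * D 1 s)) -
        (p * D 1 a + a * D 1 p + (q * D 1 b + b * D 1 q)) * (r * D 0 a + a * D 0 r + (s * D 0 b + b * D 0 s)) =
        (p * s - q * r) * (D 0 a * D 1 b - D 1 a * D 0 b) +
        a * ((D 0 p) * (r * D 1 a + a * D 1 r + (s * D 1 b + b * D 1 s)) + (p * D 0 a + (q * D 0 b)) * D 1 r
          - (D 1 p) * (r * D 0 a + a * D 0 r + (s * D 0 b + b * D 0 s)) - (p * D 1 a + (q * D 1 b)) * D 0 r) +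
        b * ((D 0 q) * (r * D 1 a + a * D 1 r + (s * D 1 b + b * D 1 s)) + (p * D 0 a + (q * D 0 b)) * D 1 s
          - (D 1 q) * (r * D 0 a + a * D 0 r + (s * D 0 b + b * D 0 s)) - (p * D 1 a + (q * D 1 b)) * D 0 s) := by
      ring
    rw [e]
    exact Ideal.add_mem _ (Ideal.add_mem _ (Ideal.mul_mem_left _ _ hcon') (Ideal.mul_mem_right _ _ ha))
      (Ideal.mul_mem_right _ _ hb)
  exact this hdet

omit [IsNoetherianRing R] in
/-- Derivatives of a quadratic form. -/
theorem Coord.deriv_quadratic (hD : Coord D) {a b : R} (ha : a ∈ maximalIdeal R)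
    (hb : b ∈ maximalIdeal R) (α β γ : R) (i : Fin 2) :
    ∃ r ∈ maximalIdeal R ^ 2, D i (α * a ^ 2 + β * a * b + γ * b ^ 2) =
      (2 * α * a + β * b) * D i a + (β * a + 2 * γ * b) * D i b + r := by
  refine ⟨a ^ 2 * D i α + a * b * D i β + b ^ 2 * D i γ, ?_, ?_⟩
  · refine Ideal.add_mem _ (Ideal.add_mem _ ?_ ?_) ?_
    · exact Ideal.mul_mem_right _ _ (Ideal.pow_mem_pow ha 2)
    · refine Ideal.mul_mem_right _ _ ?_
      rw [pow_two]
      exact Ideal.mul_mem_mul ha hb
    · exact Ideal.mul_mem_right _ _ (Ideal.pow_mem_pow hb 2)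
  · simp only [hD.add, hD.mul, pow_two]
    ring

/-- For a nondegenerate quadratic `h`, the ideal `(h, D₀h, D₁h)` is the maximal ideal. -/
theorem Coord.jac_eq (hD : Coord D) {a b α β γ : R} (hm : maximalIdeal R = Ideal.span {a, b})
    (hdisc : IsUnit (4 * α * γ - β ^ 2)) {h : R} (hh : h = α * a ^ 2 + β * a * b + γ * b ^ 2) :
    maximalIdeal R = Ideal.span {h, D 0 h, D 1 h} := by
  have ha : a ∈ maximalIdeal R := by rw [hm]; exact Ideal.subset_span (by simp)
  have hb : b ∈ maximalIdeal R := by rw [hm]; exact Ideal.subset_span (by simp)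
  have hh2 : h ∈ maximalIdeal R ^ 2 := by
    rw [hh]
    refine Ideal.add_mem _ (Ideal.add_mem _ ?_ ?_) ?_
    · exact Ideal.mul_mem_left _ _ (Ideal.pow_mem_pow ha 2)
    · rw [mul_assoc, pow_two]
      exact Ideal.mul_mem_left _ _ (Ideal.mul_mem_mul ha hb)
    · exact Ideal.mul_mem_left _ _ (Ideal.pow_mem_pow hb 2)
  set J := Ideal.span {h, D 0 h, D 1 h} with hJ
  have hdet := hD.det_of_span_eq hm
  apply eq_of_le_sup_sq
  · refine Ideal.span_le.mpr ?_
    rintro z (rfl | rfl | rfl)
    · exact Ideal.pow_le_self two_ne_zero hh2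
    · exact hD.mem_of_mem_sq _ _ hh2
    · exact hD.mem_of_mem_sq _ _ hh2
  · obtain ⟨r0, hr0, e0⟩ := hD.deriv_quadratic ha hb α β γ 0
    obtain ⟨r1, hr1, e1⟩ := hD.deriv_quadratic ha hb α β γ 1
    rw [← hh] at e0 e1
    set p := 2 * α * a + β * b with hp
    set q := β * a + 2 * γ * b with hq
    have hJ0 : D 0 h ∈ J := Ideal.subset_span (by simp)
    have hJ1 : D 1 h ∈ J := Ideal.subset_span (by simp)
    obtain ⟨s, hs⟩ := hdet.exists_left_inv
    have hpm : p ∈ J ⊔ maximalIdeal R ^ 2 := by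
      have e : p = s * (D 1 b * D 0 h - D 0 b * D 1 h) - s * (D 1 b * r0 - D 0 b * r1) := by
        rw [e0, e1]
        linear_combination (-p) * hs
      rw [e]
      refine Ideal.sub_mem _ (Ideal.mem_sup_left ?_) (Ideal.mem_sup_right ?_)
      · exact Ideal.mul_mem_left _ _ (Ideal.sub_mem _ (Ideal.mul_mem_left _ _ hJ0) (Ideal.mul_mem_left _ _ hJ1))
      · exact Ideal.mul_mem_left _ _ (Ideal.sub_mem _ (Ideal.mul_mem_left _ _ hr0) (Ideal.mul_mem_left _ _ hr1))
    have hqm : q ∈ J ⊔ maximalIdeal R ^ 2 := by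
      have e : q = s * (D 0 a * D 1 h - D 1 a * D 0 h) - s * (D 0 a * r1 - D 1 a * r0) := by
        rw [e0, e1]
        linear_combination (-q) * hs
      rw [e]
      refine Ideal.sub_mem _ (Ideal.mem_sup_left ?_) (Ideal.mem_sup_right ?_)
      · exact Ideal.mul_mem_left _ _ (Ideal.sub_mem _ (Ideal.mul_mem_left _ _ hJ1) (Ideal.mul_mem_left _ _ hJ0))
      · exact Ideal.mul_mem_left _ _ (Ideal.sub_mem _ (Ideal.mul_mem_left _ _ hr1) (Ideal.mul_mem_left _ _ hr0))
    obtain ⟨t, ht⟩ := hdisc.exists_left_inv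
    conv_lhs => rw [hm]
    refine Ideal.span_le.mpr ?_
    rintro z (rfl | rfl)
    · have e : z = t * (2 * γ * p - β * q) := by
        rw [hp, hq]; linear_combination (-z) * ht
      rw [e]
      exact Ideal.mul_mem_left _ _ (Ideal.sub_mem _ (Ideal.mul_mem_left _ _ hpm) (Ideal.mul_mem_left _ _ hqm))
    · have e : z = t * (2 * α * q - β * p) := by
        rw [hp, hq]; linear_combination (-z) * ht
      rw [e]
      exact Ideal.mul_mem_left _ _ (Ideal.sub_mem _ (Ideal.mul_mem_left _ _ hqm) (Ideal.mul_mem_left _ _ hpm))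

/-- Conversely, if `(h, D₀h, D₁h)` is the maximal ideal and `h` is a quadratic form, it is nondegenerate. -/
theorem Coord.disc_of_jac (hD : Coord D) {a b α β γ : R} (hm : maximalIdeal R = Ideal.span {a, b})
    {h : R} (hh : h = α * a ^ 2 + β * a * b + γ * b ^ 2)
    (hJ : maximalIdeal R ≤ Ideal.span {h, D 0 h, D 1 h}) : IsUnit (4 * α * γ - β ^ 2) := by
  have ha : a ∈ maximalIdeal R := by rw [hm]; exact Ideal.subset_span (by simp)
  have hb : b ∈ maximalIdeal R := by rw [hm]; exact Ideal.subset_span (by simp)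
  have hh2 : h ∈ maximalIdeal R ^ 2 := by
    rw [hh]
    refine Ideal.add_mem _ (Ideal.add_mem _ ?_ ?_) ?_
    · exact Ideal.mul_mem_left _ _ (Ideal.pow_mem_pow ha 2)
    · rw [mul_assoc, pow_two]
      exact Ideal.mul_mem_left _ _ (Ideal.mul_mem_mul ha hb)
    · exact Ideal.mul_mem_left _ _ (Ideal.pow_mem_pow hb 2)
  obtain ⟨r0, hr0, e0⟩ := hD.deriv_quadratic ha hb α β γ 0
  obtain ⟨r1, hr1, e1⟩ := hD.deriv_quadratic ha hb α β γ 1
  rw [← hh] at e0 e1
  set p := 2 * α * a + β * b with hp
  set q := β * a + 2 * γ * b with hq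
  have hmpq : maximalIdeal R = Ideal.span {p, q} := by
    apply eq_of_le_sup_sq
    · refine Ideal.span_le.mpr ?_
      rintro z (rfl | rfl)
      · exact Ideal.add_mem _ (Ideal.mul_mem_left _ _ ha) (Ideal.mul_mem_left _ _ hb)
      · exact Ideal.add_mem _ (Ideal.mul_mem_left _ _ ha) (Ideal.mul_mem_left _ _ hb)
    · refine hJ.trans (Ideal.span_le.mpr ?_)
      have hpI : p ∈ Ideal.span {p, q} := Ideal.subset_span (by simp)
      have hqI : q ∈ Ideal.span {p, q} := Ideal.subset_span (by simp)
      rintro z (rfl | rfl | rfl)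
      · exact Ideal.mem_sup_right hh2
      · rw [e0]
        exact Ideal.add_mem _ (Ideal.mem_sup_left (Ideal.add_mem _ (Ideal.mul_mem_right _ _ hpI)
          (Ideal.mul_mem_right _ _ hqI))) (Ideal.mem_sup_right hr0)
      · rw [e1]
        exact Ideal.add_mem _ (Ideal.mem_sup_left (Ideal.add_mem _ (Ideal.mul_mem_right _ _ hpI)
          (Ideal.mul_mem_right _ _ hqI))) (Ideal.mem_sup_right hr1)
  have hdet := hD.det_of_span_eq hmpq
  by_contra hcon
  have hcon' : 4 * α * γ - β ^ 2 ∈ maximalIdeal R := hcon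
  have : D 0 p * D 1 q - D 1 p * D 0 q ∈ maximalIdeal R := by
    rw [hp, hq]
    simp only [hD.add, hD.mul]
    have e : (2 * α * D 0 a + a * (2 * D 0 α + α * D 0 2) + (β * D 0 b + b * D 0 β)) *
          (β * D 1 a + a * D 1 β + (2 * γ * D 1 b + b * (2 * D 1 γ + γ * D 1 2))) -
        (2 * α * D 1 a + a * (2 * D 1 α + α * D 1 2) + (β * D 1 b + b * D 1 β)) *
          (β * D 0 a + a * D 0 β + (2 * γ * D 0 b + b * (2 * D 0 γ + γ * D 0 2))) =
        (4 * α * γ - β ^ 2) * (D 0 a * D 1 b - D 1 a * D 0 b) +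
        a * ((2 * D 0 α + α * D 0 2) *
          (β * D 1 a + a * D 1 β + (2 * γ * D 1 b + b * (2 * D 1 γ + γ * D 1 2))) +
          (2 * α * D 0 a + β * D 0 b) * D 1 β - (2 * D 1 α + α * D 1 2) *
          (β * D 0 a + a * D 0 β + (2 * γ * D 0 b + b * (2 * D 0 γ + γ * D 0 2)))
          - (2 * α * D 1 a + β * D 1 b) * D 0 β) +
        b * (D 0 β * (β * D 1 a + a * D 1 β + (2 * γ * D 1 b + b * (2 * D 1 γ + γ * D 1 2))) +
          (2 * α * D 0 a + β * D 0 b) * (2 * D 1 γ + γ * D 1 2)
          - D 1 β * (β * D 0 a + a * D 0 β + (2 * γ * D 0 b + b * (2 * D 0 γ + γ * D 0 2)))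
          - (2 * α * D 1 a + β * D 1 b) * (2 * D 0 γ + γ * D 0 2)) := by
      ring
    rw [e]
    exact Ideal.add_mem _ (Ideal.add_mem _ (Ideal.mul_mem_right _ _ hcon') (Ideal.mul_mem_right _ _ ha))
      (Ideal.mul_mem_right _ _ hb)
  exact this hdet

omit [IsNoetherianRing R] in
/-- The maximal ideal is not generated by an element and the zero element. -/
theorem Coord.not_principal (hD : Coord D) : ¬ (maximalIdeal R).IsPrincipal := by
  rintro ⟨a, ha⟩
  have hm : maximalIdeal R = Ideal.span {a, 0} := by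
    have h1 : maximalIdeal R = Ideal.span {a} := ha
    rw [h1]
    apply le_antisymm
    · exact Ideal.span_mono (by simp)
    · refine Ideal.span_le.mpr ?_
      rintro z (rfl | rfl)
      · exact Ideal.subset_span rfl
      · exact Ideal.zero_mem _
  have := hD.det_of_span_eq hm
  rw [hD.zero, hD.zero, mul_zero, mul_zero, sub_zero] at this
  exact not_isUnit_zero this

/-- An element of `m` outside `m²` is part of a system of two generators. -/
theorem Coord.exists_span_of_notMem_sq (hD : Coord D) {x : R} (hx : x ∈ maximalIdeal R)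
    (hx2 : x ∉ maximalIdeal R ^ 2) : ∃ y ∈ maximalIdeal R, maximalIdeal R = Ideal.span {x, y} := by
  obtain ⟨a, ha, b, hb, hdet⟩ := hD.exists_det
  by_contra hcon
  push Not at hcon
  apply hx2
  have hxa : D 0 x * D 1 a - D 1 x * D 0 a ∈ maximalIdeal R := by
    by_contra hu
    have : IsUnit (D 0 x * D 1 a - D 1 x * D 0 a) := by
      by_contra h; exact hu h
    exact hcon a ha (hD.span_eq_of_det hx ha this)
  have hxb : D 0 x * D 1 b - D 1 x * D 0 b ∈ maximalIdeal R := by
    by_contra hu
    have : IsUnit (D 0 x * D 1 b - D 1 x * D 0 b) := by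
      by_contra h; exact hu h
    exact hcon b hb (hD.span_eq_of_det hx hb this)
  obtain ⟨s, hs⟩ := hdet.exists_left_inv
  apply hD.inj x hx
  intro i
  fin_cases i
  · simp only [Fin.zero_eta]
    have e : D 0 x = s * (D 0 a * (D 0 x * D 1 b - D 1 x * D 0 b) - D 0 b * (D 0 x * D 1 a - D 1 x * D 0 a)) := by
      linear_combination (- D 0 x) * hs
    rw [e]
    exact Ideal.mul_mem_left _ _ (Ideal.sub_mem _ (Ideal.mul_mem_left _ _ hxb) (Ideal.mul_mem_left _ _ hxa))
  · simp only [Fin.mk_one]
    have e : D 1 x = s * (D 1 a * (D 0 x * D 1 b - D 1 x * D 0 b) - D 1 b * (D 0 x * D 1 a - D 1 x * D 0 a)) := by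
      linear_combination (- D 1 x) * hs
    rw [e]
    exact Ideal.mul_mem_left _ _ (Ideal.sub_mem _ (Ideal.mul_mem_left _ _ hxb) (Ideal.mul_mem_left _ _ hxa))

open Node in
/-- **Node to equation.** If `T` is a node-like quotient of `R`, the kernel is generated by one element `h`, with
`(h, D₀h, D₁h)` the maximal ideal. -/
theorem Coord.exists_ker_eq (hD : Coord D) {T : Type*} [CommRing T] [IsLocalRing T] (f : R →+* T)
    (hf : Function.Surjective f) (hT : NodeLike T) :
    ∃ h : R, RingHom.ker f = Ideal.span {h} ∧ maximalIdeal R = Ideal.span {h, D 0 h, D 1 h} := by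
  have hloc : IsLocalHom f := hf.isLocalHom f
  have hfm := map_maximalIdeal_of_surjective f hf
  have hker : RingHom.ker f ≤ maximalIdeal R := by
    intro x hx hu
    have := hu.map f
    rw [RingHom.mem_ker.mp hx] at this
    exact not_isUnit_zero this
  have hker2 : RingHom.ker f ≤ maximalIdeal R ^ 2 := by
    intro x hx
    by_contra hx2
    obtain ⟨y, hy, hm⟩ := hD.exists_span_of_notMem_sq (hker hx) hx2
    apply hT.not_principal 1 le_rfl
    rw [pow_one, ← hfm, hm, Ideal.map_span, Set.image_pair, RingHom.mem_ker.mp hx]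
    refine ⟨f y, ?_⟩
    simp
  obtain ⟨⟨a', b', α', β', γ', hm', hdisc', hrel'⟩, hnp⟩ := hT
  obtain ⟨a, rfl⟩ := hf a'
  obtain ⟨b, rfl⟩ := hf b'
  obtain ⟨α, rfl⟩ := hf α'
  obtain ⟨β, rfl⟩ := hf β'
  obtain ⟨γ, rfl⟩ := hf γ'
  have ha : a ∈ maximalIdeal R := by
    intro hu
    have h1 : f a ∈ maximalIdeal T := by rw [hm']; exact Ideal.subset_span (by simp)
    exact h1 (hu.map f)
  have hb : b ∈ maximalIdeal R := by
    intro hu
    have h1 : f b ∈ maximalIdeal T := by rw [hm']; exact Ideal.subset_span (by simp)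
    exact h1 (hu.map f)
  have hm : maximalIdeal R = Ideal.span {a, b} := by
    apply eq_of_le_sup_sq
    · refine Ideal.span_le.mpr ?_
      rintro z (rfl | rfl)
      · exact ha
      · exact hb
    · intro x hx
      have h1 : f x ∈ Ideal.span {f a, f b} := by rw [← hm', ← hfm]; exact Ideal.mem_map_of_mem f hx
      obtain ⟨u', v', huv⟩ := Ideal.mem_span_pair.mp h1
      obtain ⟨u, rfl⟩ := hf u'
      obtain ⟨v, rfl⟩ := hf v'
      have h2 : x - (u * a + v * b) ∈ RingHom.ker f := by
        rw [RingHom.mem_ker, map_sub, map_add, map_mul, map_mul, huv, sub_self]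
      have : x = (u * a + v * b) + (x - (u * a + v * b)) := by ring
      rw [this]
      exact Ideal.add_mem _ (Ideal.mem_sup_left (Ideal.mem_span_pair.mpr ⟨u, v, rfl⟩))
        (Ideal.mem_sup_right (hker2 h2))
  have hdisc : IsUnit (4 * α * γ - β ^ 2) := by
    apply hloc.map_nonunit
    simpa only [map_sub, map_mul, map_pow, map_ofNat] using hdisc'
  have hrel : α * a ^ 2 + β * a * b + γ * b ^ 2 ∈ RingHom.ker f := by
    rw [RingHom.mem_ker]
    simpa only [map_add, map_mul, map_pow] using hrel'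
  exact ⟨_, ker_eq_span f hf hnp hm hdisc hrel, hD.jac_eq hm hdisc rfl⟩

open Node in
/-- **Equation to node.** -/
theorem Coord.nodeLike (hD : Coord D) [IsDomain R]
    (hreg : ∀ a b : R, maximalIdeal R = Ideal.span {a, b} → ∀ x y : R, a * x = b * y → ∃ z, y = a * z)
    {T : Type*} [CommRing T] [IsLocalRing T] (f : R →+* T)
    (hf : Function.Surjective f) {h : R} (hker : RingHom.ker f = Ideal.span {h})
    (hh : h ∈ maximalIdeal R) (hDh : ∀ i, D i h ∈ maximalIdeal R)
    (hJ : maximalIdeal R ≤ Ideal.span {h, D 0 h, D 1 h}) : NodeLike T := by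
  have hloc : IsLocalHom f := hf.isLocalHom f
  have hfm := map_maximalIdeal_of_surjective f hf
  have hNT : IsNoetherianRing T := isNoetherianRing_of_surjective R T f hf
  have hh2 := hD.inj h hh hDh
  obtain ⟨a, ha, b, hb, hdet⟩ := hD.exists_det
  have hm := hD.span_eq_of_det ha hb hdet
  have hh3 : h ∈ Ideal.span {a ^ 2, a * b, b ^ 2} := by
    rw [← span_pair_sq, ← hm]; exact hh2
  obtain ⟨α, w, hw, hαw⟩ := Ideal.mem_span_insert.mp hh3
  obtain ⟨β, γ, hβγ⟩ := Ideal.mem_span_pair.mp hw
  have hheq : h = α * a ^ 2 + β * a * b + γ * b ^ 2 := by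
    rw [hαw, ← hβγ]; ring
  have hdisc := hD.disc_of_jac hm hheq hJ
  have hkerm : ∀ x, f x = 0 → ∃ s, x = h * s := by
    intro x hx
    have : x ∈ RingHom.ker f := hx
    rw [hker] at this
    obtain ⟨s, hs⟩ := Ideal.mem_span_singleton'.mp this
    exact ⟨s, by rw [← hs]; ring⟩
  have hfh : f h = 0 := by
    have : h ∈ RingHom.ker f := by rw [hker]; exact Ideal.mem_span_singleton_self h
    exact this
  have ha0 : a ≠ 0 := by
    rintro rfl
    rw [hD.zero, hD.zero, zero_mul, zero_mul, sub_zero] at hdet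
    exact not_isUnit_zero hdet
  refine ⟨⟨f a, f b, f α, f β, f γ, ?_, ?_, ?_⟩, ?_⟩
  · rw [← hfm, hm, Ideal.map_span, Set.image_pair]
  · have := hdisc.map f
    simpa only [map_sub, map_mul, map_pow, map_ofNat] using this
  · rw [hheq] at hfh
    simpa only [map_add, map_mul, map_pow] using hfh
  · intro n hn hpr
    -- depth
    have hdepth : ∀ z : T, (∀ x ∈ maximalIdeal T, x * z = 0) → z = 0 := by
      intro z' hz'
      obtain ⟨z, rfl⟩ := hf z'
      have h1 : f (a * z) = 0 := by
        rw [map_mul]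
        apply hz'
        rw [← hfm]; exact Ideal.mem_map_of_mem f ha
      have h2 : f (b * z) = 0 := by
        rw [map_mul]
        apply hz'
        rw [← hfm]; exact Ideal.mem_map_of_mem f hb
      obtain ⟨u, hu⟩ := hkerm _ h1
      obtain ⟨v, hv⟩ := hkerm _ h2
      by_cases hh0 : h = 0
      · rw [hh0, zero_mul] at hu
        have : z = 0 := (mul_eq_zero.mp hu).resolve_left ha0
        rw [this, map_zero]
      · have h3 : h * (u * b - v * a) = 0 := by
          linear_combination (-b) * hu + a * hv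
        have h4 := (mul_eq_zero.mp h3).resolve_left hh0
        have h5 : a * v = b * u := by linear_combination -h4
        obtain ⟨w, hw⟩ := hreg a b hm v u h5
        have h6 : a * (z - h * w) = 0 := by
          rw [hw] at hu
          linear_combination hu
        have h7 := (mul_eq_zero.mp h6).resolve_left ha0
        have : z = h * w := by linear_combination h7
        rw [this, map_mul, hfh, zero_mul]
    obtain ⟨k, rfl⟩ := Nat.exists_eq_succ_of_ne_zero (by omega : n ≠ 0)
    have hp1 := isPrincipal_of_pow k hpr (exists_nonZeroDivisor hdepth)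
    -- then m_R is principal
    obtain ⟨c', hc'⟩ := hp1
    obtain ⟨c, rfl⟩ := hf c'
    have hc : maximalIdeal T = Ideal.span {f c} := hc'
    have hcm : c ∈ maximalIdeal R := by
      intro hu
      have h1 : f c ∈ maximalIdeal T := by rw [hc]; exact Ideal.mem_span_singleton_self _
      exact h1 (hu.map f)
    apply hD.not_principal
    refine ⟨c, ?_⟩
    apply eq_of_le_sup_sq ((Ideal.span_singleton_le_iff_mem _).mpr hcm)
    intro x hx
    have h1 : f x ∈ Ideal.span {f c} := by rw [← hc, ← hfm]; exact Ideal.mem_map_of_mem f hx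
    obtain ⟨u', hu⟩ := Ideal.mem_span_singleton'.mp h1
    obtain ⟨u, rfl⟩ := hf u'
    obtain ⟨s, hs⟩ := hkerm (x - u * c) (by rw [map_sub, map_mul, hu, sub_self])
    have : x = u * c + h * s := by rw [← hs]; ring
    rw [this]
    exact Ideal.add_mem _ (Ideal.mem_sup_left (Ideal.mem_span_singleton'.mpr ⟨u, rfl⟩))
      (Ideal.mem_sup_right (Ideal.mul_mem_right _ _ hh2))

end Coord

end Groth.Agent.CurvesB.NodalLocal
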