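import Mathlib.RingTheory.Kaehler.TensorProduct
import Mathlib.RingTheory.Etale.Kaehler
import Mathlib.RingTheory.Smooth.Basic
import Mathlib.RingTheory.Unramified.Basic
import Mathlib.RingTheory.TensorProduct.Quotient
import Mathlib.LinearAlgebra.TensorProduct.RightExactness
import Mathlib.RingTheory.TensorProduct.IsBaseChangeFree
import Mathlib.Tactic

/-!
# Presentations of nodal algebras

`HasPres A B`: `B = P/(h)` with `P` smooth over `A`, `Ω[P⁄A]` free of rank two with a given basis, and
`P/(h, ∂₀h, ∂₁h)` (formally) unramified over `A`.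
-/

set_option autoImplicit false

universe u

open scoped TensorProduct KaehlerDifferential

namespace Groth.Agent.CurvesB.NodalPres

section Jac

variable {A P : Type u} [CommRing A] [CommRing P] [Algebra A P]

/-- The ideal `(h, ∂₀h, ∂₁h)`. -/
noncomputable def jac (b : Module.Basis (Fin 2) P (Ω[P⁄A])) (h : P) : Ideal P :=
  Ideal.span {h, b.repr (KaehlerDifferential.D A P h) 0, b.repr (KaehlerDifferential.D A P h) 1}

theorem mem_jac (b : Module.Basis (Fin 2) P (Ω[P⁄A])) (h : P) : h ∈ jac b h :=
  Ideal.subset_span (by simp)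

theorem d_mem_jac (b : Module.Basis (Fin 2) P (Ω[P⁄A])) (h : P) (i : Fin 2) :
    b.repr (KaehlerDifferential.D A P h) i ∈ jac b h :=
  Ideal.subset_span (by fin_cases i <;> simp)

theorem jac_le_iff (b : Module.Basis (Fin 2) P (Ω[P⁄A])) (h : P) (I : Ideal P) :
    jac b h ≤ I ↔ h ∈ I ∧ b.repr (KaehlerDifferential.D A P h) 0 ∈ I ∧
      b.repr (KaehlerDifferential.D A P h) 1 ∈ I := by
  rw [jac, Ideal.span_le]
  simp [Set.insert_subset_iff]

end Jac

/-- `B = P/(h)` with `P` smooth over `A` of relative dimension two, with the singular locus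
`(h, ∂₀h, ∂₁h)` unramified over `A`. -/
def HasPres (A B : Type u) [CommRing A] [CommRing B] [Algebra A B] : Prop :=
  ∃ (P : Type u) (_ : CommRing P) (_ : Algebra A P) (_ : Algebra.Smooth A P)
    (b : Module.Basis (Fin 2) P (Ω[P⁄A])) (h : P) (φ : P →ₐ[A] B), Function.Surjective φ ∧
      RingHom.ker φ = Ideal.span {h} ∧ Algebra.FormallyUnramified A (P ⧸ jac b h)

section Transport

variable {A P : Type u} [CommRing A] [CommRing P] [Algebra A P]

/-- Transport of a basis of differentials along a base change. -/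
theorem exists_basis_of_isPushout (b : Module.Basis (Fin 2) P (Ω[P⁄A]))
    (A' P' : Type u) [CommRing A'] [CommRing P'] [Algebra A A'] [Algebra A' P'] [Algebra P P'] [Algebra A P']
    [IsScalarTower A A' P'] [IsScalarTower A P P'] [Algebra.IsPushout A A' P P'] :
    ∃ b' : Module.Basis (Fin 2) P' (Ω[P'⁄A']), ∀ x i,
      b'.repr (KaehlerDifferential.D A' P' (algebraMap P P' x)) i =
        algebraMap P P' (b.repr (KaehlerDifferential.D A P x) i) := by
  let E := KaehlerDifferential.tensorKaehlerEquiv A A' P P'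
  refine ⟨(b.baseChange P').map E, fun x i => ?_⟩
  have h1 : E.symm (KaehlerDifferential.D A' P' (algebraMap P P' x)) =
      1 ⊗ₜ[P] (KaehlerDifferential.D A P x) := by
    rw [LinearEquiv.symm_apply_eq]
    simp [E]
  rw [Module.Basis.map_repr, LinearEquiv.trans_apply, h1, Module.Basis.baseChange_repr_tmul]
  simp [Algebra.smul_def]

/-- Transport of a basis of differentials along a formally etale extension. -/
theorem exists_basis_of_formallyEtale (b : Module.Basis (Fin 2) P (Ω[P⁄A]))
    (P' : Type u) [CommRing P'] [Algebra P P'] [Algebra A P']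
    [IsScalarTower A P P'] [Algebra.FormallyEtale P P'] :
    ∃ b' : Module.Basis (Fin 2) P' (Ω[P'⁄A]), ∀ x i,
      b'.repr (KaehlerDifferential.D A P' (algebraMap P P' x)) i =
        algebraMap P P' (b.repr (KaehlerDifferential.D A P x) i) := by
  let E := KaehlerDifferential.tensorKaehlerEquivOfFormallyEtale A P P'
  refine ⟨(b.baseChange P').map E, fun x i => ?_⟩
  have h1 : E.symm (KaehlerDifferential.D A P' (algebraMap P P' x)) =
      1 ⊗ₜ[P] (KaehlerDifferential.D A P x) := by
    exact KaehlerDifferential.tensorKaehlerEquivOfFormallyEtale_symm_D_algebraMap A P P' x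
  rw [Module.Basis.map_repr, LinearEquiv.trans_apply, h1, Module.Basis.baseChange_repr_tmul]
  simp [Algebra.smul_def]

theorem jac_map {A' P' : Type u} [CommRing A'] [CommRing P'] [Algebra A' P'] [Algebra P P']
    (b : Module.Basis (Fin 2) P (Ω[P⁄A])) (b' : Module.Basis (Fin 2) P' (Ω[P'⁄A']))
    (hb : ∀ x i, b'.repr (KaehlerDifferential.D A' P' (algebraMap P P' x)) i =
        algebraMap P P' (b.repr (KaehlerDifferential.D A P x) i)) (h : P) :
    (jac b h).map (algebraMap P P') = jac b' (algebraMap P P' h) := by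
  rw [jac, Ideal.map_span, jac, hb, hb]
  congr 1
  simp [Set.image_insert_eq]

end Transport

/-- Base change of presentations. -/
theorem HasPres.baseChange {A B : Type u} [CommRing A] [CommRing B] [Algebra A B] (H : HasPres A B)
    (A' : Type u) [CommRing A'] [Algebra A A'] : HasPres A' (A' ⊗[A] B) := by
  obtain ⟨P, _, _, _, b, h, φ, hφ, hker, hunr⟩ := H
  let P' := A' ⊗[A] P
  let φ' : P' →ₐ[A'] A' ⊗[A] B := Algebra.TensorProduct.map (AlgHom.id A' A') φ
  let _ : Algebra P P' := Algebra.TensorProduct.rightAlgebra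
  obtain ⟨b', hb'⟩ := exists_basis_of_isPushout b A' P'
  refine ⟨P', inferInstance, inferInstance, inferInstance, b', algebraMap P P' h, φ', ?_, ?_, ?_⟩
  · intro z
    induction z using TensorProduct.induction_on with
    | zero => exact ⟨0, map_zero _⟩
    | add x y hx hy =>
      obtain ⟨x', hx'⟩ := hx
      obtain ⟨y', hy'⟩ := hy
      exact ⟨x' + y', by rw [map_add, hx', hy']⟩
    | tmul a p =>
      obtain ⟨q, rfl⟩ := hφ p
      exact ⟨a ⊗ₜ q, rfl⟩
  · have h1 := Algebra.TensorProduct.lTensor_ker (R := A) (A := A') φ hφ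
    have h2 : RingHom.ker φ' = RingHom.ker (Algebra.TensorProduct.map (AlgHom.id A A') φ) := rfl
    rw [h2, h1, hker, Ideal.map_span, Set.image_singleton]
    rfl
  · rw [← jac_map b b' hb']
    -- surjection from A' ⊗ (P / jac)
    let ψ : A' ⊗[A] (P ⧸ jac b h) →ₐ[A'] P' ⧸ (jac b h).map (algebraMap P P') :=
      Algebra.TensorProduct.lift (Algebra.ofId _ _)
        (Ideal.Quotient.liftₐ (jac b h) ((Ideal.Quotient.mkₐ A ((jac b h).map (algebraMap P P'))).comp
          (Algebra.TensorProduct.includeRight : P →ₐ[A] P')) (by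
            intro x hx
            simp only [AlgHom.coe_comp, Function.comp_apply, Ideal.Quotient.mkₐ_eq_mk]
            rw [Ideal.Quotient.eq_zero_iff_mem]
            exact Ideal.mem_map_of_mem (algebraMap P P') hx)) (fun _ _ => Commute.all _ _)
    have hψ : Function.Surjective ψ := by
      intro z
      obtain ⟨z, rfl⟩ := Ideal.Quotient.mk_surjective z
      induction z using TensorProduct.induction_on with
      | zero => exact ⟨0, by simp⟩
      | add x y hx hy =>
        obtain ⟨x', hx'⟩ := hx
        obtain ⟨y', hy'⟩ := hy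
        exact ⟨x' + y', by rw [map_add, hx', hy', map_add]⟩
      | tmul a p =>
        refine ⟨a ⊗ₜ (Ideal.Quotient.mk _ p), ?_⟩
        simp only [ψ, Algebra.TensorProduct.lift_tmul]
        rw [show (Algebra.ofId A' (P' ⧸ (jac b h).map (algebraMap P P'))) a =
          Ideal.Quotient.mk _ (a ⊗ₜ 1) from rfl]
        rw [show (Ideal.Quotient.liftₐ (jac b h) ((Ideal.Quotient.mkₐ A ((jac b h).map (algebraMap P P'))).comp
          (Algebra.TensorProduct.includeRight : P →ₐ[A] P')) _) (Ideal.Quotient.mk _ p) =
          Ideal.Quotient.mk _ (1 ⊗ₜ p) from rfl]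
        rw [← map_mul]
        simp
    exact Algebra.FormallyUnramified.of_surjective ψ hψ

end Groth.Agent.CurvesB.NodalPres
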