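import Groth.Agent.CurvesB.NodalCoord
import Groth.Agent.CurvesB.NodalPres
import Groth.Agent.CalgA.RegBasic
import Mathlib.RingTheory.Smooth.Kaehler

/-!
# Coordinates from bases of differentials, and regular local rings with coordinates
-/

set_option autoImplicit false

universe u

open scoped TensorProduct KaehlerDifferential

namespace Groth.Agent.CurvesB.NodalLocal

open IsLocalRing

/-- A basis of the differentials of a smooth local algebra whose residue field is formally etale over the base gives
coordinates. -/
theorem coord_of_basis (k R : Type u) [CommRing k] [CommRing R] [IsLocalRing R] [Algebra k R]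
    [Algebra.FormallySmooth k R] [Algebra.FormallyUnramified k (ResidueField R)]
    [Algebra.FormallySmooth k (ResidueField R)]
    (b : Module.Basis (Fin 2) R (Ω[R⁄k])) :
    Coord (fun i x => b.repr (KaehlerDifferential.D k R x) i) := by
  have hsurj : Function.Surjective (algebraMap R (ResidueField R)) := residue_surjective
  have hexact := KaehlerDifferential.exact_kerCotangentToTensor_mapBaseChange k R (ResidueField R) hsurj
  have hker : RingHom.ker (algebraMap R (ResidueField R)) = maximalIdeal R := ker_residue
  have hrepr : ∀ (ω : Ω[R⁄k]) (i : Fin 2), (b.baseChange (ResidueField R)).repr (1 ⊗ₜ[R] ω) i =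
      algebraMap R (ResidueField R) (b.repr ω i) := by
    intro ω i
    rw [Module.Basis.baseChange_repr_tmul]
    simp [Algebra.smul_def]
  refine ⟨fun i x y => by simp, fun i x y => by simp, ?_, ?_⟩
  · have h1 : ∀ i : Fin 2, ∃ x ∈ maximalIdeal R, (1 : ResidueField R) ⊗ₜ[R] (KaehlerDifferential.D k R x) =
        (1 : ResidueField R) ⊗ₜ[R] (b i) := by
      intro i
      have h2 : KaehlerDifferential.mapBaseChange k R (ResidueField R) (1 ⊗ₜ[R] (b i)) = 0 :=
        Subsingleton.elim _ _
      obtain ⟨y, hy⟩ := (hexact _).mp h2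
      obtain ⟨x, rfl⟩ := Ideal.toCotangent_surjective _ y
      refine ⟨x.1, ?_, ?_⟩
      · rw [← hker]; exact x.2
      · rw [← hy]; rfl
    choose x hx hx' using h1
    have h3 : ∀ i j : Fin 2, algebraMap R (ResidueField R) (b.repr (KaehlerDifferential.D k R (x i)) j) =
        if i = j then 1 else 0 := by
      intro i j
      rw [← hrepr, hx' i, hrepr, Module.Basis.repr_self, Finsupp.single_apply]
      split_ifs <;> simp
    refine ⟨x 0, hx 0, x 1, hx 1, ?_⟩
    by_contra hcon
    have h4 : algebraMap R (ResidueField R) (b.repr (KaehlerDifferential.D k R (x 0)) 0 *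
        b.repr (KaehlerDifferential.D k R (x 1)) 1 - b.repr (KaehlerDifferential.D k R (x 0)) 1 *
        b.repr (KaehlerDifferential.D k R (x 1)) 0) = 0 := (residue_eq_zero_iff _).mpr hcon
    rw [map_sub, map_mul, map_mul, h3, h3, h3, h3] at h4
    simp at h4
  · intro x hx hDx
    have h1 : (1 : ResidueField R) ⊗ₜ[R] (KaehlerDifferential.D k R x) = 0 := by
      apply (b.baseChange (ResidueField R)).repr.injective
      ext i
      rw [hrepr, map_zero]
      exact (residue_eq_zero_iff _).mpr (hDx i)
    have hinj := (Algebra.FormallySmooth.kerCotangentToTensor_injective_iff (R := k) (P := R)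
      (A := ResidueField R) hsurj).mpr inferInstance
    have hx' : x ∈ RingHom.ker (algebraMap R (ResidueField R)) := by rw [hker]; exact hx
    have h2 : Ideal.toCotangent (RingHom.ker (algebraMap R (ResidueField R))) ⟨x, hx'⟩ = 0 := by
      apply hinj
      rw [map_zero]
      exact h1
    rw [Ideal.toCotangent_eq_zero] at h2
    have h3 : x ∈ RingHom.ker (algebraMap R (ResidueField R)) ^ 2 := h2
    rwa [hker] at h3

/-- In a regular local ring with coordinates, two generators of the maximal ideal form a regular sequence. -/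
theorem Coord.dvd_of_mul_eq {R : Type u} [CommRing R] [IsRegularLocalRing R] {D : Fin 2 → R → R}
    (hD : Coord D) (a b : R) (hm : maximalIdeal R = Ideal.span {a, b}) (x y : R) (hxy : a * x = b * y) :
    ∃ z, y = a * z := by
  have ha : a ∈ maximalIdeal R := by rw [hm]; exact Ideal.subset_span (by simp)
  have hb : b ∈ maximalIdeal R := by rw [hm]; exact Ideal.subset_span (by simp)
  have ha2 : a ∉ maximalIdeal R ^ 2 := by
    intro ha2
    apply hD.not_principal
    refine ⟨b, eq_of_le_sup_sq ((Ideal.span_singleton_le_iff_mem _).mpr hb) ?_⟩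
    conv_lhs => rw [hm]
    refine Ideal.span_le.mpr ?_
    rintro z (rfl | rfl)
    · exact Ideal.mem_sup_right ha2
    · exact Ideal.mem_sup_left (Ideal.subset_span rfl)
  obtain ⟨hreg, -⟩ := Groth.Agent.CalgA.RegBasic.quotient_of_notMem_sq a ha ha2
  have hdom : IsDomain (R ⧸ Ideal.span {a}) := Groth.Agent.CalgA.RegBasic.isDomain _
  have hprime : (Ideal.span {a}).IsPrime := (Ideal.Quotient.isDomain_iff_prime _).mp hdom
  have h1 : b * y ∈ Ideal.span {a} := by rw [← hxy]; exact Ideal.mul_mem_right _ _ (Ideal.mem_span_singleton_self a)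
  rcases hprime.mem_or_mem h1 with h2 | h2
  · exfalso
    apply hD.not_principal
    refine ⟨a, le_antisymm ?_ ((Ideal.span_singleton_le_iff_mem _).mpr ha)⟩
    conv_lhs => rw [hm]
    refine Ideal.span_le.mpr ?_
    rintro z (rfl | rfl)
    · exact Ideal.subset_span rfl
    · exact h2
  · obtain ⟨z, hz⟩ := Ideal.mem_span_singleton'.mp h2
    exact ⟨z, by rw [← hz]; ring⟩

end Groth.Agent.CurvesB.NodalLocal
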