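import Groth.Prelude.Def_CurvBase
import Groth.Agent.CurvesB.FibreBC
import Groth.Agent.CurvesB.NodeEtale
import Groth.Agent.Smoothlim.SmoothLocusBC
import Groth.Agent.VarietyA.SmoothLocusSch
import Groth.Agent.S1588
import Mathlib.AlgebraicGeometry.Morphisms.LocalFlatDescent

/-!
Descent of at-worst-nodal singularities along field extensions (uses S1588), and flat descent of
at-worst-nodal families.
-/

set_option autoImplicit false
universe u
open CategoryTheory CategoryTheory.Limits AlgebraicGeometry Topology Curv2

namespace Groth.Agent.CurvesB.NodalDescent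

/-- At-worst-nodal singularities descend along field extensions. -/
theorem atWorstNodal_of_isPullback (k K : Type u) [Field k] [Field K] [Algebra k K]
    {X P : Scheme.{u}} [X.Over (Spec (CommRingCat.of k))] [P.Over (Spec (CommRingCat.of K))]
    (q : P ⟶ X)
    (h : IsPullback q (P ↘ Spec (CommRingCat.of K)) (X ↘ Spec (CommRingCat.of k))
      (Spec.map (CommRingCat.ofHom (algebraMap k K))))
    [LocallyOfFinitePresentation (X ↘ Spec (CommRingCat.of k))]
    (hdim : ∀ Z ∈ irreducibleComponents (X : Type u), topologicalKrullDim Z = 1)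
    (hP : AtWorstNodal K P) : AtWorstNodal k X := by
  intro x hx
  have hgs : Surjective (Spec.map (CommRingCat.ofHom (algebraMap k K))) :=
    ⟨fun x => ⟨Classical.arbitrary _, Subsingleton.elim _ _⟩⟩
  have hqs : Surjective q := MorphismProperty.of_isPullback (P := @Surjective) h.flip hgs
  have hPf : LocallyOfFinitePresentation (P ↘ Spec (CommRingCat.of K)) :=
    MorphismProperty.of_isPullback (P := @LocallyOfFinitePresentation) h inferInstance
  obtain ⟨y, rfl⟩ := q.surjective x
  have hy : IsClosed ({y} : Set P) := FibreBC.isClosed_of_isPullback q _ _ _ h y hx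
  rcases hP y hy with ⟨V, hyV, hV⟩ | hn
  · left
    refine ⟨(X ↘ Spec (CommRingCat.of k)).smoothLocus, ?_,
      VarietyA.SmoothLocusSch.smooth_smoothLocus_ι _⟩
    rw [← Smoothlim.SmoothLocusBC.mem_smoothLocus_iff_of_isPullback h y (Or.inr inferInstance)]
    exact VarietyA.SmoothLocusSch.le_smoothLocus _ V hyV
  · right
    have : Nonempty X := ⟨q y⟩
    let e : P ≅ bc k X K := h.isoPullback
    have he1 : e.hom ≫ bcFst k X K = q := h.isoPullback_hom_fst
    have he2 : e.hom ≫ bcSnd k X K = P ↘ Spec (CommRingCat.of K) := h.isoPullback_hom_snd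
    let i1 : (bc k X K).Over (Spec (CommRingCat.of K)) := ⟨bcSnd k X K⟩
    have h1 : LocallyOfFiniteType (bc k X K ↘ Spec (CommRingCat.of K)) :=
      MorphismProperty.pullback_snd _ _ inferInstance
    have h2 : @IsNode K _ (bc k X K) i1 (e.hom y) :=
      (NodeEtale.isNode_iff_of_etale K e.hom he2 y hy).2 hn
    have h3 := (Groth.Agent.S1588.result k X (FibreBC.topologicalKrullDim_eq_one hdim) K
      (e.hom y)).2 h2
    rwa [← Scheme.Hom.comp_apply, he1] at h3

end Groth.Agent.CurvesB.NodalDescent
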