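import Groth.Agent.UnramA.DescentPoint
import Mathlib.RingTheory.Flat.Equalizer
import Mathlib.RingTheory.IsTensorProduct
import Mathlib.RingTheory.Support
import Mathlib.Tactic

/-!
# Kernels of surjections onto flat algebras: a generator on a fibre is a generator nearby
-/

set_option autoImplicit false

universe u

open scoped TensorProduct

namespace Groth.Agent.CurvesB.NodalKer

section

variable {A P B : Type u} (K : Type u) {P' : Type u} [CommRing A] [CommRing P] [CommRing B] [CommRing K]
  [CommRing P'] [Algebra A P] [Algebra A B] [Algebra A K] [Algebra K P'] [Algebra P P'] [Algebra A P']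
  [IsScalarTower A K P'] [IsScalarTower A P P'] [Algebra.IsPushout A K P P']

include K in
/-- If `B = P/I` is flat over `A`, `K` is an `A`-algebra, `y'` is a prime of `P' = K ⊗ P` and `h ∈ I` generates `I` at `y'`
then `h` generates `I` in a neighbourhood of the image of `y'`. -/
theorem exists_mul_mem_span [Module.Flat A B] (φ : P →ₐ[A] B) (hφ : Function.Surjective φ)
    (hfg : (RingHom.ker φ).FG) (y' : Ideal P') [y'.IsPrime] (h : P) (hh : h ∈ RingHom.ker φ)
    (H : ∀ i ∈ RingHom.ker φ, ∃ r ∉ y', r * algebraMap P P' i ∈ Ideal.span {algebraMap P P' h}) :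
    ∃ g ∉ y'.comap (algebraMap P P'), ∀ i ∈ RingHom.ker φ, g * i ∈ Ideal.span {h} := by
  let I : Submodule P P := RingHom.ker φ
  let C := P ⧸ (Ideal.span {h} : Submodule P P)
  let M : Submodule P C := I.map (Submodule.mkQ (Ideal.span {h} : Submodule P P))
  have hMfin : Module.Finite P M := Module.Finite.iff_fg.mpr (Submodule.FG.map _ hfg)
  let f : C →ₗ[A] B := (Submodule.liftQ (Submodule.restrictScalars A (Ideal.span {h} : Submodule P P)) φ.toLinearMap (by
    intro x hx
    have : x ∈ RingHom.ker φ := by
      have h1 : Ideal.span {h} ≤ RingHom.ker φ := (Ideal.span_singleton_le_iff_mem _).mpr hh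
      exact h1 hx
    exact this))
  have hf : Function.Surjective f := by
    intro b
    obtain ⟨p, rfl⟩ := hφ b
    exact ⟨Submodule.Quotient.mk p, rfl⟩
  have hexact : Function.Exact (M.subtype.restrictScalars A) f := by
    intro c
    obtain ⟨p, rfl⟩ := Submodule.Quotient.mk_surjective _ c
    constructor
    · intro hc
      have hc' : φ p = 0 := hc
      exact ⟨⟨Submodule.Quotient.mk p, ⟨p, hc', rfl⟩⟩, rfl⟩
    · rintro ⟨⟨_, ⟨p', hp', rfl⟩⟩, hx⟩
      rw [← hx]
      exact hp'
  have hinj : Function.Injective ((M.subtype.restrictScalars A).lTensor K) :=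
    LinearMap.lTensor_injective_of_exact_of_flat f hf _ (Submodule.subtype_injective M) hexact K
  have hinj' : Function.Injective (M.subtype.lTensor P') := by
    let e₁ := Algebra.IsPushout.cancelBaseChange A K P P' M
    let e₂ := Algebra.IsPushout.cancelBaseChange A K P P' C
    have key : ∀ z : K ⊗[A] M, M.subtype.lTensor P' (e₁.symm z) =
        e₂.symm ((M.subtype.restrictScalars A).lTensor K z) := by
      intro z
      induction z with
      | zero => simp
      | add x y hx hy => simp only [map_add, hx, hy]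
      | tmul s m =>
        rw [Algebra.IsPushout.cancelBaseChange_symm_tmul]
        rw [LinearMap.lTensor_tmul, LinearMap.lTensor_tmul, Algebra.IsPushout.cancelBaseChange_symm_tmul]
        rfl
    intro a b hab
    have h1 : ∀ a, a = e₁.symm (e₁ a) := fun a => (e₁.symm_apply_apply a).symm
    rw [h1 a, h1 b, key, key] at hab
    exact e₁.injective (hinj (e₂.symm.injective hab))
  have hsupp : (⟨y', ‹_›⟩ : PrimeSpectrum P') ∉ Module.support P' (P' ⊗[P] M) := by
    rw [Module.notMem_support_iff']
    intro z
    induction z with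
    | zero => exact ⟨1, y'.one_notMem, by simp⟩
    | add x y hx hy =>
      obtain ⟨r, hr, hr'⟩ := hx
      obtain ⟨s, hs, hs'⟩ := hy
      refine ⟨r * s, y'.primeCompl.mul_mem hr hs, ?_⟩
      rw [smul_add, mul_smul, mul_smul, hs', smul_zero, add_zero, smul_comm, hr', smul_zero]
    | tmul s m =>
      obtain ⟨_, ⟨i, hi, rfl⟩⟩ := m
      obtain ⟨r, hr, hr'⟩ := H i hi
      refine ⟨r, hr, ?_⟩
      have h1 : r ⊗ₜ[P] (⟨Submodule.mkQ (Ideal.span {h} : Submodule P P) i, ⟨i, hi, rfl⟩⟩ : M) = 0 := by
        apply hinj'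
        rw [map_zero, LinearMap.lTensor_tmul]
        obtain ⟨c, hc⟩ := Ideal.mem_span_singleton'.mp hr'
        change r ⊗ₜ[P] Submodule.mkQ (Ideal.span {h} : Submodule P P) i = 0
        have h2 : Submodule.mkQ (Ideal.span {h} : Submodule P P) i = i • (Submodule.Quotient.mk 1 : C) := by
          rw [← Submodule.Quotient.mk_smul, smul_eq_mul, mul_one]; rfl
        rw [h2, ← TensorProduct.smul_tmul, Algebra.smul_def, mul_comm, ← hc]
        have h3 : h • (Submodule.Quotient.mk 1 : C) = 0 := by
          rw [← Submodule.Quotient.mk_smul, smul_eq_mul, mul_one, Submodule.Quotient.mk_eq_zero]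
          exact Ideal.mem_span_singleton_self h
        rw [mul_comm, ← Algebra.smul_def, TensorProduct.smul_tmul, h3, TensorProduct.tmul_zero]
      rw [TensorProduct.smul_tmul', smul_eq_mul, mul_comm, ← smul_eq_mul, ← TensorProduct.smul_tmul', h1, smul_zero]
  have hy : (⟨y', ‹_›⟩ : PrimeSpectrum P').comap (algebraMap P P') ∉ Module.support P M := by
    rw [← Groth.Agent.UnramA.DescentPoint.mem_support_baseChange_iff _ (⟨y', ‹_›⟩ : PrimeSpectrum P') rfl]
    exact hsupp
  rw [Module.mem_support_iff_of_finite] at hy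
  obtain ⟨g, hg, hgy⟩ := SetLike.not_le_iff_exists.mp hy
  refine ⟨g, hgy, fun i hi => ?_⟩
  have h1 := Module.mem_annihilator.mp hg ⟨Submodule.mkQ (Ideal.span {h} : Submodule P P) i, ⟨i, hi, rfl⟩⟩
  have h2 : g • Submodule.mkQ (Ideal.span {h} : Submodule P P) i = 0 := congrArg Subtype.val h1
  rw [← map_smul] at h2
  exact (Submodule.Quotient.mk_eq_zero _).mp h2

end

end Groth.Agent.CurvesB.NodalKer
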