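import Groth.Agent.CurvesB.NodalField
import Groth.Agent.CurvesB.NodalKer

/-!
# Existence of nodal presentations near nodes of fibres, I: generators at a node
-/

set_option autoImplicit false

universe u

open scoped TensorProduct KaehlerDifferential

namespace Groth.Agent.CurvesB.NodalPres

open IsLocalRing NodalLocal Node

/-- `q` is a nodal point of the `K`-algebra `C`. -/
structure NodeAt (K : Type u) {C : Type u} [Field K] [CommRing C] [Algebra K C] (q : Ideal C)
    [q.IsPrime] : Prop where
  nodeLike : NodeLike (Localization.AtPrime q)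
  finite : Module.Finite K (ResidueField (Localization.AtPrime q))
  separable : Algebra.IsSeparable K (ResidueField (Localization.AtPrime q))

theorem _root_.Groth.Agent.CurvesB.NodalLocal.Coord.jac_le {R : Type*} [CommRing R] [IsLocalRing R]
    {D : Fin 2 → R → R} (hD : Coord D) {a b : R} (hab : a ∈ Ideal.span {b}) :
    Ideal.span {a, D 0 a, D 1 a} ≤ Ideal.span {b, D 0 b, D 1 b} := by
  obtain ⟨c, rfl⟩ := Ideal.mem_span_singleton'.mp hab
  have hb : b ∈ Ideal.span {b, D 0 b, D 1 b} := Ideal.subset_span (by simp)
  have h0 : D 0 b ∈ Ideal.span {b, D 0 b, D 1 b} := Ideal.subset_span (by simp)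
  have h1 : D 1 b ∈ Ideal.span {b, D 0 b, D 1 b} := Ideal.subset_span (by simp)
  refine Ideal.span_le.mpr ?_
  rintro z (rfl | rfl | rfl)
  · exact Ideal.mul_mem_left _ _ hb
  · rw [hD.mul]
    exact Ideal.add_mem _ (Ideal.mul_mem_left _ _ h0) (Ideal.mul_mem_right _ _ hb)
  · rw [hD.mul]
    exact Ideal.add_mem _ (Ideal.mul_mem_left _ _ h1) (Ideal.mul_mem_right _ _ hb)

/-- At a node of `P/I`, the ideal `I` has a local generator in any generating set, and the Jacobian ideal of that generator
is locally the maximal ideal. -/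
theorem exists_gen_at_node {K P B : Type u} [Field K] [CommRing P] [Algebra K P] [Algebra.Smooth K P]
    (b : Module.Basis (Fin 2) P (Ω[P⁄K])) [CommRing B] [Algebra K B] (φ : P →ₐ[K] B)
    (hφ : Function.Surjective φ) (q : Ideal B) [q.IsPrime] (hq : NodeAt K q) (S : Set P) (h0 : 0 ∈ S)
    (hS : RingHom.ker φ = Ideal.span S) (y : Ideal P) [y.IsPrime] (hy : y = q.comap φ.toRingHom) :
    ∃ h ∈ S, (∀ i ∈ RingHom.ker φ, ∃ r ∉ y, r * i ∈ Ideal.span {h}) ∧
      (jac b h).map (algebraMap P (Localization.AtPrime y)) = maximalIdeal (Localization.AtPrime y) ∧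
      Algebra.FormallyUnramified K (ResidueField (Localization.AtPrime y)) := by
  have hNP : IsNoetherianRing P := isNoetherianRing_of_smooth K P
  obtain ⟨f, hf, hfker, hfx⟩ := exists_localHom φ hφ q y hy
  obtain ⟨e, -⟩ := exists_residueEquiv f hf
  have hfin : Module.Finite K (ResidueField (Localization.AtPrime y)) :=
    have := hq.finite
    Module.Finite.equiv e.symm.toLinearEquiv
  have hsep : Algebra.IsSeparable K (ResidueField (Localization.AtPrime y)) :=
    have := hq.separable
    Algebra.IsSeparable.of_algHom K _ e.toAlgHom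
  have hetale : Algebra.FormallyEtale K (ResidueField (Localization.AtPrime y)) := .of_isSeparable K _
  obtain ⟨b', hb'⟩ := exists_basis_of_formallyEtale (A := K) b (Localization.AtPrime y)
  have hFS : Algebra.FormallySmooth K (Localization.AtPrime y) := .comp K P _
  have hD := coord_of_basis K (Localization.AtPrime y) b'
  obtain ⟨h'', hk, hm⟩ := hD.exists_ker_eq f.toRingHom hf hq.nodeLike
  have hfker' : RingHom.ker f = Ideal.span (algebraMap P (Localization.AtPrime y) '' S) := by
    rw [hfker, hS, Ideal.map_span]
  have hpr : (Ideal.span (algebraMap P (Localization.AtPrime y) '' S)).IsPrincipal := by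
    rw [← hfker']
    exact ⟨h'', hk⟩
  obtain ⟨c, ⟨h, hhS, rfl⟩, hc⟩ := exists_mem_span_singleton_eq
    (S := algebraMap P (Localization.AtPrime y) '' S) ⟨0, h0, map_zero _⟩ hpr
  have hkc : RingHom.ker f = Ideal.span {algebraMap P (Localization.AtPrime y) h} := by
    rw [hfker', hc]
  have hspan : Ideal.span {h''} = Ideal.span {algebraMap P (Localization.AtPrime y) h} :=
    hk.symm.trans hkc
  refine ⟨h, hhS, ?_, ?_, inferInstance⟩
  · intro i hi
    have h1 : algebraMap P (Localization.AtPrime y) i ∈
        (Ideal.span {h}).map (algebraMap P (Localization.AtPrime y)) := by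
      rw [Ideal.map_span, Set.image_singleton, ← hkc, hfker]
      exact Ideal.mem_map_of_mem _ hi
    obtain ⟨m, hm, hmi⟩ := (IsLocalization.algebraMap_mem_map_algebraMap_iff y.primeCompl _ _ _).mp h1
    exact ⟨m, hm, hmi⟩
  · rw [jac_map b b' hb' h]
    change Ideal.span {_, _, _} = _
    rw [hm]
    apply le_antisymm
    · exact hD.jac_le (by rw [hspan]; exact Ideal.mem_span_singleton_self _)
    · exact hD.jac_le (by rw [← hspan]; exact Ideal.mem_span_singleton_self _)

end Groth.Agent.CurvesB.NodalPres
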