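import Groth.Agent.CurvesB.NodalExist

/-!
# Existence of nodal presentations near nodes of fibres, II: localization of presentations
-/

set_option autoImplicit false

universe u

open scoped TensorProduct KaehlerDifferential

namespace Groth.Agent.CurvesB.NodalPres

open IsLocalRing NodalLocal Node

section Away

variable {A P B : Type u} [CommRing A] [CommRing P] [CommRing B] [Algebra A P] [Algebra A B]

/-- Localizations of quotients. -/
theorem formallyUnramified_quotient_away (J : Ideal P) (g1 g2 : P)
    [Algebra.FormallyUnramified A (Localization.Away (Ideal.Quotient.mk J g2))] :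
    Algebra.FormallyUnramified A (Localization.Away (g1 * g2) ⧸
      J.map (algebraMap P (Localization.Away (g1 * g2)))) := by
  let Pg := Localization.Away (g1 * g2)
  let Q := Pg ⧸ J.map (algebraMap P Pg)
  let Jg := J.map (algebraMap P Pg)
  let m : (P ⧸ J) →ₐ[A] Q := Ideal.Quotient.liftₐ J (IsScalarTower.toAlgHom A P Q) (by
    intro x hx
    change Ideal.Quotient.mk Jg (algebraMap P Pg x) = 0
    exact Ideal.Quotient.eq_zero_iff_mem.mpr (Ideal.mem_map_of_mem _ hx))
  have hu : IsUnit (m (Ideal.Quotient.mk J g2)) := by
    change IsUnit (Ideal.Quotient.mk Jg (algebraMap P Pg g2))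
    have h1 : IsUnit (algebraMap P Pg (g1 * g2)) := IsLocalization.Away.algebraMap_isUnit (g1 * g2)
    rw [map_mul] at h1
    exact (isUnit_of_mul_isUnit_right h1).map _
  let n : Localization.Away (Ideal.Quotient.mk J g2) →ₐ[A] Q :=
    { IsLocalization.Away.lift (S := Localization.Away (Ideal.Quotient.mk J g2)) (Ideal.Quotient.mk J g2)
        (g := m.toRingHom) hu with
      commutes' := by
        intro a
        change IsLocalization.Away.lift _ _ _ = _
        rw [IsScalarTower.algebraMap_apply A (P ⧸ J) (Localization.Away (Ideal.Quotient.mk J g2))]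
        rw [IsLocalization.Away.lift_eq]
        exact m.commutes a }
  have hn : ∀ z, n (algebraMap (P ⧸ J) _ z) = m z := fun z =>
    IsLocalization.Away.lift_eq (S := Localization.Away (Ideal.Quotient.mk J g2)) (Ideal.Quotient.mk J g2)
      (g := m.toRingHom) hu z
  algebraize [n.toRingHom]
  have t1 : IsScalarTower A (Localization.Away (Ideal.Quotient.mk J g2)) Q :=
    .of_algebraMap_eq' (n.comp_algebraMap).symm
  have t2 : IsScalarTower P (Localization.Away (Ideal.Quotient.mk J g2)) Q := .of_algebraMap_eq (by
    intro x
    rw [IsScalarTower.algebraMap_apply P (P ⧸ J) (Localization.Away (Ideal.Quotient.mk J g2))]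
    exact (hn (Ideal.Quotient.mk J x)).symm)
  have : Algebra.FormallyUnramified P Pg := .of_isLocalization (Submonoid.powers (g1 * g2))
  have : Algebra.FormallyUnramified Pg Q :=
    .of_surjective (IsScalarTower.toAlgHom Pg Pg Q) Ideal.Quotient.mk_surjective
  have : Algebra.FormallyUnramified P Q := .comp P Pg Q
  have : Algebra.FormallyUnramified (Localization.Away (Ideal.Quotient.mk J g2)) Q := .of_restrictScalars P _ _
  exact .comp A (Localization.Away (Ideal.Quotient.mk J g2)) Q

/-- A nodal presentation of a localization. -/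
theorem hasPres_away [Algebra.Smooth A P] (b : Module.Basis (Fin 2) P (Ω[P⁄A])) (h : P) (φ : P →ₐ[A] B)
    (hφ : Function.Surjective φ) (hh : h ∈ RingHom.ker φ) (g1 g2 : P)
    (hg : ∀ i ∈ RingHom.ker φ, g1 * i ∈ Ideal.span {h})
    [Algebra.FormallyUnramified A (Localization.Away (Ideal.Quotient.mk (jac b h) g2))] :
    HasPres A (Localization.Away (φ (g1 * g2))) := by
  let Pg := Localization.Away (g1 * g2)
  have hsm : Algebra.Smooth P Pg := .of_isLocalization_Away (g1 * g2)
  have hsm' : Algebra.Smooth A Pg := .comp A P Pg
  obtain ⟨b', hb'⟩ := exists_basis_of_formallyEtale (A := A) b Pg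
  refine ⟨Pg, inferInstance, inferInstance, hsm', b', algebraMap P Pg h, Localization.awayMapₐ φ (g1 * g2), ?_, ?_, ?_⟩
  · exact IsLocalization.Away.mapₐ_surjective_of_surjective _ hφ
  · have h1 : RingHom.ker (Localization.awayMapₐ φ (g1 * g2)) =
        (RingHom.ker φ).map (algebraMap P Pg) :=
      IsLocalization.ker_map (S := Pg) (Localization.Away (φ (g1 * g2))) φ.toRingHom
        (Submonoid.map_powers φ (g1 * g2))
    rw [h1]
    apply le_antisymm
    · rw [Ideal.map_le_iff_le_comap]
      intro i hi
      have hu : IsUnit (algebraMap P Pg g1) := by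
        have h1 : IsUnit (algebraMap P Pg (g1 * g2)) := IsLocalization.Away.algebraMap_isUnit (g1 * g2)
        rw [map_mul] at h1
        exact isUnit_of_mul_isUnit_left h1
      obtain ⟨c, hc⟩ := Ideal.mem_span_singleton'.mp (hg i hi)
      rw [Ideal.mem_comap]
      rw [← Ideal.unit_mul_mem_iff_mem _ hu, ← map_mul, ← hc, map_mul]
      exact Ideal.mul_mem_left _ _ (Ideal.mem_span_singleton_self _)
    · rw [Ideal.span_singleton_le_iff_mem]
      exact Ideal.mem_map_of_mem _ hh
  · rw [← jac_map b b' hb' h]
    exact formallyUnramified_quotient_away (jac b h) g1 g2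

end Away

end Groth.Agent.CurvesB.NodalPres
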