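import Groth.Agent.CurvesB.NodalExist2

/-!
# Existence of nodal presentations near nodes of fibres, III
-/

set_option autoImplicit false

universe u

open scoped TensorProduct KaehlerDifferential

namespace Groth.Agent.CurvesB.NodalPres

open IsLocalRing NodalLocal Node

theorem map_id_surjective {A P B : Type u} [CommRing A] [CommRing P] [CommRing B] [Algebra A P] [Algebra A B]
    (φ : P →ₐ[A] B) (hφ : Function.Surjective φ) (K : Type u) [CommRing K] [Algebra A K] :
    Function.Surjective (Algebra.TensorProduct.map (AlgHom.id K K) φ) := by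
  intro z
  induction z using TensorProduct.induction_on with
  | zero => exact ⟨0, map_zero _⟩
  | add x y hx hy =>
    obtain ⟨x', hx'⟩ := hx
    obtain ⟨y', hy'⟩ := hy
    exact ⟨x' + y', by rw [map_add, hx', hy']⟩
  | tmul a p =>
    obtain ⟨q, rfl⟩ := hφ p
    exact ⟨a ⊗ₜ q, rfl⟩

attribute [local instance] Algebra.TensorProduct.rightAlgebra in
theorem ker_map_id {A P B : Type u} [CommRing A] [CommRing P] [CommRing B] [Algebra A P] [Algebra A B]
    (φ : P →ₐ[A] B) (hφ : Function.Surjective φ) (K : Type u) [CommRing K] [Algebra A K] :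
    RingHom.ker (Algebra.TensorProduct.map (AlgHom.id K K) φ) =
      (RingHom.ker φ).map (algebraMap P (K ⊗[A] P)) := by
  have h1 := Algebra.TensorProduct.lTensor_ker (R := A) (A := K) φ hφ
  have h2 : RingHom.ker (Algebra.TensorProduct.map (AlgHom.id K K) φ) =
    RingHom.ker (Algebra.TensorProduct.map (AlgHom.id A K) φ) := rfl
  rw [h2, h1]
  rfl

attribute [local instance] Algebra.TensorProduct.rightAlgebra in
/-- Near a node of a fibre of a flat algebra which is a quotient of a smooth algebra of relative dimension two there is a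
nodal presentation. -/
theorem exists_hasPres_away {A P B : Type u} [CommRing A] [CommRing P] [CommRing B] [Algebra A P] [Algebra A B]
    [Algebra.Smooth A P] [Algebra.FinitePresentation A B] [Module.Flat A B]
    (b : Module.Basis (Fin 2) P (Ω[P⁄A])) (φ : P →ₐ[A] B) (hφ : Function.Surjective φ)
    (K : Type u) [Field K] [Algebra A K] (q' : Ideal (K ⊗[A] B)) [q'.IsPrime] (hq' : NodeAt K q') :
    ∃ g : P, φ g ∉ q'.comap (algebraMap B (K ⊗[A] B)) ∧ HasPres A (Localization.Away (φ g)) := by
  let P' := K ⊗[A] P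
  let φ' : P' →ₐ[K] K ⊗[A] B := Algebra.TensorProduct.map (AlgHom.id K K) φ
  have hφ' : Function.Surjective φ' := map_id_surjective φ hφ K
  obtain ⟨b', hb'⟩ := exists_basis_of_isPushout b K P'
  have hS : RingHom.ker φ' = Ideal.span (algebraMap P P' '' (RingHom.ker φ : Set P)) := ker_map_id φ hφ K
  obtain ⟨y', hy'⟩ : ∃ y', y' = q'.comap φ'.toRingHom := ⟨_, rfl⟩
  have hy'p : y'.IsPrime := by rw [hy']; infer_instance
  have h0S : (0 : P') ∈ algebraMap P P' '' (RingHom.ker φ : Set P) :=
    ⟨0, (RingHom.ker φ).zero_mem, map_zero _⟩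
  obtain ⟨_, ⟨h, hh, rfl⟩, H, hjac, hunr⟩ := exists_gen_at_node b' φ' hφ' q' hq' _ h0S hS y' hy'
  have hh' : h ∈ RingHom.ker φ := hh
  have hfg : (RingHom.ker φ).FG := Algebra.FinitePresentation.ker_fG_of_surjective φ hφ
  have hker' : ∀ i ∈ RingHom.ker φ, algebraMap P P' i ∈ RingHom.ker φ' := by
    intro i hi
    rw [hS]
    exact Ideal.subset_span ⟨i, hi, rfl⟩
  obtain ⟨g1, hg1y, hg1⟩ := NodalKer.exists_mul_mem_span K φ hφ hfg y' h hh'
    (fun i hi => H _ (hker' i hi))
  -- unramifiedness
  let J := jac b h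
  let Q := P ⧸ J
  let Q' := K ⊗[A] Q
  let π : P →ₐ[A] Q := Ideal.Quotient.mkₐ A J
  have hπ : Function.Surjective π := Ideal.Quotient.mk_surjective
  let π' : P' →ₐ[K] Q' := Algebra.TensorProduct.map (AlgHom.id K K) π
  have hπ' : Function.Surjective π' := map_id_surjective π hπ K
  have hπk : RingHom.ker π' = J.map (algebraMap P P') := by
    rw [ker_map_id π hπ K]
    congr 1
    exact Ideal.Quotient.mkₐ_ker A J
  have hJ' : J.map (algebraMap P P') = jac b' (algebraMap P P' h) := jac_map b b' hb' h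
  have hle : RingHom.ker π' ≤ y' := by
    rw [hπk, hJ']
    intro x hx
    have h1 : algebraMap P' (Localization.AtPrime y') x ∈ maximalIdeal (Localization.AtPrime y') := by
      rw [← hjac]
      exact Ideal.mem_map_of_mem _ hx
    exact (IsLocalization.AtPrime.to_map_mem_maximal_iff _ y' x).mp h1
  obtain ⟨z', hz'⟩ : ∃ z', z' = y'.map π'.toRingHom := ⟨_, rfl⟩
  have hz'p : z'.IsPrime := by
    rw [hz']
    exact Ideal.map_isPrime_of_surjective (f := π'.toRingHom) hπ' hle
  have hz'c : y' = z'.comap π'.toRingHom := by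
    rw [hz', Ideal.comap_map_of_surjective π'.toRingHom hπ', ← RingHom.ker_eq_comap_bot]
    exact (sup_eq_left.mpr hle).symm
  obtain ⟨f2, hf2, hf2k, hf2x⟩ := exists_localHom π' hπ' z' y' hz'c
  have hf2k' : RingHom.ker f2 = maximalIdeal (Localization.AtPrime y') := by
    rw [hf2k, hπk, hJ', hjac]
  let ψ : ResidueField (Localization.AtPrime y') →ₐ[K] Localization.AtPrime z' :=
    Ideal.Quotient.liftₐ (maximalIdeal (Localization.AtPrime y')) f2 (fun x hx => by
      rw [← hf2k'] at hx
      exact hx)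
  have hψ : Function.Surjective ψ := by
    intro z
    obtain ⟨x, rfl⟩ := hf2 z
    exact ⟨Ideal.Quotient.mk _ x, rfl⟩
  have hu1 : Algebra.IsUnramifiedAt K z' := Algebra.FormallyUnramified.of_surjective ψ hψ
  obtain ⟨z, hz⟩ : ∃ z, z = z'.comap (algebraMap Q Q') := ⟨_, rfl⟩
  have hzp : z.IsPrime := by rw [hz]; infer_instance
  have hlo : z'.LiesOver z := ⟨hz⟩
  have hu2 : Algebra.IsUnramifiedAt A z :=
    Groth.Agent.UnramA.DescentPoint.isUnramifiedAt_of_tensorProduct (R := A) (S := Q) (T := K) z' z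
  obtain ⟨g2', hg2', hunr2⟩ := Algebra.exists_formallyUnramified_of_isUnramifiedAt (R := A) z
  obtain ⟨g2, rfl⟩ := hπ g2'
  have hg2y : g2 ∉ y'.comap (algebraMap P P') := by
    intro hc
    apply hg2'
    rw [hz, Ideal.mem_comap]
    have h1 : π' (algebraMap P P' g2) ∈ z' := by
      rw [hz']
      exact Ideal.mem_map_of_mem π'.toRingHom hc
    exact h1
  have hunr3 : Algebra.FormallyUnramified A (Localization.Away (Ideal.Quotient.mk (jac b h) g2)) := hunr2
  refine ⟨g1 * g2, ?_, hasPres_away b h φ hφ hh' g1 g2 hg1⟩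
  intro hc
  have hc' : g1 * g2 ∈ y'.comap (algebraMap P P') := by
    rw [hy']
    exact hc
  have hyp : (y'.comap (algebraMap P P')).IsPrime := inferInstance
  rcases hyp.mem_or_mem hc' with h1 | h1
  · exact hg1y h1
  · exact hg2y h1

end Groth.Agent.CurvesB.NodalPres
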