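import Groth.Agent.CurvesB.NodalExist3

/-!
# Existence of nodal presentations near nodes of fibres, IV: differentials at a node
-/

set_option autoImplicit false

universe u

open scoped TensorProduct KaehlerDifferential

namespace Groth.Agent.CurvesB.NodalPres

open IsLocalRing NodalLocal Node

/-- A spanning set of a vector space of dimension at most two contains (with zero) a pair of generators. -/
theorem exists_pair_of_finrank_le {κ V : Type*} [Field κ] [AddCommGroup V] [Module κ V] (s : Set V)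
    (hs : Submodule.span κ s = ⊤) (h0 : 0 ∈ s) [Module.Finite κ V] (hr : Module.finrank κ V ≤ 2) :
    ∃ x : Fin 2 → V, (∀ i, x i ∈ s) ∧ Submodule.span κ (Set.range x) = ⊤ := by
  let b := Module.Basis.ofSpan (K := κ) hs.ge
  have hfin : Finite ((linearIndepOn_empty κ id).extend (Set.empty_subset s)) := Module.Finite.finite_basis b
  have hft : Fintype ((linearIndepOn_empty κ id).extend (Set.empty_subset s)) := Fintype.ofFinite _
  have hcard : Fintype.card ((linearIndepOn_empty κ id).extend (Set.empty_subset s)) ≤ Fintype.card (Fin 2) := by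
    rw [← Module.finrank_eq_card_basis b, Fintype.card_fin]
    exact hr
  obtain ⟨f⟩ := Function.Embedding.nonempty_of_card_le hcard
  classical
  refine ⟨fun i => if h : ∃ j, f j = i then b h.choose else 0, ?_, ?_⟩
  · intro i
    dsimp only
    split_ifs with h
    · exact Module.Basis.ofSpan_subset hs.ge ⟨_, rfl⟩
    · exact h0
  · rw [eq_top_iff, ← b.span_eq]
    refine Submodule.span_le.mpr ?_
    rintro _ ⟨j, rfl⟩
    refine Submodule.subset_span ⟨f j, ?_⟩
    have h : ∃ j', f j' = f j := ⟨j, rfl⟩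
    dsimp only
    rw [dif_pos h]
    congr 1
    exact f.injective h.choose_spec

/-- The differentials at a node are generated by two elements. -/
theorem finrank_le_two {K T : Type u} [Field K] [CommRing T] [IsLocalRing T] [Algebra K T]
    [Algebra.FormallyUnramified K (ResidueField T)] (a b : T) (hm : maximalIdeal T = Ideal.span {a, b}) :
    Module.Finite (ResidueField T) (ResidueField T ⊗[T] Ω[T⁄K]) ∧
      Module.finrank (ResidueField T) (ResidueField T ⊗[T] Ω[T⁄K]) ≤ 2 := by
  have hsurj : Function.Surjective (algebraMap T (ResidueField T)) := residue_surjective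
  have hexact := KaehlerDifferential.exact_kerCotangentToTensor_mapBaseChange K T (ResidueField T) hsurj
  have hker : RingHom.ker (algebraMap T (ResidueField T)) = maximalIdeal T := ker_residue
  have h0 : ∀ x ∈ maximalIdeal T, ∀ ω : Ω[T⁄K], (1 : ResidueField T) ⊗ₜ[T] (x • ω) = 0 := by
    intro x hx ω
    rw [← TensorProduct.smul_tmul, Algebra.smul_def, mul_one]
    rw [show algebraMap T (ResidueField T) x = 0 from (residue_eq_zero_iff _).mpr hx, TensorProduct.zero_tmul]
  have hspan : Submodule.span (ResidueField T) (Set.range ![(1 : ResidueField T) ⊗ₜ[T] KaehlerDifferential.D K T a,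
      (1 : ResidueField T) ⊗ₜ[T] KaehlerDifferential.D K T b]) = ⊤ := by
    rw [eq_top_iff]
    intro z _
    have h2 : KaehlerDifferential.mapBaseChange K T (ResidueField T) z = 0 := Subsingleton.elim _ _
    obtain ⟨y, rfl⟩ := (hexact _).mp h2
    obtain ⟨⟨x, hx⟩, rfl⟩ := Ideal.toCotangent_surjective _ y
    have hx' : x ∈ Ideal.span {a, b} := by rw [← hm, ← hker]; exact hx
    obtain ⟨u, v, rfl⟩ := Ideal.mem_span_pair.mp hx'
    have ha : a ∈ maximalIdeal T := by rw [hm]; exact Ideal.subset_span (by simp)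
    have hb : b ∈ maximalIdeal T := by rw [hm]; exact Ideal.subset_span (by simp)
    rw [KaehlerDifferential.kerCotangentToTensor_toCotangent]
    change (1 : ResidueField T) ⊗ₜ[T] KaehlerDifferential.D K T (u * a + v * b) ∈ _
    rw [map_add, Derivation.leibniz, Derivation.leibniz, TensorProduct.tmul_add, TensorProduct.tmul_add,
      TensorProduct.tmul_add, h0 a ha, h0 b hb, add_zero, add_zero, TensorProduct.tmul_smul,
      TensorProduct.tmul_smul]
    have hmem : ∀ i : Fin 2, (![(1 : ResidueField T) ⊗ₜ[T] KaehlerDifferential.D K T a,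
      (1 : ResidueField T) ⊗ₜ[T] KaehlerDifferential.D K T b]) i ∈
      Submodule.span (ResidueField T) (Set.range ![(1 : ResidueField T) ⊗ₜ[T] KaehlerDifferential.D K T a,
      (1 : ResidueField T) ⊗ₜ[T] KaehlerDifferential.D K T b]) := fun i => Submodule.subset_span ⟨i, rfl⟩
    refine Submodule.add_mem _ ?_ ?_
    · rw [← algebraMap_smul (ResidueField T) u]
      exact Submodule.smul_mem _ _ (hmem 0)
    · rw [← algebraMap_smul (ResidueField T) v]
      exact Submodule.smul_mem _ _ (hmem 1)
  constructor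
  · exact ⟨by rw [← hspan]; exact Submodule.fg_span (Set.finite_range _)⟩
  · rw [← finrank_top, ← hspan]
    exact (finrank_range_le_card (R := ResidueField T) _).trans (by simp)

attribute [local instance] Algebra.TensorProduct.rightAlgebra in
/-- Two elements of `B` whose differentials generate at a node of a fibre. -/
theorem exists_two_differentials {A B K : Type u} [CommRing A] [CommRing B] [Algebra A B] [Field K]
    [Algebra A K] (q' : Ideal (K ⊗[A] B)) [q'.IsPrime] (hq' : NodeAt K q') :
    ∃ x : Fin 2 → B, Submodule.span q'.ResidueField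
      (Set.range fun i => (1 : q'.ResidueField) ⊗ₜ[B] KaehlerDifferential.D A B (x i)) = ⊤ := by
  have hsep := hq'.separable
  have hfin := hq'.finite
  have hetale : Algebra.FormallyEtale K q'.ResidueField := .of_isSeparable K _
  obtain ⟨a, b, -, -, -, hm, -, -⟩ := hq'.nodeLike.exists_gens
  obtain ⟨hf, hr⟩ := finrank_le_two (K := K) a b hm
  let e1 : q'.ResidueField ⊗[K ⊗[A] B] ((K ⊗[A] B) ⊗[B] Ω[B⁄A]) ≃ₗ[q'.ResidueField]
      q'.ResidueField ⊗[B] Ω[B⁄A] :=
    TensorProduct.AlgebraTensorModule.cancelBaseChange B (K ⊗[A] B) q'.ResidueField q'.ResidueField _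
  let e2 : (K ⊗[A] B) ⊗[B] Ω[B⁄A] ≃ₗ[K ⊗[A] B] Ω[(K ⊗[A] B)⁄K] :=
    KaehlerDifferential.tensorKaehlerEquiv A K B (K ⊗[A] B)
  let e3 : q'.ResidueField ⊗[Localization.AtPrime q'] (Localization.AtPrime q' ⊗[K ⊗[A] B] Ω[(K ⊗[A] B)⁄K])
      ≃ₗ[q'.ResidueField] q'.ResidueField ⊗[K ⊗[A] B] Ω[(K ⊗[A] B)⁄K] :=
    TensorProduct.AlgebraTensorModule.cancelBaseChange (K ⊗[A] B) (Localization.AtPrime q') q'.ResidueField
      q'.ResidueField _
  let e4 : Localization.AtPrime q' ⊗[K ⊗[A] B] Ω[(K ⊗[A] B)⁄K] ≃ₗ[Localization.AtPrime q']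
      Ω[Localization.AtPrime q'⁄K] :=
    KaehlerDifferential.tensorKaehlerEquivOfFormallyEtale K (K ⊗[A] B) (Localization.AtPrime q')
  let e5 : q'.ResidueField ⊗[K ⊗[A] B] ((K ⊗[A] B) ⊗[B] Ω[B⁄A]) ≃ₗ[q'.ResidueField]
      q'.ResidueField ⊗[K ⊗[A] B] Ω[(K ⊗[A] B)⁄K] :=
    TensorProduct.AlgebraTensorModule.congr (.refl _ _) e2
  let e6 : q'.ResidueField ⊗[Localization.AtPrime q'] (Localization.AtPrime q' ⊗[K ⊗[A] B] Ω[(K ⊗[A] B)⁄K])
      ≃ₗ[q'.ResidueField] q'.ResidueField ⊗[Localization.AtPrime q'] Ω[Localization.AtPrime q'⁄K] :=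
    TensorProduct.AlgebraTensorModule.congr (.refl _ _) e4
  let e : q'.ResidueField ⊗[B] Ω[B⁄A] ≃ₗ[q'.ResidueField]
      q'.ResidueField ⊗[Localization.AtPrime q'] Ω[Localization.AtPrime q'⁄K] :=
    e1.symm ≪≫ₗ e5 ≪≫ₗ e3.symm ≪≫ₗ e6
  have hf' : Module.Finite q'.ResidueField (q'.ResidueField ⊗[B] Ω[B⁄A]) := Module.Finite.equiv e.symm
  have hr' : Module.finrank q'.ResidueField (q'.ResidueField ⊗[B] Ω[B⁄A]) ≤ 2 := by
    rw [e.finrank_eq]; exact hr
  have hs : Submodule.span q'.ResidueField (TensorProduct.mk B q'.ResidueField (Ω[B⁄A]) 1 ''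
      (Set.range (KaehlerDifferential.D A B))) = ⊤ := by
    rw [← Submodule.baseChange_span, KaehlerDifferential.span_range_derivation, Submodule.baseChange_top]
  obtain ⟨x, hx, hspan⟩ := exists_pair_of_finrank_le _ hs ⟨0, ⟨0, map_zero _⟩, map_zero _⟩ hr'
  choose y hy using hx
  choose w hw using fun i => (hy i).1
  refine ⟨w, ?_⟩
  rw [← hspan]
  congr 2
  ext i
  rw [hw i]
  exact (hy i).2

end Groth.Agent.CurvesB.NodalPres
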