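import Groth.Agent.CurvesB.MaxNodal460

/-!
# Nodal neighbourhoods of nodes of fibres, smooth curves are nodal
-/

set_option autoImplicit false

open CategoryTheory CategoryTheory.Limits AlgebraicGeometry

universe u

namespace Groth.Agent.CurvesB.NodalExist

open MaxNodal Groth.Agent.Models.NodeBlow Groth.Agent.Models.NodeRing Groth.Agent.Models

theorem exists_nhd_of_chart {X S : Scheme.{u}} (f : X ⟶ S) (x : X) (hx : Chart f x) :
    ∃ V : X.Opens, x ∈ V ∧ Curv2.IsNodalFamily (V.ι ≫ f) := by
  obtain ⟨U, g, C, _, c, e, h, hg, he, hh, hfac, hxr⟩ := hx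
  let V : X.Opens := ⟨Set.range g, g.isOpenMap.isOpen_range⟩
  refine ⟨V, hxr, ?_⟩
  let g' : U ⟶ (V : Scheme.{u}) := IsOpenImmersion.lift V.ι g (by simp [V])
  have hg' : g' ≫ V.ι = g := IsOpenImmersion.lift_fac _ _ _
  have hes : Etale (g' ≫ V.ι) := by rw [hg']; infer_instance
  have he' : Etale g' := Etale.of_comp g' V.ι
  have hs : ∀ v : V, v ∈ Set.range g' := by
    rintro ⟨w, z, hz⟩
    refine ⟨z, ?_⟩
    apply V.ι.injective
    rw [← Scheme.Hom.comp_apply, hg', hz]
    rfl
  refine Groth.Agent.S1593.result (V.ι ≫ f) PUnit (fun _ => U) (fun _ => g') (fun v => ⟨⟨⟩, hs v⟩) (fun _ => ?_)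
  rw [← Category.assoc, hg', hfac]
  exact isNodalFamily_chart C c e h

/-- B1: a node of a fibre has a nodal neighbourhood. -/
theorem exists_nhd_of_isNode {X S : Scheme.{u}} (f : X ⟶ S) [Flat f] [LocallyOfFinitePresentation f] (x : X)
    (hx : @Curv2.IsNode (S.residueField (f.base x)) _ (f.fiber (f.base x))
      ⟨f.fiberToSpecResidueField (f.base x)⟩ (f.asFiber x)) :
    ∃ V : X.Opens, x ∈ V ∧ Curv2.IsNodalFamily (V.ι ≫ f) :=
  exists_nhd_of_chart f x (chart_of_isNode f x hx)

/-- affine form of the chart at a point of an algebra étale over `R[X]`. -/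
theorem exists_etale_model {R B : Type u} [CommRing R] [CommRing B] [Algebra R B]
    [Algebra (MvPolynomial (Fin 1) R) B] [IsScalarTower R (MvPolynomial (Fin 1) R) B]
    [Algebra.Etale (MvPolynomial (Fin 1) R) B] (x2 : Spec (CommRingCat.of B)) :
    Chart (Spec.map (CommRingCat.ofHom (algebraMap R B))) x2 := by
  let t : B := algebraMap (MvPolynomial (Fin 1) R) B (MvPolynomial.X 0)
  obtain ⟨c, hc⟩ : ∃ c : R, t + algebraMap R B c ∉ x2.asIdeal := by
    by_contra hcon
    push Not at hcon
    have h0 := hcon 0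
    have h1 := hcon 1
    rw [map_zero, add_zero] at h0
    rw [map_one] at h1
    have h2 : (1 : B) ∈ x2.asIdeal := by
      have := x2.asIdeal.sub_mem h1 h0
      rwa [add_sub_cancel_left] at this
    exact x2.isPrime.ne_top ((Ideal.eq_top_iff_one _).mpr h2)
  let b : B := t + algebraMap R B c
  let D := Localization.Away b
  let j3 : Spec (CommRingCat.of D) ⟶ Spec (CommRingCat.of B) :=
    Spec.map (CommRingCat.ofHom (algebraMap B D))
  have hj3 : IsOpenImmersion j3 := inferInstance
  obtain ⟨x3, hx3⟩ : ∃ x3, j3 x3 = x2 := by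
    have h2 : Set.range (PrimeSpectrum.comap (algebraMap B D)) =
        (PrimeSpectrum.basicOpen b : Set (PrimeSpectrum B)) :=
      PrimeSpectrum.localization_away_comap_range _ b
    have h3 : x2 ∈ (PrimeSpectrum.basicOpen b : Set (PrimeSpectrum B)) := hc
    rw [← h2] at h3
    exact h3
  obtain ⟨v, hv⟩ := (IsLocalization.Away.algebraMap_isUnit (S := D) b).exists_right_inv
  obtain ⟨k, hk1, hk2, -⟩ := GmChart.exists_desc (1 : R) rfl (algebraMap R D) (algebraMap B D b) v hv
  have hkl : k.comp (GmChart.lam (1 : R) c) =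
      (algebraMap B D).comp (algebraMap (MvPolynomial (Fin 1) R) B) := by
    apply MvPolynomial.ringHom_ext
    · intro r
      rw [RingHom.comp_apply, GmChart.lam_C]
      have h5 := congrArg (fun m => m r) hk1
      simp only [RingHom.comp_apply] at h5
      rw [h5, RingHom.comp_apply, ← MvPolynomial.algebraMap_eq, ← IsScalarTower.algebraMap_apply R _ B,
        ← IsScalarTower.algebraMap_apply R B D]
    · intro i
      rw [Subsingleton.elim i 0, RingHom.comp_apply, GmChart.lam_X, map_sub, hk2]
      have h5 := congrArg (fun m => m c) hk1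
      simp only [RingHom.comp_apply] at h5
      rw [h5, IsScalarTower.algebraMap_apply R B D, ← map_sub]
      simp only [b, add_sub_cancel_right]
      rfl
  have hetk : Etale (Spec.map (CommRingCat.ofHom k)) := by
    have h1 : Etale (Spec.map (CommRingCat.ofHom k) ≫
        Spec.map (CommRingCat.ofHom (GmChart.lam (1 : R) c))) := by
      rw [← Spec.map_comp, ← CommRingCat.ofHom_comp, hkl, CommRingCat.ofHom_comp, Spec.map_comp]
      have h2 : Etale (Spec.map (CommRingCat.ofHom (algebraMap (MvPolynomial (Fin 1) R) B))) := by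
        rw [HasRingHomProperty.Spec_iff (P := @Etale), CommRingCat.hom_ofHom, RingHom.etale_algebraMap]
        infer_instance
      infer_instance
    have h2 := GmChart.etale_lam (1 : R) c rfl
    exact Etale.of_comp _ (Spec.map (CommRingCat.ofHom (GmChart.lam (1 : R) c)))
  refine ⟨Spec (CommRingCat.of D), j3, R, inferInstance, 1, Spec.map (CommRingCat.ofHom k), 𝟙 _,
    inferInstance, hetk, inferInstance, ?_, ⟨x3, hx3⟩⟩
  rw [Category.comp_id, ← Spec.map_comp, ← Spec.map_comp, ← CommRingCat.ofHom_comp,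
    ← CommRingCat.ofHom_comp]
  congr 2
  rw [← IsScalarTower.algebraMap_eq, ← hk1]
  rfl

/-- Charts at points with an open immersion on source and target. -/
theorem chart_of_openImmersion {U X V S : Scheme.{u}} (f : X ⟶ S) (j : U ⟶ X) [Etale j] (i : V ⟶ S)
    [Etale i] (p : U ⟶ V) (hp : j ≫ f = p ≫ i) (y : U) (hy : Chart p y) : Chart f (j y) := by
  obtain ⟨U', g, C, _, c, e, h, hg, he, hh, hfac, ⟨z, rfl⟩⟩ := hy
  refine ⟨U', g ≫ j, C, inferInstance, c, e, h ≫ i, inferInstance, he, inferInstance, ?_, ⟨z, ?_⟩⟩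
  · rw [Category.assoc, hp, ← Category.assoc, hfac]
    simp only [Category.assoc]
  · rw [Scheme.Hom.comp_apply]

theorem chart_of_smooth {X S : Scheme.{u}} (f : X ⟶ S) [SmoothOfRelativeDimension 1 f] (x : X) :
    Chart f x := by
  obtain ⟨V, hV, U, hU, hxU, hUV, hstd⟩ :=
    SmoothOfRelativeDimension.exists_isStandardSmoothOfRelativeDimension (n := 1) (f := f) x
  obtain ⟨g, hgC, hget⟩ := hstd.exists_etale_mvPolynomial
  algebraize [(f.appLE V U hUV).hom, g]
  have htow : IsScalarTower Γ(S, V) (MvPolynomial (Fin 1) Γ(S, V)) Γ(X, U) :=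
    IsScalarTower.of_algebraMap_eq' hgC.symm
  have het : Algebra.Etale (MvPolynomial (Fin 1) Γ(S, V)) Γ(X, U) := hget
  obtain ⟨y, hy⟩ : ∃ y, hU.fromSpec y = x := by
    have : x ∈ Set.range hU.fromSpec := by
      rw [hU.range_fromSpec]
      exact hxU
    exact this
  rw [← hy]
  exact chart_of_openImmersion f hU.fromSpec hV.fromSpec _ (hV.SpecMap_appLE_fromSpec f hU hUV).symm y
    (exists_etale_model (R := Γ(S, V)) (B := Γ(X, U)) y)

/-- B2: smooth morphisms of relative dimension one are nodal families. -/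
theorem isNodalFamily_of_smooth {X S : Scheme.{u}} (f : X ⟶ S) [SmoothOfRelativeDimension 1 f] :
    Curv2.IsNodalFamily f :=
  isNodalFamily_of_chart f (chart_of_smooth f)

end Groth.Agent.CurvesB.NodalExist
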