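import Groth.Agent.CurvesB.NodalExist4
import Mathlib.AlgebraicGeometry.OpenImmersion
import Mathlib.RingTheory.Unramified.LocalStructure

/-!
# Existence of nodal presentations near nodes of fibres, V: the main theorem
-/

set_option autoImplicit false

universe u

open scoped TensorProduct KaehlerDifferential

namespace Groth.Agent.CurvesB.NodalPres

open IsLocalRing NodalLocal Node AlgebraicGeometry CategoryTheory

/-- Nodal points are insensitive to isomorphisms of local rings. -/
theorem NodeAt.of_algEquiv {K C C1 : Type u} [Field K] [CommRing C] [Algebra K C] [CommRing C1] [Algebra K C1]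
    {q : Ideal C} [q.IsPrime] {q1 : Ideal C1} [q1.IsPrime]
    (e : Localization.AtPrime q ≃ₐ[K] Localization.AtPrime q1) (h : NodeAt K q) : NodeAt K q1 := by
  obtain ⟨e', -⟩ := exists_residueEquiv e.toAlgHom e.surjective
  have hfin := h.finite
  have hsep := h.separable
  exact ⟨h.nodeLike.of_ringEquiv e.toRingEquiv, Module.Finite.equiv e'.toLinearEquiv,
    Algebra.IsSeparable.of_algHom K _ e'.symm.toAlgHom⟩

/-- Local rings of localizations. -/
theorem exists_localization_equiv (K : Type u) {C C1 : Type u} [CommRing K] [CommRing C] [Algebra K C] [CommRing C1]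
    [Algebra K C1] [Algebra C C1] [IsScalarTower K C C1] (M : Submonoid C) [IsLocalization M C1]
    (q : Ideal C) [q.IsPrime] (q1 : Ideal C1) [q1.IsPrime] (hq : q1.comap (algebraMap C C1) = q) :
    Nonempty (Localization.AtPrime q ≃ₐ[K] Localization.AtPrime q1) := by
  subst hq
  have : IsLocalization.AtPrime (Localization.AtPrime q1) (q1.comap (algebraMap C C1)) :=
    IsLocalization.isLocalization_isLocalization_atPrime_isLocalization M _ _
  exact ⟨(IsLocalization.algEquiv (q1.comap (algebraMap C C1)).primeCompl _ _).restrictScalars K⟩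

attribute [local instance] Algebra.TensorProduct.rightAlgebra in
theorem isUnramifiedAt_of_span {A B K : Type u} [CommRing A] [CommRing B] [Algebra A B] [Field K]
    [Algebra A K] [Algebra.FiniteType A B] (q' : Ideal (K ⊗[A] B)) [q'.IsPrime] (x : Fin 2 → B)
    (hx : Submodule.span q'.ResidueField
      (Set.range fun i => (1 : q'.ResidueField) ⊗ₜ[B] KaehlerDifferential.D A B (x i)) = ⊤)
    [Algebra (MvPolynomial (Fin 2) A) B] [IsScalarTower A (MvPolynomial (Fin 2) A) B]
    (hX : ∀ i, algebraMap (MvPolynomial (Fin 2) A) B (MvPolynomial.X i) = x i) :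
    Algebra.IsUnramifiedAt (MvPolynomial (Fin 2) A) (q'.comap (algebraMap B (K ⊗[A] B))) := by
  have hft : Algebra.FiniteType (MvPolynomial (Fin 2) A) B := .of_restrictScalars_finiteType A _ _
  suffices h2 : (⟨q'.comap (algebraMap B (K ⊗[A] B)), inferInstance⟩ : PrimeSpectrum B) ∈
    Algebra.unramifiedLocus (MvPolynomial (Fin 2) A) B from h2
  rw [Algebra.unramifiedLocus_eq_compl_support, Set.mem_compl_iff,
    ← UnramA.DescentPoint.mem_support_baseChange_iff
      (⟨q'.comap (algebraMap B (K ⊗[A] B)), inferInstance⟩ : PrimeSpectrum B)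
      (⟨q', inferInstance⟩ : PrimeSpectrum (K ⊗[A] B)) rfl,
    Module.mem_support_iff_nontrivial_residueField_tensorProduct, not_nontrivial_iff_subsingleton]
  let e1 : q'.ResidueField ⊗[K ⊗[A] B] ((K ⊗[A] B) ⊗[B] Ω[B⁄(MvPolynomial (Fin 2) A)]) ≃ₗ[q'.ResidueField]
      q'.ResidueField ⊗[B] Ω[B⁄(MvPolynomial (Fin 2) A)] :=
    TensorProduct.AlgebraTensorModule.cancelBaseChange B (K ⊗[A] B) q'.ResidueField q'.ResidueField _
  have key : Subsingleton (q'.ResidueField ⊗[B] Ω[B⁄(MvPolynomial (Fin 2) A)]) := by
    let m : q'.ResidueField ⊗[B] Ω[B⁄A] →ₗ[q'.ResidueField]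
        q'.ResidueField ⊗[B] Ω[B⁄(MvPolynomial (Fin 2) A)] :=
      (KaehlerDifferential.map A (MvPolynomial (Fin 2) A) B B).baseChange q'.ResidueField
    have hm : Function.Surjective m :=
      LinearMap.lTensor_surjective _ (KaehlerDifferential.map_surjective A (MvPolynomial (Fin 2) A) B)
    have h1 : LinearMap.range m = ⊥ := by
      rw [LinearMap.range_eq_map, ← hx, Submodule.map_span, Submodule.span_eq_bot]
      rintro _ ⟨_, ⟨i, rfl⟩, rfl⟩
      change (1 : q'.ResidueField) ⊗ₜ[B] KaehlerDifferential.map A (MvPolynomial (Fin 2) A) B B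
        (KaehlerDifferential.D A B (x i)) = 0
      rw [KaehlerDifferential.map_D, ← hX i]
      simp
    have h2 : LinearMap.range m = ⊤ := LinearMap.range_eq_top.mpr hm
    rw [← Submodule.subsingleton_iff q'.ResidueField]
    exact (subsingleton_iff_bot_eq_top).mp (h1.symm.trans h2)
  exact e1.toEquiv.subsingleton

/-- `q` has an affine neighbourhood with a nodal presentation. -/
def Good (A : Type u) {B : Type u} [CommRing A] [CommRing B] [Algebra A B] (q : Ideal B) : Prop :=
  ∃ (B1 : Type u) (_ : CommRing B1) (_ : Algebra A B1) (ψ : B →ₐ[A] B1),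
    IsOpenImmersion (Spec.map (CommRingCat.ofHom ψ.toRingHom)) ∧
    (∃ q1 : Ideal B1, q1.IsPrime ∧ q1.comap ψ.toRingHom = q) ∧ HasPres A B1

attribute [local instance] Algebra.TensorProduct.rightAlgebra in
/-- **Nodal presentations exist near nodes of fibres** of flat and finitely presented algebras. -/
theorem good_of_nodeAt {A B K : Type u} [CommRing A] [CommRing B] [Algebra A B] [Field K]
    [Algebra A K] [Algebra.FinitePresentation A B] [Module.Flat A B] (q' : Ideal (K ⊗[A] B)) [q'.IsPrime]
    (hq' : NodeAt K q') : Good A (q'.comap (algebraMap B (K ⊗[A] B))) := by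
  obtain ⟨x, hx⟩ := exists_two_differentials q' hq'
  algebraize [(MvPolynomial.aeval (R := A) x).toRingHom]
  have htow : IsScalarTower A (MvPolynomial (Fin 2) A) B :=
    .of_algebraMap_eq' (MvPolynomial.aeval (R := A) x).comp_algebraMap.symm
  have hX : ∀ i, algebraMap (MvPolynomial (Fin 2) A) B (MvPolynomial.X i) = x i := fun i =>
    MvPolynomial.aeval_X x i
  have hunr := isUnramifiedAt_of_span q' x hx hX
  have hft : Algebra.FiniteType (MvPolynomial (Fin 2) A) B := .of_restrictScalars_finiteType A _ _
  obtain ⟨f0, hf0, P, φ0, hφ0⟩ := Algebra.IsUnramifiedAt.exists_hasStandardEtaleSurjectionOn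
    (R := MvPolynomial (Fin 2) A) (q'.comap (algebraMap B (K ⊗[A] B)))
  algebraize [(algebraMap (MvPolynomial (Fin 2) A) P.Ring).comp (algebraMap A (MvPolynomial (Fin 2) A))]
  have hsm0 : Algebra.Smooth A (MvPolynomial (Fin 2) A) := ⟨inferInstance, inferInstance⟩
  have hsm : Algebra.Smooth A P.Ring := .comp A (MvPolynomial (Fin 2) A) P.Ring
  obtain ⟨b, -⟩ := exists_basis_of_formallyEtale (A := A)
    (KaehlerDifferential.mvPolynomialBasis A (Fin 2)) P.Ring
  let φ : P.Ring →ₐ[A] Localization.Away f0 := φ0.restrictScalars A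
  have hfp : Algebra.FinitePresentation A (Localization.Away f0) :=
    .trans A B (Localization.Away f0)
  have hflat : Module.Flat A (Localization.Away f0) := .trans A B _
  -- the prime over the localization
  let m : K ⊗[A] B →ₐ[K] K ⊗[A] Localization.Away f0 :=
    Algebra.TensorProduct.map (AlgHom.id K K) (IsScalarTower.toAlgHom A B (Localization.Away f0))
  algebraize [m.toRingHom]
  have htow2 : IsScalarTower K (K ⊗[A] B) (K ⊗[A] Localization.Away f0) :=
    .of_algebraMap_eq' m.comp_algebraMap.symm
  let M : Submonoid (K ⊗[A] B) :=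
    (Submonoid.powers f0).map (Algebra.TensorProduct.includeRight (R := A) (A := K))
  have hloc : IsLocalization M (K ⊗[A] Localization.Away f0) :=
    IsLocalization.tensorProduct_tensorProduct_right A K (Submonoid.powers f0) (Localization.Away f0) (by
      ext b
      change Algebra.TensorProduct.map (AlgHom.id K K) (IsScalarTower.toAlgHom A B (Localization.Away f0))
        (1 ⊗ₜ b) = 1 ⊗ₜ (algebraMap B (Localization.Away f0) b)
      rw [Algebra.TensorProduct.map_tmul]
      simp)
  have hdisj : Disjoint (M : Set (K ⊗[A] B)) (q' : Set (K ⊗[A] B)) := by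
    rw [Set.disjoint_left]
    rintro _ ⟨_, ⟨n, rfl⟩, rfl⟩ hmem
    apply hf0
    have h1 : (f0 ^ n : B) ∈ q'.comap (algebraMap B (K ⊗[A] B)) := hmem
    exact (inferInstance : (q'.comap (algebraMap B (K ⊗[A] B))).IsPrime).mem_of_pow_mem n h1
  obtain ⟨q0', hq0'⟩ : ∃ q0', q0' = q'.map (algebraMap (K ⊗[A] B) (K ⊗[A] Localization.Away f0)) := ⟨_, rfl⟩
  have hq0p : q0'.IsPrime := by
    rw [hq0']
    exact IsLocalization.isPrime_of_isPrime_disjoint M _ _ inferInstance hdisj
  have hq0c : q0'.comap (algebraMap (K ⊗[A] B) (K ⊗[A] Localization.Away f0)) = q' := by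
    rw [hq0']
    exact IsLocalization.under_map_of_isPrime_disjoint M _ inferInstance hdisj
  obtain ⟨e⟩ := exists_localization_equiv K M q' q0' hq0c
  obtain ⟨g, hg, hpres⟩ := exists_hasPres_away b φ hφ0 K q0' (hq'.of_algEquiv e)
  let ψ : B →ₐ[A] Localization.Away (φ g) :=
    (IsScalarTower.toAlgHom A (Localization.Away f0) (Localization.Away (φ g))).comp
      (IsScalarTower.toAlgHom A B (Localization.Away f0))
  have hψ : Spec.map (CommRingCat.ofHom ψ.toRingHom) =
      Spec.map (CommRingCat.ofHom (algebraMap (Localization.Away f0) (Localization.Away (φ g)))) ≫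
      Spec.map (CommRingCat.ofHom (algebraMap B (Localization.Away f0))) := by
    rw [← Spec.map_comp, ← CommRingCat.ofHom_comp]
    rfl
  refine ⟨Localization.Away (φ g), inferInstance, inferInstance, ψ, ?_, ?_, hpres⟩
  · rw [hψ]
    infer_instance
  · obtain ⟨q0, hq0⟩ : ∃ q0, q0 = q0'.comap (algebraMap (Localization.Away f0) (K ⊗[A] Localization.Away f0)) :=
      ⟨_, rfl⟩
    have hq0p : q0.IsPrime := by rw [hq0]; infer_instance
    have hd : Disjoint (Submonoid.powers (φ g) : Set (Localization.Away f0)) (q0 : Set (Localization.Away f0)) := by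
      rw [Ideal.disjoint_powers_iff_notMem_of_isPrime, hq0]
      exact hg
    refine ⟨q0.map (algebraMap (Localization.Away f0) (Localization.Away (φ g))),
      IsLocalization.isPrime_of_isPrime_disjoint (Submonoid.powers (φ g)) _ _ inferInstance hd, ?_⟩
    have h1 : (q0.map (algebraMap (Localization.Away f0) (Localization.Away (φ g)))).comap
        (algebraMap (Localization.Away f0) (Localization.Away (φ g))) = q0 :=
      IsLocalization.under_map_of_isPrime_disjoint (Submonoid.powers (φ g)) _ inferInstance hd
    have h2 : ((q0.map (algebraMap (Localization.Away f0) (Localization.Away (φ g)))).comap ψ.toRingHom) =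
        (((q0.map (algebraMap (Localization.Away f0) (Localization.Away (φ g)))).comap
        (algebraMap (Localization.Away f0) (Localization.Away (φ g)))).comap
          (algebraMap B (Localization.Away f0))) := rfl
    rw [h2, h1, hq0, Ideal.comap_comap]
    have h3 : (algebraMap (Localization.Away f0) (K ⊗[A] Localization.Away f0)).comp
        (algebraMap B (Localization.Away f0)) =
        (algebraMap (K ⊗[A] B) (K ⊗[A] Localization.Away f0)).comp (algebraMap B (K ⊗[A] B)) := by
      ext b
      change 1 ⊗ₜ (algebraMap B (Localization.Away f0) b) =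
        Algebra.TensorProduct.map (AlgHom.id K K) (IsScalarTower.toAlgHom A B (Localization.Away f0)) (1 ⊗ₜ b)
      rw [Algebra.TensorProduct.map_tmul]
      simp
    rw [h3, ← Ideal.comap_comap, hq0c]

end Groth.Agent.CurvesB.NodalPres
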