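import Groth.Agent.CurvesB.NodalPres
import Groth.Agent.FlatB.AffSpaceSmooth
import Mathlib.Algebra.Polynomial.Derivation

/-!
# Standard smooth algebras of relative dimension one have nodal presentations
-/

set_option autoImplicit false

universe u

open scoped TensorProduct KaehlerDifferential Polynomial

namespace Groth.Agent.CurvesB.NodalPres

theorem formallyUnramified_of_subsingleton (A C : Type u) [CommRing A] [CommRing C] [Algebra A C] [Subsingleton C] :
    Algebra.FormallyUnramified A C := by
  rw [Algebra.formallyUnramified_iff]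
  exact Module.subsingleton C _

theorem hasPres_of_isStandardSmooth (A B : Type u) [CommRing A] [CommRing B] [Algebra A B] [Nontrivial B]
    [Algebra.IsStandardSmoothOfRelativeDimension 1 A B] : HasPres A B := by
  have h1 : Algebra.IsStandardSmoothOfRelativeDimension 1 B (MvPolynomial (Fin 1) B) :=
    FlatB.AffSpaceSmooth.isStandardSmoothOfRelativeDimension B 1
  have h2 : Algebra.IsStandardSmoothOfRelativeDimension 1 B B[X] :=
    Algebra.IsStandardSmoothOfRelativeDimension.of_algEquiv 1 (MvPolynomial.uniqueAlgEquiv B (Fin 1))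
  have h3 : Algebra.IsStandardSmoothOfRelativeDimension (1 + 1) A B[X] :=
    Algebra.IsStandardSmoothOfRelativeDimension.trans 1 1 A B B[X]
  have h4 : Algebra.IsStandardSmooth A B[X] := Algebra.IsStandardSmoothOfRelativeDimension.isStandardSmooth 2
  have hrank := Algebra.IsStandardSmoothOfRelativeDimension.rank_kaehlerDifferential (R := A) (S := B[X]) (1 + 1)
  have hfin : Module.finrank B[X] (Ω[B[X]⁄A]) = 2 := Module.finrank_eq_of_rank_eq hrank
  let b : Module.Basis (Fin 2) B[X] (Ω[B[X]⁄A]) := Module.finBasisOfFinrankEq _ _ hfin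
  let φ : B[X] →ₐ[A] B := (Polynomial.aeval (0 : B)).restrictScalars A
  let d : Derivation A B[X] B[X] := (Polynomial.derivative' (R := B)).restrictScalars A
  have hd : d Polynomial.X = 1 := Polynomial.derivative_X
  have hjac : jac b Polynomial.X = ⊤ := by
    rw [Ideal.eq_top_iff_one]
    have h5 : d.liftKaehlerDifferential (KaehlerDifferential.D A B[X] Polynomial.X) = 1 := by
      rw [Derivation.liftKaehlerDifferential_comp_D, hd]
    rw [← b.sum_repr (KaehlerDifferential.D A B[X] Polynomial.X), Fin.sum_univ_two, map_add, map_smul,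
      map_smul] at h5
    rw [← h5]
    exact Ideal.add_mem _ (Ideal.mul_mem_right _ _ (d_mem_jac b _ 0)) (Ideal.mul_mem_right _ _ (d_mem_jac b _ 1))
  refine ⟨B[X], inferInstance, inferInstance, inferInstance, b, Polynomial.X, φ, ?_, ?_, ?_⟩
  · intro x
    exact ⟨Polynomial.C x, by simp [φ]⟩
  · have := Polynomial.ker_evalRingHom (0 : B)
    rw [Polynomial.C_0, sub_zero] at this
    rw [← this]
    ext p
    simp [RingHom.mem_ker, φ, Polynomial.aeval_def, Polynomial.eval₂_eq_eval_map]
  · have : Subsingleton (B[X] ⧸ jac b Polynomial.X) := by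
      rw [hjac]
      exact Ideal.Quotient.subsingleton_iff.mpr rfl
    exact formallyUnramified_of_subsingleton _ _

end Groth.Agent.CurvesB.NodalPres
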