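import Groth.Agent.CurvesB.NodalExist5
import Groth.Agent.CurvesB.NodalStdSmooth
import Groth.Agent.Smoothlim.SmoothDescent

/-!
# Existence of nodal presentations near smooth points of fibres
-/

set_option autoImplicit false

universe u

open scoped TensorProduct KaehlerDifferential

namespace Groth.Agent.CurvesB.NodalPres

open IsLocalRing NodalLocal Node AlgebraicGeometry CategoryTheory

/-- Extending primes to localizations. -/
theorem exists_prime_localization (K : Type u) {C C1 : Type u} [CommRing K] [CommRing C] [Algebra K C] [CommRing C1]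
    [Algebra K C1] [Algebra C C1] [IsScalarTower K C C1] (M : Submonoid C) [IsLocalization M C1]
    (q : Ideal C) [hq : q.IsPrime] (hd : Disjoint (M : Set C) (q : Set C)) :
    ∃ (q1 : Ideal C1) (_ : q1.IsPrime), q1.comap (algebraMap C C1) = q ∧
      Nonempty (Localization.AtPrime q ≃ₐ[K] Localization.AtPrime q1) ∧ (q.IsMaximal → q1.IsMaximal) ∧
      q1.height = q.height := by
  have hp : (q.map (algebraMap C C1)).IsPrime := IsLocalization.isPrime_of_isPrime_disjoint M _ _ inferInstance hd
  have hc : (q.map (algebraMap C C1)).comap (algebraMap C C1) = q :=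
    IsLocalization.under_map_of_isPrime_disjoint M _ inferInstance hd
  refine ⟨q.map (algebraMap C C1), hp, hc, exists_localization_equiv K M q _ hc, ?_, ?_⟩
  · intro hmax
    obtain ⟨m, hm, hle⟩ := Ideal.exists_le_maximal _ hp.ne_top
    have h1 : m.comap (algebraMap C C1) = q := by
      have hmp : m.IsPrime := hm.isPrime
      have h2 : q ≤ m.comap (algebraMap C C1) := by
        rw [← Ideal.map_le_iff_le_comap]; exact hle
      exact (Ideal.IsMaximal.eq_of_le inferInstance (Ideal.IsPrime.comap _).ne_top h2).symm
    have h2 : q.map (algebraMap C C1) = m := by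
      rw [← h1]
      exact IsLocalization.map_under M _ m
    rw [h2]; exact hm
  · exact IsLocalization.height_map_of_disjoint M _ hd

theorem exists_relativeDimension (A B : Type u) [CommRing A] [CommRing B] [Algebra A B]
    [h : Algebra.IsStandardSmooth A B] : ∃ n, Algebra.IsStandardSmoothOfRelativeDimension n A B := by
  obtain ⟨_, _, _, _, ⟨P⟩⟩ := h
  exact ⟨P.dimension, ⟨_, _, _, ‹_›, P, rfl⟩⟩

attribute [local instance] Algebra.TensorProduct.rightAlgebra in
/-- Nodal presentations exist near smooth points of dimension one of fibres. -/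
theorem good_of_isSmoothAt {A B K : Type u} [CommRing A] [CommRing B] [Algebra A B] [Field K]
    [Algebra A K] [Algebra.FinitePresentation A B] [Module.Flat A B] (q' : Ideal (K ⊗[A] B)) [q'.IsMaximal]
    (hsm : Algebra.IsSmoothAt K q') (hht : q'.height = 1) :
    Good A (q'.comap (algebraMap B (K ⊗[A] B))) := by
  have hq'p : q'.IsPrime := Ideal.IsMaximal.isPrime inferInstance
  obtain ⟨q, hq⟩ : ∃ q, q = q'.comap (algebraMap B (K ⊗[A] B)) := ⟨_, rfl⟩
  have hqp : q.IsPrime := by rw [hq]; infer_instance
  rw [← hq]
  have hfl : Module.Flat A (Localization.AtPrime q) := .trans A B _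
  have hlo : q'.LiesOver q := ⟨hq⟩
  have hsmq : Algebra.IsSmoothAt A q :=
    (Smoothlim.SmoothDescent.isSmoothAt_iff_of_isPushout (R := A) (R' := K) (A := B) (A' := K ⊗[A] B)
      q' q hq (Or.inl hfl)).mpr hsm
  obtain ⟨f0, hf0, hstd⟩ := Algebra.IsSmoothAt.exists_notMem_isStandardSmooth A q
  obtain ⟨n, hn⟩ := exists_relativeDimension A (Localization.Away f0)
  -- the prime over the localization
  let m : K ⊗[A] B →ₐ[K] K ⊗[A] Localization.Away f0 :=
    Algebra.TensorProduct.map (AlgHom.id K K) (IsScalarTower.toAlgHom A B (Localization.Away f0))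
  algebraize [m.toRingHom]
  have htow2 : IsScalarTower K (K ⊗[A] B) (K ⊗[A] Localization.Away f0) :=
    .of_algebraMap_eq' m.comp_algebraMap.symm
  let M : Submonoid (K ⊗[A] B) :=
    (Submonoid.powers f0).map (Algebra.TensorProduct.includeRight (R := A) (A := K))
  have hloc : IsLocalization M (K ⊗[A] Localization.Away f0) :=
    IsLocalization.tensorProduct_tensorProduct_right A K (Submonoid.powers f0) (Localization.Away f0) (by
      ext b
      change Algebra.TensorProduct.map (AlgHom.id K K) (IsScalarTower.toAlgHom A B (Localization.Away f0))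
        (1 ⊗ₜ b) = 1 ⊗ₜ (algebraMap B (Localization.Away f0) b)
      rw [Algebra.TensorProduct.map_tmul]
      simp)
  have hdisj : Disjoint (M : Set (K ⊗[A] B)) (q' : Set (K ⊗[A] B)) := by
    rw [Set.disjoint_left]
    rintro _ ⟨_, ⟨n, rfl⟩, rfl⟩ hmem
    apply hf0
    rw [hq]
    have h1 : (f0 ^ n : B) ∈ q'.comap (algebraMap B (K ⊗[A] B)) := hmem
    exact (inferInstance : (q'.comap (algebraMap B (K ⊗[A] B))).IsPrime).mem_of_pow_mem n h1
  obtain ⟨q0', hq0p, hq0c, -, hq0m, hq0h⟩ := exists_prime_localization K (C1 := K ⊗[A] Localization.Away f0) M q' hdisj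
  have hq0m' := hq0m inferInstance
  have hnum : n = 1 := by
    have h1 := UnramA.SmoothDim.height_eq_of_isStandardSmooth K (K ⊗[A] Localization.Away f0) n q0'
    rw [hq0h, hht] at h1
    exact_mod_cast h1.symm
  subst hnum
  have hd : Disjoint (Submonoid.powers f0 : Set B) (q : Set B) :=
    (Ideal.disjoint_powers_iff_notMem_of_isPrime _).mpr hf0
  obtain ⟨q1, hq1p, hq1c, -⟩ := exists_prime_localization B (C1 := Localization.Away f0) (Submonoid.powers f0) q hd
  have hnt : Nontrivial (Localization.Away f0) := by
    by_contra hcon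
    rw [not_nontrivial_iff_subsingleton] at hcon
    exact hq1p.ne_top (Subsingleton.elim _ _)
  exact ⟨Localization.Away f0, inferInstance, inferInstance, IsScalarTower.toAlgHom A B (Localization.Away f0),
    inferInstanceAs (IsOpenImmersion (Spec.map (CommRingCat.ofHom (algebraMap B (Localization.Away f0))))),
    ⟨q1, hq1p, hq1c⟩, hasPres_of_isStandardSmooth A (Localization.Away f0)⟩

end Groth.Agent.CurvesB.NodalPres
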