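import Groth.Agent.CurvesB.NodeSch

/-!
# At-worst-nodal curves are Gorenstein and geometrically reduced
-/

set_option autoImplicit false
universe u
open CategoryTheory CategoryTheory.Limits AlgebraicGeometry TensorProduct IsLocalRing

attribute [local instance] Curv2.resAlgebra Curv2.stalkAlgebra

namespace Groth.Agent.CurvesB.NodeSch2

open Groth.Agent.CurvesB.NodeRing Groth.Agent.CurvesB.GorDimOne Groth.Agent.CurvesB.NodeSch
open Groth.Agent.VarietyA.StalkBC Groth.Agent.VarietyA.GeomRedAlg Groth.Agent.VarietyA.GeomRed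

variable (k : Type u) [Field k] (X : Scheme.{u}) [X.Over (Spec (CommRingCat.of k))]

/-- Geometric reducedness of a local ring is tested on the algebraic closure. -/
theorem isGeometricallyReduced_stalk_of_algebraicClosure (x : X)
    (hx : ∀ z : Curv2.bc k X (AlgebraicClosure k), Curv2.bcFst k X (AlgebraicClosure k) z = x →
      IsReduced ((Curv2.bc k X (AlgebraicClosure k)).presheaf.stalk z)) :
    Algebra.IsGeometricallyReduced k (X.presheaf.stalk x) := by
  rw [Algebra.isGeometricallyReduced_field_iff]
  apply isReduced_tensorProduct_comm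
  let K := AlgebraicClosure k
  change IsReduced (X.presheaf.stalk x ⊗[k] K)
  apply isReduced_ofLocalizationMaximal
  intro m hm
  let q : Spec (CommRingCat.of (X.presheaf.stalk x ⊗[k] K)) := ⟨m, hm.isPrime⟩
  have hq : q.asIdeal.comap (Algebra.TensorProduct.includeLeftRingHom (R := k)
      (A := X.presheaf.stalk x) (B := K)) = IsLocalRing.maximalIdeal _ := by
    have : Algebra.IsIntegral (X.presheaf.stalk x) (X.presheaf.stalk x ⊗[k] K) := inferInstance
    have : (m.comap (algebraMap (X.presheaf.stalk x) (X.presheaf.stalk x ⊗[k] K))).IsMaximal :=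
      Ideal.isMaximal_comap_of_isIntegral_of_isMaximal m
    exact IsLocalRing.eq_maximalIdeal this
  have h1 := fst_specTensorTo_apply (X ↘ Spec (CommRingCat.of k)) K x
    (algebraMap_stalk_eq k X x) q hq
  have h2 := hx _ h1
  exact isReduced_of_injective (stalkEquiv (X ↘ Spec (CommRingCat.of k)) K x
    (algebraMap_stalk_eq k X x) q).symm (RingEquiv.injective _)

variable {X}

/-- Every point above a node is an ordinary double point. -/
theorem isOrdDoublePt_of_isNode [LocallyOfFiniteType (X ↘ (Spec (CommRingCat.of k)))] (x : X)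
    (hx : Curv2.IsNode k X x) (xb : Curv2.bc k X (AlgebraicClosure k))
    (hxb : Curv2.bcFst k X (AlgebraicClosure k) xb = x) :
    @Curv2.IsOrdDoublePt (AlgebraicClosure k) _ ((Curv2.bc k X (AlgebraicClosure k)).presheaf.stalk xb) _
      (@Curv2.stalkAlgebra (AlgebraicClosure k) _ (Curv2.bc k X (AlgebraicClosure k))
        ⟨Curv2.bcSnd k X (AlgebraicClosure k)⟩ xb) _ := by
  obtain ⟨hxc, xb₀, hxb₀, H⟩ := hx
  obtain ⟨σ, hσ⟩ := Groth.Agent.CurvesB.GaloisTransitive.exists_gal k X (AlgebraicClosure k) x hxc
    xb xb₀ hxb hxb₀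
  exact Groth.Agent.CurvesB.StalkSemilinear.isOrdDoublePt_of_iso
    (Groth.Agent.CurvesB.GaloisTransitive.gal k X (AlgebraicClosure k) σ)
    (Curv2.bcSnd k X (AlgebraicClosure k)) (Curv2.bcSnd k X (AlgebraicClosure k)) σ.toRingEquiv
    (Groth.Agent.CurvesB.GaloisTransitive.gal_snd k X (AlgebraicClosure k) σ) xb xb₀ hσ H

theorem isLocallyNoetherian_of_locallyOfFiniteType {Z : Scheme.{u}} {K : Type u} [Field K]
    (f : Z ⟶ Spec (CommRingCat.of K)) [LocallyOfFiniteType f] : IsLocallyNoetherian Z :=
  LocallyOfFiniteType.isLocallyNoetherian f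

/-- The local ring at a node is geometrically reduced. -/
theorem isGeometricallyReduced_of_isNode [LocallyOfFiniteType (X ↘ (Spec (CommRingCat.of k)))] (x : X)
    (hx : Curv2.IsNode k X x) : Algebra.IsGeometricallyReduced k (X.presheaf.stalk x) := by
  refine isGeometricallyReduced_stalk_of_algebraicClosure k X x fun z hz => ?_
  have : IsLocallyNoetherian (Curv2.bc k X (AlgebraicClosure k)) :=
    isLocallyNoetherian_of_locallyOfFiniteType (Curv2.bcSnd k X (AlgebraicClosure k))
  let : (Curv2.bc k X (AlgebraicClosure k)).Over (Spec (CommRingCat.of (AlgebraicClosure k))) :=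
    ⟨Curv2.bcSnd k X (AlgebraicClosure k)⟩
  exact isReduced_of_isOrdDoublePt (isOrdDoublePt_of_isNode k x hx z hz)

/-- The local ring at a node is Gorenstein. -/
theorem isGorensteinLocalRing_of_isNode [LocallyOfFiniteType (X ↘ (Spec (CommRingCat.of k)))] (x : X)
    (hx : Curv2.IsNode k X x) (hdim : Ring.KrullDimLE 1 (X.presheaf.stalk x)) :
    LocCoh.IsGorensteinLocalRing (X.presheaf.stalk x) := by
  obtain ⟨-, xb, rfl, h⟩ := hx
  have : IsLocallyNoetherian (Curv2.bc k X (AlgebraicClosure k)) :=
    isLocallyNoetherian_of_locallyOfFiniteType (Curv2.bcSnd k X (AlgebraicClosure k))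
  have : IsLocallyNoetherian X :=
    isLocallyNoetherian_of_locallyOfFiniteType (X ↘ (Spec (CommRingCat.of k)))
  let : (Curv2.bc k X (AlgebraicClosure k)).Over (Spec (CommRingCat.of (AlgebraicClosure k))) :=
    ⟨Curv2.bcSnd k X (AlgebraicClosure k)⟩
  let : Algebra (X.presheaf.stalk (Curv2.bcFst k X (AlgebraicClosure k) xb))
      ((Curv2.bc k X (AlgebraicClosure k)).presheaf.stalk xb) :=
    ((Curv2.bcFst k X (AlgebraicClosure k)).stalkMap xb).hom.toAlgebra
  have : IsLocalHom (algebraMap (X.presheaf.stalk (Curv2.bcFst k X (AlgebraicClosure k) xb))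
      ((Curv2.bc k X (AlgebraicClosure k)).presheaf.stalk xb)) :=
    inferInstanceAs (IsLocalHom ((Curv2.bcFst k X (AlgebraicClosure k)).stalkMap xb).hom)
  have : Module.Flat (X.presheaf.stalk (Curv2.bcFst k X (AlgebraicClosure k) xb))
      ((Curv2.bc k X (AlgebraicClosure k)).presheaf.stalk xb) :=
    Flat.stalkMap (Curv2.bcFst k X (AlgebraicClosure k)) xb
  exact isGorensteinLocalRing_of_isOrdDoublePt h

theorem locallyOfFinitePresentation_of_isLocallyNoetherian {Z S : Scheme.{u}} (f : Z ⟶ S)
    [IsLocallyNoetherian S] [LocallyOfFiniteType f] : LocallyOfFinitePresentation f := by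
  rw [HasRingHomProperty.iff_appLE (P := @LocallyOfFinitePresentation)]
  intro U V e
  have := IsLocallyNoetherian.component_noetherian U
  have h := f.finiteType_appLE U.2 V.2 e
  algebraize [(f.appLE U V e).hom]
  exact RingHom.finitePresentation_algebraMap.mpr (Algebra.FinitePresentation.of_finiteType.mp ‹_›)

theorem locallyOfFinitePresentation_of_field {Z : Scheme.{u}} {K : Type u} [Field K]
    (f : Z ⟶ Spec (CommRingCat.of K)) [LocallyOfFiniteType f] : LocallyOfFinitePresentation f :=
  locallyOfFinitePresentation_of_isLocallyNoetherian f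

theorem isRegularLocalRing_of_smooth_openImmersion {U : Scheme.{u}} (j : U ⟶ X) [IsOpenImmersion j]
    [Smooth (j ≫ (X ↘ Spec (CommRingCat.of k)))] (u : U) :
    IsRegularLocalRing (X.presheaf.stalk (j u)) := by
  have h1 : IsRegularLocalRing (U.presheaf.stalk u) :=
    Groth.Agent.VarietyA.RegSmoothSch.isRegularLocalRing_stalk_of_mem_smoothLocus
      (j ≫ (X ↘ Spec (CommRingCat.of k))) u (by
        rw [Scheme.Hom.smoothLocus_eq_top]; trivial)
  exact IsRegularLocalRing.of_ringEquiv (asIso (j.stalkMap u)).commRingCatIsoToRingEquiv.symm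

/-- The local ring at a point with a smooth neighbourhood is regular. -/
theorem isRegularLocalRing_of_exists (x : X)
    (h : ∃ U : X.Opens, x ∈ U ∧ Smooth (U.ι ≫ (X ↘ Spec (CommRingCat.of k)))) :
    IsRegularLocalRing (X.presheaf.stalk x) := by
  obtain ⟨U, hxU, hU⟩ := h
  exact isRegularLocalRing_of_smooth_openImmersion k U.ι ⟨x, hxU⟩

theorem isGeometricallyReduced_of_smooth_openImmersion {U : Scheme.{u}} (j : U ⟶ X)
    [IsOpenImmersion j] [Smooth (j ≫ (X ↘ Spec (CommRingCat.of k)))] (u : U) :
    Algebra.IsGeometricallyReduced k (X.presheaf.stalk (j u)) := by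
  let iU : U.Over (Spec (CommRingCat.of k)) := ⟨j ≫ (X ↘ Spec (CommRingCat.of k))⟩
  have h1 : GeometricallyReduced (U ↘ Spec (CommRingCat.of k)) :=
    Groth.Agent.Flat2B.SmoothGeom.geometricallyReduced_of_smooth (j ≫ (X ↘ Spec (CommRingCat.of k)))
  have h2 := (geometricallyReduced_iff_forall_stalk k U).mp h1 u
  let e : X.presheaf.stalk (j u) ≃+* U.presheaf.stalk u :=
    (asIso (j.stalkMap u)).commRingCatIsoToRingEquiv
  let e' : X.presheaf.stalk (j u) ≃ₐ[k] U.presheaf.stalk u :=
    AlgEquiv.ofRingEquiv (f := e) (fun c => congrArg (fun φ => φ c)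
      (stalkRingHom_comp (X ↘ Spec (CommRingCat.of k)) j u))
  exact isGeometricallyReduced_of_algEquiv e'.symm

/-- The local ring at a point with a smooth neighbourhood is geometrically reduced. -/
theorem isGeometricallyReduced_of_exists (x : X)
    (h : ∃ U : X.Opens, x ∈ U ∧ Smooth (U.ι ≫ (X ↘ Spec (CommRingCat.of k)))) :
    Algebra.IsGeometricallyReduced k (X.presheaf.stalk x) := by
  obtain ⟨U, hxU, hU⟩ := h
  exact isGeometricallyReduced_of_smooth_openImmersion k U.ι ⟨x, hxU⟩

/-- In a locally finite type scheme over a field every point specializes to a closed point. -/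
theorem exists_closed_specialization [LocallyOfFiniteType (X ↘ (Spec (CommRingCat.of k)))] (x : X) :
    ∃ y : X, x ⤳ y ∧ IsClosed ({y} : Set X) := by
  have := LocallyOfFiniteType.jacobsonSpace (X ↘ Spec (CommRingCat.of k))
  obtain ⟨y, hy1, hy2⟩ := nonempty_inter_closedPoints (X := X) (Z := closure {x})
    ⟨x, subset_closure rfl⟩ isClosed_closure.isLocallyClosed
  exact ⟨y, specializes_iff_mem_closure.mpr hy1, hy2⟩

/-- At-worst-nodal curves are geometrically reduced. -/
theorem geometricallyReduced_of_atWorstNodal [LocallyOfFiniteType (X ↘ (Spec (CommRingCat.of k)))]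
    (hX : Curv2.AtWorstNodal k X) : GeometricallyReduced (X ↘ (Spec (CommRingCat.of k))) := by
  rw [geometricallyReduced_iff_forall]
  intro x
  obtain ⟨y, hxy, hy⟩ := exists_closed_specialization k x
  refine isGeomReducedAt_of_specializes k X y x hxy ?_
  rw [isGeomReducedAt_iff]
  rcases hX y hy with h | h
  · exact isGeometricallyReduced_of_exists k y h
  · exact isGeometricallyReduced_of_isNode k y h

/-- Dimension at most one from the irreducible components. -/
theorem topologicalKrullDim_le_one_of_components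
    (hequi : ∀ Z ∈ irreducibleComponents (X : Type u), topologicalKrullDim Z = 1) :
    topologicalKrullDim X ≤ 1 := by
  rw [DimOneTop.forall_irreducibleComponents_iff] at hequi
  rw [DimPts.krullDim_eq, Order.krullDim_le_one_iff]
  intro x
  obtain ⟨z, hz, hzx⟩ := DimOneTop.exists_generic_specializes x
  by_cases hxz : x = z
  · right
    intro y hy
    have h1 : y ⤳ x := hy
    rw [hxz] at h1 ⊢
    rw [hz y h1]
  · left
    intro y hy
    have h1 : x ⤳ y := hy
    rw [(hequi z hz).2 x hzx hxz y h1]

theorem krullDimLE_one_stalk (h : topologicalKrullDim X ≤ 1) (x : X) :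
    Ring.KrullDimLE 1 (X.presheaf.stalk x) := by
  rw [Ring.krullDimLE_iff]
  exact (DimPts.ringKrullDim_stalk_le x).trans h

/-- At-worst-nodal curves have Gorenstein local rings. -/
theorem isGorensteinLocalRing_of_atWorstNodal
    [LocallyOfFiniteType (X ↘ (Spec (CommRingCat.of k)))]
    (hequi : ∀ Z ∈ irreducibleComponents (X : Type u), topologicalKrullDim Z = 1)
    (hX : Curv2.AtWorstNodal k X) (x : X) : LocCoh.IsGorensteinLocalRing (X.presheaf.stalk x) := by
  have hdim := topologicalKrullDim_le_one_of_components hequi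
  have h1 := krullDimLE_one_stalk hdim x
  by_cases hx : IsClosed ({x} : Set X)
  · rcases hX x hx with h | h
    · have := isRegularLocalRing_of_exists k x h
      exact Groth.Agent.S0342.result _
    · exact isGorensteinLocalRing_of_isNode k x h h1
  · have h2 := DimPts.ringKrullDim_stalk_eq_zero_of_not_isClosed hdim x hx
    have h3 := geometricallyReduced_of_atWorstNodal k hX
    have h4 := (geometricallyReduced_iff_forall_stalk k X).mp h3 x
    have h5 : _root_.IsReduced (X.presheaf.stalk x) := Algebra.isReduced_of_isGeometricallyReduced k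
    have : IsLocallyNoetherian X :=
      isLocallyNoetherian_of_locallyOfFiniteType (X ↘ (Spec (CommRingCat.of k)))
    have h6 : Ring.KrullDimLE 0 (X.presheaf.stalk x) := by
      rw [Ring.krullDimLE_iff, h2]; rfl
    refine isGorensteinLocalRing_of_isField ?_
    have := Ring.KrullDimLE.isField_of_isReduced (R := X.presheaf.stalk x)
    exact this

end Groth.Agent.CurvesB.NodeSch2
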