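import Groth.Prelude.Def_CurvBase
import Groth.Agent.S0458
import Groth.Agent.S1536
import Groth.Agent.S1589
import Groth.Agent.CurvesB.DimOneTop

/-!
# Cohomology of the structure sheaf on the fibres of a proper nodal family
-/

set_option autoImplicit false

universe u

open CategoryTheory CategoryTheory.Limits AlgebraicGeometry

namespace Groth.Agent.CurvesB.NodalFibreH

/-- A nonempty sober space all of whose irreducible components have dimension one has dimension one. -/
theorem topologicalKrullDim_eq_one_of_components {T : Type*} [TopologicalSpace T] [QuasiSober T]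
    [T0Space T] [Nonempty T] (h : ∀ Z ∈ irreducibleComponents T, topologicalKrullDim Z = 1) :
    topologicalKrullDim T = 1 := by
  rw [DimOneTop.forall_irreducibleComponents_iff] at h
  rw [DimOneTop.topologicalKrullDim_eq_one_iff]
  constructor
  · obtain ⟨t⟩ := ‹Nonempty T›
    obtain ⟨z, hz, -⟩ := DimOneTop.exists_generic_specializes t
    obtain ⟨⟨x, hx, hne⟩, -⟩ := h z hz
    exact ⟨z, x, hx, hne⟩
  · intro x
    obtain ⟨z, hz, hzx⟩ := DimOneTop.exists_generic_specializes x
    by_cases hxz : x = z
    · subst hxz
      exact Or.inr hz
    · exact Or.inl ((h z hz).2 x hzx hxz)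

/-- A proper scheme over a field is Noetherian. -/
theorem isNoetherian_of_isProper (k : Type u) [Field k] (X : Scheme.{u}) (g : X ⟶ Spec (CommRingCat.of k))
    [IsProper g] : IsNoetherian X := by
  have h1 : IsLocallyNoetherian X := LocallyOfFiniteType.isLocallyNoetherian g
  have h2 : CompactSpace X := QuasiCompact.compactSpace_of_compactSpace g
  exact { }

/-- The cohomology of the structure sheaf of a proper, geometrically connected, at-worst-nodal curve. -/
theorem nodal_cohomology (k : Type u) [Field k] (X : Scheme.{u}) [X.Over (Spec (CommRingCat.of k))]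
    [IsProper (X ↘ (Spec (CommRingCat.of k)))] [GeometricallyConnected (X ↘ (Spec (CommRingCat.of k)))]
    (hequi : ∀ Z ∈ irreducibleComponents (X : Type u), topologicalKrullDim Z = 1)
    (hX : Curv2.AtWorstNodal k X) :
    Module.finrank k (Coh.HH X (Coh.structureModule X) 0) = 1 ∧
      ∀ q : ℕ, 2 ≤ q → Subsingleton (Coh.HH X (Coh.structureModule X) q) := by
  have hne : ConnectedSpace X :=
    GeometricallyConnected.connectedSpace_of_subsingleton (X ↘ (Spec (CommRingCat.of k)))
  have h2 : topologicalKrullDim X = 1 := topologicalKrullDim_eq_one_of_components hequi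
  have : GeometricallyReduced (X ↘ (Spec (CommRingCat.of k))) :=
    (Groth.Agent.S1589.result k X hequi hX).2
  refine ⟨Groth.Agent.S1536.result k X, fun q hq => ?_⟩
  have := isNoetherian_of_isProper k X (X ↘ (Spec (CommRingCat.of k)))
  exact Groth.Agent.S0458.result 1 h2.le (Coh.toAb (Coh.structureModule X)) q (by omega)

/-- The cohomology of the structure sheaf of the fibres of a proper nodal family with geometrically connected
fibres. -/
theorem fibre_cohomology {X S : Scheme.{u}} (f : X ⟶ S) [IsProper f] (hf : Curv2.IsNodalFamily f)
    [GeometricallyConnected f] (s : S) :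
    letI : (f.fiber s).Over (Spec (CommRingCat.of (S.residueField s))) := ⟨f.fiberToSpecResidueField s⟩
    Module.finrank (S.residueField s) (Coh.HH (f.fiber s) (Coh.structureModule (f.fiber s)) 0) = 1 ∧
      ∀ q : ℕ, 2 ≤ q → Subsingleton (Coh.HH (f.fiber s) (Coh.structureModule (f.fiber s)) q) := by
  letI : (f.fiber s).Over (Spec (CommRingCat.of (S.residueField s))) := ⟨f.fiberToSpecResidueField s⟩
  have h1 : IsProper ((f.fiber s) ↘ (Spec (CommRingCat.of (S.residueField s)))) :=
    inferInstanceAs (IsProper (pullback.snd f (S.fromSpecResidueField s)))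
  have h2 : GeometricallyConnected ((f.fiber s) ↘ (Spec (CommRingCat.of (S.residueField s)))) :=
    inferInstanceAs (GeometricallyConnected (f.fiberToSpecResidueField s))
  exact nodal_cohomology (S.residueField s) (f.fiber s) (hf.2.2 s).1 (hf.2.2 s).2

end Groth.Agent.CurvesB.NodalFibreH
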