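import Groth.Agent.CurvesB.NodalCoordBasis
import Groth.Agent.VarietyA.RegSmooth
import Groth.Agent.UnramA.SmoothDim
import Mathlib.RingTheory.Smooth.StandardSmoothOfFree
import Mathlib.RingTheory.Etale.Field
import Mathlib.RingTheory.Unramified.LocalRing
import Mathlib.RingTheory.Localization.Algebra

/-!
# Algebras with a nodal presentation over a field
-/

set_option autoImplicit false

universe u

open scoped TensorProduct KaehlerDifferential

namespace Groth.Agent.CurvesB.NodalPres

open IsLocalRing NodalLocal Node

variable {k P : Type u} [Field k] [CommRing P] [Algebra k P] [Algebra.Smooth k P]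

theorem isNoetherianRing_of_smooth (k P : Type u) [Field k] [CommRing P] [Algebra k P]
    [Algebra.Smooth k P] : IsNoetherianRing P :=
  Algebra.FiniteType.isNoetherianRing k P

/-- Maximal ideals of a smooth algebra of relative dimension two have height two. -/
theorem height_eq_two (b : Module.Basis (Fin 2) P (Ω[P⁄k])) (y : Ideal P) [y.IsMaximal] :
    y.height = 2 := by
  obtain ⟨f, hf, hstd⟩ := Algebra.IsSmoothAt.exists_notMem_isStandardSmooth k y
  obtain ⟨b', -⟩ := exists_basis_of_formallyEtale (A := k) b (Localization.Away f)
  have hp : (y.map (algebraMap P (Localization.Away f))).IsPrime :=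
    IsLocalization.isPrime_of_isPrime_disjoint (.powers f) _ _ inferInstance
      ((Ideal.disjoint_powers_iff_notMem_of_isPrime _).mpr hf)
  have hnt : Nontrivial (Localization.Away f) := by
    apply Ideal.Quotient.nontrivial_iff.mpr hp.ne_top |>.exists_pair_ne.elim
    intro x hx
    exact (Ideal.Quotient.mk (y.map (algebraMap P (Localization.Away f)))).domain_nontrivial
  have hrel : Algebra.IsStandardSmoothOfRelativeDimension 2 k (Localization.Away f) := by
    rw [Algebra.IsStandardSmoothOfRelativeDimension.iff_of_isStandardSmooth]
    rw [rank_eq_card_basis b']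
    simp
  have hmax : (y.map (algebraMap P (Localization.Away f))).IsMaximal := by
    obtain ⟨m, hm, hle⟩ := Ideal.exists_le_maximal _ hp.ne_top
    have h1 : m.comap (algebraMap P (Localization.Away f)) = y := by
      have hmp : m.IsPrime := hm.isPrime
      have h2 : y ≤ m.comap (algebraMap P (Localization.Away f)) := by
        rw [← Ideal.map_le_iff_le_comap]; exact hle
      exact (Ideal.IsMaximal.eq_of_le inferInstance (Ideal.IsPrime.comap _).ne_top h2).symm
    have h2 : y.map (algebraMap P (Localization.Away f)) = m := by
      rw [← h1]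
      exact IsLocalization.map_under (.powers f) _ m
    rw [h2]; exact hm
  have hht := Groth.Agent.UnramA.SmoothDim.height_eq_of_isStandardSmooth k (Localization.Away f) 2
    (y.map (algebraMap P (Localization.Away f)))
  rw [IsLocalization.height_map_of_disjoint (.powers f) _ ((Ideal.disjoint_powers_iff_notMem_of_isPrime _).mpr hf)] at hht
  rw [hht]; rfl

theorem isRegularLocalRing_localization (k : Type u) {P : Type u} [Field k] [CommRing P] [Algebra k P]
    [Algebra.Smooth k P] (y : Ideal P) [y.IsPrime] :
    IsRegularLocalRing (Localization.AtPrime y) :=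
  Groth.Agent.VarietyA.RegSmooth.isRegularLocalRing_of_isSmoothAt (R := k) y

variable (b : Module.Basis (Fin 2) P (Ω[P⁄k])) (h : P) [Algebra.FormallyUnramified k (P ⧸ jac b h)]

include b h in
/-- The singular locus is finite over the field: primes containing the Jacobian ideal are maximal. -/
theorem isMaximal_of_jac_le (y : Ideal P) [y.IsPrime] (hy : jac b h ≤ y) : y.IsMaximal := by
  have hfin : Module.Finite k (P ⧸ jac b h) := Algebra.FormallyUnramified.finite_of_free k _
  have hart : IsArtinianRing (P ⧸ jac b h) := isArtinian_of_tower k inferInstance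
  have h1 : (y.map (Ideal.Quotient.mk (jac b h))).IsPrime :=
    Ideal.map_isPrime_of_surjective Ideal.Quotient.mk_surjective (by rwa [Ideal.mk_ker])
  have h2 : (y.map (Ideal.Quotient.mk (jac b h))).IsMaximal := inferInstance
  have h3 : (y.map (Ideal.Quotient.mk (jac b h))).comap (Ideal.Quotient.mk (jac b h)) = y := by
    rw [Ideal.comap_map_of_surjective _ Ideal.Quotient.mk_surjective, ← RingHom.ker_eq_comap_bot, Ideal.mk_ker]
    exact sup_eq_left.mpr hy
  rw [← h3]
  exact Ideal.comap_isMaximal_of_surjective _ Ideal.Quotient.mk_surjective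

/-- At a prime containing the Jacobian ideal, the latter is locally the maximal ideal. -/
theorem map_jac_eq (y : Ideal P) [y.IsPrime] (hy : jac b h ≤ y) :
    (jac b h).map (algebraMap P (Localization.AtPrime y)) = maximalIdeal (Localization.AtPrime y) := by
  set R := Localization.AtPrime y
  set I := (jac b h).map (algebraMap P R) with hI
  have hIle : I ≤ maximalIdeal R := by
    rw [hI, Ideal.map_le_iff_le_comap, ← Localization.AtPrime.map_eq_maximalIdeal]
    exact hy.trans Ideal.le_comap_map
  have hnt : Nontrivial (R ⧸ I) := Ideal.Quotient.nontrivial_iff.mpr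
    (ne_top_of_le_ne_top (maximalIdeal.isMaximal R).ne_top hIle)
  have hloc : IsLocalRing (R ⧸ I) := .of_surjective' _ Ideal.Quotient.mk_surjective
  -- R / I is formally unramified over k
  have : IsScalarTower k (P ⧸ jac b h) (R ⧸ I) := .of_algebraMap_eq' rfl
  have : IsScalarTower P (P ⧸ jac b h) (R ⧸ I) := .of_algebraMap_eq' rfl
  have : Algebra.FormallyUnramified P R := .of_isLocalization y.primeCompl
  have : Algebra.FormallyUnramified R (R ⧸ I) := .of_surjective (Ideal.Quotient.mkₐ R I) Ideal.Quotient.mk_surjective
  have : Algebra.FormallyUnramified P (R ⧸ I) := .comp P R (R ⧸ I)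
  have : Algebra.FormallyUnramified (P ⧸ jac b h) (R ⧸ I) := .of_restrictScalars P _ _
  have : Algebra.FormallyUnramified k (R ⧸ I) := .comp k (P ⧸ jac b h) (R ⧸ I)
  have : Algebra.EssFiniteType k R := .comp k P R
  have : Algebra.EssFiniteType k (R ⧸ I) := .comp k R (R ⧸ I)
  have : Module.Finite k (R ⧸ I) := Algebra.FormallyUnramified.finite_of_free k _
  have : IsReduced (R ⧸ I) := Algebra.FormallyUnramified.isReduced_of_field k (R ⧸ I)
  have : IsArtinianRing (R ⧸ I) := isArtinian_of_tower k inferInstance
  have hm : maximalIdeal (R ⧸ I) = ⊥ := by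
    rw [← jacobson_eq_maximalIdeal _ bot_ne_top, IsArtinianRing.jacobson_eq_radical,
      ← Ideal.zero_eq_bot, ← nilradical, nilradical_eq_zero]
  apply le_antisymm hIle
  intro x hx
  have h1 : Ideal.Quotient.mk I x ∈ maximalIdeal (R ⧸ I) := by
    rw [← NodalLocal.map_maximalIdeal_of_surjective (Ideal.Quotient.mk I) Ideal.Quotient.mk_surjective]
    exact Ideal.mem_map_of_mem _ hx
  rw [hm] at h1
  exact Ideal.Quotient.eq_zero_iff_mem.mp h1

/-- At a prime containing the Jacobian ideal, the residue field is finite etale over `k`. -/
theorem formallyEtale_residueField (y : Ideal P) [y.IsPrime] (hy : jac b h ≤ y) :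
    Module.Finite k (ResidueField (Localization.AtPrime y)) ∧
      Algebra.FormallyEtale k (ResidueField (Localization.AtPrime y)) := by
  set R := Localization.AtPrime y
  have hIle : jac b h ≤ RingHom.ker (algebraMap P (ResidueField R)) := by
    intro x hx
    rw [RingHom.mem_ker, IsScalarTower.algebraMap_apply P R (ResidueField R)]
    refine (residue_eq_zero_iff _).mpr ?_
    rw [← Localization.AtPrime.map_eq_maximalIdeal]
    exact Ideal.mem_map_of_mem _ (hy hx)
  let ψ : (P ⧸ jac b h) →ₐ[k] ResidueField R := Ideal.Quotient.liftₐ (jac b h)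
    (IsScalarTower.toAlgHom k P (ResidueField R)) (fun x hx => hIle hx)
  algebraize [ψ.toRingHom]
  have : IsScalarTower k (P ⧸ jac b h) (ResidueField R) := .of_algebraMap_eq' (ψ.comp_algebraMap).symm
  have : IsScalarTower P (P ⧸ jac b h) (ResidueField R) := .of_algebraMap_eq' rfl
  have : Algebra.FormallyUnramified P R := .of_isLocalization y.primeCompl
  have : Algebra.FormallyUnramified R (ResidueField R) :=
    .of_surjective (IsScalarTower.toAlgHom R R (ResidueField R)) residue_surjective
  have : Algebra.FormallyUnramified P (ResidueField R) := .comp P R (ResidueField R)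
  have : Algebra.FormallyUnramified (P ⧸ jac b h) (ResidueField R) := .of_restrictScalars P _ _
  have : Algebra.FormallyUnramified k (ResidueField R) := .comp k (P ⧸ jac b h) (ResidueField R)
  have : Algebra.EssFiniteType k R := .comp k P R
  have : Algebra.EssFiniteType k (ResidueField R) := .comp k R (ResidueField R)
  exact ⟨Algebra.FormallyUnramified.finite_of_free k _, .of_formallyUnramified_of_field k _⟩

omit [Algebra.Smooth k P] in
/-- The local homomorphism induced by a surjection, with its kernel. -/
theorem exists_localHom {B : Type u} [CommRing B] [Algebra k B] (φ : P →ₐ[k] B)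
    (hφ : Function.Surjective φ) (q : Ideal B) [q.IsPrime] (y : Ideal P) [y.IsPrime]
    (hy : y = q.comap φ.toRingHom) :
    ∃ f : Localization.AtPrime y →ₐ[k] Localization.AtPrime q, Function.Surjective f ∧
      RingHom.ker f = (RingHom.ker φ).map (algebraMap P (Localization.AtPrime y)) ∧
      (∀ x : P, f (algebraMap P _ x) = algebraMap B _ (φ x)) := by
  have hT : Submonoid.map φ.toRingHom y.primeCompl = q.primeCompl := by
    ext x
    constructor
    · rintro ⟨z, hz, rfl⟩
      intro hx
      apply hz
      rw [hy]; exact hx
    · intro hx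
      obtain ⟨z, rfl⟩ := hφ x
      refine ⟨z, ?_, rfl⟩
      intro hz
      apply hx
      rw [hy] at hz
      exact hz
  let f : Localization.AtPrime y →ₐ[k] Localization.AtPrime q :=
    { Localization.localRingHom y q φ.toRingHom hy with
      commutes' := by
        intro c
        rw [IsScalarTower.algebraMap_apply k P (Localization.AtPrime y)]
        refine (Localization.localRingHom_to_map y q φ.toRingHom hy _).trans ?_
        rw [IsScalarTower.algebraMap_apply k B (Localization.AtPrime q)]
        exact congrArg _ (φ.commutes c) }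
  refine ⟨f, ?_, ?_, ?_⟩
  · intro z
    obtain ⟨x, s, rfl⟩ := IsLocalization.exists_mk'_eq q.primeCompl z
    obtain ⟨x', rfl⟩ := hφ x
    have hs : (s : B) ∈ Submonoid.map φ.toRingHom y.primeCompl := by rw [hT]; exact s.2
    obtain ⟨s', hs', hss'⟩ := hs
    refine ⟨IsLocalization.mk' _ x' ⟨s', hs'⟩, ?_⟩
    refine (Localization.localRingHom_mk' y q φ.toRingHom hy _ _).trans ?_
    congr 1
    exact Subtype.ext hss'
  · exact IsLocalization.ker_map (Localization.AtPrime q) φ.toRingHom hT
  · intro x
    exact Localization.localRingHom_to_map y q φ.toRingHom hy x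

/-- The map on residue fields induced by a surjective local homomorphism of algebras is an isomorphism. -/
theorem exists_residueEquiv {k R S : Type u} [CommRing k] [CommRing R] [CommRing S] [IsLocalRing R] [IsLocalRing S]
    [Algebra k R] [Algebra k S] (f : R →ₐ[k] S) (hf : Function.Surjective f) :
    ∃ e : ResidueField R ≃ₐ[k] ResidueField S, ∀ x, e (residue R x) = residue S (f x) := by
  have hloc : IsLocalHom f.toRingHom := hf.isLocalHom f.toRingHom
  let g : ResidueField R →ₐ[k] ResidueField S :=
    { IsLocalRing.ResidueField.map f.toRingHom with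
      commutes' := by
        intro c
        change IsLocalRing.ResidueField.map f.toRingHom (residue R (algebraMap k R c)) = residue S (algebraMap k S c)
        rw [IsLocalRing.ResidueField.map_residue]
        exact congrArg _ (f.commutes c) }
  have hg : Function.Surjective g := by
    intro z
    obtain ⟨w, rfl⟩ := residue_surjective z
    obtain ⟨v, rfl⟩ := hf w
    exact ⟨residue _ v, rfl⟩
  exact ⟨AlgEquiv.ofBijective g ⟨g.toRingHom.injective, hg⟩, fun x => rfl⟩

/-- Points of the singular locus of an algebra with a nodal presentation are nodes. -/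
theorem nodeLike_of_jac_le {B : Type u} [CommRing B] [Algebra k B] (φ : P →ₐ[k] B)
    (hφ : Function.Surjective φ) (hker : RingHom.ker φ = Ideal.span {h}) (q : Ideal B) [q.IsPrime]
    (hq : jac b h ≤ q.comap φ.toRingHom) :
    NodeLike (Localization.AtPrime q) ∧ Module.Finite k (ResidueField (Localization.AtPrime q)) ∧
      Algebra.IsSeparable k (ResidueField (Localization.AtPrime q)) := by
  obtain ⟨y, hy⟩ : ∃ y, y = q.comap φ.toRingHom := ⟨_, rfl⟩
  have hyp : y.IsPrime := by rw [hy]; infer_instance
  rw [← hy] at hq
  obtain ⟨f, hf, hfker, hfx⟩ := exists_localHom φ hφ q y hy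
  rw [hker, Ideal.map_span, Set.image_singleton] at hfker
  obtain ⟨hfin, hetale⟩ := formallyEtale_residueField b h y hq
  have hreg := isRegularLocalRing_localization k y
  have hdom : IsDomain (Localization.AtPrime y) := Groth.Agent.CalgA.RegBasic.isDomain _
  obtain ⟨b', hb'⟩ := exists_basis_of_formallyEtale (A := k) b (Localization.AtPrime y)
  have hloc : IsLocalHom f.toRingHom := hf.isLocalHom f.toRingHom
  have hFS : Algebra.FormallySmooth k (Localization.AtPrime y) := .comp k P _
  have hD := coord_of_basis k (Localization.AtPrime y) b'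
  have hmap := map_jac_eq b h y hq
  have hmem : ∀ x ∈ jac b h, algebraMap P (Localization.AtPrime y) x ∈
      maximalIdeal (Localization.AtPrime y) := by
    intro x hx
    rw [← hmap]
    exact Ideal.mem_map_of_mem _ hx
  refine ⟨?_, ?_, ?_⟩
  · refine hD.nodeLike (fun a b hab x y hxy => hD.dvd_of_mul_eq a b hab x y hxy) f.toRingHom hf hfker
      (hmem _ (mem_jac b h)) ?_ ?_
    · intro i
      change b'.repr _ i ∈ _
      rw [hb']
      exact hmem _ (d_mem_jac b h i)
    · rw [← hmap, jac_map b b' hb' h]
      exact le_rfl
  · obtain ⟨e, -⟩ := exists_residueEquiv f hf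
    exact Module.Finite.equiv e.toLinearEquiv
  · obtain ⟨e, -⟩ := exists_residueEquiv f hf
    have hsep : Algebra.IsSeparable k (ResidueField (Localization.AtPrime y)) := by
      rw [← Algebra.FormallyEtale.iff_isSeparable]; exact hetale
    exact Algebra.IsSeparable.of_algHom k _ e.symm.toAlgHom

end Groth.Agent.CurvesB.NodalPres
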