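import Groth.Agent.CurvesB.NodalPres
import Mathlib.RingTheory.Smooth.Kaehler

/-!
# Jacobian criterion for one equation in a smooth algebra
-/

set_option autoImplicit false

universe u

open scoped TensorProduct KaehlerDifferential

namespace Groth.Agent.CurvesB.NodalPres

/-- If `C = P/(h)` with `P` formally smooth over `A` and a partial derivative of `h` a unit, then `C` is
formally smooth over `A`. -/
theorem formallySmooth_of_isUnit {ι : Type*} {A P C : Type u} [CommRing A] [CommRing P] [Algebra A P]
    [Algebra.FormallySmooth A P] [CommRing C] [Algebra A C] [Algebra P C] [IsScalarTower A P C]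
    (b : Module.Basis ι P (Ω[P⁄A])) (h : P) (i : ι)
    (hsurj : Function.Surjective (algebraMap P C))
    (hker : RingHom.ker (algebraMap P C) = Ideal.span {h})
    (hu : IsUnit (b.repr (KaehlerDifferential.D A P h) i)) : Algebra.FormallySmooth A C := by
  rw [Algebra.FormallySmooth.iff_split_injection (P := P) hsurj]
  obtain ⟨u, hu⟩ := hu.exists_left_inv
  set K := RingHom.ker (algebraMap P C) with hK
  have hhK : h ∈ K := by rw [hker]; exact Ideal.mem_span_singleton_self h
  let c0 : K.Cotangent := K.toCotangent ⟨h, hhK⟩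
  -- elements of K kill the cotangent module
  have hkill : ∀ x ∈ K, ∀ z : K.Cotangent, x • z = 0 := by
    intro x hx z
    obtain ⟨w, rfl⟩ := Ideal.toCotangent_surjective _ z
    rw [← map_smul, Ideal.toCotangent_eq_zero, pow_two]
    exact Ideal.mul_mem_mul hx w.2
  -- the map C → K/K²
  have hlin : (LinearMap.ker (Algebra.linearMap P C)) ≤ LinearMap.ker (LinearMap.toSpanSingleton P K.Cotangent c0) := by
    intro x hx
    rw [LinearMap.mem_ker, LinearMap.toSpanSingleton_apply]
    exact hkill x hx c0
  let e : (P ⧸ LinearMap.ker (Algebra.linearMap P C)) ≃ₗ[P] C :=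
    (Algebra.linearMap P C).quotKerEquivOfSurjective hsurj
  let m : C →ₗ[P] K.Cotangent := (Submodule.liftQ _ (LinearMap.toSpanSingleton P K.Cotangent c0) hlin) ∘ₗ
    e.symm.toLinearMap
  have hm1 : m 1 = c0 := by
    have he : e.symm 1 = Submodule.Quotient.mk 1 := by
      rw [LinearEquiv.symm_apply_eq]
      change (1 : C) = (Algebra.linearMap P C).quotKerEquivOfSurjective hsurj (Submodule.Quotient.mk 1)
      rw [LinearMap.quotKerEquivOfSurjective_apply_mk]
      simp
    change Submodule.liftQ _ (LinearMap.toSpanSingleton P K.Cotangent c0) hlin (e.symm 1) = c0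
    rw [he, Submodule.liftQ_apply]
    simp
  let l : C ⊗[P] Ω[P⁄A] →ₗ[P] K.Cotangent :=
    TensorProduct.lift (LinearMap.mk₂ P (fun c ω => (b.repr ω i * u) • m c)
      (fun c c' ω => by rw [map_add, smul_add])
      (fun a c ω => by rw [map_smul, smul_comm])
      (fun c ω ω' => by rw [map_add, Finsupp.add_apply, add_mul, add_smul])
      (fun a c ω => by rw [map_smul, Finsupp.smul_apply, smul_eq_mul, mul_assoc, mul_smul]))
  refine ⟨l, ?_⟩
  apply LinearMap.ext
  intro z
  obtain ⟨⟨x, hx⟩, rfl⟩ := Ideal.toCotangent_surjective _ z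
  rw [LinearMap.comp_apply, LinearMap.id_apply, KaehlerDifferential.kerCotangentToTensor_toCotangent]
  change l (1 ⊗ₜ[P] KaehlerDifferential.D A P x) = _
  have hl : l (1 ⊗ₜ[P] KaehlerDifferential.D A P x) =
      (b.repr (KaehlerDifferential.D A P x) i * u) • m 1 := rfl
  rw [hl, hm1]
  have hx2 : x ∈ Ideal.span {h} := by rw [← hker]; exact hx
  obtain ⟨r, hr⟩ := Ideal.mem_span_singleton'.mp hx2
  subst hr
  rw [Derivation.leibniz, map_add, map_smul, map_smul, Finsupp.add_apply, Finsupp.smul_apply,
    Finsupp.smul_apply, smul_eq_mul, smul_eq_mul]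
  have e1 : (r * (b.repr (KaehlerDifferential.D A P h)) i + h * (b.repr (KaehlerDifferential.D A P r)) i) * u =
      r + h * ((b.repr (KaehlerDifferential.D A P r)) i * u) := by
    linear_combination r * hu
  rw [e1, add_smul, mul_smul h, hkill h hhK, add_zero]
  change r • K.toCotangent ⟨h, hhK⟩ = _
  rw [← map_smul]
  rfl

end Groth.Agent.CurvesB.NodalPres
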