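import Groth.Agent.CurvesB.NodalField
import Groth.Agent.CurvesB.NodalSmooth
import Mathlib.RingTheory.Ideal.KrullsHeightTheorem
import Mathlib.RingTheory.KrullDimension.Basic
import Mathlib.RingTheory.Ideal.MinimalPrime.Localization

/-!
# Algebras with a nodal presentation over a field: smooth points and dimension
-/

set_option autoImplicit false

universe u

open scoped TensorProduct KaehlerDifferential

namespace Groth.Agent.CurvesB.NodalPres

open IsLocalRing NodalLocal Node

variable {k P : Type u} [Field k] [CommRing P] [Algebra k P] [Algebra.Smooth k P]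

variable (b : Module.Basis (Fin 2) P (Ω[P⁄k])) (h : P)

/-- Away from the singular locus an algebra with a nodal presentation is smooth. -/
theorem isSmoothAt_of_not_jac_le {B : Type u} [CommRing B] [Algebra k B] (φ : P →ₐ[k] B)
    (hφ : Function.Surjective φ) (hker : RingHom.ker φ = Ideal.span {h}) (q : Ideal B) [q.IsPrime]
    (hq : ¬ jac b h ≤ q.comap φ.toRingHom) : Algebra.IsSmoothAt k q := by
  obtain ⟨y, hy⟩ : ∃ y, y = q.comap φ.toRingHom := ⟨_, rfl⟩
  have hyp : y.IsPrime := by rw [hy]; infer_instance
  obtain ⟨f, hf, hfker, hfx⟩ := exists_localHom φ hφ q y hy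
  rw [hker, Ideal.map_span, Set.image_singleton] at hfker
  rw [← hy] at hq
  obtain ⟨b', hb'⟩ := exists_basis_of_formallyEtale (A := k) b (Localization.AtPrime y)
  have hhy : h ∈ y := by
    rw [hy, Ideal.mem_comap]
    have : φ h = 0 := by
      have : h ∈ RingHom.ker φ := by rw [hker]; exact Ideal.mem_span_singleton_self h
      exact this
    change φ h ∈ q
    rw [this]; exact q.zero_mem
  have hi : ∃ i, b.repr (KaehlerDifferential.D k P h) i ∉ y := by
    by_contra hcon
    push Not at hcon
    exact hq ((jac_le_iff b h y).mpr ⟨hhy, hcon 0, hcon 1⟩)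
  obtain ⟨i, hi⟩ := hi
  have hFS : Algebra.FormallySmooth k (Localization.AtPrime y) := .comp k P _
  algebraize [f.toRingHom]
  have : IsScalarTower k (Localization.AtPrime y) (Localization.AtPrime q) :=
    .of_algebraMap_eq' (f.comp_algebraMap).symm
  exact formallySmooth_of_isUnit (A := k) (P := Localization.AtPrime y) b'
    (algebraMap P _ h) i hf hfker (by
      rw [hb']
      exact IsLocalization.map_units (Localization.AtPrime y) (⟨_, hi⟩ : y.primeCompl))

variable [Algebra.FormallyUnramified k (P ⧸ jac b h)]

include b h in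
/-- Every irreducible component of an algebra with a nodal presentation has dimension one. -/
theorem ringKrullDim_quotient_eq_one {B : Type u} [CommRing B] [Algebra k B] (φ : P →ₐ[k] B)
    (hφ : Function.Surjective φ) (hker : RingHom.ker φ = Ideal.span {h}) (η : Ideal B)
    (hη : η ∈ minimalPrimes B) : ringKrullDim (B ⧸ η) = 1 := by
  have hNP : IsNoetherianRing P := isNoetherianRing_of_smooth k P
  have hηp : η.IsPrime := hη.1.1
  obtain ⟨y, hy⟩ : ∃ y, y = η.comap φ.toRingHom := ⟨_, rfl⟩
  have hyp : y.IsPrime := by rw [hy]; infer_instance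
  have hymin : y ∈ (Ideal.span {h}).minimalPrimes := by
    have h1 : (Ideal.comap φ.toRingHom (⊥ : Ideal B)) = Ideal.span {h} := by
      rw [← hker]; rfl
    rw [← h1, Ideal.comap_minimalPrimes_eq_of_surjective hφ]
    exact ⟨η, hη, hy.symm⟩
  have hht1 : y.height ≤ 1 := Ideal.height_le_one_of_isPrincipal_of_mem_minimalPrimes _ _ hymin
  have hnotmax : ¬ y.IsMaximal := by
    intro hmax
    rw [height_eq_two b y] at hht1
    norm_num at hht1
  have hnotjac : ¬ jac b h ≤ y := fun hle => hnotmax (isMaximal_of_jac_le b h y hle)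
  have hhy : h ∈ y := hymin.1.2 (Ideal.mem_span_singleton_self h)
  -- y is not a minimal prime
  have hnotmin : y ∉ minimalPrimes P := by
    intro hmin
    obtain ⟨m, hm, hym⟩ := Ideal.exists_le_maximal y hyp.ne_top
    have hmp : m.IsPrime := hm.isPrime
    have hreg := isRegularLocalRing_localization k m
    have hdom : IsDomain (Localization.AtPrime m) := Groth.Agent.CalgA.RegBasic.isDomain _
    have hkerle : RingHom.ker (algebraMap P (Localization.AtPrime m)) ≤ y := by
      intro x hx
      obtain ⟨s, hs⟩ := (IsLocalization.map_eq_zero_iff m.primeCompl (Localization.AtPrime m) x).mp hx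
      have hsx : (s : P) * x ∈ y := by rw [hs]; exact y.zero_mem
      exact (hyp.mem_or_mem hsx).resolve_left (fun h2 => s.2 (hym h2))
    have hkerp : (RingHom.ker (algebraMap P (Localization.AtPrime m))).IsPrime := RingHom.ker_isPrime _
    have hkereq : RingHom.ker (algebraMap P (Localization.AtPrime m)) = y :=
      le_antisymm hkerle (hmin.2 ⟨hkerp, bot_le⟩ hkerle)
    have hhk : h ∈ RingHom.ker (algebraMap P (Localization.AtPrime m)) := by rw [hkereq]; exact hhy
    obtain ⟨s, hs⟩ := (IsLocalization.map_eq_zero_iff m.primeCompl (Localization.AtPrime m) h).mp hhk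
    have hsy : (s : P) ∉ y := fun h2 => s.2 (hym h2)
    apply hnotjac
    have hd : ∀ i, b.repr (KaehlerDifferential.D k P h) i ∈ y := by
      intro i
      have h1 : b.repr (KaehlerDifferential.D k P ((s : P) * h)) i = 0 := by rw [hs]; simp
      rw [Derivation.leibniz, map_add, map_smul, map_smul, Finsupp.add_apply, Finsupp.smul_apply,
        Finsupp.smul_apply, smul_eq_mul, smul_eq_mul] at h1
      have h2 : (s : P) * b.repr (KaehlerDifferential.D k P h) i ∈ y := by
        rw [eq_neg_of_add_eq_zero_left h1]
        exact y.neg_mem (y.mul_mem_right _ hhy)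
      exact (hyp.mem_or_mem h2).resolve_left hsy
    exact (jac_le_iff b h y).mpr ⟨hhy, hd 0, hd 1⟩
  -- the quotient
  have e : (P ⧸ y) ≃+* (B ⧸ η) := by
    let g : P →+* B ⧸ η := (Ideal.Quotient.mk η).comp φ.toRingHom
    have hg : Function.Surjective g := Ideal.Quotient.mk_surjective.comp hφ
    have hgk : RingHom.ker g = y := by
      ext x
      rw [hy, RingHom.mem_ker, Ideal.mem_comap]
      exact Ideal.Quotient.eq_zero_iff_mem
    exact (Ideal.quotEquivOfEq hgk.symm).trans (RingHom.quotientKerEquivOfSurjective hg)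
  rw [← ringKrullDim_eq_of_ringEquiv e]
  have hDdom : IsDomain (P ⧸ y) := inferInstance
  have hle : Ring.KrullDimLE 1 (P ⧸ y) := by
    rw [Ring.krullDimLE_one_iff_of_noZeroDivisors]
    intro z hz hzp
    obtain ⟨w, hw⟩ : ∃ w, w = z.comap (Ideal.Quotient.mk y) := ⟨_, rfl⟩
    have hwp : w.IsPrime := by rw [hw]; infer_instance
    have hyw : y < w := by
      refine lt_of_le_of_ne ?_ ?_
      · rw [hw]
        intro x hx
        rw [Ideal.mem_comap, Ideal.Quotient.eq_zero_iff_mem.mpr hx]
        exact z.zero_mem
      · intro heq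
        apply hz
        rw [eq_bot_iff]
        intro x hx
        obtain ⟨x', rfl⟩ := Ideal.Quotient.mk_surjective x
        have : x' ∈ w := by rw [hw]; exact hx
        rw [← heq] at this
        exact Ideal.Quotient.eq_zero_iff_mem.mpr this
    have hwmax : w.IsMaximal := by
      obtain ⟨m, hm, hwm⟩ := Ideal.exists_le_maximal w hwp.ne_top
      have hmp : m.IsPrime := hm.isPrime
      rcases eq_or_lt_of_le hwm with heq | hlt
      · rw [heq]; exact hm
      · exfalso
        have h1 := Ideal.height_add_one_le_of_lt_of_isPrime hyw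
        have h2 := Ideal.height_add_one_le_of_lt_of_isPrime hlt
        rw [height_eq_two b m] at h2
        have h3 : 1 ≤ y.height := by
          rw [Order.one_le_iff_ne_zero]
          intro h0
          exact hnotmin (Ideal.height_eq_zero_iff.mp h0)
        have h4 : (1 : ℕ∞) + 1 + 1 ≤ 2 := by
          calc (1 : ℕ∞) + 1 + 1 ≤ y.height + 1 + 1 := by gcongr
            _ ≤ w.height + 1 := by gcongr
            _ ≤ 2 := h2
        norm_num at h4
    have : z = w.map (Ideal.Quotient.mk y) := by
      rw [hw, Ideal.map_comap_of_surjective _ Ideal.Quotient.mk_surjective]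
    rw [this]
    exact Ideal.IsMaximal.map_of_surjective_of_ker_le Ideal.Quotient.mk_surjective (by
      rw [Ideal.mk_ker]; exact hyw.le)
  apply le_antisymm
  · exact Ring.krullDimLE_iff.mp hle
  · by_contra hcon
    push Not at hcon
    have h1 : Ring.KrullDimLE 0 (P ⧸ y) :=
      Ring.krullDimLE_iff.mpr (ENat.WithBot.lt_add_one_iff.mp hcon)
    have h2 : (⊥ : Ideal (P ⧸ y)).IsMaximal := Ideal.isMaximal_of_isPrime ⊥
    apply hnotmax
    have h3 : y = (⊥ : Ideal (P ⧸ y)).comap (Ideal.Quotient.mk y) := by
      rw [← RingHom.ker_eq_comap_bot, Ideal.mk_ker]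
    rw [h3]
    exact Ideal.comap_isMaximal_of_surjective _ Ideal.Quotient.mk_surjective

end Groth.Agent.CurvesB.NodalPres
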