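import Groth.Agent.CurvesB.NodalFibreH
import Groth.Agent.CurvesB.NodalBase

/-!
# Cohomology of the fibres of a nodal family over a maximal ideal
-/

set_option autoImplicit false

universe u

open CategoryTheory CategoryTheory.Limits AlgebraicGeometry Curv2

namespace Groth.Agent.CurvesB.NodalQuot

/-- The fibre of a nodal family at a closed point given by a surjection `A → k` onto a field. -/
theorem atWorstNodal_of_surjective (A : Type u) [CommRing A] (X : Scheme.{u})
    (f : X ⟶ Spec (CommRingCat.of A)) (hf : IsNodalFamily f)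
    (k : Type u) [Field k] (π : A →+* k) (hπ : Function.Surjective π)
    (Y : Scheme.{u}) [Y.Over (Spec (CommRingCat.of k))] (j : Y ⟶ X)
    (H : IsPullback j (Y ↘ Spec (CommRingCat.of k)) f (Spec.map (CommRingCat.ofHom π))) :
    (∀ Z ∈ irreducibleComponents (Y : Type u), topologicalKrullDim Z = 1) ∧ AtWorstNodal k Y := by
  let g : Spec (CommRingCat.of k) ⟶ Spec (CommRingCat.of A) := Spec.map (CommRingCat.ofHom π)
  let x : Spec (CommRingCat.of A) := g (IsLocalRing.closedPoint k)
  let ψ : (Spec (CommRingCat.of A)).residueField x ⟶ CommRingCat.of k :=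
    Scheme.descResidueField (Scheme.stalkClosedPointTo g)
  have hψ : Spec.map ψ ≫ (Spec (CommRingCat.of A)).fromSpecResidueField x = g :=
    Scheme.descResidueField_stalkClosedPointTo_fromSpecResidueField k _ g
  have hψs : Function.Surjective ψ.hom := by
    obtain ⟨θ, hθ⟩ : ∃ θ : CommRingCat.of A ⟶ (Spec (CommRingCat.of A)).residueField x,
        Spec.map θ = (Spec (CommRingCat.of A)).fromSpecResidueField x :=
      ⟨Spec.preimage _, Spec.map_preimage _⟩
    have h1 : θ ≫ ψ = CommRingCat.ofHom π := by
      apply Spec.map_injective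
      rw [Spec.map_comp, hθ, hψ]
    intro y
    obtain ⟨a, rfl⟩ := hπ y
    exact ⟨θ.hom a, congr($(h1).hom a)⟩
  have hψi : IsIso ψ := (ConcreteCategory.isIso_iff_bijective ψ).2 ⟨RingHom.injective _, hψs⟩
  -- the comparison with the fibre
  have hP : IsPullback (f.fiberι x) (f.fiberToSpecResidueField x) f
      ((Spec (CommRingCat.of A)).fromSpecResidueField x) := IsPullback.of_hasPullback _ _
  let q : Y ⟶ f.fiber x := hP.lift j ((Y ↘ Spec (CommRingCat.of k)) ≫ Spec.map ψ)
    (by rw [H.w, Category.assoc, hψ])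
  have hq1 : q ≫ f.fiberι x = j := hP.lift_fst _ _ _
  have hq2 : q ≫ f.fiberToSpecResidueField x = (Y ↘ Spec (CommRingCat.of k)) ≫ Spec.map ψ :=
    hP.lift_snd _ _ _
  have hq : IsPullback q (Y ↘ Spec (CommRingCat.of k)) (f.fiberToSpecResidueField x) (Spec.map ψ) := by
    refine IsPullback.of_right (h₁₂ := f.fiberι x) (v₁₃ := f)
      (h₂₂ := (Spec (CommRingCat.of A)).fromSpecResidueField x) ?_ hq2 hP
    rw [hq1, hψ]
    exact H
  have hqi : IsIso q := hq.isIso_fst_of_isIso
  have hLFP : LocallyOfFinitePresentation f := hf.2.1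
  have hft' : LocallyOfFiniteType (f.fiberToSpecResidueField x) :=
    MorphismProperty.pullback_snd _ _ inferInstance
  have hjac : JacobsonSpace (f.fiber x) :=
    LocallyOfFiniteType.jacobsonSpace (f.fiberToSpecResidueField x)
  have hdim : ∀ Z ∈ irreducibleComponents (Y : Type u), topologicalKrullDim Z = 1 := by
    have := DimOneEtale.locallyQuasiFinite_of_formallyUnramified q
    exact DimOneEtale.forall_dim_eq_one_of_etale q (hf.2.2 x).1
  refine ⟨hdim, ?_⟩
  letI : Algebra k ((Spec (CommRingCat.of A)).residueField x) := (inv ψ).hom.toAlgebra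
  letI i2 : (f.fiber x).Over (Spec (CommRingCat.of ((Spec (CommRingCat.of A)).residueField x))) :=
    ⟨f.fiberToSpecResidueField x⟩
  have hfp : LocallyOfFinitePresentation (Y ↘ Spec (CommRingCat.of k)) :=
    MorphismProperty.of_isPullback H hLFP
  refine NodalDescent.atWorstNodal_of_isPullback k ((Spec (CommRingCat.of A)).residueField x)
    (inv q) ?_ hdim (hf.2.2 x).2
  have hw : inv q ≫ (Y ↘ Spec (CommRingCat.of k)) =
      f.fiberToSpecResidueField x ≫ Spec.map (inv ψ) := by
    rw [IsIso.inv_comp_eq, ← Category.assoc, hq2, Category.assoc, ← Spec.map_comp, IsIso.inv_hom_id,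
      Spec.map_id, Category.comp_id]
  have : IsIso (Spec.map (CommRingCat.ofHom (algebraMap k
      ((Spec (CommRingCat.of A)).residueField x)))) := by
    change IsIso (Spec.map (inv ψ))
    infer_instance
  exact IsPullback.of_horiz_isIso ⟨hw⟩

/-- Cohomology of the structure sheaf of the fibre of a proper nodal family with geometrically connected
fibres, at a closed point given by a surjection `A → k` onto a field. -/
theorem cohomology_surjective (A : Type u) [CommRing A] (X : Scheme.{u})
    (f : X ⟶ Spec (CommRingCat.of A)) [IsProper f] (hf : IsNodalFamily f) [GeometricallyConnected f]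
    (k : Type u) [Field k] (π : A →+* k) (hπ : Function.Surjective π)
    (Y : Scheme.{u}) [Y.Over (Spec (CommRingCat.of k))] (j : Y ⟶ X)
    (H : IsPullback j (Y ↘ Spec (CommRingCat.of k)) f (Spec.map (CommRingCat.ofHom π))) :
    Module.finrank k (Coh.HH Y (Coh.structureModule Y) 0) = 1 ∧
      ∀ q : ℕ, 2 ≤ q → Subsingleton (Coh.HH Y (Coh.structureModule Y) q) := by
  obtain ⟨h1, h2⟩ := atWorstNodal_of_surjective A X f hf k π hπ Y j H
  have h3 : IsProper (Y ↘ (Spec (CommRingCat.of k))) := MorphismProperty.of_isPullback H ‹IsProper f›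
  have h4 : GeometricallyConnected (Y ↘ (Spec (CommRingCat.of k))) :=
    MorphismProperty.of_isPullback H ‹GeometricallyConnected f›
  exact NodalFibreH.nodal_cohomology k Y h1 h2

theorem cohomology_quot (A : Type u) [CommRing A] (X : Scheme.{u}) [X.Over (Spec (CommRingCat.of A))]
    [IsProper (X ↘ Spec (CommRingCat.of A))] (hf : Curv2.IsNodalFamily (X ↘ Spec (CommRingCat.of A)))
    [GeometricallyConnected (X ↘ Spec (CommRingCat.of A))] (m : Ideal A) [m.IsMaximal]
    (Y : Scheme.{u}) [Y.Over (Spec (CommRingCat.of (A ⧸ m)))] (j : Y ⟶ X)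
    (H : IsPullback j (Y ↘ Spec (CommRingCat.of (A ⧸ m))) (X ↘ Spec (CommRingCat.of A))
      (Spec.map (CommRingCat.ofHom (Ideal.Quotient.mk m)))) :
    Module.finrank (A ⧸ m) (Coh.HH Y (Coh.structureModule Y) 0) = 1 ∧
      ∀ q : ℕ, 2 ≤ q → Subsingleton (Coh.HH Y (Coh.structureModule Y) q) := by
  letI : Field (A ⧸ m) := Ideal.Quotient.field m
  exact cohomology_surjective A X (X ↘ Spec (CommRingCat.of A)) hf (A ⧸ m) (Ideal.Quotient.mk m)
    Ideal.Quotient.mk_surjective Y j H

end Groth.Agent.CurvesB.NodalQuot
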