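import Groth.Agent.CurvesB.NodeLike
import Mathlib.RingTheory.Filtration
import Mathlib.RingTheory.Ideal.AssociatedPrime.Finiteness
import Mathlib.RingTheory.Nakayama
import Mathlib.RingTheory.LocalRing.ResidueField.Basic
import Mathlib.Tactic

/-!
# Hypersurface nodes in two-dimensional local rings: pure algebra
-/

set_option autoImplicit false

universe u

namespace Groth.Agent.CurvesB.NodalLocal

open IsLocalRing

section Quadratic

variable {R : Type*} [CommRing R] [IsLocalRing R]

/-- After a linear change of coordinates the first coefficient of a nondegenerate quadratic form is a unit. -/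
theorem exists_unit_coeff {a b α β γ : R} (hm : maximalIdeal R = Ideal.span {a, b})
    (hdisc : IsUnit (4 * α * γ - β ^ 2)) :
    ∃ a' b' α' β' γ' : R, maximalIdeal R = Ideal.span {a', b'} ∧ IsUnit α' ∧
      α * a ^ 2 + β * a * b + γ * b ^ 2 = α' * a' ^ 2 + β' * a' * b' + γ' * b' ^ 2 := by
  by_cases hα : IsUnit α
  · exact ⟨a, b, α, β, γ, hm, hα, rfl⟩
  by_cases hγ : IsUnit γ
  · exact ⟨b, a, γ, β, α, by rw [hm, Set.pair_comm], hγ, by ring⟩
  have hβ : IsUnit β := by
    by_contra hβ
    have h1 : 4 * α * γ - β ^ 2 ∈ maximalIdeal R := by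
      have hα' : α ∈ maximalIdeal R := hα
      have hβ' : β ∈ maximalIdeal R := hβ
      refine Ideal.sub_mem _ ?_ (Ideal.pow_mem_of_mem _ hβ' 2 (by norm_num))
      exact Ideal.mul_mem_right _ _ (Ideal.mul_mem_left _ _ hα')
    exact h1 hdisc
  refine ⟨a, b + a, α - β + γ, β - 2 * γ, γ, ?_, ?_, by ring⟩
  · rw [hm]
    apply le_antisymm
    · refine Ideal.span_le.mpr ?_
      rintro z (rfl | rfl)
      · exact Ideal.subset_span (by simp)
      · exact Ideal.mem_span_pair.mpr ⟨-1, 1, by ring⟩
    · refine Ideal.span_le.mpr ?_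
      rintro z (rfl | rfl)
      · exact Ideal.subset_span (by simp)
      · exact Ideal.mem_span_pair.mpr ⟨1, 1, by ring⟩
  · by_contra hcon
    have h1 : α - β + γ ∈ maximalIdeal R := hcon
    have hα' : α ∈ maximalIdeal R := hα
    have hγ' : γ ∈ maximalIdeal R := hγ
    have : β ∈ maximalIdeal R := by
      have e : β = α + γ - (α - β + γ) := by ring
      rw [e]
      exact Ideal.sub_mem _ (Ideal.add_mem _ hα' hγ') h1
    exact this hβ

/-- Powers of the maximal ideal modulo a quadratic relation are generated by two elements. -/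
theorem pow_le_of_unit_coeff {a b α β γ : R} (hm : maximalIdeal R = Ideal.span {a, b})
    (hα : IsUnit α) (n : ℕ) :
    maximalIdeal R ^ (n + 1) ≤ Ideal.span {a * b ^ n, b ^ (n + 1)} ⊔
      Ideal.span {α * a ^ 2 + β * a * b + γ * b ^ 2} := by
  induction n with
  | zero =>
    rw [zero_add, pow_one, pow_zero, mul_one, pow_one, hm]
    exact le_sup_left
  | succ n ih =>
    set h := α * a ^ 2 + β * a * b + γ * b ^ 2 with hh
    rw [pow_succ]
    refine (Ideal.mul_mono_left ih).trans ?_
    rw [Ideal.sup_mul]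
    refine sup_le ?_ ((Ideal.mul_le_inf.trans inf_le_left).trans le_sup_right)
    rw [hm, Ideal.span_pair_mul_span_pair, Ideal.span_le]
    obtain ⟨s, hs⟩ := hα.exists_left_inv
    have m1 : a * b ^ (n + 1) ∈ Ideal.span {a * b ^ (n + 1), b ^ (n + 1 + 1)} ⊔ Ideal.span {h} :=
      Ideal.mem_sup_left (Ideal.subset_span (by simp))
    have m2 : b ^ (n + 1 + 1) ∈ Ideal.span {a * b ^ (n + 1), b ^ (n + 1 + 1)} ⊔ Ideal.span {h} :=
      Ideal.mem_sup_left (Ideal.subset_span (by simp))
    have m3 : h ∈ Ideal.span {a * b ^ (n + 1), b ^ (n + 1 + 1)} ⊔ Ideal.span {h} :=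
      Ideal.mem_sup_right (Ideal.subset_span rfl)
    rintro z (rfl | rfl | rfl | rfl)
    · have e : a * b ^ n * a = (s * b ^ n) * h - (s * β) * (a * b ^ (n + 1)) - (s * γ) * b ^ (n + 1 + 1) := by
        rw [hh]
        linear_combination (- (a ^ 2 * b ^ n)) * hs
      rw [e]
      exact Ideal.sub_mem _ (Ideal.sub_mem _ (Ideal.mul_mem_left _ _ m3) (Ideal.mul_mem_left _ _ m1))
        (Ideal.mul_mem_left _ _ m2)
    · have e : a * b ^ n * b = a * b ^ (n + 1) := by ring
      rw [e]; exact m1
    · have e : b ^ (n + 1) * a = a * b ^ (n + 1) := by ring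
      rw [e]; exact m1
    · have e : b ^ (n + 1) * b = b ^ (n + 1 + 1) := by ring
      rw [e]; exact m2

theorem map_maximalIdeal_of_surjective {T : Type*} [CommRing T] [IsLocalRing T] (f : R →+* T)
    (hf : Function.Surjective f) : (maximalIdeal R).map f = maximalIdeal T := by
  have hloc : IsLocalHom f := hf.isLocalHom f
  apply le_antisymm
  · exact ((IsLocalRing.local_hom_TFAE f).out 0 2).mp hloc
  · intro y hy
    obtain ⟨x, rfl⟩ := hf y
    exact Ideal.mem_map_of_mem f (fun hx => hy (hx.map f))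

/-- If a quotient `T` of `R` has no principal powers of the maximal ideal and the kernel contains a nondegenerate
quadratic form, then the kernel is generated by it. -/
theorem ker_eq_span [IsNoetherianRing R] {T : Type*} [CommRing T] [IsLocalRing T] (f : R →+* T)
    (hf : Function.Surjective f) (hT : ∀ n : ℕ, 1 ≤ n → ¬ (maximalIdeal T ^ n).IsPrincipal)
    {a b α β γ : R} (hm : maximalIdeal R = Ideal.span {a, b})
    (hdisc : IsUnit (4 * α * γ - β ^ 2))
    (hrel : α * a ^ 2 + β * a * b + γ * b ^ 2 ∈ RingHom.ker f) :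
    RingHom.ker f = Ideal.span {α * a ^ 2 + β * a * b + γ * b ^ 2} := by
  obtain ⟨a', b', α', β', γ', hm', hα', he⟩ := exists_unit_coeff hm hdisc
  rw [he] at hrel ⊢
  clear he hm hdisc
  set h := α' * a' ^ 2 + β' * a' * b' + γ' * b' ^ 2 with hh
  apply le_antisymm _ ((Ideal.span_singleton_le_iff_mem _).mpr hrel)
  intro g hg
  by_contra hgh
  have hloc : IsLocalHom f := hf.isLocalHom f
  have hfm : (maximalIdeal R).map f = maximalIdeal T := map_maximalIdeal_of_surjective f hf
  have ha' : a' ∈ maximalIdeal R := by rw [hm']; exact Ideal.subset_span (by simp)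
  have hb' : b' ∈ maximalIdeal R := by rw [hm']; exact Ideal.subset_span (by simp)
  have hhm : h ∈ maximalIdeal R := by
    rw [hh]
    refine Ideal.add_mem _ (Ideal.add_mem _ ?_ ?_) ?_
    · exact Ideal.mul_mem_left _ _ (Ideal.pow_mem_of_mem _ ha' 2 (by norm_num))
    · exact Ideal.mul_mem_left _ _ hb'
    · exact Ideal.mul_mem_left _ _ (Ideal.pow_mem_of_mem _ hb' 2 (by norm_num))
  -- Krull intersection
  have hKrull : ∃ n : ℕ, g ∉ maximalIdeal R ^ n ⊔ Ideal.span {h} := by
    by_contra hcon
    push Not at hcon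
    apply hgh
    have hne : (Ideal.span {h} : Ideal R) ≠ ⊤ := fun htop =>
      (maximalIdeal.isMaximal R).ne_top (top_le_iff.mp (htop ▸ (Ideal.span_singleton_le_iff_mem _).mpr hhm))
    have : Nontrivial (R ⧸ Ideal.span {h}) := Ideal.Quotient.nontrivial_iff.mpr hne
    have : IsLocalRing (R ⧸ Ideal.span {h}) := .of_surjective' _ Ideal.Quotient.mk_surjective
    have h1 := Ideal.iInf_pow_eq_bot_of_isLocalRing (maximalIdeal (R ⧸ Ideal.span {h}))
      (maximalIdeal.isMaximal _).ne_top
    have h2 : Ideal.Quotient.mk (Ideal.span {h}) g ∈ ⨅ i : ℕ, maximalIdeal (R ⧸ Ideal.span {h}) ^ i := by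
      rw [Ideal.mem_iInf]
      intro n
      rw [← map_maximalIdeal_of_surjective (Ideal.Quotient.mk (Ideal.span {h})) Ideal.Quotient.mk_surjective,
        ← Ideal.map_pow, Ideal.mem_quotient_iff_mem_sup]
      exact hcon n
    rw [h1] at h2
    exact Ideal.Quotient.eq_zero_iff_mem.mp h2
  classical
  obtain ⟨N, hN, hNmin⟩ : ∃ N : ℕ, g ∉ maximalIdeal R ^ (N + 1) ⊔ Ideal.span {h} ∧
      g ∈ maximalIdeal R ^ N ⊔ Ideal.span {h} := by
    have hn := Nat.find_spec hKrull
    have hmin := fun m => Nat.find_min hKrull (m := m)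
    set n := Nat.find hKrull with hn_def
    rcases Nat.eq_zero_or_pos n with h0 | h0
    · exfalso
      rw [h0, pow_zero] at hn
      apply hn
      rw [Ideal.one_eq_top, top_sup_eq]; trivial
    · refine ⟨n - 1, ?_, ?_⟩
      · rwa [Nat.sub_add_cancel h0]
      · have := hmin (n - 1) (by omega)
        push Not at this
        exact this
  -- N ≥ 1
  have hN0 : N ≠ 0 := by
    rintro rfl
    apply hN
    rw [zero_add, pow_one]
    apply Ideal.mem_sup_left
    intro hu
    have := hu.map f
    rw [RingHom.mem_ker.mp hg] at this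
    exact not_isUnit_zero this
  obtain ⟨n, rfl⟩ := Nat.exists_eq_succ_of_ne_zero hN0
  have hgen := pow_le_of_unit_coeff (β := β') (γ := γ') hm' hα' n
  rw [← hh] at hgen
  obtain ⟨g', hg', s, hs, hgs⟩ := Submodule.mem_sup.mp hNmin
  obtain ⟨s', rfl⟩ := Ideal.mem_span_singleton'.mp hs
  obtain ⟨w, hw, t, ht, hwt⟩ := Submodule.mem_sup.mp (hgen hg')
  obtain ⟨t', rfl⟩ := Ideal.mem_span_singleton'.mp ht
  obtain ⟨u, v, huv⟩ := Ideal.mem_span_pair.mp hw
  set c := a' * b' ^ n with hc
  set d := b' ^ (n + 1) with hd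
  have hcm : c ∈ maximalIdeal R ^ (n + 1) := by
    rw [hc, pow_succ', ]
    exact Ideal.mul_mem_mul ha' (Ideal.pow_mem_pow hb' n)
  have hdm : d ∈ maximalIdeal R ^ (n + 1) := Ideal.pow_mem_pow hb' _
  -- g = u c + v d + multiple of h
  have hg_eq : g = u * c + v * d + (t' + s') * h := by
    rw [← hgs, ← hwt, ← huv]; ring
  have hfg : f u * f c + f v * f d = 0 := by
    have h1 := RingHom.mem_ker.mp hg
    rw [hg_eq, map_add, map_mul f (t' + s') h, RingHom.mem_ker.mp hrel, mul_zero, add_zero, map_add, map_mul f u c,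
      map_mul f v d] at h1
    exact h1
  have hpow : maximalIdeal T ^ (n + 1) ≤ Ideal.span {f c, f d} := by
    rw [← hfm, ← Ideal.map_pow]
    refine (Ideal.map_mono hgen).trans ?_
    rw [Ideal.map_sup, Ideal.map_span, Ideal.map_span, Set.image_pair, Set.image_singleton,
      RingHom.mem_ker.mp hrel]
    simp
  have hfc : f c ∈ maximalIdeal T ^ (n + 1) := by
    rw [← hfm, ← Ideal.map_pow]; exact Ideal.mem_map_of_mem f hcm
  have hfd : f d ∈ maximalIdeal T ^ (n + 1) := by
    rw [← hfm, ← Ideal.map_pow]; exact Ideal.mem_map_of_mem f hdm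
  by_cases hu : IsUnit u
  · apply hT (n + 1) (by omega)
    refine ⟨f d, le_antisymm (hpow.trans ?_) ?_⟩
    · refine Ideal.span_le.mpr ?_
      rintro z (rfl | rfl)
      · obtain ⟨r, hr⟩ := hu.exists_left_inv
        have hr' : f r * f u = 1 := by rw [← map_mul, hr, map_one]
        exact Ideal.mem_span_singleton'.mpr ⟨-(f r * f v), by linear_combination (- f r) * hfg + f c * hr'⟩
      · exact Ideal.subset_span rfl
    · exact (Ideal.span_singleton_le_iff_mem _).mpr hfd
  by_cases hv : IsUnit v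
  · apply hT (n + 1) (by omega)
    refine ⟨f c, le_antisymm (hpow.trans ?_) ?_⟩
    · refine Ideal.span_le.mpr ?_
      rintro z (rfl | rfl)
      · exact Ideal.subset_span rfl
      · obtain ⟨r, hr⟩ := hv.exists_left_inv
        have hr' : f r * f v = 1 := by rw [← map_mul, hr, map_one]
        exact Ideal.mem_span_singleton'.mpr ⟨-(f r * f u), by linear_combination (- f r) * hfg + f d * hr'⟩
    · exact (Ideal.span_singleton_le_iff_mem _).mpr hfc
  · apply hN
    rw [hg_eq]
    refine Ideal.add_mem _ (Ideal.mem_sup_left ?_) (Ideal.mem_sup_right (Ideal.mem_span_singleton'.mpr ⟨_, rfl⟩))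
    have hu' : u ∈ maximalIdeal R := hu
    have hv' : v ∈ maximalIdeal R := hv
    rw [pow_succ' (maximalIdeal R) (n + 1)]
    exact Ideal.add_mem _ (Ideal.mul_mem_mul hu' hcm) (Ideal.mul_mem_mul hv' hdm)

end Quadratic

end Groth.Agent.CurvesB.NodalLocal
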