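import Groth.Agent.S1589
import Groth.Agent.S2156
import Groth.Agent.CurvesB.NodeCriterion
import Groth.Agent.CurvesB.NodalEtale
import Groth.Agent.CurvesB.FibreBC
import Groth.Agent.Models.SmoothCase
import Groth.Agent.Pi1B.FlowSmooth
import Groth.Agent.Smoothlim.SmoothLocusBC
import Groth.Agent.VarietyA.GeomRedSch
import Groth.Agent.VarietyA.SmoothLocusSch
import Groth.Agent.Picfga.CurveRelDim

/-!
# The points at which a morphism is at-worst-nodal of relative dimension one
-/

set_option autoImplicit false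

universe u

open CategoryTheory CategoryTheory.Limits AlgebraicGeometry IsLocalRing

namespace Groth.Agent.CurvesB.NodalPoint

section Defs

variable {X S : Scheme.{u}} (f : X ⟶ S)

/-- The point `y` of the fibre over `s` is a node of this fibre. -/
def IsN (s : S) (y : f.fiber s) : Prop :=
  @Curv2.IsNode (S.residueField s) _ (f.fiber s) ⟨f.fiberToSpecResidueField s⟩ y

/-- `f` is smooth of relative dimension one near `x`. -/
def Sm (x : X) : Prop := ∃ V : X.Opens, x ∈ V ∧ SmoothOfRelativeDimension 1 (V.ι ≫ f)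

/-- `f` is smooth of relative dimension one near `x` or `x` is a node of its fibre. -/
def Pt (x : X) : Prop := Sm f x ∨ IsN f (f x) (f.asFiber x)

theorem isN_iff (x : X) (s : S) (y : f.fiber s) (hy : f.fiberι s y = x) :
    IsN f s y ↔ IsN f (f x) (f.asFiber x) := by
  have hs : f x = s := by
    have h1 : f.fiberι s y ∈ Set.range (f.fiberι s) := ⟨y, rfl⟩
    rw [Scheme.Hom.range_fiberι, hy] at h1
    exact h1
  subst hs
  have : y = f.asFiber x := (f.fiberι (f x)).isEmbedding.injective (by
    rw [hy, Scheme.Hom.fiberι_asFiber])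
  rw [this]

end Defs

section Smooth

variable {X S : Scheme.{u}}

theorem exists_relDim (f : X ⟶ S) [Smooth f] (x : X) :
    ∃ (n : ℕ) (V : X.Opens), x ∈ V ∧ SmoothOfRelativeDimension n (V.ι ≫ f) := by
  obtain ⟨U, hU, V, hV, hx, e, h⟩ := Smooth.exists_isStandardSmooth f x
  obtain ⟨n, hn⟩ := Picfga.CurveRelDim.exists_relativeDimension h
  refine ⟨n, V, hx, ?_⟩
  have h1 : SmoothOfRelativeDimension n (f.resLE U V e) := by
    have : IsAffine U := hU
    have : IsAffine V := hV
    rw [HasRingHomProperty.iff_of_isAffine (P := @SmoothOfRelativeDimension n)]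
    have hr : (RingHom.toMorphismProperty
        (RingHom.Locally (RingHom.IsStandardSmoothOfRelativeDimension n))).RespectsIso :=
      RingHom.toMorphismProperty_respectsIso_iff.mp
        (HasRingHomProperty.isLocal_ringHomProperty (@SmoothOfRelativeDimension n)).respectsIso
    exact (MorphismProperty.arrow_mk_iso_iff (RingHom.toMorphismProperty
      (RingHom.Locally (RingHom.IsStandardSmoothOfRelativeDimension n)))
      (arrowResLEAppIso f U V e)).mpr
        (RingHom.locally_of RingHom.isStandardSmoothOfRelativeDimension_respectsIso _ hn)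
  have h2 : V.ι ≫ f = f.resLE U V e ≫ U.ι := (Scheme.Hom.resLE_comp_ι _ _).symm
  rw [h2]
  exact (inferInstance : SmoothOfRelativeDimension (n + 0) (f.resLE U V e ≫ U.ι))

theorem relDim_unique (f : X ⟶ S) (x : X) (n m : ℕ) (hn : SmoothOfRelativeDimension n f)
    (hm : SmoothOfRelativeDimension m f) : n = m := by
  have h1 : SmoothOfRelativeDimension n (f.fiberToSpecResidueField (f x)) := by
    have := smoothOfRelativeDimension_isStableUnderBaseChange.{u} n
    exact MorphismProperty.of_isPullback (P := @SmoothOfRelativeDimension.{u} n)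
      (IsPullback.of_hasPullback f (S.fromSpecResidueField (f x))) hn
  have h2 : SmoothOfRelativeDimension m (f.fiberToSpecResidueField (f x)) := by
    have := smoothOfRelativeDimension_isStableUnderBaseChange.{u} m
    exact MorphismProperty.of_isPullback (P := @SmoothOfRelativeDimension.{u} m)
      (IsPullback.of_hasPullback f (S.fromSpecResidueField (f x))) hm
  have h3 := @UnramA.SmoothFibreDim.localDim_eq (S.residueField (f x)) _ n _
    (f.fiberToSpecResidueField (f x)) h1 (f.asFiber x)
  have h4 := @UnramA.SmoothFibreDim.localDim_eq (S.residueField (f x)) _ m _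
    (f.fiberToSpecResidueField (f x)) h2 (f.asFiber x)
  rw [h3] at h4
  exact_mod_cast h4

/-- `f` is smooth at `x` with relative dimension one. -/
theorem sm_of_mem_smoothLocus (f : X ⟶ S) [LocallyOfFinitePresentation f] (x : X)
    (hx : x ∈ f.smoothLocus)
    (h1 : ∀ (n : ℕ) (V : X.Opens), x ∈ V → SmoothOfRelativeDimension n (V.ι ≫ f) → n = 1) :
    Sm f x := by
  have hsm := VarietyA.SmoothLocusSch.smooth_smoothLocus_ι f
  obtain ⟨n, V, hV, hn⟩ := exists_relDim (f.smoothLocus.ι ≫ f) ⟨x, hx⟩
  let j : V.toScheme ⟶ X := V.ι ≫ f.smoothLocus.ι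
  have hj : SmoothOfRelativeDimension n (j.opensRange.ι ≫ f) := by
    have h2 : j.opensRange.ι ≫ f = j.isoOpensRange.inv ≫ V.ι ≫ f.smoothLocus.ι ≫ f := by
      rw [← Category.assoc V.ι, ← Category.assoc j.isoOpensRange.inv,
        Scheme.Hom.isoOpensRange_inv_comp]
    rw [h2]
    have h3 : SmoothOfRelativeDimension (0 + n) (j.isoOpensRange.inv ≫ V.ι ≫ f.smoothLocus.ι ≫ f) :=
      inferInstance
    rwa [Nat.zero_add] at h3
  have hxj : x ∈ j.opensRange := ⟨⟨⟨x, hx⟩, hV⟩, rfl⟩
  obtain rfl := h1 n _ hxj hj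
  exact ⟨_, hxj, hj⟩

theorem mem_smoothLocus_of_sm (f : X ⟶ S) [LocallyOfFinitePresentation f] (x : X) (h : Sm f x) :
    x ∈ f.smoothLocus := by
  obtain ⟨V, hV, h1⟩ := h
  have : Smooth (V.ι ≫ f) := SmoothOfRelativeDimension.smooth 1 _
  exact VarietyA.SmoothLocusSch.le_smoothLocus f V hV

end Smooth

section Nodal

variable {X S : Scheme.{u}}

/-- Every point of a nodal family is a smooth point of relative dimension one or a node of its fibre. -/
theorem pt_of_isNodalFamily (f : X ⟶ S) (hf : Curv2.IsNodalFamily f) (x : X) : Pt f x := by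
  obtain ⟨hflat, hlfp, h⟩ := hf
  obtain ⟨hdim, hawn⟩ := h (f x)
  have hlfp' : LocallyOfFinitePresentation (f.fiberToSpecResidueField (f x)) :=
    MorphismProperty.pullback_snd _ _ inferInstance
  have hne : Nonempty (f.fiber (f x)) := ⟨f.asFiber x⟩
  have hN : IsLocallyNoetherian (f.fiber (f x)) :=
    @LocallyOfFiniteType.isLocallyNoetherian _ (Spec (CommRingCat.of (S.residueField (f x))))
      (f.fiberToSpecResidueField (f x)) _ _
  have key : f.asFiber x ∈ (f.fiberToSpecResidueField (f x)).smoothLocus ∨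
      IsN f (f x) (f.asFiber x) := by
    have h1 := (DimOneTop.topologicalKrullDim_eq_one_iff.1
      (FibreBC.topologicalKrullDim_eq_one hdim)).2 (f.asFiber x)
    rcases h1 with h1 | h1
    · have hcl : IsClosed ({f.asFiber x} : Set (f.fiber (f x))) := by
        have : closure {f.asFiber x} = ({f.asFiber x} : Set (f.fiber (f x))) := by
          ext z
          rw [← specializes_iff_mem_closure, Set.mem_singleton_iff]
          exact ⟨h1 z, fun h => h ▸ specializes_rfl⟩
        rw [← this]
        exact isClosed_closure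
      rcases hawn _ hcl with ⟨U, hU, hsm⟩ | h2
      · left
        have hsm' : Smooth (U.ι ≫ f.fiberToSpecResidueField (f x)) := hsm
        exact VarietyA.SmoothLocusSch.le_smoothLocus _ U hU
      · exact Or.inr h2
    · left
      have hgr : GeometricallyReduced (f.fiberToSpecResidueField (f x)) :=
        (@S1589.result (S.residueField (f x)) _ (f.fiber (f x)) ⟨f.fiberToSpecResidueField (f x)⟩
          (inferInstanceAs (LocallyOfFiniteType (f.fiberToSpecResidueField (f x)))) hdim hawn).2
      have hd := @VarietyA.GeomRedSch.dense_smoothLocus (S.residueField (f x)) _ (f.fiber (f x))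
        (f.fiberToSpecResidueField (f x)) hlfp' hgr
      exact Pi1B.FlowSmooth.mem_of_generic (f.asFiber x) h1 _
        (f.fiberToSpecResidueField (f x)).smoothLocus.2 (hd _)
  rcases key with h1 | h1
  · left
    have hx : x ∈ f.smoothLocus := (S2156.result f x).2 ⟨Flat.stalkMap f x, h1⟩
    refine sm_of_mem_smoothLocus f x hx fun n V hV hn => ?_
    exact Models.SmoothCase.relDim_eq_one f V.ι n hn (f x) hdim ((V.ι ≫ f).asFiber ⟨x, hV⟩)
  · exact Or.inr h1

/-- Locality. -/
theorem pt_of_pt_comp {U : Scheme.{u}} (j : U ⟶ X) [IsOpenImmersion j] (f : X ⟶ S)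
    [LocallyOfFiniteType f] (x : U) (h : Pt (j ≫ f) x) : Pt f (j x) := by
  rcases h with ⟨V, hV, h⟩ | h
  · left
    refine ⟨(V.ι ≫ j).opensRange, ⟨⟨x, hV⟩, rfl⟩, ?_⟩
    have h2 : (V.ι ≫ j).opensRange.ι ≫ f = (V.ι ≫ j).isoOpensRange.inv ≫ V.ι ≫ j ≫ f := by
      rw [← Category.assoc V.ι, ← Category.assoc (V.ι ≫ j).isoOpensRange.inv,
        Scheme.Hom.isoOpensRange_inv_comp]
    rw [h2]
    have h3 : SmoothOfRelativeDimension (0 + 1) ((V.ι ≫ j).isoOpensRange.inv ≫ V.ι ≫ j ≫ f) :=
      inferInstance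
    rwa [Nat.zero_add] at h3
  · right
    let s := (j ≫ f) x
    let y := (j ≫ f).asFiber x
    let φ := NodalEtale.fiberMap f j s
    have hφ : f.fiberι s (φ y) = j x := by
      change (φ ≫ f.fiberι s) y = _
      rw [NodalEtale.fiberMap_ι]
      change j ((j ≫ f).fiberι s y) = _
      rw [Scheme.Hom.fiberι_asFiber]
    rw [← isN_iff f (j x) s (φ y) hφ]
    have hlft : LocallyOfFiniteType (f.fiberToSpecResidueField s) :=
      MorphismProperty.pullback_snd _ _ inferInstance
    exact (@NodeEtale.isNode_iff_of_etale (S.residueField s) _ (f.fiber s) ((j ≫ f).fiber s)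
      ⟨f.fiberToSpecResidueField s⟩ ⟨(j ≫ f).fiberToSpecResidueField s⟩ φ
      (NodalEtale.fiberMap_snd f j s) hlft inferInstance y h.1).2 h

/-- Base change. -/
theorem pt_iff_of_isPullback {P S' : Scheme.{u}} {p : P ⟶ X} {q : P ⟶ S'} {f : X ⟶ S} {g : S' ⟶ S}
    (H : IsPullback p q f g) [Flat f] [LocallyOfFinitePresentation f] (y : P) :
    Pt q y ↔ Pt f (p y) := by
  have hlfp : LocallyOfFinitePresentation q := MorphismProperty.of_isPullback H inferInstance
  have hbc : ∀ (n : ℕ) (V : X.Opens), SmoothOfRelativeDimension n (V.ι ≫ f) →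
      SmoothOfRelativeDimension n ((p ⁻¹ᵁ V).ι ≫ q) := by
    intro n V hn
    have h1 := isPullback_morphismRestrict p V
    have h2 := h1.paste_vert H
    have := smoothOfRelativeDimension_isStableUnderBaseChange.{u} n
    exact MorphismProperty.of_isPullback (P := @SmoothOfRelativeDimension.{u} n) h2 hn
  refine or_congr ⟨fun h => ?_, fun ⟨V, hV, h⟩ => ⟨p ⁻¹ᵁ V, hV, hbc 1 V h⟩⟩ ?_
  · have h1 := mem_smoothLocus_of_sm q y h
    rw [Smoothlim.SmoothLocusBC.mem_smoothLocus_iff_of_isPullback H y
      (Or.inl (Flat.stalkMap f (p y)))] at h1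
    refine sm_of_mem_smoothLocus f (p y) h1 fun n V hV hn => ?_
    have h2 := hbc n V hn
    obtain ⟨W, hW, h3⟩ := h
    let T : P.Opens := p ⁻¹ᵁ V ⊓ W
    have hT1 : SmoothOfRelativeDimension n (T.ι ≫ q) := by
      have e : T.ι ≫ q = P.homOfLE (inf_le_left : T ≤ p ⁻¹ᵁ V) ≫ (p ⁻¹ᵁ V).ι ≫ q := by
        rw [← Category.assoc, Scheme.homOfLE_ι]
      rw [e]
      have h5 : SmoothOfRelativeDimension (0 + n)
        (P.homOfLE (inf_le_left : T ≤ p ⁻¹ᵁ V) ≫ (p ⁻¹ᵁ V).ι ≫ q) := inferInstance
      rwa [Nat.zero_add] at h5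
    have hT2 : SmoothOfRelativeDimension 1 (T.ι ≫ q) := by
      have e : T.ι ≫ q = P.homOfLE (inf_le_right : T ≤ W) ≫ W.ι ≫ q := by
        rw [← Category.assoc, Scheme.homOfLE_ι]
      rw [e]
      have h5 : SmoothOfRelativeDimension (0 + 1)
        (P.homOfLE (inf_le_right : T ≤ W) ≫ W.ι ≫ q) := inferInstance
      rwa [Nat.zero_add] at h5
    exact relDim_unique (T.ι ≫ q) ⟨y, ⟨hV, hW⟩⟩ n 1 hT1 hT2
  · have hpb := isPullback_fiberToSpecResidueField_of_isPullback H (q y)
    set φ := pullback.map q (S'.fromSpecResidueField (q y)) f (S.fromSpecResidueField (g (q y))) p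
      (Spec.map (g.residueFieldMap (q y))) g H.w.symm (by simp) with hφ
    have h1 : f.fiberι (g (q y)) (φ (q.asFiber y)) = p y := by
      change (φ ≫ f.fiberι (g (q y))) (q.asFiber y) = _
      have : φ ≫ f.fiberι (g (q y)) = q.fiberι (q y) ≫ p := pullback.lift_fst _ _ _
      rw [this]
      change p (q.fiberι (q y) (q.asFiber y)) = _
      rw [Scheme.Hom.fiberι_asFiber]
    rw [← isN_iff f (p y) (g (q y)) (φ (q.asFiber y)) h1]
    have hlft : LocallyOfFiniteType (f.fiberToSpecResidueField (g (q y))) :=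
      MorphismProperty.pullback_snd _ _ inferInstance
    have hlft' : LocallyOfFiniteType (q.fiberToSpecResidueField (q y)) :=
      MorphismProperty.pullback_snd _ _ inferInstance
    let _ : Algebra (S.residueField (g (q y))) (S'.residueField (q y)) :=
      (g.residueFieldMap (q y)).hom.toAlgebra
    have h2 := @Node.isNode_iff_resFS (S.residueField (g (q y))) _ (f.fiber (g (q y)))
      ⟨f.fiberToSpecResidueField (g (q y))⟩ hlft (φ (q.asFiber y))
    have h3 := @Node.isNode_iff_resFS (S'.residueField (q y)) _ (q.fiber (q y))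
      ⟨q.fiberToSpecResidueField (q y)⟩ hlft' (q.asFiber y)
    have h4 := @Node.resFS_nodeLike_iff (S.residueField (g (q y))) (S'.residueField (q y)) _ _ _
      _ _ φ (f.fiberToSpecResidueField (g (q y))) (q.fiberToSpecResidueField (q y)) hpb hlft
      (q.asFiber y)
    exact (h2.trans (h4.trans h3.symm)).symm

end Nodal

end Groth.Agent.CurvesB.NodalPoint
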