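import Groth.Agent.CurvesB.NodalBase
import Groth.Agent.CurvesB.UnitCoh
import Groth.Agent.FormalB.ModPowAff2
import Groth.Agent.Ega3B.LocFree

/-!
# Assembly for S1596: passage from affine bases to general bases
-/

set_option autoImplicit false

universe u

open CategoryTheory CategoryTheory.Limits AlgebraicGeometry

namespace Groth.Agent.CurvesB.NodalRpush

/-- A quasi-coherent module with finite projective sections over affine opens is finite locally free. -/
theorem isFinLocFree_of_sections {S : Scheme.{u}} (M : S.Modules) (hM : Coh.IsQCoh M)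
    (h : ∀ (V : S.Opens), IsAffineOpen V → Module.Finite Γ(S, V) Γ(M, V) ∧ Module.Projective Γ(S, V) Γ(M, V)) :
    FlatMod.IsFinLocFree M := by
  intro x
  obtain ⟨V, hV, hxV, -⟩ := exists_isAffineOpen_mem_and_subset (x := x) (U := ⊤) trivial
  obtain ⟨h1, h2⟩ := h V hV
  have : Module.FinitePresentation Γ(S, V) Γ(M, V) := Module.finitePresentation_of_projective _ _
  have := hM
  obtain ⟨U, hxU, -, e⟩ := Ega3B.LocFree.exists_restrict_iso_freeMod M hV ⟨x, hxV⟩
  exact ⟨U, _, hxU, e⟩

/-- A quasi-coherent module with zero sections over affine opens is zero. -/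
theorem isZero_of_sections {S : Scheme.{u}} (M : S.Modules) (hM : Coh.IsQCoh M)
    (h : ∀ (V : S.Opens), IsAffineOpen V → Subsingleton Γ(M, V)) : IsZero M := by
  refine FormalB.ModPowAff2.isZero_of_affine_cover hM fun x => ?_
  obtain ⟨V, hV, hxV, -⟩ := exists_isAffineOpen_mem_and_subset (x := x) (U := ⊤) trivial
  have := h V hV
  exact ⟨V, hxV, hV, fun m => Subsingleton.elim _ _⟩

end Groth.Agent.CurvesB.NodalRpush
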