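import Groth.Agent.CurvesB.NodeCriterion
import Mathlib.RingTheory.Smooth.AdicCompletion
import Mathlib.RingTheory.Smooth.Field

/-!
# Completions of node-like local algebras
-/

set_option autoImplicit false

universe u

open CategoryTheory CategoryTheory.Limits AlgebraicGeometry IsLocalRing

namespace Groth.Agent.CurvesB.Node

/-- Let `A` be a Noetherian local `k`-algebra, node-like, with residue field `κ` formally smooth over `k`.  Then the
completion of `A` is `κ[[x, y]]/(q)` for a nondegenerate quadratic form `q`, compatibly with the maps from `k`. -/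
theorem NodeLike.exists_completion_quad_equiv {k A κ : Type*} [Field k] [CommRing A] [IsLocalRing A]
    [IsNoetherianRing A] [Algebra k A] [Field κ] [Algebra k κ] [Algebra.FormallySmooth k κ]
    (π : A →+* κ) (hπ : Function.Surjective π) (hk : ∀ t, π (algebraMap k A t) = algebraMap k κ t)
    (h : NodeLike A) :
    ∃ α β γ : κ, 4 * α * γ - β ^ 2 ≠ 0 ∧
      ∃ e : AdicCompletion (maximalIdeal A) A ≃+*
        (MvPowerSeries (Fin 2) κ ⧸ Ideal.span {quadForm α β γ}),
      ∀ t : k, e (algebraMap A _ (algebraMap k A t)) =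
        Ideal.Quotient.mk _ (MvPowerSeries.C (algebraMap k κ t)) := by
  have hker : RingHom.ker π = maximalIdeal A := eq_maximalIdeal (RingHom.ker_isMaximal_of_surjective _ hπ)
  have hker' : maximalIdeal A ≤ RingHom.ker π := hker.ge
  -- the isomorphism `κ ≃ A / m`
  let φ : κ ≃+* A ⧸ maximalIdeal A :=
    ((Ideal.quotEquivOfEq hker.symm).trans (RingHom.quotientKerEquivOfSurjective hπ)).symm
  have hφ : ∀ a : A, φ (π a) = Ideal.Quotient.mk _ a := by
    intro a
    rw [RingEquiv.symm_apply_eq]
    rfl
  let f : κ →ₐ[k] A ⧸ maximalIdeal A :=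
    { (φ : κ →+* A ⧸ maximalIdeal A) with
      commutes' := fun t => by
        change φ (algebraMap k κ t) = _
        rw [← hk, hφ]
        rfl }
  obtain ⟨g, hg⟩ := Algebra.FormallySmooth.exists_adicCompletionEvalOneₐ_comp_eq f
  have hgc : ∀ c : κ, AdicCompletion.evalOneₐ (maximalIdeal A) (g c) = φ c :=
    fun c => DFunLike.congr_fun hg c
  rw [nodeLike_iff_adicCompletion] at h
  obtain ⟨α, β, γ, hd, e, he⟩ := h.exists_quad_equiv (g : κ →+* AdicCompletion (maximalIdeal A) A) (by
    intro y
    obtain ⟨t, rfl⟩ := residue_surjective y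
    refine ⟨φ.symm (AdicCompletion.evalOneₐ (maximalIdeal A) t), ?_⟩
    change residue _ (g _) = _
    rw [← sub_eq_zero, ← map_sub, residue_eq_zero_iff, mem_maximalIdeal, mem_nonunits_iff]
    intro hu
    have h1 := hu.map (AdicCompletion.evalOneₐ (maximalIdeal A))
    rw [map_sub, hgc, RingEquiv.apply_symm_apply, sub_self] at h1
    exact not_isUnit_zero h1)
  refine ⟨α, β, γ, hd, e, fun t => ?_⟩
  rw [← he]
  change e _ = e (g _)
  rw [g.commutes]
  rfl

end Groth.Agent.CurvesB.Node
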