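import Groth.Agent.CurvesB.NodeRing
import Mathlib.RingTheory.Flat.EquationalCriterion
import Mathlib.RingTheory.Flat.FaithfullyFlat.Algebra
import Mathlib.RingTheory.Flat.TorsionFree

/-!
# Descent of simple socles along faithfully flat maps into the node ring

* `IsNodeRing.exists_socle`: for `f` in the maximal ideal of the node ring, nonzero on both branches, there is `σ ∉ (f)`
  contained in every ideal strictly larger than `(f)`.
* `simpleSocleMod_of_faithfullyFlat`: this property descends to simplicity of the socle of `A/f`.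
-/

namespace Groth.Agent.CurvesB.NodeRing

open IsLocalRing PowerSeries
open Groth.Agent.CurvesB.GorDimOne

universe u

namespace IsNodeRing

variable {K : Type*} {B : Type*} [Field K] [CommRing B] {φ ψ : B →+* K⟦X⟧}

lemma exists_fst' (h : IsNodeRing K B φ ψ) (p : K⟦X⟧) (hp : constantCoeff p = 0) :
    ∃ u : B, φ u = p ∧ ψ u = 0 :=
  h.range _ _ (by simp [hp])

lemma fst_mem_of (h : IsNodeRing K B φ ψ) {f : B} {z : B}
    (hz : ¬ φ f ∣ φ z) {I : Ideal B} (hzI : z ∈ I) {σ : B} (h1 : φ σ = φ f) (h2 : ψ σ = 0) :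
    σ ∈ I := by
  have hz0 : φ z ≠ 0 := fun h0 => hz (h0 ▸ dvd_zero _)
  obtain ⟨n, w, hw, hzw⟩ : ∃ (n : ℕ) (w : K⟦X⟧), constantCoeff w ≠ 0 ∧ φ z = X ^ n * w := by
    refine ⟨(φ z).order.toNat, divXPowOrder (φ z), ?_, ?_⟩
    · rw [constantCoeff_divXPowOrder]
      exact coeff_order hz0
    · exact (X_pow_order_mul_divXPowOrder).symm
  have hdvd : X ^ (n + 1) ∣ φ f := by
    by_cases hf1 : φ f = 0
    · rw [hf1]; exact dvd_zero _
    obtain ⟨m, w', hw', hfw⟩ : ∃ (n : ℕ) (w : K⟦X⟧), constantCoeff w ≠ 0 ∧ φ f = X ^ n * w := by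
      refine ⟨(φ f).order.toNat, divXPowOrder (φ f), ?_, ?_⟩
      · rw [constantCoeff_divXPowOrder]
        exact coeff_order hf1
      · exact (X_pow_order_mul_divXPowOrder).symm
    rcases Nat.lt_or_ge n m with hnm | hnm
    · rw [hfw]
      exact Dvd.dvd.mul_right (pow_dvd_pow X hnm) _
    · exfalso
      apply hz
      rw [hfw, hzw]
      have hw'u : w' * w'⁻¹ = 1 := PowerSeries.mul_inv_cancel _ hw'
      refine ⟨X ^ (n - m) * w'⁻¹ * w, ?_⟩
      calc X ^ n * w = X ^ (m + (n - m)) * (w' * w'⁻¹) * w := by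
            rw [Nat.add_sub_cancel' hnm, hw'u, mul_one]
        _ = _ := by rw [pow_add]; ring
  obtain ⟨q, hq⟩ := hdvd
  obtain ⟨c, hc1, hc2⟩ := h.exists_fst' (X * q * w⁻¹) (by simp)
  have hwu : w * w⁻¹ = 1 := PowerSeries.mul_inv_cancel _ hw
  have : σ = z * c := h.ext
    (by rw [h1, map_mul, hc1, hzw, hq]
        calc X ^ (n + 1) * q = X ^ n * X * q * (w * w⁻¹) := by rw [hwu, mul_one]; ring
          _ = _ := by ring)
    (by rw [h2, map_mul, hc2, mul_zero])
  rw [this]
  exact I.mul_mem_right _ hzI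

/-- For `f` in the maximal ideal, nonzero on both branches, `(f)` has a smallest strict over-ideal. -/
lemma exists_socle (h : IsNodeRing K B φ ψ) {f : B} (hf0 : constantCoeff (φ f) = 0)
    (hf1 : φ f ≠ 0) (hf2 : ψ f ≠ 0) :
    ∃ σ : B, σ ∉ Ideal.span {f} ∧ ∀ I : Ideal B, f ∈ I → ∀ z ∈ I, z ∉ Ideal.span {f} → σ ∈ I := by
  have hf0' : constantCoeff (ψ f) = 0 := by rwa [← h.const]
  obtain ⟨σ, h1, h2⟩ := h.exists_fst' (φ f) hf0
  refine ⟨σ, fun hσ => ?_, fun I hfI z hz hzf => ?_⟩
  · obtain ⟨c, hc⟩ := Ideal.mem_span_singleton'.mp hσ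
    have h3 : ψ c = 0 := by
      have : ψ c * ψ f = 0 := by rw [← map_mul, hc, h2]
      exact (mul_eq_zero.mp this).resolve_right hf2
    have h4 : φ c = 1 := by
      have : φ c * φ f = 1 * φ f := by rw [← map_mul, hc, h1, one_mul]
      exact mul_right_cancel₀ hf1 this
    have := h.const c
    rw [h3, h4, map_one, map_zero] at this
    exact one_ne_zero this
  · by_cases h3 : φ f ∣ φ z
    · by_cases h4 : ψ f ∣ ψ z
      · obtain ⟨p, hp⟩ := h3
        obtain ⟨q, hq⟩ := h4
        set α := constantCoeff p - constantCoeff q with hα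
        have hα0 : α ≠ 0 := by
          intro h0
          apply hzf
          obtain ⟨c, hc1, hc2⟩ := h.range p q (sub_eq_zero.mp h0)
          rw [Ideal.mem_span_singleton']
          exact ⟨c, h.ext (by rw [map_mul, hc1, hp, mul_comm]) (by rw [map_mul, hc2, hq, mul_comm])⟩
        obtain ⟨c, hc1, hc2⟩ := h.range (p - C α) q (by rw [map_sub, constantCoeff_C, hα]; ring)
        obtain ⟨d, hd1, hd2⟩ := h.range (C α⁻¹) (C α⁻¹) rfl
        have hCC : (C α⁻¹ : K⟦X⟧) * C α = 1 := by
          rw [← map_mul, inv_mul_cancel₀ hα0, map_one]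
        have : σ = d * (z - c * f) := h.ext
          (by rw [h1, map_mul, map_sub, map_mul, hc1, hd1, hp]
              calc φ f = (C α⁻¹ * C α) * φ f := by rw [hCC, one_mul]
                _ = _ := by ring)
          (by rw [h2, map_mul, map_sub, map_mul, hc2, hd2, hq]; ring)
        rw [this]
        exact I.mul_mem_left _ (I.sub_mem hz (I.mul_mem_left _ hfI))
      · obtain ⟨τ, h5, h6⟩ := h.symm.exists_fst' (ψ f) hf0'
        have h7 := h.symm.fst_mem_of h4 hz h5 h6
        have : σ = f - τ := h.ext (by rw [map_sub, h1, h6, sub_zero]) (by rw [map_sub, h2, h5, sub_self])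
        rw [this]
        exact I.sub_mem hfI h7
    · exact h.fst_mem_of h3 hz h1 h2

end IsNodeRing

section Descent

variable {A : Type*} {B : Type*} [CommRing A] [CommRing B] [IsLocalRing A] [Algebra A B]

/-- Simplicity of the socle of `A/f` from irreducibility of `f B` along a faithfully flat map. -/
theorem simpleSocleMod_of_faithfullyFlat [Module.FaithfullyFlat A B] {f : A}
    (H : ∃ σ : B, σ ∉ Ideal.span {algebraMap A B f} ∧ ∀ I : Ideal B, algebraMap A B f ∈ I →
      ∀ z ∈ I, z ∉ Ideal.span {algebraMap A B f} → σ ∈ I) :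
    SimpleSocleMod f := by
  intro x y hx hy
  by_contra hcon
  push Not at hcon
  obtain ⟨hxf, hxy⟩ := hcon
  have hyf : y ∉ Ideal.span {f} := by
    intro h0
    exact hxy 0 (by simpa using h0)
  have hdesc : ∀ z : A, z ∉ Ideal.span {f} → algebraMap A B z ∉ Ideal.span {algebraMap A B f} := by
    intro z hz hz'
    apply hz
    rw [← Set.image_singleton, ← Ideal.map_span] at hz'
    rwa [← Ideal.mem_comap, Ideal.comap_map_eq_self_of_faithfullyFlat] at hz'
  obtain ⟨σ, hσ, hmin⟩ := H
  have h1 : σ ∈ Ideal.span {algebraMap A B x, algebraMap A B f} :=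
    hmin _ (Ideal.subset_span (by simp)) _ (Ideal.subset_span (by simp)) (hdesc x hxf)
  have h2 : σ ∈ Ideal.span {algebraMap A B y, algebraMap A B f} :=
    hmin _ (Ideal.subset_span (by simp)) _ (Ideal.subset_span (by simp)) (hdesc y hyf)
  obtain ⟨b, b', hb⟩ := Ideal.mem_span_pair.mp h1
  obtain ⟨c, c', hc⟩ := Ideal.mem_span_pair.mp h2
  have hrel : ∑ i, (![x, y, f] : Fin 3 → A) i • (![b, -c, b' - c'] : Fin 3 → B) i = 0 := by
    simp only [Fin.sum_univ_three, Algebra.smul_def]
    simp only [Matrix.cons_val_zero, Matrix.cons_val_one, Matrix.cons_val]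
    linear_combination hb - hc
  obtain ⟨k, a, w, haw, haf⟩ := Module.Flat.isTrivialRelation_of_sum_smul_eq_zero hrel
  by_cases hunit : ∃ j, IsUnit (a 1 j)
  · obtain ⟨j, u, hu⟩ := hunit
    have h3 := haf j
    simp only [Fin.sum_univ_three, Matrix.cons_val_zero, Matrix.cons_val_one, Matrix.cons_val] at h3
    apply hxy (-(↑u⁻¹ * a 0 j))
    rw [Ideal.mem_span_singleton']
    refine ⟨-(↑u⁻¹ * a 2 j), ?_⟩
    rw [← hu] at h3
    have h4 : (↑u⁻¹ : A) * ↑u = 1 := Units.inv_mul u
    linear_combination (-(↑u⁻¹ : A)) * h3 + y * h4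
  · push Not at hunit
    -- then `c ∈ m_A B` so `σ ∈ f B`
    have hcm : ∀ j, a 1 j * y ∈ Ideal.span {f} := fun j =>
      hy _ ((IsLocalRing.mem_maximalIdeal _).mpr (hunit j))
    have h3 : -c = ∑ j, a 1 j • w j := by simpa using haw 1
    apply hσ
    rw [← hc]
    refine Ideal.add_mem _ ?_ (Ideal.mul_mem_left _ _ (Ideal.mem_span_singleton_self _))
    have h4 : c * algebraMap A B y = -∑ j, w j * algebraMap A B (a 1 j * y) := by
      rw [← neg_neg c, h3, neg_mul, Finset.sum_mul]
      congr 1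
      refine Finset.sum_congr rfl fun j _ => ?_
      rw [Algebra.smul_def, map_mul]; ring
    rw [h4]
    refine Submodule.neg_mem _ (Submodule.sum_mem _ fun j _ => Ideal.mul_mem_left _ _ ?_)
    rw [← Set.image_singleton, ← Ideal.map_span]
    exact Ideal.mem_map_of_mem _ (hcm j)

/-- A Noetherian local ring of dimension at most one with a flat local homomorphism to the node ring is
Gorenstein. -/
theorem isGorensteinLocalRing_of_flat {K : Type*} [Field K] {A : Type u} {B : Type*} [CommRing A]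
    [CommRing B] [IsLocalRing A] [IsNoetherianRing A] [Ring.KrullDimLE 1 A] [Algebra A B]
    [Module.FaithfullyFlat A B] {φ ψ : B →+* K⟦X⟧} (h : IsNodeRing K B φ ψ)
    {f : A} (hfm : f ∈ maximalIdeal A) (hf : f ∈ nonZeroDivisors A) :
    LocCoh.IsGorensteinLocalRing A := by
  have hinj : Function.Injective (algebraMap A B) := FaithfulSMul.algebraMap_injective A B
  have : IsReduced B := h.isReduced
  have : IsReduced A := isReduced_of_injective (algebraMap A B) hinj
  have hfB : algebraMap A B f ∈ nonZeroDivisors B := by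
    rw [mem_nonZeroDivisors_iff_left]
    intro x hx
    have h1 : IsSMulRegular B f := Module.Flat.isSMulRegular_of_nonZeroDivisors hf
    exact h1.right_eq_zero_of_smul (by rw [Algebra.smul_def]; exact hx)
  have hf0 : constantCoeff (φ (algebraMap A B f)) = 0 := by
    by_contra hcon
    have h1 := (h.isUnit_iff _).mpr hcon
    have h2 : (Ideal.span {f}).map (algebraMap A B) = ⊤ := by
      rw [Ideal.map_span, Set.image_singleton, Ideal.span_singleton_eq_top]
      exact h1
    have h3 : Ideal.span {f} = ⊤ := by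
      rw [← Ideal.comap_map_eq_self_of_faithfullyFlat (B := B) (Ideal.span {f}), h2, Ideal.comap_top]
    rw [Ideal.span_singleton_eq_top] at h3
    exact hfm h3
  exact isGorensteinLocalRing_of_simpleSocleMod hfm hf (simpleSocleMod_of_faithfullyFlat
    (h.exists_socle hf0 (h.ne_zero_left hfB) (h.symm.ne_zero_left hfB)))

end Descent

end Groth.Agent.CurvesB.NodeRing
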