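import Groth.Agent.CurvesB.NodeLike
import Mathlib.RingTheory.AdicCompletion.Basic
import Mathlib.RingTheory.Filtration
import Mathlib.FieldTheory.IsAlgClosed.Basic

/-!
# Node-like rings: powers of the maximal ideal, injectivity criterion, Newton iteration

* `exists_left_unit`: change of generators making the first coefficient of a quadratic relation a unit.
* `exists_pair_pow`: all powers of the maximal ideal are generated by two elements.
* `injective_of_not_principal`: a surjection `S → T` of local rings is injective when all the powers of `m_S` are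
  two-generated and no power of `m_T` is principal.
* `exists_newton`: in a complete local ring, an approximate nondegenerate quadratic relation can be made exact.
-/

set_option autoImplicit false

namespace Groth.Agent.CurvesB.Node

open IsLocalRing

section Pairs

variable {S : Type*} [CommRing S]

theorem span_pair_eq_of {a b a' b' : S} (h1 : a' ∈ Ideal.span {a, b}) (h2 : b' ∈ Ideal.span {a, b})
    (h3 : a ∈ Ideal.span {a', b'}) (h4 : b ∈ Ideal.span {a', b'}) :
    (Ideal.span {a', b'} : Ideal S) = Ideal.span {a, b} := by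
  apply le_antisymm
  · refine Ideal.span_le.mpr ?_
    rintro z (rfl | rfl)
    exacts [h1, h2]
  · refine Ideal.span_le.mpr ?_
    rintro z (rfl | rfl)
    exacts [h3, h4]

/-- If `α a² + β a b + γ b² = 0` with `α` a unit, the powers of `(a, b)` are generated by `a bⁿ, bⁿ⁺¹`. -/
theorem pow_succ_eq_span_of_isUnit_left {a b α β γ : S} (hα : IsUnit α)
    (h : α * a ^ 2 + β * a * b + γ * b ^ 2 = 0) (n : ℕ) :
    (Ideal.span {a, b} : Ideal S) ^ (n + 1) = Ideal.span {a * b ^ n, b ^ (n + 1)} := by
  obtain ⟨s, hs⟩ := hα.exists_left_inv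
  induction n with
  | zero => simp
  | succ n ih =>
    rw [pow_succ, ih, Ideal.span_pair_mul_span_pair]
    apply le_antisymm
    · refine Ideal.span_le.mpr ?_
      rintro z (rfl | rfl | rfl | rfl)
      · refine Ideal.mem_span_pair.mpr ⟨-s * β, -s * γ, ?_⟩
        linear_combination (-s * b ^ n) * h + a ^ 2 * b ^ n * hs
      · exact Ideal.mem_span_pair.mpr ⟨1, 0, by ring⟩
      · exact Ideal.mem_span_pair.mpr ⟨1, 0, by ring⟩
      · exact Ideal.mem_span_pair.mpr ⟨0, 1, by ring⟩
    · refine Ideal.span_le.mpr ?_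
      rintro z (rfl | rfl)
      · have : a * b ^ (n + 1) = a * b ^ n * b := by ring
        rw [this]
        exact Ideal.subset_span (by simp)
      · have : b ^ (n + 1 + 1) = b ^ (n + 1) * b := by ring
        rw [this]
        exact Ideal.subset_span (by simp)

/-- Change of generators making the first coefficient a unit, without changing the discriminant. -/
theorem exists_left_unit [IsLocalRing S] {a b α β γ : S} (hu : IsUnit α ∨ IsUnit β ∨ IsUnit γ)
    (h : α * a ^ 2 + β * a * b + γ * b ^ 2 = 0) :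
    ∃ a' b' α' β' γ' : S, (Ideal.span {a', b'} : Ideal S) = Ideal.span {a, b} ∧ IsUnit α' ∧
      α' * a' ^ 2 + β' * a' * b' + γ' * b' ^ 2 = 0 ∧
      4 * α' * γ' - β' ^ 2 = 4 * α * γ - β ^ 2 := by
  by_cases hα : IsUnit α
  · exact ⟨a, b, α, β, γ, rfl, hα, h, rfl⟩
  by_cases hγ : IsUnit γ
  · exact ⟨b, a, γ, β, α, by rw [Set.pair_comm], hγ, by linear_combination h, by ring⟩
  have hβ : IsUnit β := by tauto
  refine ⟨b, a + b, α - β + γ, β - 2 * α, α, ?_, ?_, ?_, by ring⟩
  · apply span_pair_eq_of
    · exact Ideal.subset_span (by simp)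
    · exact Ideal.mem_span_pair.mpr ⟨1, 1, by ring⟩
    · exact Ideal.mem_span_pair.mpr ⟨-1, 1, by ring⟩
    · exact Ideal.subset_span (by simp)
  · have hα' : α ∈ maximalIdeal S := hα
    have hγ' : γ ∈ maximalIdeal S := hγ
    by_contra hcon
    have hcon' : α - β + γ ∈ maximalIdeal S := hcon
    have : β ∈ maximalIdeal S := by
      have e : β = α + γ - (α - β + γ) := by ring
      rw [e]
      exact Ideal.sub_mem _ (Ideal.add_mem _ hα' hγ') hcon'
    exact this hβ
  · linear_combination h

/-- All positive powers of `(a, b)` are generated by two elements if there is a quadratic relation with a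
unit coefficient. -/
theorem exists_pair_pow [IsLocalRing S] {a b α β γ : S} (hu : IsUnit α ∨ IsUnit β ∨ IsUnit γ)
    (h : α * a ^ 2 + β * a * b + γ * b ^ 2 = 0) {n : ℕ} (hn : 1 ≤ n) :
    ∃ c d : S, (Ideal.span {a, b} : Ideal S) ^ n = Ideal.span {c, d} := by
  obtain ⟨a', b', α', β', γ', hs, hα, hr, -⟩ := exists_left_unit hu h
  obtain ⟨k, rfl⟩ := Nat.exists_eq_add_of_le' hn
  rw [← hs]
  exact ⟨_, _, pow_succ_eq_span_of_isUnit_left hα hr k⟩

/-- Normal form of a node-like ring. -/
theorem NodeLike.exists_monic [IsLocalRing S] (hS : NodeLike S) :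
    ∃ a b β γ : S, maximalIdeal S = Ideal.span {a, b} ∧ IsUnit (4 * γ - β ^ 2) ∧
      a ^ 2 + β * a * b + γ * b ^ 2 = 0 := by
  obtain ⟨⟨a, b, α, β, γ, hm, hd, hr⟩, -⟩ := hS
  obtain ⟨a', b', α', β', γ', hs, hα, hr', hd'⟩ := exists_left_unit (isUnit_or_of_disc hd) hr
  obtain ⟨s, hs'⟩ := hα.exists_left_inv
  refine ⟨a', b', s * β', s * γ', by rw [hm, hs], ?_, ?_⟩
  · have hsu : IsUnit s := IsUnit.of_mul_eq_one _ hs'
    have e : 4 * (s * γ') - (s * β') ^ 2 = s ^ 2 * (4 * α * γ - β ^ 2) := by
      rw [← hd']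
      linear_combination (-4 * s * γ') * hs'
    rw [e]
    exact (hsu.pow 2).mul hd
  · linear_combination s * hr' - a' ^ 2 * hs'

end Pairs

section Injective

variable {S T : Type*} [CommRing S] [IsLocalRing S] [CommRing T] [IsLocalRing T]

theorem map_maximalIdeal_of_surjective (φ : S →+* T) (hφ : Function.Surjective φ) :
    (maximalIdeal S).map φ = maximalIdeal T := by
  have h1 : (maximalIdeal T).comap φ = maximalIdeal S := by
    have : ((maximalIdeal T).comap φ).IsMaximal := Ideal.comap_isMaximal_of_surjective φ hφ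
    exact eq_maximalIdeal this
  rw [← h1, Ideal.map_comap_of_surjective φ hφ]

/-- A surjection `S → T` of local rings is injective if the powers of `m_S` are two-generated, intersect in zero,
and no positive power of `m_T` is principal. -/
theorem injective_of_not_principal (φ : S →+* T) (hφ : Function.Surjective φ)
    (hS : ⨅ n : ℕ, (maximalIdeal S) ^ n = ⊥)
    (h2 : ∀ n : ℕ, 1 ≤ n → ∃ c d : S, (maximalIdeal S) ^ n = Ideal.span {c, d})
    (hT : ∀ n : ℕ, 1 ≤ n → ¬ ((maximalIdeal T) ^ n).IsPrincipal) : Function.Injective φ := by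
  rw [injective_iff_map_eq_zero]
  intro f hf
  by_contra hne
  have hex : ∃ n : ℕ, f ∉ (maximalIdeal S) ^ n := by
    by_contra hcon
    push Not at hcon
    apply hne
    have : f ∈ ⨅ n : ℕ, (maximalIdeal S) ^ n := by
      rw [Ideal.mem_iInf]; exact hcon
    rw [hS] at this
    exact this
  classical
  set N := Nat.find hex with hN
  have hN1 : f ∉ (maximalIdeal S) ^ N := Nat.find_spec hex
  have hN0 : N ≠ 0 := by
    intro h0
    rw [h0] at hN1
    simp at hN1
  obtain ⟨n, hn⟩ := Nat.exists_eq_succ_of_ne_zero hN0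
  have hfn : f ∈ (maximalIdeal S) ^ n := by
    by_contra hcon
    have := Nat.find_min' hex hcon
    omega
  rw [hn] at hN1
  have hn1 : 1 ≤ n := by
    by_contra hcon
    have : n = 0 := by omega
    subst this
    have hu : IsUnit f := by
      by_contra hu
      exact hN1 (by simpa using hu)
    have := hu.map φ
    rw [hf] at this
    exact not_isUnit_zero this
  obtain ⟨c, d, hcd⟩ := h2 n hn1
  have hfcd := hfn
  rw [hcd] at hfcd
  obtain ⟨x, y, hxy⟩ := Ideal.mem_span_pair.mp hfcd
  have hc : c ∈ maximalIdeal S ^ n := by rw [hcd]; exact Ideal.subset_span (by simp)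
  have hd : d ∈ maximalIdeal S ^ n := by rw [hcd]; exact Ideal.subset_span (by simp)
  have hmap : (maximalIdeal T) ^ n = Ideal.span {φ c, φ d} := by
    rw [← map_maximalIdeal_of_surjective φ hφ, ← Ideal.map_pow, hcd, Ideal.map_span, Set.image_pair]
  have hφ0 : φ x * φ c + φ y * φ d = 0 := by
    rw [← map_mul, ← map_mul, ← map_add, hxy, hf]
  by_cases hx : IsUnit x
  · obtain ⟨s, hs⟩ := (hx.map φ).exists_left_inv
    apply hT n hn1
    refine ⟨φ d, ?_⟩
    rw [hmap]
    refine le_antisymm (Ideal.span_le.mpr ?_) (Ideal.span_mono (by simp))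
    rintro z (rfl | rfl)
    · exact Ideal.mem_span_singleton'.mpr ⟨- s * φ y, by linear_combination (-s) * hφ0 + φ c * hs⟩
    · exact Ideal.subset_span (by simp)
  by_cases hy : IsUnit y
  · obtain ⟨s, hs⟩ := (hy.map φ).exists_left_inv
    apply hT n hn1
    refine ⟨φ c, ?_⟩
    rw [hmap]
    refine le_antisymm (Ideal.span_le.mpr ?_) (Ideal.span_mono (by simp))
    rintro z (rfl | rfl)
    · exact Ideal.subset_span (by simp)
    · exact Ideal.mem_span_singleton'.mpr ⟨- s * φ x, by linear_combination (-s) * hφ0 + φ d * hs⟩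
  apply hN1
  rw [← hxy, Nat.succ_eq_add_one, pow_succ']
  exact Ideal.add_mem _ (Ideal.mul_mem_mul hx hc) (Ideal.mul_mem_mul hy hd)

end Injective

section Newton

variable {T : Type*} [CommRing T] [IsLocalRing T]

theorem newton_step {x y β γ : T} (hm : maximalIdeal T = Ideal.span {x, y})
    (hd : IsUnit (4 * γ - β ^ 2)) {n : ℕ}
    (h : x ^ 2 + β * x * y + γ * y ^ 2 ∈ maximalIdeal T ^ (n + 3)) :
    ∃ x' y' : T, x' - x ∈ maximalIdeal T ^ (n + 2) ∧ y' - y ∈ maximalIdeal T ^ (n + 2) ∧
      maximalIdeal T = Ideal.span {x', y'} ∧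
      x' ^ 2 + β * x' * y' + γ * y' ^ 2 ∈ maximalIdeal T ^ (n + 4) := by
  obtain ⟨s, hs⟩ := hd.exists_left_inv
  have hq : (Ideal.span {2 * x + β * y, β * x + 2 * γ * y} : Ideal T) = Ideal.span {x, y} := by
    apply span_pair_eq_of
    · exact Ideal.mem_span_pair.mpr ⟨2, β, by ring⟩
    · exact Ideal.mem_span_pair.mpr ⟨β, 2 * γ, by ring⟩
    · exact Ideal.mem_span_pair.mpr ⟨s * 2 * γ, - s * β, by linear_combination x * hs⟩
    · exact Ideal.mem_span_pair.mpr ⟨- s * β, s * 2, by linear_combination y * hs⟩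
  have h' : -(x ^ 2 + β * x * y + γ * y ^ 2) ∈
      maximalIdeal T ^ (n + 2) * Ideal.span {2 * x + β * y, β * x + 2 * γ * y} := by
    rw [hq, ← hm, ← pow_succ]
    exact Ideal.neg_mem_iff _ |>.mpr h
  rw [Ideal.span_insert, Ideal.mul_sup] at h'
  obtain ⟨u, hu, v, hv, huv⟩ := Submodule.mem_sup.mp h'
  obtain ⟨δ, hδ, rfl⟩ := Ideal.mem_mul_span_singleton.mp hu
  obtain ⟨ε, hε, rfl⟩ := Ideal.mem_mul_span_singleton.mp hv
  have hle2 : maximalIdeal T ^ (n + 2) ≤ maximalIdeal T ^ 2 := Ideal.pow_le_pow_right (by omega)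
  refine ⟨x + δ, y + ε, by simpa using hδ, by simpa using hε, ?_, ?_⟩
  · have hle : maximalIdeal T ≤ Ideal.span {x + δ, y + ε} := by
      refine Submodule.le_of_le_smul_of_le_jacobson_bot (I := maximalIdeal T) ?_
        (IsLocalRing.maximalIdeal_le_jacobson _) ?_
      · rw [hm]; exact Submodule.fg_span (Set.toFinite _)
      · conv_lhs => rw [hm]
        refine Ideal.span_le.mpr ?_
        have hsmul : maximalIdeal T • maximalIdeal T = maximalIdeal T ^ 2 := by
          rw [smul_eq_mul, pow_two]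
        rw [hsmul]
        rintro z (rfl | rfl)
        · have : z = (z + δ) + (-δ) := by ring
          rw [SetLike.mem_coe, this]
          exact Submodule.add_mem_sup (Ideal.subset_span (by simp))
            (Ideal.neg_mem_iff _ |>.mpr (hle2 hδ))
        · have : z = (z + ε) + (-ε) := by ring
          rw [SetLike.mem_coe, this]
          exact Submodule.add_mem_sup (Ideal.subset_span (by simp))
            (Ideal.neg_mem_iff _ |>.mpr (hle2 hε))
    refine le_antisymm hle (Ideal.span_le.mpr ?_)
    have hle1 : maximalIdeal T ^ (n + 2) ≤ maximalIdeal T := Ideal.pow_le_self (by omega)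
    have hx : x ∈ maximalIdeal T := by rw [hm]; exact Ideal.subset_span (by simp)
    have hy : y ∈ maximalIdeal T := by rw [hm]; exact Ideal.subset_span (by simp)
    rintro z (rfl | rfl)
    · exact Ideal.add_mem _ hx (hle1 hδ)
    · exact Ideal.add_mem _ hy (hle1 hε)
  · have e : (x + δ) ^ 2 + β * (x + δ) * (y + ε) + γ * (y + ε) ^ 2 =
        δ * δ + β * (δ * ε) + γ * (ε * ε) := by
      linear_combination huv
    rw [e]
    have hle4 : maximalIdeal T ^ (n + 2) * maximalIdeal T ^ (n + 2) ≤ maximalIdeal T ^ (n + 4) := by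
      rw [← pow_add]
      exact Ideal.pow_le_pow_right (by omega)
    refine Ideal.add_mem _ (Ideal.add_mem _ ?_ ?_) ?_
    · exact hle4 (Ideal.mul_mem_mul hδ hδ)
    · exact Ideal.mul_mem_left _ _ (hle4 (Ideal.mul_mem_mul hδ hε))
    · exact Ideal.mul_mem_left _ _ (hle4 (Ideal.mul_mem_mul hε hε))

/-- In a complete local ring, an approximate nondegenerate quadratic relation between generators of the maximal
ideal can be made exact by changing the generators. -/
theorem exists_newton [IsAdicComplete (maximalIdeal T) T] {a b β γ : T}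
    (hm : maximalIdeal T = Ideal.span {a, b}) (hd : IsUnit (4 * γ - β ^ 2))
    (h : a ^ 2 + β * a * b + γ * b ^ 2 ∈ maximalIdeal T ^ 3) :
    ∃ a' b' : T, maximalIdeal T = Ideal.span {a', b'} ∧ a' - a ∈ maximalIdeal T ^ 2 ∧
      b' - b ∈ maximalIdeal T ^ 2 ∧ a' ^ 2 + β * a' * b' + γ * b' ^ 2 = 0 := by
  let P : ℕ → T × T → Prop := fun n p => maximalIdeal T = Ideal.span {p.1, p.2} ∧
    p.1 ^ 2 + β * p.1 * p.2 + γ * p.2 ^ 2 ∈ maximalIdeal T ^ (n + 3)
  have step : ∀ (n : ℕ) (p : T × T), P n p → ∃ p' : T × T, P (n + 1) p' ∧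
      p'.1 - p.1 ∈ maximalIdeal T ^ (n + 2) ∧ p'.2 - p.2 ∈ maximalIdeal T ^ (n + 2) := by
    rintro n p ⟨h1, h2⟩
    obtain ⟨x', y', hx, hy, hm', hq⟩ := newton_step h1 hd h2
    exact ⟨(x', y'), ⟨hm', hq⟩, hx, hy⟩
  have : Nonempty (T × T) := ⟨(a, b)⟩
  choose! next hnext hnext1 hnext2 using step
  let s : ℕ → T × T := fun n => Nat.rec (a, b) (fun n p => next n p) n
  have hs0 : s 0 = (a, b) := rfl
  have hsS : ∀ n, s (n + 1) = next n (s n) := fun n => rfl
  have hP : ∀ n, P n (s n) := by
    intro n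
    induction n with
    | zero => exact ⟨hm, h⟩
    | succ n ih => rw [hsS]; exact hnext n (s n) ih
  have hd1 : ∀ n, (s (n + 1)).1 - (s n).1 ∈ maximalIdeal T ^ (n + 2) := fun n => hnext1 n _ (hP n)
  have hd2 : ∀ n, (s (n + 1)).2 - (s n).2 ∈ maximalIdeal T ^ (n + 2) := fun n => hnext2 n _ (hP n)
  have cauchy : ∀ (t : ℕ → T), (∀ n, t (n + 1) - t n ∈ maximalIdeal T ^ (n + 2)) →
      ∀ k n, k ≤ n → t n - t k ∈ maximalIdeal T ^ (k + 2) := by
    intro t ht k n hkn
    induction n, hkn using Nat.le_induction with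
    | base => simp
    | succ n hkn ih =>
      have e : t (n + 1) - t k = (t (n + 1) - t n) + (t n - t k) := by ring
      rw [e]
      exact Ideal.add_mem _ (Ideal.pow_le_pow_right (by omega) (ht n)) ih
  have lim : ∀ (t : ℕ → T), (∀ n, t (n + 1) - t n ∈ maximalIdeal T ^ (n + 2)) →
      ∃ L : T, ∀ n, L - t n ∈ maximalIdeal T ^ n := by
    intro t ht
    obtain ⟨L, hL⟩ := IsPrecomplete.prec (I := maximalIdeal T) (M := T) inferInstance (f := t) (by
      intro k n hkn
      rw [SModEq.sub_mem, smul_eq_mul, Ideal.mul_top]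
      have := cauchy t ht k n hkn
      have h2 := Ideal.pow_le_pow_right (I := maximalIdeal T) (show k ≤ k + 2 by omega) this
      rw [← neg_sub]
      exact Ideal.neg_mem_iff _ |>.mpr h2)
    refine ⟨L, fun n => ?_⟩
    have := hL n
    rw [SModEq.sub_mem, smul_eq_mul, Ideal.mul_top] at this
    rw [← neg_sub]
    exact Ideal.neg_mem_iff _ |>.mpr this
  obtain ⟨a', ha'⟩ := lim (fun n => (s n).1) hd1
  obtain ⟨b', hb'⟩ := lim (fun n => (s n).2) hd2
  have haa : a' - a ∈ maximalIdeal T ^ 2 := by
    have e : a' - a = (a' - (s 2).1) + ((s 2).1 - (s 0).1) := by rw [hs0]; ring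
    rw [e]
    exact Ideal.add_mem _ (ha' 2) (by simpa using cauchy (fun n => (s n).1) hd1 0 2 (by norm_num))
  have hbb : b' - b ∈ maximalIdeal T ^ 2 := by
    have e : b' - b = (b' - (s 2).2) + ((s 2).2 - (s 0).2) := by rw [hs0]; ring
    rw [e]
    exact Ideal.add_mem _ (hb' 2) (by simpa using cauchy (fun n => (s n).2) hd2 0 2 (by norm_num))
  have ha : a ∈ maximalIdeal T := by rw [hm]; exact Ideal.subset_span (by simp)
  have hb : b ∈ maximalIdeal T := by rw [hm]; exact Ideal.subset_span (by simp)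
  refine ⟨a', b', ?_, haa, hbb, ?_⟩
  · have hle : maximalIdeal T ≤ Ideal.span {a', b'} := by
      refine Submodule.le_of_le_smul_of_le_jacobson_bot (I := maximalIdeal T) ?_
        (IsLocalRing.maximalIdeal_le_jacobson _) ?_
      · rw [hm]; exact Submodule.fg_span (Set.toFinite _)
      · conv_lhs => rw [hm]
        refine Ideal.span_le.mpr ?_
        have hsmul : maximalIdeal T • maximalIdeal T = maximalIdeal T ^ 2 := by
          rw [smul_eq_mul, pow_two]
        rw [hsmul]
        rintro z (rfl | rfl)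
        · have : z = a' + (-(a' - z)) := by ring
          rw [SetLike.mem_coe, this]
          exact Submodule.add_mem_sup (Ideal.subset_span (by simp))
            (Ideal.neg_mem_iff _ |>.mpr haa)
        · have : z = b' + (-(b' - z)) := by ring
          rw [SetLike.mem_coe, this]
          exact Submodule.add_mem_sup (Ideal.subset_span (by simp))
            (Ideal.neg_mem_iff _ |>.mpr hbb)
    refine le_antisymm hle (Ideal.span_le.mpr ?_)
    have hle1 : maximalIdeal T ^ 2 ≤ maximalIdeal T := Ideal.pow_le_self (by omega)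
    rintro z (rfl | rfl)
    · have : z = a + (z - a) := by ring
      rw [this]
      exact Ideal.add_mem _ ha (hle1 haa)
    · have : z = b + (z - b) := by ring
      rw [this]
      exact Ideal.add_mem _ hb (hle1 hbb)
  · rw [IsHausdorff.eq_iff_smodEq (I := maximalIdeal T)]
    intro n
    rw [SModEq.sub_mem, smul_eq_mul, Ideal.mul_top, sub_zero]
    have e : a' ^ 2 + β * a' * b' + γ * b' ^ 2 =
        ((s n).1 ^ 2 + β * (s n).1 * (s n).2 + γ * (s n).2 ^ 2) +
        ((a' - (s n).1) * (a' + (s n).1 + β * b') + (b' - (s n).2) * (β * (s n).1 + γ * (b' + (s n).2))) := by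
      ring
    rw [e]
    refine Ideal.add_mem _ (Ideal.pow_le_pow_right (by omega) (hP n).2) ?_
    exact Ideal.add_mem _ (Ideal.mul_mem_right _ _ (ha' n)) (Ideal.mul_mem_right _ _ (hb' n))

end Newton

end Groth.Agent.CurvesB.Node
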