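import Mathlib.RingTheory.MvPowerSeries.Basic
import Mathlib.RingTheory.PowerSeries.Basic
import Mathlib.RingTheory.PowerSeries.Inverse
import Mathlib.RingTheory.PowerSeries.Order
import Groth.Agent.CurvesB.GorDimOne

/-!
# The ring `K[[u,v]]/(uv)` as the fibre product of two copies of `K[[X]]` over `K`

`IsNodeRing K B φ ψ`: the pair `(φ, ψ) : B → K⟦X⟧ × K⟦X⟧` is injective with image the pairs of power series with
the same constant coefficient.
-/

namespace Groth.Agent.CurvesB.NodeRing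

open IsLocalRing PowerSeries
open Groth.Agent.CurvesB.GorDimOne

universe u

/-- `B` is, via `(φ, ψ)`, the fibre product of two copies of `K⟦X⟧` over `K`. -/
structure IsNodeRing (K : Type*) (B : Type*) [Field K] [CommRing B] (φ ψ : B →+* K⟦X⟧) : Prop where
  inj : ∀ b, φ b = 0 → ψ b = 0 → b = 0
  range : ∀ a b : K⟦X⟧, constantCoeff a = constantCoeff b → ∃ c, φ c = a ∧ ψ c = b
  const : ∀ c, constantCoeff (φ c) = constantCoeff (ψ c)

namespace IsNodeRing

variable {K : Type*} {B : Type*} [Field K] [CommRing B] {φ ψ : B →+* K⟦X⟧}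

lemma symm (h : IsNodeRing K B φ ψ) : IsNodeRing K B ψ φ where
  inj b h1 h2 := h.inj b h2 h1
  range a b hab := by
    obtain ⟨c, h1, h2⟩ := h.range b a hab.symm
    exact ⟨c, h2, h1⟩
  const c := (h.const c).symm

lemma ext (h : IsNodeRing K B φ ψ) {a b : B} (h1 : φ a = φ b) (h2 : ψ a = ψ b) : a = b := by
  rw [← sub_eq_zero]
  exact h.inj _ (by rw [map_sub, h1, sub_self]) (by rw [map_sub, h2, sub_self])

lemma surjective_left (h : IsNodeRing K B φ ψ) : Function.Surjective φ := fun a => by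
  obtain ⟨c, hc, _⟩ := h.range a (PowerSeries.C (constantCoeff a)) (by simp)
  exact ⟨c, hc⟩

lemma surjective_right (h : IsNodeRing K B φ ψ) : Function.Surjective ψ := h.symm.surjective_left

lemma isReduced (h : IsNodeRing K B φ ψ) : IsReduced B := by
  refine ⟨fun x hx => ?_⟩
  exact h.inj x (hx.map φ).eq_zero (hx.map ψ).eq_zero

lemma isUnit_iff (h : IsNodeRing K B φ ψ) (b : B) : IsUnit b ↔ constantCoeff (φ b) ≠ 0 := by
  constructor
  · intro hb
    exact ((hb.map φ).map (constantCoeff (R := K))).ne_zero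
  · intro hb
    have hb' : constantCoeff (ψ b) ≠ 0 := by rwa [← h.const]
    obtain ⟨c, h1, h2⟩ := h.range (φ b)⁻¹ (ψ b)⁻¹ (by
      rw [PowerSeries.constantCoeff_inv, PowerSeries.constantCoeff_inv, h.const])
    refine IsUnit.of_mul_eq_one c (h.ext ?_ ?_)
    · rw [map_mul, h1, map_one, PowerSeries.mul_inv_cancel _ hb]
    · rw [map_mul, h2, map_one, PowerSeries.mul_inv_cancel _ hb']

lemma mem_maximalIdeal_iff [IsLocalRing B] (h : IsNodeRing K B φ ψ) (b : B) :
    b ∈ maximalIdeal B ↔ constantCoeff (φ b) = 0 := by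
  rw [IsLocalRing.mem_maximalIdeal, mem_nonunits_iff, h.isUnit_iff, not_not]

lemma isLocalRing (h : IsNodeRing K B φ ψ) : IsLocalRing B := by
  have : Nontrivial B := by
    obtain ⟨c, h1, h2⟩ := h.range 1 1 rfl
    refine ⟨0, c, fun h0 => ?_⟩
    rw [← h0, map_zero] at h1
    exact zero_ne_one h1
  refine IsLocalRing.of_nonunits_add fun a b ha hb => ?_
  rw [mem_nonunits_iff, h.isUnit_iff, not_not] at ha hb ⊢
  rw [map_add, map_add, ha, hb, add_zero]

/-- The first branch parameter. -/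
lemma exists_fst (h : IsNodeRing K B φ ψ) (n : ℕ) : ∃ u : B, φ u = X ^ (n + 1) ∧ ψ u = 0 :=
  h.range _ _ (by simp)

lemma ne_zero_left (h : IsNodeRing K B φ ψ) {f : B} (hf : f ∈ nonZeroDivisors B) : φ f ≠ 0 := by
  intro h0
  obtain ⟨u, hu1, hu2⟩ := h.exists_fst 0
  have : f * u = 0 := h.inj _ (by rw [map_mul, h0, zero_mul]) (by rw [map_mul, hu2, mul_zero])
  have hu : u = 0 := (mem_nonZeroDivisors_iff.mp hf).1 _ this
  rw [hu, map_zero] at hu1
  exact (pow_ne_zero 1 (X_ne_zero (R := K))) hu1.symm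

lemma mem_nonZeroDivisors (h : IsNodeRing K B φ ψ) {f : B} (h1 : φ f ≠ 0) (h2 : ψ f ≠ 0) :
    f ∈ nonZeroDivisors B := by
  rw [mem_nonZeroDivisors_iff_left]
  intro x hx
  refine h.inj x ?_ ?_
  · exact (mul_eq_zero.mp (by rw [← map_mul, hx, map_zero])).resolve_left h1
  · exact (mul_eq_zero.mp (by rw [← map_mul, hx, map_zero])).resolve_left h2

/-- An element killed by the maximal ideal modulo `f` is `f` times a pair of power series. -/
lemma exists_of_socle [IsLocalRing B] (h : IsNodeRing K B φ ψ) {f : B} {x : B}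
    (hx : ∀ m ∈ maximalIdeal B, m * x ∈ Ideal.span {f}) (hf : ψ f ≠ 0) :
    ∃ p, φ x = φ f * p := by
  obtain ⟨u, hu1, hu2⟩ := h.exists_fst 0
  have hu : u ∈ maximalIdeal B := by
    rw [h.mem_maximalIdeal_iff, hu1]; simp
  obtain ⟨g, hg⟩ := Ideal.mem_span_singleton'.mp (hx u hu)
  have h1 : ψ g = 0 := by
    have : ψ g * ψ f = 0 := by rw [← map_mul, hg, map_mul, hu2, zero_mul]
    exact (mul_eq_zero.mp this).resolve_right hf
  have h2 : constantCoeff (φ g) = 0 := by rw [h.const, h1, map_zero]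
  obtain ⟨p, hp⟩ := X_dvd_iff.mpr h2
  refine ⟨p, ?_⟩
  have h3 : φ g * φ f = X ^ (0 + 1) * φ x := by rw [← map_mul, hg, map_mul, hu1]
  rw [hp, zero_add, pow_one, mul_assoc] at h3
  rw [← mul_left_cancel₀ X_ne_zero h3, mul_comm]

/-- The socle of `B/f` is at most one-dimensional. -/
lemma simpleSocleMod [IsLocalRing B] (h : IsNodeRing K B φ ψ) {f : B} (hf : f ∈ nonZeroDivisors B) :
    SimpleSocleMod f := by
  intro x y hx hy
  have hf1 := h.ne_zero_left hf
  have hf2 := h.symm.ne_zero_left hf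
  obtain ⟨p, hp⟩ := h.exists_of_socle hx hf2
  obtain ⟨q, hq⟩ := h.symm.exists_of_socle hx hf1
  obtain ⟨p', hp'⟩ := h.exists_of_socle hy hf2
  obtain ⟨q', hq'⟩ := h.symm.exists_of_socle hy hf1
  by_cases h0 : constantCoeff p = constantCoeff q
  · left
    obtain ⟨c, hc1, hc2⟩ := h.range p q h0
    rw [Ideal.mem_span_singleton']
    refine ⟨c, h.ext ?_ ?_⟩
    · rw [map_mul, hc1, hp, mul_comm]
    · rw [map_mul, hc2, hq, mul_comm]
  · right
    set α := constantCoeff p - constantCoeff q with hα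
    set β := constantCoeff p' - constantCoeff q' with hβ
    have hα0 : α ≠ 0 := sub_ne_zero.mpr h0
    obtain ⟨c, hc1, hc2⟩ := h.range (C (β / α)) (C (β / α)) rfl
    refine ⟨c, ?_⟩
    obtain ⟨d, hd1, hd2⟩ := h.range (p' - C (β / α) * p) (q' - C (β / α) * q) (by
      rw [map_sub, map_sub, map_mul, map_mul, constantCoeff_C]
      have h1 : constantCoeff p = constantCoeff q + α := by rw [hα]; ring
      have h2 : constantCoeff p' = constantCoeff q' + β := by rw [hβ]; ring
      rw [h1, h2]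
      field_simp
      ring)
    rw [Ideal.mem_span_singleton']
    refine ⟨d, h.ext ?_ ?_⟩
    · rw [map_mul, hd1, map_sub, map_mul, hc1, hp, hp']; ring
    · rw [map_mul, hd2, map_sub, map_mul, hc2, hq, hq']; ring

lemma ker_le_of_mem_aux (h : IsNodeRing K B φ ψ) {J : Ideal B} {f : B}
    (hf0 : constantCoeff (φ f) = 0) (hf : ∀ x, f * x ∈ J → x ∈ J) (n : ℕ) {u : B} (hu : u ∈ J)
    (hu1 : φ u = X ^ (n + 1)) (hu2 : ψ u = 0) : RingHom.ker ψ ≤ J := by
  induction n generalizing u with
  | zero =>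
    intro x hx
    rw [RingHom.mem_ker] at hx
    have h1 : constantCoeff (φ x) = 0 := by rw [h.const, hx, map_zero]
    obtain ⟨p, hp⟩ := X_dvd_iff.mpr h1
    obtain ⟨c, hc⟩ := h.surjective_left p
    have : x = u * c := h.ext (by rw [map_mul, hu1, hc, hp, zero_add, pow_one])
      (by rw [map_mul, hu2, hx, zero_mul])
    rw [this]
    exact J.mul_mem_right _ hu
  | succ n ih =>
    obtain ⟨v, hv1, hv2⟩ := h.exists_fst n
    refine ih (u := v) (hf v ?_) hv1 hv2
    obtain ⟨p, hp⟩ := X_dvd_iff.mpr hf0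
    obtain ⟨c, hc⟩ := h.surjective_left p
    have : f * v = u * c := h.ext
      (by rw [map_mul, map_mul, hv1, hu1, hc, hp]; ring)
      (by rw [map_mul, map_mul, hv2, hu2, zero_mul, mul_zero])
    rw [this]
    exact J.mul_mem_right _ hu

lemma ker_le_of_mem (h : IsNodeRing K B φ ψ) {J : Ideal B} {f : B}
    (hf0 : constantCoeff (φ f) = 0) (hf : ∀ x, f * x ∈ J → x ∈ J) {j : B} (hj : j ∈ J)
    (hj0 : φ j ≠ 0) : RingHom.ker ψ ≤ J := by
  obtain ⟨u, hu1, hu2⟩ := h.exists_fst 0
  obtain ⟨n, w, hw, hjw⟩ : ∃ (n : ℕ) (w : K⟦X⟧), constantCoeff w ≠ 0 ∧ φ j = X ^ n * w := by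
    refine ⟨(φ j).order.toNat, divXPowOrder (φ j), ?_, ?_⟩
    · rw [constantCoeff_divXPowOrder]
      exact coeff_order hj0
    · exact (X_pow_order_mul_divXPowOrder).symm
  obtain ⟨c, hc⟩ := h.surjective_left w⁻¹
  refine h.ker_le_of_mem_aux hf0 hf n (u := j * u * c) ?_ ?_ ?_
  · exact J.mul_mem_right _ (J.mul_mem_right _ hj)
  · rw [map_mul, map_mul, hjw, hu1, hc, zero_add, pow_one, pow_succ]
    calc X ^ n * w * X * w⁻¹ = X ^ n * X * (w * w⁻¹) := by ring
      _ = X ^ n * X := by rw [PowerSeries.mul_inv_cancel _ hw, mul_one]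
  · rw [map_mul, map_mul, hu2, mul_zero, zero_mul]

/-- An ideal `J` of the node ring such that some element of the maximal ideal is a nonzerodivisor modulo `J` is
zero or (the ideal of) one of the branches. -/
lemma ideal_cases (h : IsNodeRing K B φ ψ) {J : Ideal B} (hJ : J ≠ ⊤) {f : B}
    (hf0 : constantCoeff (φ f) = 0) (hf : ∀ x, f * x ∈ J → x ∈ J) :
    J = ⊥ ∨ J = RingHom.ker ψ ∨ J = RingHom.ker φ := by
  have hf0' : constantCoeff (ψ f) = 0 := by rwa [← h.const]
  have hboth : ¬ (RingHom.ker ψ ≤ J ∧ RingHom.ker φ ≤ J) := by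
    rintro ⟨h1, h2⟩
    apply hJ
    rw [Ideal.eq_top_iff_one]
    apply hf
    rw [mul_one]
    obtain ⟨a, ha1, ha2⟩ := h.range (φ f) 0 (by rw [hf0, map_zero])
    obtain ⟨b, hb1, hb2⟩ := h.range 0 (ψ f) (by rw [hf0', map_zero])
    have : f = a + b := h.ext (by rw [map_add, ha1, hb1, add_zero])
      (by rw [map_add, ha2, hb2, zero_add])
    rw [this]
    exact J.add_mem (h1 ha2) (h2 hb1)
  by_cases h1 : ∃ j ∈ J, φ j ≠ 0
  · obtain ⟨j, hj, hj0⟩ := h1
    have h2 := h.ker_le_of_mem hf0 hf hj hj0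
    right; left
    refine le_antisymm (fun x hx => ?_) h2
    rw [RingHom.mem_ker]
    by_contra h3
    exact hboth ⟨h2, h.symm.ker_le_of_mem hf0' hf hx h3⟩
  · push Not at h1
    by_cases h2 : ∃ j ∈ J, ψ j ≠ 0
    · obtain ⟨j, hj, hj0⟩ := h2
      have h3 := h.symm.ker_le_of_mem hf0' hf hj hj0
      right; right
      exact le_antisymm (fun x hx => h1 x hx) h3
    · push Not at h2
      left
      rw [eq_bot_iff]
      exact fun x hx => h.inj x (h1 x hx) (h2 x hx)

end IsNodeRing

section MvPowerSeries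

variable (K : Type*) [Field K]

/-- Restriction of a power series in two variables to the `i`-th coordinate axis. -/
noncomputable def axis (i : Fin 2) : MvPowerSeries (Fin 2) K →+* K⟦X⟧ where
  toFun f := PowerSeries.mk fun n => MvPowerSeries.coeff (Finsupp.single i n) f
  map_one' := by
    ext n
    rw [PowerSeries.coeff_mk, PowerSeries.coeff_one, MvPowerSeries.coeff_one]
    by_cases hn : n = 0 <;> simp [hn]
  map_mul' f g := by
    ext n
    rw [PowerSeries.coeff_mk, MvPowerSeries.coeff_mul, PowerSeries.coeff_mul,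
      Finsupp.antidiagonal_single, Finset.sum_map]
    simp
  map_zero' := by ext n; simp
  map_add' f g := by ext n; simp

lemma coeff_axis (i : Fin 2) (f : MvPowerSeries (Fin 2) K) (n : ℕ) :
    PowerSeries.coeff n (axis K i f) = MvPowerSeries.coeff (Finsupp.single i n) f := by
  change PowerSeries.coeff n (PowerSeries.mk fun n => MvPowerSeries.coeff (Finsupp.single i n) f) = _
  rw [PowerSeries.coeff_mk]

lemma axis_C (i : Fin 2) (c : K) : axis K i (MvPowerSeries.C c) = PowerSeries.C c := by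
  ext n
  rw [coeff_axis, MvPowerSeries.coeff_C, PowerSeries.coeff_C]
  simp

lemma axis_X_self (i : Fin 2) : axis K i (MvPowerSeries.X i) = PowerSeries.X := by
  ext n
  rw [coeff_axis, MvPowerSeries.coeff_X, PowerSeries.coeff_X]
  simp [Finsupp.single_eq_single_iff]

lemma axis_X_ne {i j : Fin 2} (h : i ≠ j) : axis K i (MvPowerSeries.X j) = 0 := by
  ext n
  rw [coeff_axis, MvPowerSeries.coeff_X, map_zero]
  rw [if_neg]
  intro h1
  rw [Finsupp.single_eq_single_iff] at h1
  rcases h1 with ⟨h1, _⟩ | ⟨_, h1⟩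
  · exact h h1
  · exact one_ne_zero h1

/-- The quotient `K[[u,v]]/(uv)`. -/
abbrev Quot : Type _ :=
  MvPowerSeries (Fin 2) K ⧸ Ideal.span {(MvPowerSeries.X 0 * MvPowerSeries.X 1 : MvPowerSeries (Fin 2) K)}

/-- Restriction to the `i`-th branch. -/
noncomputable def branch (i : Fin 2) : Quot K →+* K⟦X⟧ :=
  Ideal.Quotient.lift _ (axis K i) (by
    intro a ha
    obtain ⟨b, rfl⟩ := Ideal.mem_span_singleton'.mp ha
    rw [map_mul, map_mul]
    fin_cases i
    · rw [show ((⟨0, by decide⟩ : Fin 2)) = (0 : Fin 2) from rfl, axis_X_ne K (i := 0) (j := 1) (by decide)]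
      ring
    · rw [show ((⟨1, by decide⟩ : Fin 2)) = (1 : Fin 2) from rfl, axis_X_ne K (i := 1) (j := 0) (by decide)]
      ring)

@[simp] lemma branch_mk (i : Fin 2) (f : MvPowerSeries (Fin 2) K) :
    branch K i (Ideal.Quotient.mk _ f) = axis K i f := Ideal.Quotient.lift_mk _ _ _

lemma eq_single_of_apply_eq_zero {m : Fin 2 →₀ ℕ} (h : m 1 = 0) : m = Finsupp.single 0 (m 0) := by
  ext i; fin_cases i <;> simp [h]

lemma eq_single_of_apply_eq_zero' {m : Fin 2 →₀ ℕ} (h : m 0 = 0) : m = Finsupp.single 1 (m 1) := by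
  ext i; fin_cases i <;> simp [h]

theorem isNodeRing_quot : IsNodeRing K (Quot K) (branch K 0) (branch K 1) where
  inj := by
    intro b h0 h1
    obtain ⟨f, rfl⟩ := Ideal.Quotient.mk_surjective b
    rw [branch_mk] at h0 h1
    have h0' : ∀ n, MvPowerSeries.coeff (Finsupp.single 0 n) f = 0 := fun n => by
      rw [← coeff_axis, h0, map_zero]
    have h1' : ∀ n, MvPowerSeries.coeff (Finsupp.single 1 n) f = 0 := fun n => by
      rw [← coeff_axis, h1, map_zero]
    rw [Ideal.Quotient.eq_zero_iff_mem, Ideal.mem_span_singleton]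
    obtain ⟨g, rfl⟩ := (MvPowerSeries.X_dvd_iff (s := 0) (φ := f)).mpr (fun m hm => by
      rw [eq_single_of_apply_eq_zero' hm]; exact h1' _)
    refine mul_dvd_mul_left _ (MvPowerSeries.X_dvd_iff.mpr fun m hm => ?_)
    have := h0' (m 0 + 1)
    rw [Finsupp.single_add, ← eq_single_of_apply_eq_zero hm, mul_comm] at this
    rw [show (MvPowerSeries.X (0 : Fin 2) : MvPowerSeries (Fin 2) K) =
      MvPowerSeries.monomial (Finsupp.single 0 1) 1 from rfl,
      MvPowerSeries.coeff_add_mul_monomial, mul_one] at this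
    exact this
  range := by
    intro a b hab
    let f : MvPowerSeries (Fin 2) K := fun m =>
      if m 1 = 0 then PowerSeries.coeff (m 0) a else if m 0 = 0 then PowerSeries.coeff (m 1) b else 0
    have hf : ∀ m, MvPowerSeries.coeff m f =
      if m 1 = 0 then PowerSeries.coeff (m 0) a else if m 0 = 0 then PowerSeries.coeff (m 1) b else 0 :=
      fun m => rfl
    refine ⟨Ideal.Quotient.mk _ f, ?_, ?_⟩
    · rw [branch_mk]
      ext n
      rw [coeff_axis, hf]
      simp
    · rw [branch_mk]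
      ext n
      rw [coeff_axis, hf]
      by_cases hn : n = 0
      · subst hn
        simpa using hab
      · simp [hn]
  const := by
    intro c
    obtain ⟨f, rfl⟩ := Ideal.Quotient.mk_surjective c
    rw [branch_mk, branch_mk, ← PowerSeries.coeff_zero_eq_constantCoeff_apply,
      ← PowerSeries.coeff_zero_eq_constantCoeff_apply, coeff_axis, coeff_axis]
    simp

end MvPowerSeries

end Groth.Agent.CurvesB.NodeRing
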