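import Groth.Agent.CurvesB.NodeGor
import Groth.Agent.CurvesB.DimOneTop
import Groth.Agent.CurvesB.DimPts
import Groth.Agent.CurvesB.GaloisTransitive
import Groth.Agent.CurvesB.StalkSemilinear
import Groth.Agent.VarietyA.GeomRed
import Groth.Agent.S0342
import Groth.Agent.Flat2B.SmoothGeom
import Groth.Agent.VarietyA.RegSmoothSch
import Groth.Agent.VarietyA.SmoothReg
import Mathlib.AlgebraicGeometry.Noetherian
import Mathlib.RingTheory.AdicCompletion.LocalRing
import Mathlib.RingTheory.AdicCompletion.AsTensorProduct
import Mathlib.RingTheory.Ideal.AssociatedPrime.Finiteness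

/-!
# Nodes of curves: Gorenstein local rings and geometric reducedness
-/

set_option autoImplicit false
universe u
open CategoryTheory CategoryTheory.Limits AlgebraicGeometry TensorProduct IsLocalRing

namespace Groth.Agent.CurvesB.NodeSch

open Groth.Agent.CurvesB.NodeRing Groth.Agent.CurvesB.GorDimOne

/-- The completion of an ordinary double point is a node ring. -/
theorem exists_isNodeRing {K R : Type u} [Field K] [CommRing R] [Algebra K R] [IsLocalRing R]
    (h : Curv2.IsOrdDoublePt K R) :
    ∃ φ ψ : AdicCompletion (maximalIdeal R) R →+* PowerSeries K,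
      IsNodeRing K (AdicCompletion (maximalIdeal R) R) φ ψ ∧
      (∀ c : K, φ (algebraMap R _ (algebraMap K R c)) = PowerSeries.C c) ∧
      (∀ c : K, ψ (algebraMap R _ (algebraMap K R c)) = PowerSeries.C c) := by
  obtain ⟨e, he⟩ := h
  have hN := isNodeRing_quot K
  refine ⟨(branch K 0).comp (e : _ →+* _), (branch K 1).comp (e : _ →+* _),
    ⟨fun b h1 h2 => ?_, fun a b hab => ?_, fun c => ?_⟩, fun c => ?_, fun c => ?_⟩
  · exact (map_eq_zero_iff e e.injective).mp (hN.inj (e b) h1 h2)
  · obtain ⟨c, h1, h2⟩ := hN.range a b hab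
    exact ⟨e.symm c, by simpa using h1, by simpa using h2⟩
  · exact hN.const (e c)
  · change branch K 0 (e _) = _
    rw [he, branch_mk, axis_C]
  · change branch K 1 (e _) = _
    rw [he, branch_mk, axis_C]

/-- A reduced local ring with a maximal ideal of zero divisors is a field. -/
lemma isField_of_disjoint {A : Type*} [CommRing A] [IsLocalRing A] [IsNoetherianRing A] [IsReduced A]
    (h : ∀ f ∈ maximalIdeal A, f ∉ nonZeroDivisors A) : IsField A := by
  have h1 : Disjoint (maximalIdeal A : Set A) (nonZeroDivisors A) :=
    Set.disjoint_left.mpr h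
  obtain ⟨a, ha, ha0⟩ := SetLike.exists_of_lt
    (Ideal.bot_lt_annihilator_of_disjoint_nonZeroDivisors h1)
  rw [Module.mem_annihilator] at ha
  have ha' : ∀ m ∈ maximalIdeal A, a * m = 0 := fun m hm => by
    have := ha ⟨m, hm⟩
    exact congrArg Subtype.val this
  rw [IsLocalRing.isField_iff_maximalIdeal_eq, eq_bot_iff]
  by_cases hau : IsUnit a
  · intro m hm
    obtain ⟨u, rfl⟩ := hau
    rw [Ideal.mem_bot]
    have := ha' m hm
    exact (Units.mul_right_eq_zero u).mp this
  · exfalso
    apply ha0
    rw [Ideal.mem_bot]
    have h2 : a * a = 0 := ha' a hau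
    exact IsReduced.eq_zero a ⟨2, by rw [pow_two, h2]⟩

lemma isGorensteinLocalRing_of_isField {A : Type u} [CommRing A] (h : IsField A) :
    LocCoh.IsGorensteinLocalRing A := by
  let := h.toField
  exact Groth.Agent.S0342.result A

section Sch

variable {X Y : Scheme.{u}}

/-- Reducedness of a point below an ordinary double point. -/
theorem isReduced_of_isOrdDoublePt {K R : Type u} [Field K] [CommRing R] [Algebra K R]
    [IsLocalRing R] [IsNoetherianRing R] (h : Curv2.IsOrdDoublePt K R) : IsReduced R := by
  obtain ⟨φ, ψ, hN, -, -⟩ := exists_isNodeRing h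
  have := hN.isReduced
  have : Module.FaithfullyFlat R (AdicCompletion (maximalIdeal R) R) :=
    Module.FaithfullyFlat.of_flat_of_isLocalHom
  exact isReduced_of_injective (algebraMap R (AdicCompletion (maximalIdeal R) R))
    (FaithfulSMul.algebraMap_injective _ _)

/-- A Noetherian local ring of dimension at most one with a flat local map to an ordinary double point is
Gorenstein. -/
theorem isGorensteinLocalRing_of_isOrdDoublePt {K A R : Type u} [Field K] [CommRing R] [Algebra K R]
    [IsLocalRing R] [IsNoetherianRing R] (h : Curv2.IsOrdDoublePt K R)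
    [CommRing A] [IsLocalRing A] [IsNoetherianRing A] [Ring.KrullDimLE 1 A] [Algebra A R]
    [Module.Flat A R] [IsLocalHom (algebraMap A R)] : LocCoh.IsGorensteinLocalRing A := by
  obtain ⟨φ, ψ, hN, -, -⟩ := exists_isNodeRing h
  have h1 : Module.Flat A (AdicCompletion (maximalIdeal R) R) :=
    Module.Flat.trans A R (AdicCompletion (maximalIdeal R) R)
  have h2 : IsLocalHom (algebraMap A (AdicCompletion (maximalIdeal R) R)) := by
    rw [IsScalarTower.algebraMap_eq A R]
    infer_instance
  have h3 : Module.FaithfullyFlat A (AdicCompletion (maximalIdeal R) R) :=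
    Module.FaithfullyFlat.of_flat_of_isLocalHom
  by_cases hf : ∃ f ∈ maximalIdeal A, f ∈ nonZeroDivisors A
  · obtain ⟨f, hfm, hf⟩ := hf
    exact isGorensteinLocalRing_of_flat hN hfm hf
  · push Not at hf
    have := isReduced_of_isOrdDoublePt h
    have : Module.FaithfullyFlat A R := Module.FaithfullyFlat.of_flat_of_isLocalHom
    have : IsReduced A := isReduced_of_injective (algebraMap A R) (FaithfulSMul.algebraMap_injective _ _)
    exact isGorensteinLocalRing_of_isField (isField_of_disjoint hf)

end Sch

end Groth.Agent.CurvesB.NodeSch
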