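import Groth.Agent.CurvesB.NodeSch2
import Groth.Agent.CalgA.RegLoc
import Groth.Agent.Divis.CartierStalk
import Groth.Agent.CurvesB.NodeEtale
import Groth.Agent.Smoothlim.SmoothLocusBC
import Groth.Agent.VarietyA.SmoothLocusSch

/-!
# Reduced closed subschemes of nodal curves: local algebra
-/

set_option autoImplicit false
universe u
open CategoryTheory CategoryTheory.Limits AlgebraicGeometry TensorProduct IsLocalRing

namespace Groth.Agent.CurvesB.NodeSub

open Groth.Agent.CurvesB.NodeRing Groth.Agent.CurvesB.GorDimOne Groth.Agent.CurvesB.NodeSch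

/-- Being a nonzerodivisor modulo an ideal is preserved by flat base change. -/
lemma mem_map_of_flat {A B : Type*} [CommRing A] [CommRing B] [Algebra A B] [Module.Flat A B]
    (J : Ideal A) (f : A) (hf : ∀ a, f * a ∈ J → a ∈ J) (x : B)
    (hx : algebraMap A B f * x ∈ J.map (algebraMap A B)) : x ∈ J.map (algebraMap A B) := by
  let L : (A ⧸ J) →ₗ[A] (A ⧸ J) := LinearMap.lsmul A (A ⧸ J) f
  have hL : Function.Injective L := by
    rw [injective_iff_map_eq_zero]
    intro a ha
    obtain ⟨a, rfl⟩ := Ideal.Quotient.mk_surjective a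
    refine Ideal.Quotient.eq_zero_iff_mem.mpr (hf a ?_)
    rw [← Ideal.Quotient.eq_zero_iff_mem, map_mul]
    exact ha
  have h1 := Module.Flat.lTensor_preserves_injective_linearMap (M := B) L hL
  let e := TensorProduct.tensorQuotEquivQuotSMul B J
  have hmem : ∀ b : B, b ∈ J.map (algebraMap A B) ↔ b ∈ (J • ⊤ : Submodule A B) := by
    intro b
    rw [Ideal.smul_top_eq_map]
    rfl
  have key : ∀ b : B, b ∈ J.map (algebraMap A B) ↔ (b ⊗ₜ[A] (1 : A ⧸ J)) = 0 := by
    intro b
    rw [hmem, ← Submodule.Quotient.mk_eq_zero, ← TensorProduct.tensorQuotEquivQuotSMul_symm_mk,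
      LinearEquiv.map_eq_zero_iff]
  rw [key] at hx ⊢
  apply h1
  rw [map_zero, LinearMap.lTensor_tmul, LinearMap.lsmul_apply, ← TensorProduct.smul_tmul,
    Algebra.smul_def, hx]

/-- The kernel of a surjection onto a regular local ring. -/
lemma isRegularLocalRing_quotient_ker {B : Type*} {C : Type*} [CommRing B] [CommRing C]
    [IsRegularLocalRing C] (g : B →+* C) (hg : Function.Surjective g) :
    IsRegularLocalRing (B ⧸ RingHom.ker g) :=
  IsRegularLocalRing.of_ringEquiv (RingHom.quotientKerEquivOfSurjective hg).symm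

instance isRegularLocalRing_powerSeries (K : Type*) [Field K] :
    IsRegularLocalRing (PowerSeries K) := inferInstance

/-- A reduced quotient of positive dimension of a local ring dominated by an ordinary double point is either
the whole ring or becomes regular. -/
theorem eq_bot_or_isRegularLocalRing {K A R : Type u} [Field K] [CommRing R] [Algebra K R]
    [IsLocalRing R] [IsNoetherianRing R] (h : Curv2.IsOrdDoublePt K R)
    [CommRing A] [IsLocalRing A] [IsNoetherianRing A] [Algebra A R]
    [Module.Flat A R] [IsLocalHom (algebraMap A R)] (J : Ideal A) [IsReduced (A ⧸ J)]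
    [Nontrivial (A ⧸ J)] (hJ : ¬ IsField (A ⧸ J)) :
    J = ⊥ ∨ IsRegularLocalRing (R ⧸ J.map (algebraMap A R)) := by
  obtain ⟨φ, ψ, hN, -, -⟩ := exists_isNodeRing h
  let B := AdicCompletion (maximalIdeal R) R
  have h1 : Module.Flat A B := Module.Flat.trans A R B
  have h2 : IsLocalHom (algebraMap A B) := by
    rw [IsScalarTower.algebraMap_eq A R]
    infer_instance
  have h3 : Module.FaithfullyFlat A B := Module.FaithfullyFlat.of_flat_of_isLocalHom
  have iloc : IsLocalRing (A ⧸ J) :=
    IsLocalRing.of_surjective' (Ideal.Quotient.mk J) Ideal.Quotient.mk_surjective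
  -- a nonzerodivisor
  obtain ⟨f', hf'm, hf'⟩ : ∃ f ∈ maximalIdeal (A ⧸ J), f ∈ nonZeroDivisors (A ⧸ J) := by
    by_contra hcon
    push Not at hcon
    exact hJ (isField_of_disjoint hcon)
  obtain ⟨f, rfl⟩ := Ideal.Quotient.mk_surjective f'
  have hfm : f ∈ maximalIdeal A := by
    rw [mem_maximalIdeal, mem_nonunits_iff] at hf'm ⊢
    exact fun hu => hf'm (hu.map _)
  have hf : ∀ a, f * a ∈ J → a ∈ J := by
    intro a ha
    rw [← Ideal.Quotient.eq_zero_iff_mem, map_mul] at ha
    rw [← Ideal.Quotient.eq_zero_iff_mem]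
    exact (mul_right_mem_nonZeroDivisors_eq_zero_iff hf').mp (by rwa [mul_comm] at ha)
  have hJtop : J ≠ ⊤ := by
    rintro rfl
    exact not_nontrivial (A ⧸ (⊤ : Ideal A)) ‹_›
  have hJle : J ≤ maximalIdeal A := IsLocalRing.le_maximalIdeal hJtop
  have hJB : J.map (algebraMap A B) ≠ ⊤ := by
    intro htop
    have h4 := ((IsLocalRing.local_hom_TFAE (algebraMap A B)).out 0 2 rfl rfl).mp h2
    have h5 := (Ideal.map_mono hJle).trans h4
    rw [htop, top_le_iff] at h5
    exact (maximalIdeal.isMaximal B).ne_top h5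
  have hf0 : PowerSeries.constantCoeff (φ (algebraMap A B f)) = 0 := by
    rw [← hN.mem_maximalIdeal_iff]
    exact ((IsLocalRing.local_hom_TFAE (algebraMap A B)).out 0 2 rfl rfl).mp h2
      (Ideal.mem_map_of_mem _ hfm)
  have hcases := hN.ideal_cases hJB hf0 (mem_map_of_flat J f hf)
  have hreg : IsRegularLocalRing (B ⧸ J.map (algebraMap A B)) →
      IsRegularLocalRing (R ⧸ J.map (algebraMap A R)) := by
    intro hB
    have e1 : (J.map (algebraMap A R)).map (algebraMap R B) = J.map (algebraMap A B) := by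
      rw [Ideal.map_map, ← IsScalarTower.algebraMap_eq]
    have hB' : IsRegularLocalRing (B ⧸ (J.map (algebraMap A R)).map (algebraMap R B)) := by
      rw [e1]; exact hB
    have hJR : Nontrivial (R ⧸ J.map (algebraMap A R)) := by
      rw [Ideal.Quotient.nontrivial_iff]
      intro htop
      apply hJB
      rw [← e1, htop, Ideal.map_top]
    have : IsLocalRing (R ⧸ J.map (algebraMap A R)) :=
      IsLocalRing.of_surjective' (Ideal.Quotient.mk _) Ideal.Quotient.mk_surjective
    have : Module.Flat (R ⧸ J.map (algebraMap A R))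
        (B ⧸ (J.map (algebraMap A R)).map (algebraMap R B)) :=
      Module.Flat.of_linearEquiv
        (Algebra.TensorProduct.quotIdealMapEquivQuotTensor B (J.map (algebraMap A R))).toLinearEquiv
    have : IsLocalHom (algebraMap (R ⧸ J.map (algebraMap A R))
        (B ⧸ (J.map (algebraMap A R)).map (algebraMap R B))) := by
      have : Nontrivial (B ⧸ (J.map (algebraMap A R)).map (algebraMap R B)) := by
        rw [Ideal.Quotient.nontrivial_iff, e1]; exact hJB
      have hmk : IsLocalHom (Ideal.Quotient.mk ((J.map (algebraMap A R)).map (algebraMap R B))) :=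
        IsLocalHom.of_surjective _ Ideal.Quotient.mk_surjective
      refine ⟨fun r hr => ?_⟩
      obtain ⟨r, rfl⟩ := Ideal.Quotient.mk_surjective r
      have hr' : IsUnit (Ideal.Quotient.mk ((J.map (algebraMap A R)).map (algebraMap R B))
        (algebraMap R B r)) := hr
      exact ((isUnit_of_map_unit (algebraMap R B) r
        (isUnit_of_map_unit (Ideal.Quotient.mk _) _ hr'))).map _
    exact Groth.Agent.CalgA.RegLoc.isRegularLocalRing_of_flat _
      (B ⧸ (J.map (algebraMap A R)).map (algebraMap R B))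
  rcases hcases with h4 | h4 | h4
  · left
    rw [Ideal.map_eq_bot_iff_le_ker] at h4
    rw [eq_bot_iff]
    refine h4.trans ?_
    rw [(RingHom.injective_iff_ker_eq_bot _).mp (FaithfulSMul.algebraMap_injective A B)]
  · right
    apply hreg
    rw [h4]
    exact isRegularLocalRing_quotient_ker ψ hN.surjective_right
  · right
    apply hreg
    rw [h4]
    exact isRegularLocalRing_quotient_ker φ hN.surjective_left

/-- A positive-dimensional reduced quotient of a regular local ring of dimension at most one. -/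
theorem eq_bot_of_isRegularLocalRing {A : Type u} [CommRing A] [IsRegularLocalRing A]
    [Ring.KrullDimLE 1 A] (J : Ideal A) (hred : IsReduced (A ⧸ J))
    (hnt : Nontrivial (A ⧸ J)) (hJ : ¬ IsField (A ⧸ J)) : J = ⊥ := by
  have hd : IsDomain A := Groth.Agent.CalgA.RegBasic.isDomain A
  by_contra hJ0
  apply hJ
  have iloc : IsLocalRing (A ⧸ J) :=
    IsLocalRing.of_surjective' (Ideal.Quotient.mk J) Ideal.Quotient.mk_surjective
  have h0 : Ring.KrullDimLE 0 (A ⧸ J) := by
    rw [Ring.krullDimLE_zero_iff]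
    intro P hP
    have h1 : (P.comap (Ideal.Quotient.mk J)).IsPrime := inferInstance
    have h2 : P.comap (Ideal.Quotient.mk J) ≠ ⊥ := by
      intro h
      apply hJ0
      rw [eq_bot_iff, ← h]
      intro a ha
      rw [Ideal.mem_comap, Ideal.Quotient.eq_zero_iff_mem.mpr ha]
      exact P.zero_mem
    have h3 := h1.isMaximal_of_ne_bot h2
    exact Ideal.isMaximal_of_isIntegral_of_isMaximal_comap' (Ideal.Quotient.mk J)
      (RingHom.isIntegral_of_surjective _ Ideal.Quotient.mk_surjective) P h3
  exact Ring.KrullDimLE.isField_of_isReduced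

section Sch

open Groth.Agent.Divis.CartierBasic Groth.Agent.CurvesB.NodeEtale

variable {X Y : Scheme.{u}}

/-- Stalks of a closed subscheme as quotients. -/
theorem nonempty_equiv (i : Y ⟶ X) [IsClosedImmersion i] (y : Y) (x : X) (hx : i y = x) :
    Nonempty ((X.presheaf.stalk x ⧸ stalkIdeal i.ker x) ≃+* Y.presheaf.stalk y) := by
  subst hx
  exact ⟨(Ideal.quotEquivOfEq (Groth.Agent.Divis.CartierStalk.ker_stalkMap i y).symm).trans
    (RingHom.quotientKerEquivOfSurjective (i.stalkMap_surjective y))⟩

/-- Stalk ideals of base changes of closed immersions. -/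
theorem stalkIdeal_ker_of_isPullback {X' Y' : Scheme.{u}} {i' : Y' ⟶ X'} {q : Y' ⟶ Y} {p : X' ⟶ X}
    {i : Y ⟶ X} [IsClosedImmersion i] (h : IsPullback i' q p i) (x' : X') :
    stalkIdeal i'.ker x' = (stalkIdeal i.ker (p x')).map (p.stalkMap x').hom := by
  rw [← Groth.Agent.Divis.CartierStalk.stalkIdeal_comap,
    ← Scheme.IdealSheafData.ker_fst_of_isClosedImmersion, ← h.isoPullback_hom_fst,
    Scheme.Hom.ker_comp_of_isIso]

/-- A closed immersion is formally smooth where the ideal vanishes. -/
theorem mem_smoothLocus_of_stalkIdeal_eq_bot (i : Y ⟶ X) [IsClosedImmersion i]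
    [LocallyOfFinitePresentation i] (y : Y) (h : stalkIdeal i.ker (i y) = ⊥) :
    y ∈ i.smoothLocus := by
  rw [Scheme.Hom.mem_smoothLocus]
  rw [← Groth.Agent.Divis.CartierStalk.ker_stalkMap] at h
  have hb : Function.Bijective (i.stalkMap y).hom :=
    ⟨(RingHom.injective_iff_ker_eq_bot _).mpr h, i.stalkMap_surjective y⟩
  exact RingHom.FormallySmooth.of_bijective hb

theorem etale_smoothLocus_ι_comp (i : Y ⟶ X) [IsClosedImmersion i]
    [LocallyOfFinitePresentation i] : Etale (i.smoothLocus.ι ≫ i) := by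
  have := Groth.Agent.VarietyA.SmoothLocusSch.smooth_smoothLocus_ι i
  have : FormallyUnramified (i.smoothLocus.ι ≫ i) := inferInstance
  exact Etale.of_formallyUnramified_of_flat _

section

variable (k : Type u) [Field k] [X.Over (Spec (CommRingCat.of k))]
  [Y.Over (Spec (CommRingCat.of k))] (i : Y ⟶ X) [IsClosedImmersion i]
  (hi : i ≫ (X ↘ Spec (CommRingCat.of k)) = Y ↘ Spec (CommRingCat.of k))
  [LocallyOfFiniteType (X ↘ Spec (CommRingCat.of k))]

include hi

/-- The case of points at which the ideal vanishes. -/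
theorem smooth_or_isNode_of_eq_bot (y : Y) (hy : IsClosed ({y} : Set Y))
    (h : stalkIdeal i.ker (i y) = ⊥)
    (hX : (∃ U : X.Opens, i y ∈ U ∧ Smooth (U.ι ≫ (X ↘ Spec (CommRingCat.of k)))) ∨
      Curv2.IsNode k X (i y)) :
    (∃ U : Y.Opens, y ∈ U ∧ Smooth (U.ι ≫ (Y ↘ Spec (CommRingCat.of k)))) ∨
      Curv2.IsNode k Y y := by
  have hNX : IsLocallyNoetherian X :=
    NodeSch2.isLocallyNoetherian_of_locallyOfFiniteType (X ↘ (Spec (CommRingCat.of k)))
  have hifp : LocallyOfFinitePresentation i :=
    NodeSch2.locallyOfFinitePresentation_of_isLocallyNoetherian i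
  have hXfp : LocallyOfFinitePresentation (X ↘ Spec (CommRingCat.of k)) :=
    NodeSch2.locallyOfFinitePresentation_of_field _
  have hYft : LocallyOfFiniteType (Y ↘ Spec (CommRingCat.of k)) := by rw [← hi]; infer_instance
  have hYfp : LocallyOfFinitePresentation (Y ↘ Spec (CommRingCat.of k)) :=
    NodeSch2.locallyOfFinitePresentation_of_field _
  have hyV : y ∈ i.smoothLocus := mem_smoothLocus_of_stalkIdeal_eq_bot i y h
  have hE := etale_smoothLocus_ι_comp i
  rcases hX with ⟨U, hU, hUs⟩ | hn
  · left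
    refine ⟨(Y ↘ Spec (CommRingCat.of k)).smoothLocus, ?_,
      Groth.Agent.VarietyA.SmoothLocusSch.smooth_smoothLocus_ι _⟩
    have h1 : i y ∈ (X ↘ Spec (CommRingCat.of k)).smoothLocus :=
      Groth.Agent.VarietyA.SmoothLocusSch.le_smoothLocus _ U hU
    have h5 : ((i ≫ (X ↘ Spec (CommRingCat.of k))).stalkMap y).hom =
        (i.stalkMap y).hom.comp ((X ↘ Spec (CommRingCat.of k)).stalkMap (i y)).hom := by
      rw [Scheme.Hom.stalkMap_comp]; rfl
    rw [← Groth.Agent.VarietyA.SmoothLocusSch.mem_smoothLocus_of_eq hi,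
      Scheme.Hom.mem_smoothLocus, h5]
    exact RingHom.FormallySmooth.comp (Scheme.Hom.mem_smoothLocus.mp h1)
      (Scheme.Hom.mem_smoothLocus.mp hyV)
  · right
    let i1 : (i.smoothLocus : Scheme.{u}).Over (Spec (CommRingCat.of k)) :=
      ⟨i.smoothLocus.ι ≫ (Y ↘ Spec (CommRingCat.of k))⟩
    let v : i.smoothLocus := ⟨y, hyV⟩
    have hv : IsClosed ({v} : Set i.smoothLocus) := by
      have h2 : ({v} : Set i.smoothLocus) = i.smoothLocus.ι ⁻¹' {y} := by
        ext w
        simp only [Set.mem_singleton_iff, Set.mem_preimage]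
        constructor
        · rintro rfl; rfl
        · intro hw; exact Subtype.ext hw
      rw [h2]
      exact hy.preimage i.smoothLocus.ι.continuous
    have h3 := isNode_iff_of_etale k (i.smoothLocus.ι ≫ i)
      (by rw [Category.assoc, hi]; rfl) v hv
    have h4 := isNode_iff_of_etale k i.smoothLocus.ι rfl v hv
    exact h4.2 (h3.1 hn)

/-- A reduced closed subscheme of positive dimension at a node: either it agrees with `X` or it is
smooth. -/
theorem eq_bot_or_mem_smoothLocus [LocallyOfFinitePresentation (Y ↘ Spec (CommRingCat.of k))]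
    (y : Y)
    (hred : _root_.IsReduced (Y.presheaf.stalk y)) (hT : ¬ IsField (Y.presheaf.stalk y))
    (hn : Curv2.IsNode k X (i y)) :
    stalkIdeal i.ker (i y) = ⊥ ∨ y ∈ (Y ↘ Spec (CommRingCat.of k)).smoothLocus := by
  obtain ⟨-, xb, hxb, h⟩ := hn
  obtain ⟨yb, hyb1, hyb2⟩ : ∃ yb : Curv2.bc k Y (AlgebraicClosure k),
      bcMap k i hi (AlgebraicClosure k) yb = xb ∧ Curv2.bcFst k Y (AlgebraicClosure k) yb = y := by
    obtain ⟨yb, hyb1, hyb2⟩ := Scheme.Pullback.exists_preimage_pullback xb y hxb
    let e := (isPullback_bcMap k i hi (AlgebraicClosure k)).isoPullback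
    refine ⟨e.inv yb, ?_, ?_⟩
    · rw [← hyb1, ← Scheme.Hom.comp_apply, IsPullback.isoPullback_inv_fst]
    · rw [← hyb2, ← Scheme.Hom.comp_apply, IsPullback.isoPullback_inv_snd]
  subst hyb1
  let x : X := Curv2.bcFst k X (AlgebraicClosure k) (bcMap k i hi (AlgebraicClosure k) yb)
  have hxy : i y = x := by
    change _ = Curv2.bcFst k X (AlgebraicClosure k) (bcMap k i hi (AlgebraicClosure k) yb)
    rw [← Scheme.Hom.comp_apply, bcMap_fst, Scheme.Hom.comp_apply, hyb2]
  obtain ⟨e⟩ := nonempty_equiv i y x hxy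
  have hNXK : IsLocallyNoetherian (Curv2.bc k X (AlgebraicClosure k)) :=
    NodeSch2.isLocallyNoetherian_of_locallyOfFiniteType (Curv2.bcSnd k X (AlgebraicClosure k))
  have hNX : IsLocallyNoetherian X :=
    NodeSch2.isLocallyNoetherian_of_locallyOfFiniteType (X ↘ (Spec (CommRingCat.of k)))
  let iO : (Curv2.bc k X (AlgebraicClosure k)).Over (Spec (CommRingCat.of (AlgebraicClosure k))) :=
    ⟨Curv2.bcSnd k X (AlgebraicClosure k)⟩
  let iKO : Algebra (AlgebraicClosure k)
      ((Curv2.bc k X (AlgebraicClosure k)).presheaf.stalk (bcMap k i hi (AlgebraicClosure k) yb)) :=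
    Curv2.stalkAlgebra (AlgebraicClosure k) (Curv2.bc k X (AlgebraicClosure k)) _
  let iA : Algebra (X.presheaf.stalk x)
      ((Curv2.bc k X (AlgebraicClosure k)).presheaf.stalk (bcMap k i hi (AlgebraicClosure k) yb)) :=
    ((Curv2.bcFst k X (AlgebraicClosure k)).stalkMap _).hom.toAlgebra
  have : IsLocalHom (algebraMap (X.presheaf.stalk x)
      ((Curv2.bc k X (AlgebraicClosure k)).presheaf.stalk (bcMap k i hi (AlgebraicClosure k) yb))) :=
    inferInstanceAs (IsLocalHom ((Curv2.bcFst k X (AlgebraicClosure k)).stalkMap _).hom)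
  have : Module.Flat (X.presheaf.stalk x)
      ((Curv2.bc k X (AlgebraicClosure k)).presheaf.stalk (bcMap k i hi (AlgebraicClosure k) yb)) :=
    Flat.stalkMap (Curv2.bcFst k X (AlgebraicClosure k)) _
  have : _root_.IsReduced (X.presheaf.stalk x ⧸ stalkIdeal i.ker x) :=
    isReduced_of_injective e.toRingHom e.injective
  have : Nontrivial (X.presheaf.stalk x ⧸ stalkIdeal i.ker x) := e.toEquiv.nontrivial
  have hT' : ¬ IsField (X.presheaf.stalk x ⧸ stalkIdeal i.ker x) := fun hf =>
    hT (MulEquiv.isField hf e.symm.toMulEquiv)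
  rw [hxy]
  rcases eq_bot_or_isRegularLocalRing h (stalkIdeal i.ker x) hT' with h1 | h1
  · exact Or.inl h1
  · right
    have hK : LocallyOfFinitePresentation (Curv2.bcSnd k Y (AlgebraicClosure k)) :=
      inferInstance
    have hpb : IsPullback (Curv2.bcFst k Y (AlgebraicClosure k))
      (Curv2.bcSnd k Y (AlgebraicClosure k)) (Y ↘ Spec (CommRingCat.of k))
      (Spec.map (CommRingCat.ofHom (algebraMap k (AlgebraicClosure k)))) :=
      IsPullback.of_hasPullback _ _
    have h2 := Groth.Agent.Smoothlim.SmoothLocusBC.mem_smoothLocus_iff_of_isPullback hpb yb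
      (Or.inr inferInstance)
    rw [← hyb2, ← h2,
      Groth.Agent.VarietyA.SmoothReg.mem_smoothLocus_iff_of_perfectField]
    have hcl : IsClosedImmersion (bcMap k i hi (AlgebraicClosure k)) :=
      MorphismProperty.of_isPullback (isPullback_bcMap k i hi (AlgebraicClosure k)).flip
        inferInstance
    obtain ⟨e'⟩ := nonempty_equiv (bcMap k i hi (AlgebraicClosure k)) yb _ rfl
    have h3 := stalkIdeal_ker_of_isPullback (isPullback_bcMap k i hi (AlgebraicClosure k))
      (bcMap k i hi (AlgebraicClosure k) yb)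
    have h4 : IsRegularLocalRing (((Curv2.bc k X (AlgebraicClosure k)).presheaf.stalk
        (bcMap k i hi (AlgebraicClosure k) yb)) ⧸
        stalkIdeal (bcMap k i hi (AlgebraicClosure k)).ker (bcMap k i hi (AlgebraicClosure k) yb)) := by
      rw [h3]; exact h1
    exact IsRegularLocalRing.of_ringEquiv e'

end

/-- Closed points of a purely one-dimensional scheme: the local ring is not a field. -/
theorem not_isField_stalk (hY : ∀ Z ∈ irreducibleComponents (Y : Type u), topologicalKrullDim Z = 1)
    (y : Y) (hy : IsClosed ({y} : Set Y)) : ¬ IsField (Y.presheaf.stalk y) := by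
  intro hf
  rw [DimOneTop.forall_irreducibleComponents_iff] at hY
  have h0 : ringKrullDim (Y.presheaf.stalk y) = 0 := by
    let := hf.toField
    exact ringKrullDim_eq_zero_of_field _
  rw [ringKrullDim_stalk_eq_coheight] at h0
  have h1 : Order.coheight y = 0 := by exact_mod_cast h0
  rw [Order.coheight_eq_zero] at h1
  have h2 : ∀ z, z ⤳ y → z = y := by
    intro z hz
    have h3 : y ≤ z := hz
    have h4 : z ≤ y := h1 h3
    exact (Specializes.antisymm hz h4).eq
  obtain ⟨x, hx, hxy⟩ := (hY y h2).1
  apply hxy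
  have := hx.mem_closed hy rfl
  exact this

/-- A reduced purely one-dimensional closed subscheme of an at-worst-nodal curve is at-worst-nodal. -/
theorem atWorstNodal_of_isClosedImmersion (k : Type u) [Field k]
    [X.Over (Spec (CommRingCat.of k))]
    [Y.Over (Spec (CommRingCat.of k))] (i : Y ⟶ X) [IsClosedImmersion i]
    (hi : i ≫ (X ↘ Spec (CommRingCat.of k)) = Y ↘ Spec (CommRingCat.of k))
    [LocallyOfFiniteType (X ↘ Spec (CommRingCat.of k))]
    (hequi : ∀ Z ∈ irreducibleComponents (X : Type u), topologicalKrullDim Z = 1)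
    (hX : Curv2.AtWorstNodal k X) [IsReduced Y]
    (hY : ∀ Z ∈ irreducibleComponents (Y : Type u), topologicalKrullDim Z = 1) :
    Curv2.AtWorstNodal k Y := by
  intro y hy
  have hYft : LocallyOfFiniteType (Y ↘ Spec (CommRingCat.of k)) := by rw [← hi]; infer_instance
  have hYfp : LocallyOfFinitePresentation (Y ↘ Spec (CommRingCat.of k)) :=
    NodeSch2.locallyOfFinitePresentation_of_field _
  have := LocallyOfFiniteType.jacobsonSpace (X ↘ Spec (CommRingCat.of k))
  have hx : IsClosed ({i y} : Set X) := i.closePoints_subset_preimage_closedPoints hy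
  have hT := not_isField_stalk hY y hy
  have hcase := hX (i y) hx
  have key : stalkIdeal i.ker (i y) = ⊥ ∨ y ∈ (Y ↘ Spec (CommRingCat.of k)).smoothLocus := by
    rcases hcase with h | h
    · left
      have h1 := NodeSch2.isRegularLocalRing_of_exists k (i y) h
      have h2 := NodeSch2.krullDimLE_one_stalk
        (NodeSch2.topologicalKrullDim_le_one_of_components hequi) (i y)
      obtain ⟨e⟩ := nonempty_equiv i y (i y) rfl
      exact eq_bot_of_isRegularLocalRing _ (isReduced_of_injective e.toRingHom e.injective)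
        e.toEquiv.nontrivial (fun hf => hT (MulEquiv.isField hf e.symm.toMulEquiv))
    · exact eq_bot_or_mem_smoothLocus k i hi y inferInstance hT h
  rcases key with h | h
  · exact smooth_or_isNode_of_eq_bot k i hi y hy h hcase
  · exact Or.inl ⟨_, h, Groth.Agent.VarietyA.SmoothLocusSch.smooth_smoothLocus_ι _⟩

end Sch

end Groth.Agent.CurvesB.NodeSub
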