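import Groth.Prelude.Def_EGA4b
import Mathlib.Algebra.Order.Ring.Star
import Mathlib.LinearAlgebra.FreeModule.PID
import Mathlib.RingTheory.Etale.Weakly
import Mathlib.RingTheory.Flat.TorsionFree
import Mathlib.RingTheory.PicardGroup
import Mathlib.RingTheory.SimpleRing.Principal
import Mathlib.RingTheory.TotallySplit

/-!
# Normality of a subring after flat base change

Main result `isNormalRing_of_tensor`: `B` normal Noetherian, `C ⊇ B` a finite `B`-algebra, `R` a flat
Noetherian `B`-algebra with `R ⊗ C` normal; then `R` is normal (used for Stacks Tag 0BGH).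
-/

set_option autoImplicit false
set_option linter.unusedSectionVars false
set_option linter.style.haveILetI false

universe u

open nonZeroDivisors

namespace Groth.Agent.CurvesB.NormalSub

/-- A Noetherian reduced local ring which is integrally closed in its total ring of fractions is
a domain. -/
theorem isDomain_of_isIntegrallyClosed (R : Type*) [CommRing R] [IsNoetherianRing R]
    [IsLocalRing R] [IsReduced R] [hR : IsIntegrallyClosed R] : IsDomain R := by
  classical
  have hfin : (minimalPrimes R).Finite := minimalPrimes.finite_of_isNoetherianRing R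
  have hbot : ∀ w : R, (∀ p ∈ minimalPrimes R, w ∈ p) → w = 0 := by
    intro w hw
    have h1 : w ∈ nilradical R := by
      rw [nilradical, ← Ideal.sInf_minimalPrimes]
      exact (Submodule.mem_sInf).2 hw
    rw [nilradical_eq_zero R] at h1
    simpa using h1
  have hnzd : ∀ z : R, (∀ p ∈ minimalPrimes R, z ∉ p) → z ∈ R⁰ := by
    intro z hz
    rw [mem_nonZeroDivisors_iff_right]
    intro w hw
    refine hbot w fun p hp => ?_
    have := hp.1.1
    have hzw : w * z ∈ p := by rw [hw]; exact p.zero_mem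
    exact (this.mem_or_mem hzw).resolve_right (hz p hp)
  obtain ⟨⟨p₁, hp₁⟩⟩ : Nonempty (minimalPrimes R) := Ideal.nonempty_minimalPrimes bot_ne_top
  have hp₁' : p₁.IsPrime := hp₁.1.1
  have hfin' : {p | p ∈ minimalPrimes R ∧ p ≠ p₁}.Finite := hfin.subset fun p hp => hp.1
  set J : Ideal R := sInf {p | p ∈ minimalPrimes R ∧ p ≠ p₁} with hJ
  have hJp₁ : ¬ J ≤ p₁ := by
    intro h
    obtain ⟨p, hp, hpp⟩ : ∃ p ∈ hfin'.toFinset, p ≤ p₁ := by
      refine (Ideal.IsPrime.inf_le' hp₁' (s := hfin'.toFinset) (f := id)).1 ?_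
      refine le_trans ?_ h
      rw [hJ]
      refine le_sInf fun p hp => ?_
      exact Finset.inf_le (f := id) (hfin'.mem_toFinset.2 hp)
    rw [Set.Finite.mem_toFinset] at hp
    exact hp.2 (le_antisymm hpp (hp₁.2 hp.1.1 hpp))
  have hJp : ∀ p ∈ minimalPrimes R, p ≠ p₁ → J ≤ p := fun p hp hne => sInf_le ⟨hp, hne⟩
  -- an element of `p₁ + J` outside all minimal primes
  obtain ⟨z, hz, hzp⟩ : ∃ z ∈ p₁ ⊔ J, ∀ p ∈ minimalPrimes R, z ∉ p := by
    by_contra! hcon
    have hsub : ((p₁ ⊔ J : Ideal R) : Set R) ⊆ ⋃ i ∈ (↑hfin.toFinset : Set (Ideal R)), ((id i : Ideal R) : Set R) := by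
      intro z hz
      obtain ⟨p, hp, hzp⟩ := hcon z hz
      simp only [Set.mem_iUnion]
      exact ⟨p, by simpa using hp, hzp⟩
    rw [Ideal.subset_union_prime p₁ p₁ (fun i hi _ _ => (by
      have : i ∈ minimalPrimes R := by simpa using hi
      exact this.1.1))] at hsub
    obtain ⟨p, hp, hle⟩ := hsub
    have hp' : p ∈ minimalPrimes R := by simpa using hp
    by_cases hpe : p = p₁
    · subst hpe
      exact hJp₁ (le_sup_right.trans hle)
    · exact hpe (le_antisymm (hp'.2 hp₁.1 (le_sup_left.trans hle)) (le_sup_left.trans hle))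
  obtain ⟨x, hx, y, hy, rfl⟩ := Submodule.mem_sup.1 hz
  have hxy : x * y = 0 := by
    refine hbot _ fun p hp => ?_
    by_cases hpe : p = p₁
    · subst hpe; exact p.mul_mem_right _ hx
    · exact p.mul_mem_left _ (hJp p hp hpe hy)
  have hznz : x + y ∈ R⁰ := hnzd _ hzp
  set K := FractionRing R
  let e : K := IsLocalization.mk' K x ⟨x + y, hznz⟩
  have he : e * algebraMap R K (x + y) = algebraMap R K x := IsLocalization.mk'_spec K x ⟨x + y, hznz⟩
  have hu : IsUnit (algebraMap R K (x + y)) := IsLocalization.map_units K ⟨x + y, hznz⟩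
  have hee : e * e = e := by
    have h2 : e * e * (algebraMap R K (x + y) * algebraMap R K (x + y)) =
        e * (algebraMap R K (x + y) * algebraMap R K (x + y)) := by
      calc e * e * (algebraMap R K (x + y) * algebraMap R K (x + y))
          = (e * algebraMap R K (x + y)) * (e * algebraMap R K (x + y)) := by ring
        _ = algebraMap R K x * algebraMap R K x := by rw [he]
        _ = algebraMap R K (x * x) := by rw [map_mul]
        _ = algebraMap R K (x * (x + y)) := by rw [mul_add, hxy, add_zero]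
        _ = (e * algebraMap R K (x + y)) * algebraMap R K (x + y) := by rw [he, map_mul]
        _ = _ := by ring
    exact (hu.mul hu).mul_right_cancel h2
  have hint : IsIntegral R e := by
    refine ⟨Polynomial.X ^ 2 - Polynomial.X, ?_, ?_⟩
    · monicity!
    · simp [pow_two, hee]
  obtain ⟨e₀, he₀⟩ := (isIntegrallyClosed_iff K).1 hR hint
  have hinj : Function.Injective (algebraMap R K) := IsFractionRing.injective R K
  have hee₀ : e₀ * e₀ = e₀ := by
    apply hinj
    rw [map_mul, he₀, hee]
  have hx₀ : e₀ * (x + y) = x := by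
    apply hinj
    rw [map_mul, he₀, he]
  rcases IsLocalRing.isUnit_or_isUnit_one_sub_self e₀ with h | h
  · -- `e₀ = 1`
    have : e₀ = 1 := h.mul_right_cancel (by rw [hee₀, one_mul])
    rw [this, one_mul] at hx₀
    exact absurd (by rw [hx₀]; exact hx) (hzp p₁ hp₁)
  · have h0 : e₀ = 0 := h.mul_right_cancel (by rw [zero_mul, mul_sub, hee₀, mul_one, sub_self])
    rw [h0, zero_mul] at hx₀
    -- `x = 0`, so `z = y ∈ J`
    have hp₁bot : p₁ = ⊥ := by
      rw [eq_bot_iff]
      intro w hw
      refine hbot _ fun p hp => ?_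
      by_cases hpe : p = p₁
      · subst hpe; exact hw
      · exfalso
        refine hzp p hp ?_
        rw [← hx₀, zero_add]
        exact hJp p hp hpe hy
    have : (⊥ : Ideal R).IsPrime := hp₁bot ▸ hp₁'
    exact IsDomain.of_bot_isPrime R


/-- A finite torsion-free module over a domain embeds into a finite free module. -/
theorem exists_injective_pi (B : Type*) [CommRing B] [IsDomain B] (M : Type*) [AddCommGroup M]
    [Module B M] [Module.Finite B M]
    (hM : ∀ s : B, s ≠ 0 → ∀ m : M, s • m = 0 → m = 0) :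
    ∃ (n : ℕ) (g : M →ₗ[B] (Fin n → B)), Function.Injective g := by
  classical
  let K := FractionRing B
  let V := LocalizedModule B⁰ M
  let f : M →ₗ[B] V := LocalizedModule.mkLinearMap B⁰ M
  have hf : Function.Injective f := by
    rw [← LinearMap.ker_eq_bot, LinearMap.ker_eq_bot']
    intro m hm
    obtain ⟨s, hs⟩ := (IsLocalizedModule.eq_zero_iff B⁰ f).1 hm
    exact hM s (nonZeroDivisors.ne_zero s.2) m hs
  haveI : Module.Finite K V := Module.Finite.of_isLocalizedModule B⁰ f
  let n := Module.finrank K V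
  let c : V ≃ₗ[K] (Fin n → K) := (Module.finBasis K V).equivFun
  obtain ⟨G, hG⟩ := Module.Finite.fg_top (R := B) (M := M)
  obtain ⟨a, ha⟩ := IsLocalization.exist_integer_multiples_of_finite B⁰
    (fun mi : (G × Fin n) => c (f (mi.1 : M)) mi.2)
  let φ : (Fin n → B) →ₗ[B] (Fin n → K) := (Algebra.linearMap B K).compLeft (Fin n)
  have hφ : Function.Injective φ := by
    intro x y hxy
    funext i
    exact IsFractionRing.injective B K (congrFun hxy i)
  let ψ : M →ₗ[B] (Fin n → K) := (a : B) • ((c.toLinearMap.restrictScalars B) ∘ₗ f)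
  have hψ : Function.Injective ψ := by
    intro x y hxy
    have h1 : (a : B) • c (f x) = (a : B) • c (f y) := hxy
    have h2 : c (f x) = c (f y) := by
      have h3 : (algebraMap B K a) • c (f x) = (algebraMap B K a) • c (f y) := by
        simpa [algebraMap_smul] using h1
      have h4 : algebraMap B K a ≠ 0 := by
        simp
      exact smul_right_injective _ h4 h3
    exact hf (c.injective h2)
  have hrange : LinearMap.range ψ ≤ LinearMap.range φ := by
    rw [LinearMap.range_eq_map, ← hG, Submodule.map_span_le]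
    intro m hm
    have h1 : ∀ i, ∃ b : B, algebraMap B K b = (a : B) • c (f m) i := fun i => ha (⟨m, hm⟩, i)
    choose b hb using h1
    exact ⟨b, funext hb⟩
  let g : M →ₗ[B] (Fin n → B) := (LinearEquiv.ofInjective φ hφ).symm.toLinearMap ∘ₗ
    (ψ.codRestrict (LinearMap.range φ) (fun m => hrange ⟨m, rfl⟩))
  refine ⟨n, g, ?_⟩
  refine (LinearEquiv.ofInjective φ hφ).symm.injective.comp ?_
  intro x y hxy
  exact hψ (congrArg Subtype.val hxy)

/-- If `R` is flat over a domain `B`, and `M` is a finite torsion-free `B`-module, then any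
nonzerodivisor of `R` is a nonzerodivisor on `R ⊗ M`. -/
theorem smul_eq_zero_of_torsionFree (B R : Type*) [CommRing B] [IsDomain B] [CommRing R]
    [Algebra B R] [Module.Flat B R] (M : Type*) [AddCommGroup M]
    [Module B M] [Module.Finite B M]
    (hM : ∀ s : B, s ≠ 0 → ∀ m : M, s • m = 0 → m = 0) (s : R) (hs : s ∈ R⁰)
    (w : TensorProduct B R M) (hw : s • w = 0) : w = 0 := by
  classical
  obtain ⟨n, g, hg⟩ := exists_injective_pi B M hM
  let G : TensorProduct B R M →ₗ[R] TensorProduct B R (Fin n → B) := LinearMap.baseChange R g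
  have hG : Function.Injective G := Module.Flat.lTensor_preserves_injective_linearMap g hg
  let E : TensorProduct B R (Fin n → B) ≃ₗ[R] (Fin n → R) := TensorProduct.piScalarRight B R R (Fin n)
  have h1 : s • E (G w) = 0 := by rw [← map_smul, ← map_smul, hw, map_zero, map_zero]
  have h2 : E (G w) = 0 := by
    funext i
    have h3 : s * E (G w) i = 0 := congrFun h1 i
    exact (mem_nonZeroDivisors_iff_right.1 hs) _ (by rw [mul_comm]; exact h3)
  have h4 : G w = 0 := E.injective (by rw [h2, map_zero])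
  exact hG (by rw [h4, map_zero])


section torsion

variable (B C : Type*) [CommRing B] [IsDomain B] [CommRing C] [Algebra B C]

/-- The ideal of elements of `C` killed by a nonzero element of the domain `B`. -/
def torsionIdeal : Ideal C := RingHom.ker (algebraMap C (Localization (Algebra.algebraMapSubmonoid C B⁰)))

theorem mem_torsionIdeal_iff (c : C) : c ∈ torsionIdeal B C ↔ ∃ s : B, s ≠ 0 ∧ s • c = 0 := by
  rw [torsionIdeal, RingHom.mem_ker, IsLocalization.map_eq_zero_iff (Algebra.algebraMapSubmonoid C B⁰)]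
  constructor
  · rintro ⟨⟨_, s, hs, rfl⟩, h⟩
    refine ⟨s, nonZeroDivisors.ne_zero hs, ?_⟩
    rw [Algebra.smul_def]
    exact h
  · rintro ⟨s, hs, h⟩
    refine ⟨⟨algebraMap B C s, s, mem_nonZeroDivisors_of_ne_zero hs, rfl⟩, ?_⟩
    rw [Algebra.smul_def] at h
    exact h

theorem torsion_step (hinj : Function.Injective (algebraMap B C)) [Algebra.IsIntegral B C]
    [hB : IsIntegrallyClosed B] (c : C) (s b : B) (hs : s ≠ 0)
    (h : s • c - algebraMap B C b ∈ torsionIdeal B C) :
    ∃ b' : B, c - algebraMap B C b' ∈ torsionIdeal B C := by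
  let K := Localization B⁰
  let CK := Localization (Algebra.algebraMapSubmonoid C B⁰)
  have hinj' : Function.Injective (algebraMap K CK) := localizationAlgebra_injective K CK hinj
  let x : K := IsLocalization.mk' K b (⟨s, mem_nonZeroDivisors_of_ne_zero hs⟩ : B⁰)
  have hx : algebraMap B K s * x = algebraMap B K b := IsLocalization.mk'_spec' K b _
  have h3 : ∀ t : B, algebraMap K CK (algebraMap B K t) = algebraMap C CK (algebraMap B C t) := by
    intro t
    rw [← IsScalarTower.algebraMap_apply, ← IsScalarTower.algebraMap_apply]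
  have hc : algebraMap C CK c = algebraMap K CK x := by
    have h1 : algebraMap C CK (algebraMap B C s) * algebraMap C CK c =
        algebraMap C CK (algebraMap B C b) := by
      rw [torsionIdeal, RingHom.mem_ker, map_sub, Algebra.smul_def, map_mul, sub_eq_zero] at h
      exact h
    have h2 : algebraMap K CK (algebraMap B K s) * algebraMap K CK x =
        algebraMap K CK (algebraMap B K b) := by
      rw [← map_mul, hx]
    rw [h3, h3, ← h1] at h2
    have hu : IsUnit (algebraMap C CK (algebraMap B C s)) := by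
      rw [← h3]
      exact (IsLocalization.map_units K (⟨s, mem_nonZeroDivisors_of_ne_zero hs⟩ : B⁰)).map _
    exact (hu.mul_left_cancel h2).symm
  have hint : IsIntegral B x := by
    rw [← isIntegral_algebraMap_iff hinj', ← hc]
    exact (Algebra.IsIntegral.isIntegral c).algebraMap
  obtain ⟨b', hb'⟩ := (isIntegrallyClosed_iff (FractionRing B)).1 hB hint
  refine ⟨b', ?_⟩
  rw [torsionIdeal, RingHom.mem_ker, map_sub, hc, ← hb', sub_eq_zero]
  exact h3 b'

end torsion

section kernel

variable {B R C : Type*} [CommRing B] [CommRing R] [Algebra B R] [AddCommGroup C] [Module B C]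

open TensorProduct in
/-- The kernel of `R ⊗ C → R ⊗ (C / N)`. -/
theorem mem_span_of_map_eq_zero (N : Submodule B C) (u : R ⊗[B] C)
    (hu : LinearMap.lTensor R N.mkQ u = 0) :
    u ∈ Submodule.span R ((fun n : C => (1 : R) ⊗ₜ[B] n) '' (N : Set C)) := by
  have hex : Function.Exact (LinearMap.lTensor R N.subtype) (LinearMap.lTensor R N.mkQ) :=
    lTensor_exact R (LinearMap.exact_subtype_mkQ N) N.mkQ_surjective
  obtain ⟨w, rfl⟩ := (hex u).1 hu
  induction w using TensorProduct.induction_on with
  | zero => rw [map_zero]; exact Submodule.zero_mem _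
  | tmul r n =>
    rw [LinearMap.lTensor_tmul]
    have : r ⊗ₜ[B] (N.subtype n) = r • ((1 : R) ⊗ₜ[B] (n : C)) := by
      rw [TensorProduct.smul_tmul', smul_eq_mul, mul_one]; rfl
    rw [this]
    exact Submodule.smul_mem _ _ (Submodule.subset_span ⟨n, n.2, rfl⟩)
  | add x y hx hy =>
    rw [map_add]
    have hx0 : LinearMap.lTensor R N.mkQ (LinearMap.lTensor R N.subtype x) = 0 := (hex _).2 ⟨x, rfl⟩
    have hy0 : LinearMap.lTensor R N.mkQ (LinearMap.lTensor R N.subtype y) = 0 := (hex _).2 ⟨y, rfl⟩
    exact Submodule.add_mem _ (hx hx0) (hy hy0)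

end kernel


section core

open TensorProduct

variable (B C R : Type*) [CommRing B] [IsDomain B] [IsNoetherianRing B] [CommRing C]
  [Algebra B C] [Module.Finite B C] [CommRing R] [Algebra B R] [Module.Flat B R]

theorem torsionFree_quot (s : B) (hs : s ≠ 0) (m : C ⧸ torsionIdeal B C) (hm : s • m = 0) :
    m = 0 := by
  obtain ⟨c, rfl⟩ := Ideal.Quotient.mk_surjective m
  have h1 : s • c ∈ torsionIdeal B C := by
    rw [← Ideal.Quotient.eq_zero_iff_mem]
    exact hm
  obtain ⟨s', hs', h2⟩ := (mem_torsionIdeal_iff B C _).1 h1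
  rw [Ideal.Quotient.eq_zero_iff_mem]
  exact (mem_torsionIdeal_iff B C _).2 ⟨s' * s, mul_ne_zero hs' hs, by rw [mul_smul, h2]⟩

/-- The `B`-submodule `T + B·1` of `C`. -/
def bigSub : Submodule B C := (torsionIdeal B C).restrictScalars B ⊔ LinearMap.range (Algebra.linearMap B C)

theorem torsionFree_quot' (hinj : Function.Injective (algebraMap B C)) [IsIntegrallyClosed B]
    (s : B) (hs : s ≠ 0) (m : C ⧸ bigSub B C) (hm : s • m = 0) :
    m = 0 := by
  obtain ⟨c, rfl⟩ := Submodule.Quotient.mk_surjective _ m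
  have h1 : s • c ∈ bigSub B C := by
    rw [← Submodule.Quotient.mk_eq_zero]
    exact hm
  obtain ⟨t, ht, y, ⟨b, rfl⟩, h2⟩ := Submodule.mem_sup.1 h1
  have ht' : t ∈ torsionIdeal B C := ht
  obtain ⟨b', hb'⟩ := torsion_step B C hinj c s b hs (by
    rw [← h2, Algebra.linearMap_apply, add_sub_cancel_right]; exact ht')
  rw [Submodule.Quotient.mk_eq_zero]
  have : c = (c - algebraMap B C b') + Algebra.linearMap B C b' := by
    rw [Algebra.linearMap_apply]; ring
  rw [this]
  exact Submodule.add_mem_sup hb' ⟨b', rfl⟩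

theorem injective_quot (hinj : Function.Injective (algebraMap B C)) :
    Function.Injective (algebraMap B (C ⧸ torsionIdeal B C)) := by
  rw [injective_iff_map_eq_zero]
  intro b hb
  have h1 : algebraMap B C b ∈ torsionIdeal B C := by
    rw [← Ideal.Quotient.eq_zero_iff_mem]
    exact hb
  obtain ⟨s, hs, h2⟩ := (mem_torsionIdeal_iff B C _).1 h1
  rw [Algebra.smul_def, ← map_mul] at h2
  have h3 : s * b = 0 := hinj (by rw [h2, map_zero])
  exact (mul_eq_zero.1 h3).resolve_left hs

/-- The ideal `T D` of `D = R ⊗ C`. -/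
def TD : Ideal (R ⊗[B] C) :=
  (torsionIdeal B C).map (Algebra.TensorProduct.includeRight : C →ₐ[B] R ⊗[B] C)

/-- The map `R ⊗ C → R ⊗ (C/T)`. -/
def piMap : R ⊗[B] C →ₐ[B] R ⊗[B] (C ⧸ torsionIdeal B C) :=
  Algebra.TensorProduct.map (AlgHom.id B R) (Ideal.Quotient.mkₐ B (torsionIdeal B C))

theorem ker_piMap : RingHom.ker (piMap B C R) = TD B C R := by
  have h := Algebra.TensorProduct.lTensor_ker (A := R) (Ideal.Quotient.mkₐ B (torsionIdeal B C))
    (Ideal.Quotient.mkₐ_surjective B (torsionIdeal B C))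
  have h2 : RingHom.ker (Ideal.Quotient.mkₐ B (torsionIdeal B C)) = torsionIdeal B C :=
    Ideal.Quotient.mkₐ_ker B (torsionIdeal B C)
  rw [piMap, TD]
  rw [h, h2]

theorem piMap_smul (s : R) (u : R ⊗[B] C) : piMap B C R ((s ⊗ₜ[B] 1) * u) = s • piMap B C R u := by
  rw [map_mul, piMap, Algebra.TensorProduct.map_tmul, map_one]
  exact (Algebra.smul_def (A := R ⊗[B] (C ⧸ torsionIdeal B C)) s _).symm

theorem TD_le_span (t : R ⊗[B] C) (ht : t ∈ TD B C R) :
    t ∈ Submodule.span R ((fun n : C => (1 : R) ⊗ₜ[B] n) '' (torsionIdeal B C : Set C)) := by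
  rw [← ker_piMap, RingHom.mem_ker] at ht
  exact mem_span_of_map_eq_zero ((torsionIdeal B C).restrictScalars B) t ht

theorem span_le_TD (t : R ⊗[B] C)
    (ht : t ∈ Submodule.span R ((fun n : C => (1 : R) ⊗ₜ[B] n) '' (torsionIdeal B C : Set C))) :
    t ∈ TD B C R := by
  induction ht using Submodule.span_induction with
  | mem x hx =>
    obtain ⟨n, hn, rfl⟩ := hx
    exact Ideal.mem_map_of_mem (Algebra.TensorProduct.includeRight : C →ₐ[B] R ⊗[B] C) hn
  | zero => exact Submodule.zero_mem _
  | add x y _ _ hx hy => exact Submodule.add_mem _ hx hy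
  | smul a x _ hx =>
    rw [Algebra.smul_def]
    exact Ideal.mul_mem_left _ _ hx

theorem decomp_of_map_eq_zero (u : R ⊗[B] C)
    (hu : LinearMap.baseChange R (bigSub B C).mkQ u = 0) :
    ∃ r' : R, u - r' ⊗ₜ[B] 1 ∈ TD B C R := by
  have h := mem_span_of_map_eq_zero (R := R) (bigSub B C) u hu
  clear hu
  induction h using Submodule.span_induction with
  | mem x hx =>
    obtain ⟨n, hn, rfl⟩ := hx
    obtain ⟨t, ht, y, ⟨b, rfl⟩, rfl⟩ := Submodule.mem_sup.1 hn
    refine ⟨algebraMap B R b, ?_⟩
    have : (fun n : C => (1 : R) ⊗ₜ[B] n) (t + Algebra.linearMap B C b) -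
        (algebraMap B R b) ⊗ₜ[B] (1 : C) = 1 ⊗ₜ[B] t := by
      simp only [TensorProduct.tmul_add, Algebra.linearMap_apply]
      rw [Algebra.algebraMap_eq_smul_one, Algebra.algebraMap_eq_smul_one, TensorProduct.tmul_smul,
        TensorProduct.smul_tmul', add_sub_cancel_right]
    rw [this]
    exact Ideal.mem_map_of_mem (Algebra.TensorProduct.includeRight : C →ₐ[B] R ⊗[B] C) ht
  | zero => exact ⟨0, by rw [TensorProduct.zero_tmul, sub_zero]; exact Submodule.zero_mem _⟩
  | add x y _ _ hx hy =>
    obtain ⟨r₁, h₁⟩ := hx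
    obtain ⟨r₂, h₂⟩ := hy
    refine ⟨r₁ + r₂, ?_⟩
    rw [TensorProduct.add_tmul, add_sub_add_comm]
    exact Submodule.add_mem _ h₁ h₂
  | smul a x _ hx =>
    obtain ⟨r₁, h₁⟩ := hx
    refine ⟨a * r₁, ?_⟩
    have : a • x - (a * r₁) ⊗ₜ[B] (1 : C) = algebraMap R (R ⊗[B] C) a * (x - r₁ ⊗ₜ[B] 1) := by
      rw [← Algebra.smul_def, smul_sub, TensorProduct.smul_tmul', smul_eq_mul]
    rw [this]
    exact Ideal.mul_mem_left _ _ h₁

theorem map_TD_eq_zero (t : R ⊗[B] C) (ht : t ∈ TD B C R) :
    LinearMap.baseChange R (bigSub B C).mkQ t = 0 := by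
  have h := TD_le_span B C R t ht
  induction h using Submodule.span_induction with
  | mem x hx =>
    obtain ⟨n, hn, rfl⟩ := hx
    rw [LinearMap.baseChange_tmul]
    have : (bigSub B C).mkQ n = 0 := by
      rw [Submodule.mkQ_apply, Submodule.Quotient.mk_eq_zero]
      exact Submodule.mem_sup_left hn
    rw [this, TensorProduct.tmul_zero]
  | zero => rw [map_zero]
  | add x y hx' hy' hx hy => rw [map_add, hx (span_le_TD B C R _ hx'), hy (span_le_TD B C R _ hy'), add_zero]
  | smul a x hx' hx => rw [map_smul, hx (span_le_TD B C R _ hx'), smul_zero]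


omit [IsDomain B] [IsNoetherianRing B] [Module.Finite B C] in
theorem isReduced_of_tensor (hinj : Function.Injective (algebraMap B C))
    (hD : ∀ (Q : Ideal (R ⊗[B] C)) [Q.IsPrime], IsDomain (Localization.AtPrime Q)) :
    IsReduced R := by
  haveI : IsReduced (R ⊗[B] C) := by
    constructor
    intro z hz
    refine eq_zero_of_localization z fun Q hQ => ?_
    haveI := hQ.isPrime
    haveI := hD Q
    exact (hz.map (algebraMap _ _)).eq_zero
  exact isReduced_of_injective (Algebra.TensorProduct.includeLeft : R →ₐ[B] R ⊗[B] C)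
    (Algebra.TensorProduct.includeLeft_injective hinj)

theorem ne_zero_of_TD_le (Q : Ideal (R ⊗[B] C)) [Q.IsPrime] (hQ : TD B C R ≤ Q) (s : R) (hs : s ∈ R⁰) :
    algebraMap (R ⊗[B] C) (Localization.AtPrime Q) (s ⊗ₜ[B] 1) ≠ 0 := by
  intro h
  rw [IsLocalization.map_eq_zero_iff Q.primeCompl] at h
  obtain ⟨u, hu⟩ := h
  have h1 : s • piMap B C R (u : R ⊗[B] C) = 0 := by
    rw [← piMap_smul, mul_comm, hu, map_zero]
  have h2 : piMap B C R (u : R ⊗[B] C) = 0 :=
    smul_eq_zero_of_torsionFree B R (C ⧸ torsionIdeal B C) (fun s hs m hm => torsionFree_quot B C s hs m hm) s hs _ h1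
  have h3 : (u : R ⊗[B] C) ∈ TD B C R := by
    rw [← ker_piMap, RingHom.mem_ker]
    exact h2
  exact u.2 (hQ h3)

theorem core_local (hinj : Function.Injective (algebraMap B C)) [IsIntegrallyClosed B]
    [IsNoetherianRing R] [IsLocalRing R]
    (hD : ∀ (Q : Ideal (R ⊗[B] C)) [Q.IsPrime],
      IsDomain (Localization.AtPrime Q) ∧ IsIntegrallyClosed (Localization.AtPrime Q)) :
    IsDomain R ∧ IsIntegrallyClosed R := by
  haveI : IsReduced R := isReduced_of_tensor B C R hinj (fun Q _ => (hD Q).1)
  haveI : IsIntegrallyClosed R := by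
    rw [isIntegrallyClosed_iff (FractionRing R)]
    intro x hx
    obtain ⟨r, s, rfl⟩ := IsLocalization.exists_mk'_eq R⁰ x
    -- Step 1
    have step1 : (r ⊗ₜ[B] (1 : C)) ∈ Ideal.span {((s : R) ⊗ₜ[B] (1 : C))} ⊔ TD B C R := by
      let 𝔞 : Ideal (R ⊗[B] C) := Submodule.comap (LinearMap.toSpanSingleton (R ⊗[B] C) (R ⊗[B] C) (r ⊗ₜ[B] (1 : C)))
        (Ideal.span {((s : R) ⊗ₜ[B] (1 : C))} ⊔ TD B C R)
      have hmem : ∀ v, v ∈ 𝔞 ↔ v * (r ⊗ₜ[B] (1 : C)) ∈ Ideal.span {((s : R) ⊗ₜ[B] (1 : C))} ⊔ TD B C R :=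
        fun v => Iff.rfl
      by_contra hcon
      have hne : 𝔞 ≠ ⊤ := by
        intro h
        apply hcon
        have := (hmem 1).1 (by rw [h]; trivial)
        rwa [one_mul] at this
      obtain ⟨Q, hQmax, hQ⟩ := Ideal.exists_le_maximal 𝔞 hne
      haveI : Q.IsPrime := hQmax.isPrime
      have hTDa : TD B C R ≤ 𝔞 := by
        intro v hv
        rw [hmem]
        exact Ideal.mem_sup_right (Ideal.mul_mem_right _ _ hv)
      have hTDQ : TD B C R ≤ Q := hTDa.trans hQ
      obtain ⟨hdom, hic⟩ := hD Q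
      let DQ := Localization.AtPrime Q
      let F := FractionRing DQ
      let g : R →+* DQ := (algebraMap (R ⊗[B] C) DQ).comp (algebraMap R (R ⊗[B] C))
      have hg : ∀ y : R⁰, IsUnit (((algebraMap DQ F).comp g) y) := by
        intro y
        have h1 : g y ≠ 0 := ne_zero_of_TD_le B C R Q hTDQ y y.2
        have h2 : algebraMap DQ F (g y) ≠ 0 := by
          intro h
          exact h1 (IsFractionRing.injective DQ F (by rw [h, map_zero]))
        exact h2.isUnit
      let φ : FractionRing R →+* F := IsLocalization.lift (M := R⁰) hg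
      have hφ : ∀ y : R, φ (algebraMap R (FractionRing R) y) = algebraMap DQ F (g y) := fun y =>
        IsLocalization.lift_eq hg y
      have hint : IsIntegral DQ (φ (IsLocalization.mk' (FractionRing R) r s)) := by
        refine hx.map_of_comp_eq g φ ?_
        ext y
        exact (hφ y).symm
      obtain ⟨y, hy⟩ := (isIntegrallyClosed_iff F).1 hic hint
      have hsy : g s * y = g r := by
        apply IsFractionRing.injective DQ F
        rw [map_mul, hy, ← hφ, ← map_mul, IsLocalization.mk'_spec', hφ]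
      obtain ⟨d, t, rfl⟩ := IsLocalization.exists_mk'_eq Q.primeCompl y
      have h3 : algebraMap (R ⊗[B] C) DQ ((s : R) ⊗ₜ[B] (1 : C) * d) =
          algebraMap (R ⊗[B] C) DQ (r ⊗ₜ[B] (1 : C) * t) := by
        rw [map_mul, map_mul]
        change g s * _ = g r * _
        rw [← hsy, mul_assoc, IsLocalization.mk'_spec]
      obtain ⟨v, hv⟩ := (IsLocalization.eq_iff_exists Q.primeCompl DQ).1 h3
      have h4 : (v * t : R ⊗[B] C) ∈ 𝔞 := by
        rw [hmem]
        have : (v * t : R ⊗[B] C) * (r ⊗ₜ[B] (1 : C)) = (v * d : R ⊗[B] C) * ((s : R) ⊗ₜ[B] (1 : C)) := by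
          calc (v * t : R ⊗[B] C) * (r ⊗ₜ[B] (1 : C)) = v * (r ⊗ₜ[B] (1 : C) * t) := by ring
            _ = v * ((s : R) ⊗ₜ[B] (1 : C) * d) := hv.symm
            _ = _ := by ring
        rw [this]
        exact Ideal.mem_sup_left (Ideal.mul_mem_left _ _ (Ideal.mem_span_singleton_self _))
      have h5 : (v * t : R ⊗[B] C) ∈ Q := hQ h4
      exact (Q.primeCompl.mul_mem v.2 t.2) h5
    -- Step 2
    obtain ⟨z, hz, t, ht, hzt⟩ := Submodule.mem_sup.1 step1
    obtain ⟨d, rfl⟩ := Ideal.mem_span_singleton'.1 hz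
    have hβ : LinearMap.baseChange R (bigSub B C).mkQ d = 0 := by
      refine smul_eq_zero_of_torsionFree B R (C ⧸ bigSub B C)
        (fun s hs m hm => torsionFree_quot' B C hinj s hs m hm) s s.2 _ ?_
      rw [← map_smul]
      have h1 : (s : R) • d = r ⊗ₜ[B] (1 : C) - t := by
        rw [← hzt, add_sub_cancel_right, Algebra.smul_def, mul_comm]
        rfl
      rw [h1, map_sub, map_TD_eq_zero B C R t ht, sub_zero, LinearMap.baseChange_tmul]
      have h2 : (bigSub B C).mkQ (1 : C) = 0 := by
        rw [Submodule.mkQ_apply, Submodule.Quotient.mk_eq_zero]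
        exact Submodule.mem_sup_right ⟨1, by simp⟩
      rw [h2, TensorProduct.tmul_zero]
    obtain ⟨r', hr'⟩ := decomp_of_map_eq_zero B C R d hβ
    refine ⟨r', ?_⟩
    have h6 : (r - s * r') ⊗ₜ[B] (1 : C) ∈ TD B C R := by
      have : (r - s * r') ⊗ₜ[B] (1 : C) = ((s : R) ⊗ₜ[B] (1 : C)) * (d - r' ⊗ₜ[B] 1) + t := by
        rw [TensorProduct.sub_tmul, ← hzt, mul_sub, Algebra.TensorProduct.tmul_mul_tmul, mul_one]
        ring
      rw [this]
      exact Ideal.add_mem _ (Ideal.mul_mem_left _ _ hr') ht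
    rw [← ker_piMap, RingHom.mem_ker, piMap, Algebra.TensorProduct.map_tmul, map_one] at h6
    have h7 : r - s * r' = 0 := by
      apply Algebra.TensorProduct.includeLeft_injective (S := B) (injective_quot B C hinj) (A := R)
      rw [map_zero]
      exact h6
    rw [eq_comm, IsLocalization.mk'_eq_iff_eq_mul, ← map_mul, mul_comm r', ← sub_eq_zero, ← map_sub, h7, map_zero]
  exact ⟨isDomain_of_isIntegrallyClosed R, inferInstance⟩

end core


open TensorProduct

/-- Normality passes to ring isomorphic rings. -/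
theorem isNormalRing_of_ringEquiv {D D' : Type u} [CommRing D] [CommRing D'] (e : D ≃+* D')
    (hD : EGA4.IsNormalRing D) : EGA4.IsNormalRing D' := by
  intro Q hQ
  haveI : (Q.comap (e : D →+* D')).IsPrime := Q.comap_isPrime (e : D →+* D')
  obtain ⟨h1, h2⟩ := hD (Q.comap (e : D →+* D'))
  let E : Localization.AtPrime (Q.comap (e : D →+* D')) ≃+* Localization.AtPrime Q :=
    Localization.localRingEquiv _ _ e rfl
  exact ⟨MulEquiv.isDomain (Localization.AtPrime (Q.comap (e : D →+* D'))) E.symm.toMulEquiv, IsIntegrallyClosed.of_equiv E⟩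

/-- Normality passes to localizations. -/
theorem isNormalRing_of_isLocalization {D D' : Type u} [CommRing D] [CommRing D'] [Algebra D D']
    (M : Submonoid D) [IsLocalization M D']
    (hD : EGA4.IsNormalRing D) : EGA4.IsNormalRing D' := by
  intro Q hQ
  haveI : (Q.comap (algebraMap D D')).IsPrime := Q.comap_isPrime _
  obtain ⟨h1, h2⟩ := hD (Q.comap (algebraMap D D'))
  haveI : IsLocalization.AtPrime (Localization.AtPrime Q) (Q.comap (algebraMap D D')) :=
    IsLocalization.isLocalization_isLocalization_atPrime_isLocalization M (Localization.AtPrime Q) Q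
  let E : Localization.AtPrime (Q.comap (algebraMap D D')) ≃ₐ[D] Localization.AtPrime Q :=
    IsLocalization.algEquiv (Q.comap (algebraMap D D')).primeCompl _ _
  exact ⟨MulEquiv.isDomain (Localization.AtPrime (Q.comap (algebraMap D D'))) E.toRingEquiv.symm.toMulEquiv,
    IsIntegrallyClosed.of_equiv E.toRingEquiv⟩

/-- `R` is normal if it is flat over the normal Noetherian ring `B` and `R ⊗ C` is normal for
some finite `B`-algebra `C` containing `B`. -/
theorem isNormalRing_of_tensor (B C R : Type u) [CommRing B] [IsNoetherianRing B] [CommRing C]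
    [Algebra B C] [Module.Finite B C] [CommRing R] [Algebra B R] [Module.Flat B R]
    [IsNoetherianRing R] (hinj : Function.Injective (algebraMap B C))
    (hB : EGA4.IsNormalRing B) (hD : EGA4.IsNormalRing (R ⊗[B] C)) :
    EGA4.IsNormalRing R := by
  intro q hq
  let p : Ideal B := q.comap (algebraMap B R)
  haveI : p.IsPrime := q.comap_isPrime _
  let Bp := Localization.AtPrime p
  let Rq := Localization.AtPrime q
  obtain ⟨hp1, hp2⟩ := hB p
  letI : Algebra Bp Rq := (Localization.localRingHom p q (algebraMap B R) rfl).toAlgebra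
  haveI : IsScalarTower B Bp Rq := by
    refine .of_algebraMap_eq fun x ↦ ?_
    rw [IsScalarTower.algebraMap_apply B R Rq]
    exact (Localization.localRingHom_to_map _ _ _ rfl x).symm
  haveI : Module.Flat B Rq := Module.Flat.trans B R Rq
  haveI : Module.Flat Bp Rq := (Module.flat_iff_of_isLocalization (S := Bp) (p := p.primeCompl) (M := Rq)).2 inferInstance
  -- `Rq ⊗[B] C` is a localization of `R ⊗[B] C`
  have h1 : EGA4.IsNormalRing (Rq ⊗[B] C) := by
    let f : R ⊗[B] C →ₐ[R] Rq ⊗[B] C := Algebra.TensorProduct.map (Algebra.ofId R Rq) (AlgHom.id B C)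
    letI : Algebra (R ⊗[B] C) (Rq ⊗[B] C) := f.toRingHom.toAlgebra
    haveI : IsScalarTower R (R ⊗[B] C) (Rq ⊗[B] C) := IsScalarTower.of_algebraMap_eq' f.comp_algebraMap.symm
    haveI := IsLocalization.tensorProduct_tensorProduct B C (A := R) q.primeCompl Rq (by
      ext c
      change f (1 ⊗ₜ[B] c) = 1 ⊗ₜ[B] c
      simp [f])
    exact isNormalRing_of_isLocalization (Algebra.algebraMapSubmonoid (R ⊗[B] C) q.primeCompl) hD
  have h2 : EGA4.IsNormalRing (Rq ⊗[Bp] (Bp ⊗[B] C)) :=
    isNormalRing_of_ringEquiv (Algebra.TensorProduct.cancelBaseChange B Bp Bp Rq C).symm.toRingEquiv h1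
  have hinj' : Function.Injective (algebraMap Bp (Bp ⊗[B] C)) :=
    Algebra.TensorProduct.includeLeft_injective (S := Bp) hinj
  exact core_local Bp (Bp ⊗[B] C) Rq hinj' h2


end Groth.Agent.CurvesB.NormalSub
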