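import Mathlib.RingTheory.Kaehler.Basic
import Mathlib.RingTheory.IsTensorProduct

/-!
# Kähler differentials as a base change of the diagonal ideal (algebra)

`T` is a copy of `B ⊗[A] B`, `μ : T → B` the multiplication, `J` a copy of the kernel of `μ`, and `M` a
`B`-module with a `μ`-semilinear `ι : J → M` which is a base change.  Then `b ↦ ι (1 ⊗ b - b ⊗ 1)` is a
universal derivation.
-/

set_option autoImplicit false
set_option linter.unusedSectionVars false
universe u
open TensorProduct

namespace Groth.Agent.CurvesB.OmegaAlg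

variable {A B T : Type u} [CommRing A] [CommRing B] [CommRing T] [Algebra A B] [Algebra A T]
  (i₁ i₂ : B →ₐ[A] T) (μ : T →+* B)
  {J M : Type u} [AddCommGroup J] [Module T J] [AddCommGroup M] [Module B M]
  [Module A M] [IsScalarTower A B M]
  (val : J →ₗ[T] T) (ι : J →+ M)

/-- data of a derivation attached to a diagonal -/
structure DiagData : Prop where
  h₁ : ∀ b, μ (i₁ b) = b
  h₂ : ∀ b, μ (i₂ b) = b
  inj : Function.Injective val
  ker : ∀ t : T, μ t = 0 ↔ ∃ j, val j = t
  smul : ∀ (t : T) (j : J), ι (t • j) = μ t • ι j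

variable {i₁ i₂ μ val ι} (h : DiagData i₁ i₂ μ val ι)

include h in
theorem DiagData.exists_j (b : B) : ∃ j, val j = i₂ b - i₁ b :=
  (h.ker _).mp (by rw [map_sub, h.h₁, h.h₂, sub_self])

/-- the element `1 ⊗ b - b ⊗ 1` of `J` -/
noncomputable def DiagData.jj (h : DiagData i₁ i₂ μ val ι) (b : B) : J := (h.exists_j b).choose

theorem DiagData.val_jj (b : B) : val (h.jj b) = i₂ b - i₁ b := (h.exists_j b).choose_spec

include h in
theorem DiagData.μ_algebraMap (a : A) : μ (algebraMap A T a) = algebraMap A B a := by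
  rw [← i₁.commutes, h.h₁]

/-- the derivation -/
noncomputable def DiagData.der (h : DiagData i₁ i₂ μ val ι) : Derivation A B M where
  toFun b := ι (h.jj b)
  map_add' a b := by
    rw [← map_add]
    congr 1
    apply h.inj
    rw [map_add, h.val_jj, h.val_jj, h.val_jj, map_add, map_add]
    ring
  map_smul' a b := by
    have : h.jj (a • b) = (algebraMap A T a) • h.jj b := by
      apply h.inj
      rw [map_smul, h.val_jj, h.val_jj, map_smul, map_smul, Algebra.smul_def, Algebra.smul_def,
        smul_eq_mul]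
      ring
    rw [this, h.smul, h.μ_algebraMap, algebraMap_smul]
    rfl
  map_one_eq_zero' := by
    have : h.jj (1 : B) = 0 := by
      apply h.inj
      rw [map_zero, h.val_jj, map_one, map_one, sub_self]
    change ι (h.jj 1) = 0
    rw [this, map_zero]
  leibniz' a b := by
    have : h.jj (a * b) = i₂ a • h.jj b + i₁ b • h.jj a := by
      apply h.inj
      rw [map_add, map_smul, map_smul, h.val_jj, h.val_jj, h.val_jj, map_mul, map_mul,
        smul_eq_mul, smul_eq_mul]
      ring
    change ι (h.jj (a * b)) = a • ι (h.jj b) + b • ι (h.jj a)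
    rw [this, map_add, h.smul, h.smul, h.h₂, h.h₁]

theorem DiagData.der_apply (b : B) : h.der b = ι (h.jj b) := rfl

theorem DiagData.der_eq (b : B) (j : J) (hj : val j = i₂ b - i₁ b) : h.der b = ι j := by
  rw [h.der_apply]
  congr 1
  apply h.inj
  rw [h.val_jj, hj]

section
variable (hb : Function.Bijective (Algebra.TensorProduct.productMap i₁ i₂))

/-- The canonical iso `B ⊗[A] B ≃ T`. -/
noncomputable def e (hb : Function.Bijective (Algebra.TensorProduct.productMap i₁ i₂)) : B ⊗[A] B ≃ₐ[A] T :=
  AlgEquiv.ofBijective (Algebra.TensorProduct.productMap i₁ i₂) hb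

theorem e_tmul (a b : B) : e hb (a ⊗ₜ b) = i₁ a * i₂ b := by
  simp [e]

include h in
theorem DiagData.μ_e (x : B ⊗[A] B) : μ (e hb x) = Algebra.TensorProduct.lmul' A x := by
  induction x using TensorProduct.induction_on with
  | zero => simp
  | tmul a b => rw [e_tmul, map_mul, h.h₁, h.h₂]; simp
  | add x y hx hy => rw [map_add, map_add, map_add, hx, hy]

include h in
theorem DiagData.symm_mem (j : J) : (e hb).symm (val j) ∈ KaehlerDifferential.ideal A B := by
  rw [RingHom.mem_ker]
  rw [← h.μ_e hb, AlgEquiv.apply_symm_apply]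
  exact (h.ker _).mpr ⟨j, rfl⟩

/-- the map `J → Ω[B/A]` -/
noncomputable def DiagData.toOmega (h : DiagData i₁ i₂ μ val ι)
    (hb : Function.Bijective (Algebra.TensorProduct.productMap i₁ i₂)) : J →+ Ω[B⁄A] where
  toFun j := KaehlerDifferential.fromIdeal A B ⟨(e hb).symm (val j), h.symm_mem hb j⟩
  map_zero' := by
    convert (KaehlerDifferential.fromIdeal A B).map_zero
    simp
  map_add' x y := by
    rw [← map_add]
    congr 1
    ext
    simp

theorem DiagData.toOmega_apply (j : J) :
    h.toOmega hb j = KaehlerDifferential.fromIdeal A B ⟨(e hb).symm (val j), h.symm_mem hb j⟩ := rfl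

theorem smul_fromIdeal (x : B ⊗[A] B) (w : Ω[B⁄A]) :
    x • w = (Algebra.TensorProduct.lmul' A x : B) • w := by
  obtain ⟨⟨y, hy⟩, rfl⟩ := KaehlerDifferential.fromIdeal_surjective A B w
  have h1 : (Algebra.TensorProduct.lmul' A x : B) • KaehlerDifferential.fromIdeal A B ⟨y, hy⟩ =
      ((Algebra.TensorProduct.lmul' A x : B) ⊗ₜ[A] (1 : B)) • KaehlerDifferential.fromIdeal A B ⟨y, hy⟩ := by
    rw [← algebraMap_smul (B ⊗[A] B) (Algebra.TensorProduct.lmul' A x : B)]
    rfl
  rw [h1, ← map_smul, ← map_smul]
  change (KaehlerDifferential.ideal A B).toCotangent _ = (KaehlerDifferential.ideal A B).toCotangent _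
  rw [Ideal.toCotangent_eq, pow_two]
  change x * y - (Algebra.TensorProduct.lmul' A x : B) ⊗ₜ[A] (1 : B) * y ∈ _
  rw [← sub_mul]
  refine Ideal.mul_mem_mul ?_ hy
  rw [RingHom.mem_ker]
  rw [map_sub, Algebra.TensorProduct.lmul'_apply_tmul, mul_one, sub_self]

theorem DiagData.toOmega_smul (t : T) (j : J) : h.toOmega hb (t • j) = μ t • h.toOmega hb j := by
  have h1 : h.toOmega hb (t • j) = (e hb).symm t • h.toOmega hb j := by
    rw [h.toOmega_apply, h.toOmega_apply, ← map_smul]
    congr 1
    ext
    change (e hb).symm (val (t • j)) = (e hb).symm t * (e hb).symm (val j)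
    rw [map_smul, smul_eq_mul, map_mul]
  rw [h1, smul_fromIdeal, ← h.μ_e hb, AlgEquiv.apply_symm_apply]

/-- The main statement. -/
theorem DiagData.bijective_lift (h : DiagData i₁ i₂ μ val ι)
    (hb : Function.Bijective (Algebra.TensorProduct.productMap i₁ i₂))
    (hspan : Submodule.span B (Set.range ι) = ⊤)
    (hlift : ∀ g : J →+ Ω[B⁄A], (∀ (t : T) (j : J), g (t • j) = μ t • g j) →
      ∃ ψ : M →ₗ[B] Ω[B⁄A], ∀ j, ψ (ι j) = g j) :
    Function.Bijective h.der.liftKaehlerDifferential := by
  constructor
  · obtain ⟨ψ, hψ⟩ := hlift (h.toOmega hb) (h.toOmega_smul hb)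
    have h1 : ψ ∘ₗ h.der.liftKaehlerDifferential = LinearMap.id := by
      apply Derivation.liftKaehlerDifferential_unique
      ext b
      change ψ (h.der.liftKaehlerDifferential (KaehlerDifferential.D A B b)) = KaehlerDifferential.D A B b
      rw [Derivation.liftKaehlerDifferential_comp_D, h.der_apply, hψ, h.toOmega_apply,
        KaehlerDifferential.D_apply]
      change (KaehlerDifferential.ideal A B).toCotangent _ = _
      congr 1
      ext
      change (e hb).symm (val (h.jj b)) = 1 ⊗ₜ b - b ⊗ₜ 1
      rw [h.val_jj, AlgEquiv.symm_apply_eq, map_sub, e_tmul, e_tmul]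
      simp
    intro x y hxy
    have := congrArg ψ hxy
    rwa [← LinearMap.comp_apply, ← LinearMap.comp_apply, h1] at this
  · rw [← LinearMap.range_eq_top, _root_.eq_top_iff, ← hspan, Submodule.span_le]
    rintro _ ⟨j, rfl⟩
    -- write `val j` as `e x` with `x` in the span of `1 ⊗ b - b ⊗ 1`
    have hx : (e hb).symm (val j) ∈ (KaehlerDifferential.ideal A B).restrictScalars B := h.symm_mem hb j
    rw [← KaehlerDifferential.submodule_span_range_eq_ideal] at hx
    have key : ∀ x ∈ Submodule.span B (Set.range fun s : B => (1 : B) ⊗ₜ[A] s - s ⊗ₜ[A] (1 : B)),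
        ∃ j : J, val j = e hb x ∧ ι j ∈ LinearMap.range h.der.liftKaehlerDifferential := by
      intro x hx
      induction hx using Submodule.span_induction with
      | mem x hx =>
        obtain ⟨b, rfl⟩ := hx
        refine ⟨h.jj b, ?_, ⟨KaehlerDifferential.D A B b, ?_⟩⟩
        · rw [h.val_jj, map_sub, e_tmul, e_tmul]
          simp
        · rw [Derivation.liftKaehlerDifferential_comp_D, h.der_apply]
      | zero => exact ⟨0, by simp, by simp⟩
      | add x y _ _ hx hy =>
        obtain ⟨j, hj, hj'⟩ := hx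
        obtain ⟨l, hl, hl'⟩ := hy
        exact ⟨j + l, by rw [map_add, map_add, hj, hl], by rw [map_add]; exact add_mem hj' hl'⟩
      | smul b x _ hx =>
        obtain ⟨j, hj, hj'⟩ := hx
        refine ⟨i₁ b • j, ?_, ?_⟩
        · rw [map_smul, hj]
          have : b • x = (b ⊗ₜ[A] (1 : B)) * x := by
            rw [← algebraMap_smul (B ⊗[A] B) b x]
            rfl
          rw [this, map_mul, e_tmul, map_one, mul_one, smul_eq_mul]
        · rw [h.smul, h.h₁]
          exact Submodule.smul_mem _ _ hj'
    obtain ⟨l, hl, hl'⟩ := key _ hx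
    rw [AlgEquiv.apply_symm_apply] at hl
    rwa [← h.inj hl]

end

end Groth.Agent.CurvesB.OmegaAlg
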