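import Groth.Agent.CurvesB.OmegaAlg
import Groth.Agent.PerfA.IdealModule
import Groth.Agent.VarietyB.PullSec
import Groth.Agent.Smoothlim.ConormalRes
import Mathlib.AlgebraicGeometry.Morphisms.Flat

/-!
# The universal derivation into `Omega.sheaf f`

For `f : X ⟶ Y` quasi-separated, `D f W : Γ(X, W) →+ Γ(Omega.sheaf f, W)`; over affine opens `U ⊆ Y`,
`W ≤ f ⁻¹ U` it identifies `Γ(Omega.sheaf f, W)` with `Ω[Γ(X, W)⁄Γ(Y, U)]`.
-/

set_option autoImplicit false
universe u
open CategoryTheory CategoryTheory.Limits AlgebraicGeometry Opposite TopologicalSpace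

namespace Groth.Agent.CurvesB.OmegaDer

open Groth.Agent.PerfA.IdealModule Groth.Agent.CohqB.QC2 Groth.Agent.CohqB.FiniteType2
open Groth.Agent.VarietyB

variable {X Y : Scheme.{u}} (f : X ⟶ Y)

/-- `W ×_Y W` inside `X ×_Y X`. -/
noncomputable def box (W : X.Opens) : (pullback f f).Opens :=
  pullback.fst f f ⁻¹ᵁ W ⊓ pullback.snd f f ⁻¹ᵁ W

theorem box_mono {W W' : X.Opens} (h : W ≤ W') : box f W ≤ box f W' :=
  inf_le_inf (Scheme.Hom.preimage_mono _ h) (Scheme.Hom.preimage_mono _ h)

theorem box_le_fst (W : X.Opens) : box f W ≤ pullback.fst f f ⁻¹ᵁ W := inf_le_left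

theorem box_le_snd (W : X.Opens) : box f W ≤ pullback.snd f f ⁻¹ᵁ W := inf_le_right

theorem preimage_box (W : X.Opens) : pullback.diagonal f ⁻¹ᵁ box f W = W := by
  have h1 : pullback.diagonal f ⁻¹ᵁ (pullback.fst f f ⁻¹ᵁ W) = W := by
    rw [← Scheme.Hom.comp_preimage, pullback.diagonal_fst]
    rfl
  have h2 : pullback.diagonal f ⁻¹ᵁ (pullback.snd f f ⁻¹ᵁ W) = W := by
    rw [← Scheme.Hom.comp_preimage, pullback.diagonal_snd]
    rfl
  rw [box, Scheme.Hom.preimage_inf, h1, h2, inf_idem]

theorem le_box (W : X.Opens) : W ≤ pullback.diagonal f ⁻¹ᵁ box f W := (preimage_box f W).ge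

/-- first projection on functions -/
noncomputable def p₁ (W : X.Opens) : Γ(X, W) ⟶ Γ(pullback f f, box f W) :=
  (pullback.fst f f).appLE W (box f W) (box_le_fst f W)

/-- second projection on functions -/
noncomputable def p₂ (W : X.Opens) : Γ(X, W) ⟶ Γ(pullback f f, box f W) :=
  (pullback.snd f f).appLE W (box f W) (box_le_snd f W)

/-- restriction to the diagonal on functions -/
noncomputable def mu (W : X.Opens) : Γ(pullback f f, box f W) ⟶ Γ(X, W) :=
  (pullback.diagonal f).appLE (box f W) W (le_box f W)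

theorem appLE_id (W : X.Opens) : (𝟙 X : X ⟶ X).appLE W W le_rfl = 𝟙 Γ(X, W) := by
  exact (Scheme.Hom.appLE_eq_app (𝟙 X)).trans (Scheme.Hom.id_app W)

theorem p₁_mu (W : X.Opens) : p₁ f W ≫ mu f W = 𝟙 _ := by
  rw [p₁, mu, Scheme.Hom.appLE_comp_appLE]
  simp only [pullback.diagonal_fst]
  exact appLE_id W

theorem p₂_mu (W : X.Opens) : p₂ f W ≫ mu f W = 𝟙 _ := by
  rw [p₂, mu, Scheme.Hom.appLE_comp_appLE]
  simp only [pullback.diagonal_snd]
  exact appLE_id W

theorem mu_p₁ (W : X.Opens) (s : Γ(X, W)) : mu f W (p₁ f W s) = s := congr($(p₁_mu f W) s)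

theorem mu_p₂ (W : X.Opens) (s : Γ(X, W)) : mu f W (p₂ f W s) = s := congr($(p₂_mu f W) s)

/-- The ideal module of the diagonal. -/
noncomputable abbrev I : (pullback f f).Modules := ClSub.idealMod (pullback.diagonal f).ker

theorem mu_eq_zero_iff [QuasiCompact (pullback.diagonal f)] (W : X.Opens) (a : Γ(pullback f f, box f W)) :
    mu f W a = 0 ↔ ∃ j : Γ(I f, box f W), val (pullback.diagonal f).ker j = a := by
  have h0 : mu f W a = 0 ↔ (pullback.diagonal f).app (box f W) a = 0 := by
    have h1 : mu f W a = X.presheaf.map (eqToHom (preimage_box f W).symm).op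
        ((pullback.diagonal f).app (box f W) a) := rfl
    rw [h1]
    have hinj : Function.Injective (X.presheaf.map (eqToHom (preimage_box f W).symm).op) :=
      (ConcreteCategory.bijective_of_isIso _).1
    constructor
    · intro h
      exact hinj (h.trans (map_zero (X.presheaf.map _).hom).symm)
    · intro h
      rw [h]
      exact map_zero (X.presheaf.map _).hom
  rw [h0, Smoothlim.ConormalRes.app_eq_zero_iff_imageι]
  exact (exact_app (pullback.diagonal f).ker (box f W)) a

/-- A pushout square of commutative rings `A → B, A → B` with vertex `T` gives `B ⊗[A] B ≃ T`. -/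
theorem bijective_of_isPushout {A B T : Type u} [CommRing A] [CommRing B] [CommRing T] [Algebra A B]
    [Algebra A T] (i₁ i₂ : B →ₐ[A] T)
    (h : IsPushout (CommRingCat.ofHom (algebraMap A B)) (CommRingCat.ofHom (algebraMap A B))
      (CommRingCat.ofHom i₁.toRingHom) (CommRingCat.ofHom i₂.toRingHom)) :
    Function.Bijective (Algebra.TensorProduct.productMap i₁ i₂) := by
  have h2 := CommRingCat.isPushout_tensorProduct A B B
  let e := h2.isoIsPushout _ _ h
  have he : (Algebra.TensorProduct.productMap i₁ i₂ : TensorProduct A B B →ₐ[A] T).toRingHom = e.hom.hom := by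
    have : CommRingCat.ofHom (Algebra.TensorProduct.productMap i₁ i₂ : TensorProduct A B B →ₐ[A] T).toRingHom
        = e.hom := by
      apply h2.hom_ext
      · rw [h2.inl_isoIsPushout_hom]
        ext b
        change Algebra.TensorProduct.productMap i₁ i₂ (b ⊗ₜ 1) = i₁ b
        simp
      · rw [h2.inr_isoIsPushout_hom]
        ext b
        change Algebra.TensorProduct.productMap i₁ i₂ (1 ⊗ₜ b) = i₂ b
        simp
    rw [← this]
    rfl
  have hb : Function.Bijective e.hom.hom := ConcreteCategory.bijective_of_isIso e.hom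
  rw [← he] at hb
  exact hb

/-- the inclusion of the ideal into functions, linear -/
noncomputable def valₗ (W : X.Opens) :
    Γ(I f, box f W) →ₗ[Γ(pullback f f, box f W)] Γ(pullback f f, box f W) :=
  appLinear (ClSub.idealModι (pullback.diagonal f).ker) (box f W)

theorem valₗ_injective (W : X.Opens) : Function.Injective (valₗ f W) :=
  ι_injective (pullback.diagonal f).ker (box f W)

/-- the canonical map from sections of the ideal to sections of `Ω`. -/
noncomputable def iota (W : X.Opens) : Γ(I f, box f W) →+ Γ(Omega.sheaf f, W) :=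
  PullSec.sec (pullback.diagonal f) (I f) (le_box f W)

theorem iota_smul (W : X.Opens) (t : Γ(pullback f f, box f W)) (j : Γ(I f, box f W)) :
    iota f W (t • j) = mu f W t • iota f W j :=
  PullSec.sec_smul (pullback.diagonal f) (I f) (le_box f W) t j

theorem exists_j [QuasiCompact (pullback.diagonal f)] (W : X.Opens) (s : Γ(X, W)) :
    ∃ j : Γ(I f, box f W), valₗ f W j = p₂ f W s - p₁ f W s := by
  refine (mu_eq_zero_iff f W _).mp ?_
  rw [map_sub, mu_p₁, mu_p₂, sub_self]

/-- the section of the diagonal ideal attached to a function -/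
noncomputable def jj [QuasiCompact (pullback.diagonal f)] (W : X.Opens) (s : Γ(X, W)) : Γ(I f, box f W) :=
  (exists_j f W s).choose

theorem valₗ_jj [QuasiCompact (pullback.diagonal f)] (W : X.Opens) (s : Γ(X, W)) :
    valₗ f W (jj f W s) = p₂ f W s - p₁ f W s := (exists_j f W s).choose_spec

/-- The universal derivation `Γ(X, W) → Γ(Ω_{X/Y}, W)`, as an additive map. -/
noncomputable def d [QuasiCompact (pullback.diagonal f)] (W : X.Opens) : Γ(X, W) →+ Γ(Omega.sheaf f, W) where
  toFun s := iota f W (jj f W s)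
  map_zero' := by
    have : jj f W 0 = 0 := by
      apply valₗ_injective f W
      rw [valₗ_jj, map_zero, map_zero, map_zero, sub_self]
    rw [this, map_zero]
  map_add' s t := by
    rw [← map_add]
    congr 1
    apply valₗ_injective f W
    rw [map_add, valₗ_jj, valₗ_jj, valₗ_jj, map_add, map_add]
    ring

theorem d_eq [QuasiCompact (pullback.diagonal f)] (W : X.Opens) (s : Γ(X, W)) (j : Γ(I f, box f W))
    (hj : valₗ f W j = p₂ f W s - p₁ f W s) : d f W s = iota f W j := by
  change iota f W _ = _
  congr 1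
  apply valₗ_injective f W
  rw [hj, valₗ_jj]

theorem d_mul [QuasiCompact (pullback.diagonal f)] (W : X.Opens) (s t : Γ(X, W)) :
    d f W (s * t) = s • d f W t + t • d f W s := by
  obtain ⟨j, hj⟩ := exists_j f W s
  obtain ⟨l, hl⟩ := exists_j f W t
  have h1 : valₗ f W (p₂ f W s • l + p₁ f W t • j) = p₂ f W (s * t) - p₁ f W (s * t) := by
    rw [map_add, map_smul, map_smul, hj, hl, map_mul, map_mul, smul_eq_mul, smul_eq_mul]
    ring
  rw [d_eq f W _ _ h1, d_eq f W s j hj, d_eq f W t l hl, map_add, iota_smul, iota_smul, mu_p₁, mu_p₂]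

theorem p₁_res {W W' : X.Opens} (h : W' ≤ W) (s : Γ(X, W)) :
    (pullback f f).presheaf.map (homOfLE (box_mono f h)).op (p₁ f W s) =
      p₁ f W' (X.presheaf.map (homOfLE h).op s) := by
  rw [p₁, p₁]
  exact congr($((Scheme.Hom.appLE_map (pullback.fst f f) (box_le_fst f W) (homOfLE (box_mono f h)).op).trans
    (Scheme.Hom.map_appLE (pullback.fst f f) (box_le_fst f W') (homOfLE h).op).symm) s)

theorem p₂_res {W W' : X.Opens} (h : W' ≤ W) (s : Γ(X, W)) :
    (pullback f f).presheaf.map (homOfLE (box_mono f h)).op (p₂ f W s) =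
      p₂ f W' (X.presheaf.map (homOfLE h).op s) := by
  rw [p₂, p₂]
  exact congr($((Scheme.Hom.appLE_map (pullback.snd f f) (box_le_snd f W) (homOfLE (box_mono f h)).op).trans
    (Scheme.Hom.map_appLE (pullback.snd f f) (box_le_snd f W') (homOfLE h).op).symm) s)

theorem valₗ_res {W W' : X.Opens} (h : W' ≤ W) (j : Γ(I f, box f W)) :
    valₗ f W' ((I f).presheaf.map (homOfLE (box_mono f h)).op j) =
      (pullback f f).presheaf.map (homOfLE (box_mono f h)).op (valₗ f W j) :=
  val_res (pullback.diagonal f).ker (box_mono f h) j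

theorem iota_res {W W' : X.Opens} (h : W' ≤ W) (j : Γ(I f, box f W)) :
    (Omega.sheaf f).presheaf.map (homOfLE h).op (iota f W j) =
      iota f W' ((I f).presheaf.map (homOfLE (box_mono f h)).op j) :=
  PullSec.sec_res (pullback.diagonal f) (I f) (le_box f W) (le_box f W') (box_mono f h) h j

/-- `d` commutes with restriction. -/
theorem d_res [QuasiCompact (pullback.diagonal f)] {W W' : X.Opens} (h : W' ≤ W) (s : Γ(X, W)) :
    (Omega.sheaf f).presheaf.map (homOfLE h).op (d f W s) = d f W' (X.presheaf.map (homOfLE h).op s) := by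
  obtain ⟨j, hj⟩ := exists_j f W s
  rw [d_eq f W s j hj, iota_res f h]
  symm
  apply d_eq
  rw [valₗ_res f h, hj, map_sub, p₁_res f h, p₂_res f h]

section Alg

variable {U : Y.Opens} {W : X.Opens} (e : W ≤ f ⁻¹ᵁ U)

/-- `Γ(X, W)` as a `Γ(Y, U)`-algebra. -/
noncomputable abbrev algX : Algebra Γ(Y, U) Γ(X, W) := (f.appLE U W e).hom.toAlgebra

/-- functions on the box as a `Γ(Y, U)`-algebra. -/
noncomputable abbrev algP : Algebra Γ(Y, U) Γ(pullback f f, box f W) :=
  ((p₁ f W).hom.comp (f.appLE U W e).hom).toAlgebra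

/-- sections of `Ω` as a `Γ(Y, U)`-module -/
noncomputable abbrev modO : Module Γ(Y, U) Γ(Omega.sheaf f, W) :=
  Module.compHom _ (f.appLE U W e).hom

theorem p₂_comp : f.appLE U W e ≫ p₂ f W = f.appLE U W e ≫ p₁ f W := by
  rw [p₁, p₂, Scheme.Hom.appLE_comp_appLE, Scheme.Hom.appLE_comp_appLE]
  simp only [pullback.condition]

theorem isScalarTower :
    letI := algX f e
    letI := modO f e
    IsScalarTower Γ(Y, U) Γ(X, W) Γ(Omega.sheaf f, W) := by
  let := algX f e
  let := modO f e
  refine ⟨fun a b c => ?_⟩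
  rw [Algebra.smul_def, mul_smul]
  rfl

/-- `p₁` as an algebra map -/
noncomputable def i₁ :
    letI := algX f e
    letI := algP f e
    Γ(X, W) →ₐ[Γ(Y, U)] Γ(pullback f f, box f W) :=
  letI := algX f e
  letI := algP f e
  { (p₁ f W).hom with commutes' := fun _ => rfl }

/-- `p₂` as an algebra map -/
noncomputable def i₂ :
    letI := algX f e
    letI := algP f e
    Γ(X, W) →ₐ[Γ(Y, U)] Γ(pullback f f, box f W) :=
  letI := algX f e
  letI := algP f e
  { (p₂ f W).hom with commutes' := fun a => congr($(p₂_comp f e) a) }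

theorem diagData [QuasiCompact (pullback.diagonal f)] :
    letI := algX f e
    letI := algP f e
    letI := modO f e
    haveI := isScalarTower f e
    OmegaAlg.DiagData (i₁ f e) (i₂ f e) (mu f W).hom (valₗ f W) (iota f W) := by
  let := algX f e
  let := algP f e
  let := modO f e
  have := isScalarTower f e
  exact
  { h₁ := mu_p₁ f W
    h₂ := mu_p₂ f W
    inj := valₗ_injective f W
    ker := mu_eq_zero_iff f W
    smul := iota_smul f W }

/-- The universal derivation `Γ(X, W) → Γ(Ω_{X/Y}, W)`, over `Γ(Y, U)`. -/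
noncomputable def der [QuasiCompact (pullback.diagonal f)] :
    letI := algX f e
    letI := modO f e
    haveI := isScalarTower f e
    Derivation Γ(Y, U) Γ(X, W) Γ(Omega.sheaf f, W) :=
  letI := algX f e
  letI := algP f e
  letI := modO f e
  haveI := isScalarTower f e
  (diagData f e).der

theorem der_apply [QuasiCompact (pullback.diagonal f)] (s : Γ(X, W)) :
    letI := algX f e
    letI := modO f e
    haveI := isScalarTower f e
    der f e s = d f W s := by
  let := algX f e
  let := algP f e
  let := modO f e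
  have := isScalarTower f e
  obtain ⟨j, hj⟩ := exists_j f W s
  rw [d_eq f W s j hj]
  exact (diagData f e).der_eq s j hj

theorem bijective_productMap (hU : IsAffineOpen U) (hW : IsAffineOpen W) :
    letI := algX f e
    letI := algP f e
    Function.Bijective (Algebra.TensorProduct.productMap (i₁ f e) (i₂ f e)) := by
  let := algX f e
  let := algP f e
  apply bijective_of_isPushout
  have H := (isIso_pushoutSection_iff (IsPullback.of_hasPullback f f) (US := U) (UT := W) (UX := W)
    e e (UY := box f W) rfl).mp (isIso_pushoutSection_of_isAffineOpen _ e e rfl hU hW hW)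
  exact H

include e in
theorem isAffineOpen_box (hU : IsAffineOpen U) (hW : IsAffineOpen W) : IsAffineOpen (box f W) := by
  have : IsAffine _ := hU
  have : IsAffine _ := hW
  exact .of_isIso (Scheme.Hom.isPullback_resLE (IsPullback.of_hasPullback f f) (US := U) (UT := W) (UX := W)
    e e (UY := box f W) rfl).isoPullback.hom

/-- Over affine opens, `Ω[Γ(X, W)⁄Γ(Y, U)] → Γ(Ω_{X/Y}, W)` is bijective. -/
theorem bijective_lift [QuasiCompact (pullback.diagonal f)] (hU : IsAffineOpen U) (hW : IsAffineOpen W) :
    letI := algX f e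
    letI := modO f e
    haveI := isScalarTower f e
    Function.Bijective (der f e).liftKaehlerDifferential := by
  let := algX f e
  let := algP f e
  let := modO f e
  have := isScalarTower f e
  let j1 : Algebra Γ(pullback f f, box f W) Γ(X, W) := (mu f W).hom.toAlgebra
  let j2 : Module Γ(pullback f f, box f W) Γ(Omega.sheaf f, W) :=
    PullSec.secModule (pullback.diagonal f) (I f) (le_box f W)
  have j3 : IsScalarTower Γ(pullback f f, box f W) Γ(X, W) Γ(Omega.sheaf f, W) :=
      ⟨fun a b c => by rw [Algebra.smul_def, mul_smul]; rfl⟩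
  let sl : Γ(I f, box f W) →ₗ[Γ(pullback f f, box f W)] Γ(Omega.sheaf f, W) :=
    PullSec.secₗ (pullback.diagonal f) (I f) (le_box f W)
  have hbc : IsBaseChange Γ(X, W) sl :=
    PullSec.isBaseChange_secₗ (pullback.diagonal f) (I f) (le_box f W) (isQCoh_idealMod _)
      (isAffineOpen_box f e hU hW) hW
  refine (diagData f e).bijective_lift (bijective_productMap f e hU hW) ?_ ?_
  · rw [_root_.eq_top_iff]
    rintro x -
    refine hbc.inductionOn x (motive := fun x => x ∈ Submodule.span Γ(X, W) (Set.range (iota f W))) ?_ ?_ ?_ ?_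
    · exact zero_mem _
    · intro m
      exact Submodule.subset_span ⟨m, rfl⟩
    · intro s n hn
      exact Submodule.smul_mem _ s hn
    · intro a b ha hb
      exact add_mem ha hb
  · intro g hg
    let g' : Γ(I f, box f W) →ₗ[Γ(pullback f f, box f W)] Ω[Γ(X, W)⁄Γ(Y, U)] :=
      { g with map_smul' := fun t j => (hg t j).trans (algebraMap_smul Γ(X, W) t (g j)) }
    exact ⟨hbc.lift g', fun j => hbc.lift_eq g' j⟩

end Alg

end Groth.Agent.CurvesB.OmegaDer
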