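import Mathlib.LinearAlgebra.Dual.Lemmas
import Mathlib.LinearAlgebra.FiniteDimensional.Lemmas
import Mathlib.RingTheory.DedekindDomain.Ideal.Basic
import Mathlib.RingTheory.DedekindDomain.Ideal.Lemmas
import Mathlib.RingTheory.FractionalIdeal.Operations

/-!
# Weil duality, one point at infinity (pure algebra)
-/

set_option autoImplicit false

namespace Groth.Agent.CurvesB.WeilPair

open Module

section Count

variable {k V : Type*} [Field k] [AddCommGroup V] [Module k V]

/-- `dim F'/F ≤ dim (F' ⊓ G) + dim V/(F ⊔ G)`. -/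
theorem count_le (F F' G : Submodule k V) (hF : F ≤ F') [FiniteDimensional k (V ⧸ (F ⊔ G))]
    [FiniteDimensional k (F' ⊓ G : Submodule k V)] :
    FiniteDimensional k (F' ⧸ F.submoduleOf F') ∧
    finrank k (F' ⧸ F.submoduleOf F') ≤ finrank k (F' ⊓ G : Submodule k V) + finrank k (V ⧸ (F ⊔ G)) := by
  let φ : (F' ⧸ F.submoduleOf F') →ₗ[k] V ⧸ (F ⊔ G) :=
    (F.submoduleOf F').liftQ ((F ⊔ G).mkQ ∘ₗ F'.subtype) (fun x hx => by
      rw [LinearMap.mem_ker]
      change (F ⊔ G).mkQ (x : V) = 0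
      rw [Submodule.mkQ_apply, Submodule.Quotient.mk_eq_zero]
      exact Submodule.mem_sup_left hx)
  let ψ : (F' ⊓ G : Submodule k V) →ₗ[k] (F' ⧸ F.submoduleOf F') :=
    (F.submoduleOf F').mkQ ∘ₗ Submodule.inclusion inf_le_left
  have hker : LinearMap.ker φ ≤ LinearMap.range ψ := by
    intro y hy
    obtain ⟨x, rfl⟩ := (F.submoduleOf F').mkQ_surjective y
    have hx : (x : V) ∈ F ⊔ G := by
      rw [LinearMap.mem_ker] at hy
      change (F ⊔ G).mkQ (x : V) = 0 at hy
      rwa [Submodule.mkQ_apply, Submodule.Quotient.mk_eq_zero] at hy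
    obtain ⟨a, ha, g, hg, hag⟩ := Submodule.mem_sup.mp hx
    have hg' : g ∈ F' := by
      have : g = x - a := by rw [← hag]; abel
      rw [this]
      exact F'.sub_mem x.2 (hF ha)
    refine ⟨⟨g, hg', hg⟩, ?_⟩
    change (F.submoduleOf F').mkQ ⟨g, hg'⟩ = (F.submoduleOf F').mkQ x
    rw [← sub_eq_zero, ← map_sub, Submodule.mkQ_apply, Submodule.Quotient.mk_eq_zero]
    change g - x ∈ F
    rw [← hag]
    simpa using ha
  have : FiniteDimensional k (LinearMap.range ψ) := inferInstance
  have hk : FiniteDimensional k (LinearMap.ker φ) := Submodule.finiteDimensional_of_le hker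
  have hr : FiniteDimensional k (LinearMap.range φ) := inferInstance
  have hfd : FiniteDimensional k (F' ⧸ F.submoduleOf F') := by
    have e := φ.quotKerEquivRange
    have : FiniteDimensional k ((F' ⧸ F.submoduleOf F') ⧸ LinearMap.ker φ) :=
      Module.Finite.equiv e.symm
    exact Module.Finite.of_submodule_quotient (LinearMap.ker φ)
  refine ⟨hfd, ?_⟩
  rw [← LinearMap.finrank_range_add_finrank_ker φ, add_comm]
  refine add_le_add ?_ (Submodule.finrank_le _)
  exact (Submodule.finrank_mono hker).trans (LinearMap.finrank_range_le ψ)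

/-- `dim V/(F ⊔ G) ≤ dim F'/F + dim V/(F' ⊔ G)`. -/
theorem quot_le (F F' G : Submodule k V) [FiniteDimensional k (F' ⧸ F.submoduleOf F')]
    [FiniteDimensional k (V ⧸ (F' ⊔ G))] (hF : F ≤ F') :
    FiniteDimensional k (V ⧸ (F ⊔ G)) ∧
    finrank k (V ⧸ (F ⊔ G)) ≤ finrank k (F' ⧸ F.submoduleOf F') + finrank k (V ⧸ (F' ⊔ G)) := by
  let ψ : (F' ⧸ F.submoduleOf F') →ₗ[k] V ⧸ (F ⊔ G) :=
    (F.submoduleOf F').liftQ ((F ⊔ G).mkQ ∘ₗ F'.subtype) (fun x hx => by
      rw [LinearMap.mem_ker]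
      change (F ⊔ G).mkQ (x : V) = 0
      rw [Submodule.mkQ_apply, Submodule.Quotient.mk_eq_zero]
      exact Submodule.mem_sup_left hx)
  let φ : (V ⧸ (F ⊔ G)) →ₗ[k] V ⧸ (F' ⊔ G) := Submodule.factor (sup_le_sup_right hF G)
  have hker : LinearMap.ker φ ≤ LinearMap.range ψ := by
    intro y hy
    obtain ⟨x, rfl⟩ := (F ⊔ G).mkQ_surjective y
    have hx : x ∈ F' ⊔ G := by
      rw [LinearMap.mem_ker] at hy
      change (F' ⊔ G).mkQ x = 0 at hy
      rwa [Submodule.mkQ_apply, Submodule.Quotient.mk_eq_zero] at hy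
    obtain ⟨a, ha, g, hg, rfl⟩ := Submodule.mem_sup.mp hx
    refine ⟨(F.submoduleOf F').mkQ ⟨a, ha⟩, ?_⟩
    change (F ⊔ G).mkQ a = (F ⊔ G).mkQ (a + g)
    rw [map_add, left_eq_add, Submodule.mkQ_apply, Submodule.Quotient.mk_eq_zero]
    exact Submodule.mem_sup_right hg
  have : FiniteDimensional k (LinearMap.range ψ) := inferInstance
  have hk : FiniteDimensional k (LinearMap.ker φ) := Submodule.finiteDimensional_of_le hker
  have hr : FiniteDimensional k (LinearMap.range φ) := inferInstance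
  have hfd : FiniteDimensional k (V ⧸ (F ⊔ G)) := by
    have e := φ.quotKerEquivRange
    have : FiniteDimensional k ((V ⧸ (F ⊔ G)) ⧸ LinearMap.ker φ) :=
      Module.Finite.equiv e.symm
    exact Module.Finite.of_submodule_quotient (LinearMap.ker φ)
  refine ⟨hfd, ?_⟩
  rw [← LinearMap.finrank_range_add_finrank_ker φ, add_comm]
  refine add_le_add ?_ (Submodule.finrank_le _)
  exact (Submodule.finrank_mono hker).trans (LinearMap.finrank_range_le ψ)

end Count

section Lattice

variable {k K R : Type*} [Field k] [Field K] [Algebra k K] [CommRing R] [Algebra k R] [Algebra R K]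
  [IsScalarTower k R K]

/-- the `k`-subspace `R·l` of `K` -/
abbrev sp (k R : Type*) {K : Type*} [Field k] [Field K] [Algebra k K] [CommRing R] [Algebra k R] [Algebra R K]
    [IsScalarTower k R K] (l : K) : Submodule k K :=
  (Submodule.span R {l}).restrictScalars k

theorem mem_sp {l x : K} : x ∈ sp k R l ↔ ∃ a : R, algebraMap R K a * l = x := by
  rw [Submodule.restrictScalars_mem, Submodule.mem_span_singleton]
  simp [Algebra.smul_def]

theorem sp_le (r : R) (hr : algebraMap R K r ≠ 0) (l : K) : sp k R l ≤ sp k R (l / algebraMap R K r) := by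
  intro x hx
  obtain ⟨a, rfl⟩ := mem_sp.mp hx
  refine mem_sp.mpr ⟨a * r, ?_⟩
  rw [map_mul]
  field_simp

/-- `R/(r) ≃ R(l/r) / R l`. -/
noncomputable def quotEquiv (hinj : Function.Injective (algebraMap R K)) (r : R)
    (hr : algebraMap R K r ≠ 0) (l : K) (hl : l ≠ 0) :
    (R ⧸ Ideal.span {r}) ≃ₗ[k]
      (sp k R (l / algebraMap R K r) ⧸ (sp k R l).submoduleOf (sp k R (l / algebraMap R K r))) := by
  let i : R →ₗ[k] sp k R (l / algebraMap R K r) :=
    { toFun := fun a => ⟨algebraMap R K a * (l / algebraMap R K r), mem_sp.mpr ⟨a, rfl⟩⟩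
      map_add' := fun a b => by
        ext
        simp [add_mul]
      map_smul' := fun c a => by
        ext
        change algebraMap R K (c • a) * _ = c • (algebraMap R K a * _)
        rw [show algebraMap R K (c • a) = c • algebraMap R K a from
          (IsScalarTower.toAlgHom k R K).toLinearMap.map_smul c a, smul_mul_assoc] }
  let φ := ((sp k R l).submoduleOf (sp k R (l / algebraMap R K r))).mkQ ∘ₗ i
  have hsurj : Function.Surjective φ := by
    refine (Submodule.mkQ_surjective _).comp ?_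
    rintro ⟨x, hx⟩
    obtain ⟨a, rfl⟩ := mem_sp.mp hx
    exact ⟨a, rfl⟩
  have hker : (Ideal.span {r} : Ideal R).restrictScalars k = LinearMap.ker φ := by
    ext a
    rw [Submodule.restrictScalars_mem, LinearMap.mem_ker]
    change _ ↔ (Submodule.mkQ _ (i a)) = 0
    rw [Submodule.mkQ_apply, Submodule.Quotient.mk_eq_zero]
    change _ ↔ algebraMap R K a * (l / algebraMap R K r) ∈ sp k R l
    rw [mem_sp, Ideal.mem_span_singleton']
    refine exists_congr fun b => ?_
    rw [← hinj.eq_iff, map_mul]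
    constructor
    · intro h
      rw [← h]
      field_simp
    · intro h
      have h2 : algebraMap R K b * l * algebraMap R K r = algebraMap R K a * l := by
        rw [h]
        field_simp
      have h3 : (algebraMap R K b * algebraMap R K r) * l = algebraMap R K a * l := by
        rw [← h2]
        ring
      exact mul_right_cancel₀ hl h3
  exact (Submodule.Quotient.restrictScalarsEquiv k (Ideal.span {r} : Ideal R)).symm ≪≫ₗ
    Submodule.quotEquivOfEq _ _ hker ≪≫ₗ φ.quotKerEquivOfSurjective hsurj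

variable {C : Type*} [CommRing C] [Algebra k C] [Algebra C K] [IsScalarTower k C K]

/-- Weil: there are `a, b`, not both zero, with `μ (f a) = ν (f b)` for all `f ∈ K`. -/
theorem exists_pair (hinj : Function.Injective (algebraMap R K))
    (LC EC : Submodule C K) (l e : K) (hl : l ≠ 0) (he : e ≠ 0)
    [FiniteDimensional k (K ⧸ (sp k R l ⊔ LC.restrictScalars k))]
    [FiniteDimensional k (K ⧸ (sp k R e ⊔ EC.restrictScalars k))]
    [FiniteDimensional k (K ⧸ (sp k R (1 : K) ⊔ sp k C (1 : K)))]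
    (hbig : ∀ N : ℕ, ∃ r : R, r ≠ 0 ∧ FiniteDimensional k (R ⧸ Ideal.span {r}) ∧
      N < finrank k (R ⧸ Ideal.span {r}))
    (μ ν : K →ₗ[k] k) (hμR : ∀ x ∈ sp k R l, μ x = 0) (hμC : ∀ x ∈ LC, μ x = 0)
    (hνR : ∀ x ∈ sp k R e, ν x = 0) (hνC : ∀ x ∈ EC, ν x = 0) :
    ∃ a b : K, (a ≠ 0 ∨ b ≠ 0) ∧ ∀ f, μ (f * a) = ν (f * b) := by
  by_contra hcon
  push Not at hcon
  obtain ⟨r, hr0, hfd, hN⟩ := hbig (finrank k (K ⧸ (sp k R l ⊔ LC.restrictScalars k)) +
    finrank k (K ⧸ (sp k R e ⊔ EC.restrictScalars k)) +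
    finrank k (K ⧸ (sp k R (1 : K) ⊔ sp k C (1 : K))))
  have hr : algebraMap R K r ≠ 0 := by
    rw [Ne, map_eq_zero_iff _ hinj]
    exact hr0
  let r' := algebraMap R K r
  have hr' : r' ≠ 0 := hr
  -- the two source spaces
  let HL : Submodule k K := sp k R (l / r') ⊓ LC.restrictScalars k
  let HE : Submodule k K := sp k R (e / r') ⊓ EC.restrictScalars k
  -- the target
  let T := K ⧸ (sp k R r' ⊔ sp k C (1 : K))
  have eT := quotEquiv (k := k) hinj r hr r' hr
  rw [div_self hr] at eT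
  have hT0 : FiniteDimensional k (sp k R (1 : K) ⧸ (sp k R r').submoduleOf (sp k R (1 : K))) :=
    Module.Finite.equiv eT
  have hle : sp k R r' ≤ sp k R (1 : K) := by
    have := sp_le (k := k) r hr r'
    rwa [div_self hr] at this
  obtain ⟨hTfd, hT⟩ := quot_le (sp k R r') (sp k R (1 : K)) (sp k C (1 : K)) hle
  rw [← eT.finrank_eq] at hT
  change finrank k T ≤ _ at hT
  -- the pairing map
  let pair (μ : K →ₗ[k] k) : K →ₗ[k] (K →ₗ[k] k) :=
    LinearMap.mk₂ k (fun a f => μ (f * a)) (fun a a' f => by rw [mul_add, map_add])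
      (fun c a f => by rw [mul_smul_comm, map_smul, smul_eq_mul])
      (fun a f f' => by rw [add_mul, map_add])
      (fun c a f => by rw [smul_mul_assoc, map_smul, smul_eq_mul])
  have hkill : ∀ (M : Submodule C K) (m : K) (ρ : K →ₗ[k] k), (∀ x ∈ sp k R m, ρ x = 0) →
      (∀ x ∈ M, ρ x = 0) → ∀ a ∈ (sp k R (m / r') ⊓ M.restrictScalars k : Submodule k K),
      ∀ x ∈ sp k R r' ⊔ sp k C (1 : K), ρ (x * a) = 0 := by
    intro M m ρ h1 h2 a ha x hx
    obtain ⟨y, hy, z, hz, rfl⟩ := Submodule.mem_sup.mp hx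
    obtain ⟨y, rfl⟩ := mem_sp.mp hy
    obtain ⟨z, rfl⟩ := mem_sp.mp hz
    obtain ⟨c, hc⟩ := mem_sp.mp ha.1
    rw [add_mul, map_add, h1, h2, add_zero]
    · have : algebraMap C K z * 1 * a = z • a := by rw [mul_one, Algebra.smul_def]
      rw [this]
      exact M.smul_mem z ha.2
    · refine mem_sp.mpr ⟨y * c, ?_⟩
      rw [← hc, map_mul]
      field_simp
  let Φ : (HL × HE) →ₗ[k] (K →ₗ[k] k) :=
    (pair μ ∘ₗ HL.subtype).coprod (- (pair ν ∘ₗ HE.subtype))
  have hΦ : ∀ (x : HL × HE) (f : K), Φ x f = μ (f * x.1) - ν (f * x.2) := by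
    intro x f
    simp [Φ, pair, sub_eq_add_neg]
  have hΦinj : Function.Injective Φ := by
    rw [injective_iff_map_eq_zero]
    intro x hx
    by_contra hne
    have h3 : ∀ f, μ (f * x.1) = ν (f * x.2) := by
      intro f
      rw [← sub_eq_zero, ← hΦ, hx]
      rfl
    have h4 : ((x.1 : K) ≠ 0 ∨ (x.2 : K) ≠ 0) := by
      by_contra h5
      push Not at h5
      apply hne
      ext
      · exact h5.1
      · exact h5.2
    obtain ⟨f, hf⟩ := hcon _ _ h4
    exact hf (h3 f)
  -- factor through the dual of `T`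
  let Ψ : (HL × HE) →ₗ[k] (T →ₗ[k] k) :=
    { toFun := fun x => (sp k R r' ⊔ sp k C (1 : K)).liftQ (Φ x) (fun y hy => by
        rw [LinearMap.mem_ker, hΦ, hkill LC l μ hμR hμC _ x.1.2 _ hy,
          hkill EC e ν hνR hνC _ x.2.2 _ hy, sub_zero])
      map_add' := fun x y => by
        apply Submodule.linearMap_qext
        ext f
        simp
      map_smul' := fun c x => by
        apply Submodule.linearMap_qext
        ext f
        simp }
  have hΨinj : Function.Injective Ψ := by
    intro x y hxy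
    apply hΦinj
    ext f
    have := LinearMap.congr_fun hxy ((sp k R r' ⊔ sp k C (1 : K)).mkQ f)
    exact this
  have hfdT : FiniteDimensional k (T →ₗ[k] k) := inferInstance
  have hfdS : FiniteDimensional k (HL × HE) := Module.Finite.of_injective Ψ hΨinj
  have hfL : FiniteDimensional k HL := Module.Finite.of_surjective (LinearMap.fst k HL HE) LinearMap.fst_surjective
  have hfE : FiniteDimensional k HE := Module.Finite.of_surjective (LinearMap.snd k HL HE) LinearMap.snd_surjective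
  have hdim : finrank k HL + finrank k HE ≤ finrank k T := by
    rw [← Module.finrank_prod, ← Subspace.dual_finrank_eq (K := k) (V := T)]
    exact LinearMap.finrank_le_finrank_of_injective hΨinj
  obtain ⟨-, hL⟩ := count_le (sp k R l) (sp k R (l / r')) (LC.restrictScalars k) (sp_le r hr l)
  obtain ⟨-, hE⟩ := count_le (sp k R e) (sp k R (e / r')) (EC.restrictScalars k) (sp_le r hr e)
  rw [← (quotEquiv (k := k) hinj r hr l hl).finrank_eq] at hL
  rw [← (quotEquiv (k := k) hinj r hr e he).finrank_eq] at hE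
  change _ ≤ finrank k HL + _ at hL
  change _ ≤ finrank k HE + _ at hE
  omega

/-- A functional killing `L` is `f ↦ ν (f c)` for a `c` mapping `L` to `E`, for a nondegenerate `ν`. -/
theorem exists_mul (hinj : Function.Injective (algebraMap R K))
    (LC EC : Submodule C K) (l e : K) (hl : l ≠ 0) (he : e ≠ 0)
    [FiniteDimensional k (K ⧸ (sp k R l ⊔ LC.restrictScalars k))]
    [FiniteDimensional k (K ⧸ (sp k R e ⊔ EC.restrictScalars k))]
    [FiniteDimensional k (K ⧸ (sp k R (1 : K) ⊔ sp k C (1 : K)))]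
    (hbig : ∀ N : ℕ, ∃ r : R, r ≠ 0 ∧ FiniteDimensional k (R ⧸ Ideal.span {r}) ∧
      N < finrank k (R ⧸ Ideal.span {r}))
    (μ ν : K →ₗ[k] k) (hμR : ∀ x ∈ sp k R l, μ x = 0) (hμC : ∀ x ∈ LC, μ x = 0)
    (hνR : ∀ x ∈ sp k R e, ν x = 0) (hνC : ∀ x ∈ EC, ν x = 0) (hν0 : ν ≠ 0)
    (ndR : ∀ N : Submodule R K, Submodule.span R {e} < N → ∃ x ∈ N, ν x ≠ 0)
    (ndC : ∀ N : Submodule C K, EC < N → ∃ x ∈ N, ν x ≠ 0) :
    ∃ c : K, (∀ f, μ f = ν (f * c)) ∧ (∀ x ∈ LC, x * c ∈ EC) ∧ (∀ x ∈ sp k R l, x * c ∈ sp k R e) := by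
  obtain ⟨a, b, hab, h⟩ := exists_pair hinj LC EC l e hl he hbig μ ν hμR hμC hνR hνC
  have ha : a ≠ 0 := by
    rintro rfl
    have hb : b ≠ 0 := by simpa using hab
    apply hν0
    ext f
    have := h (f / b)
    rw [mul_zero, map_zero, div_mul_cancel₀ _ hb] at this
    exact this.symm
  have hc : ∀ f, μ f = ν (f * (b / a)) := by
    intro f
    have := h (f / a)
    rw [div_mul_cancel₀ _ ha] at this
    rw [this]
    congr 1
    field_simp
  refine ⟨b / a, hc, ?_, ?_⟩
  · let N : Submodule C K := EC ⊔ LC.map (LinearMap.mulRight C (b / a))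
    have hN : ¬ EC < N := by
      intro hlt
      obtain ⟨x, hx, hx'⟩ := ndC N hlt
      obtain ⟨y, hy, z, hz, rfl⟩ := Submodule.mem_sup.mp hx
      obtain ⟨z, hz, rfl⟩ := hz
      apply hx'
      rw [map_add, hνC y hy, zero_add]
      change ν (z * (b / a)) = 0
      rw [← hc, hμC z hz]
    have hN' : N = EC := by
      by_contra hne
      exact hN (lt_of_le_of_ne le_sup_left (Ne.symm hne))
    intro x hx
    rw [← hN']
    exact Submodule.mem_sup_right ⟨x, hx, rfl⟩
  · let N : Submodule R K := Submodule.span R {e} ⊔ (Submodule.span R {l}).map (LinearMap.mulRight R (b / a))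
    have hN : ¬ Submodule.span R {e} < N := by
      intro hlt
      obtain ⟨x, hx, hx'⟩ := ndR N hlt
      obtain ⟨y, hy, z, hz, rfl⟩ := Submodule.mem_sup.mp hx
      obtain ⟨z, hz, rfl⟩ := hz
      apply hx'
      rw [map_add, hνR y hy, zero_add]
      change ν (z * (b / a)) = 0
      rw [← hc, hμR z hz]
    have hN' : N = Submodule.span R {e} := by
      by_contra hne
      exact hN (lt_of_le_of_ne le_sup_left (Ne.symm hne))
    intro x hx
    rw [Submodule.restrictScalars_mem, ← hN']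
    exact Submodule.mem_sup_right ⟨x, hx, rfl⟩

/-- The space of `c ∈ K` mapping the lattice `L` to the lattice `E`. -/
def homs (k : Type*) {K R C : Type*} [Field k] [Field K] [Algebra k K] [CommRing R] [Algebra k R] [Algebra R K]
    [IsScalarTower k R K] [CommRing C] [Algebra k C] [Algebra C K] [IsScalarTower k C K]
    (LR ER : Submodule R K) (LC EC : Submodule C K) : Submodule k K where
  carrier := {c | (∀ x ∈ LC, x * c ∈ EC) ∧ (∀ x ∈ LR, x * c ∈ ER)}
  add_mem' := fun {a b} ha hb => ⟨fun x hx => by rw [mul_add]; exact EC.add_mem (ha.1 x hx) (hb.1 x hx),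
    fun x hx => by rw [mul_add]; exact ER.add_mem (ha.2 x hx) (hb.2 x hx)⟩
  zero_mem' := ⟨fun x _ => by rw [mul_zero]; exact EC.zero_mem, fun x _ => by
    rw [mul_zero]; exact ER.zero_mem⟩
  smul_mem' := fun c a ha => ⟨fun x hx => by
      rw [mul_smul_comm, ← algebraMap_smul C c (x * a)]
      exact EC.smul_mem _ (ha.1 x hx), fun x hx => by
      rw [mul_smul_comm, ← algebraMap_smul R c (x * a)]
      exact ER.smul_mem _ (ha.2 x hx)⟩

/-- Weil duality: `Hom(L, E)` is dual to `K / (L_R + L_C)`. -/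
theorem finrank_homs (hinj : Function.Injective (algebraMap R K))
    (LC EC : Submodule C K) (l e : K) (hl : l ≠ 0) (he : e ≠ 0)
    [FiniteDimensional k (K ⧸ (sp k R l ⊔ LC.restrictScalars k))]
    [FiniteDimensional k (K ⧸ (sp k R e ⊔ EC.restrictScalars k))]
    [FiniteDimensional k (K ⧸ (sp k R (1 : K) ⊔ sp k C (1 : K)))]
    (hbig : ∀ N : ℕ, ∃ r : R, r ≠ 0 ∧ FiniteDimensional k (R ⧸ Ideal.span {r}) ∧
      N < finrank k (R ⧸ Ideal.span {r}))
    (ν : K →ₗ[k] k)
    (hνR : ∀ x ∈ sp k R e, ν x = 0) (hνC : ∀ x ∈ EC, ν x = 0) (hν0 : ν ≠ 0)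
    (ndR : ∀ N : Submodule R K, Submodule.span R {e} < N → ∃ x ∈ N, ν x ≠ 0)
    (ndC : ∀ N : Submodule C K, EC < N → ∃ x ∈ N, ν x ≠ 0) :
    finrank k (homs k (Submodule.span R {l}) (Submodule.span R {e}) LC EC) =
      finrank k (K ⧸ (sp k R l ⊔ LC.restrictScalars k)) := by
  rw [← Subspace.dual_finrank_eq (K := k) (V := K ⧸ (sp k R l ⊔ LC.restrictScalars k))]
  let H := homs k (Submodule.span R {l}) (Submodule.span R {e}) LC EC
  let m : K →ₗ[k] (K →ₗ[k] k) :=
    LinearMap.mk₂ k (fun a f => ν (f * a)) (fun a a' f => by rw [mul_add, map_add])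
      (fun c a f => by rw [mul_smul_comm, map_smul, smul_eq_mul])
      (fun a f f' => by rw [add_mul, map_add])
      (fun c a f => by rw [smul_mul_assoc, map_smul, smul_eq_mul])
  have hkill : ∀ c ∈ H, ∀ x ∈ sp k R l ⊔ LC.restrictScalars k, ν (x * c) = 0 := by
    intro c hc x hx
    obtain ⟨y, hy, z, hz, rfl⟩ := Submodule.mem_sup.mp hx
    rw [add_mul, map_add, hνR _ (hc.2 y hy), hνC _ (hc.1 z hz), add_zero]
  let Ψ : H →ₗ[k] Module.Dual k (K ⧸ (sp k R l ⊔ LC.restrictScalars k)) :=
    { toFun := fun c => (sp k R l ⊔ LC.restrictScalars k).liftQ (m c) (fun y hy => by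
        rw [LinearMap.mem_ker]
        exact hkill c c.2 y hy)
      map_add' := fun x y => by
        apply Submodule.linearMap_qext
        ext f
        simp
      map_smul' := fun c x => by
        apply Submodule.linearMap_qext
        ext f
        simp }
  have hΨ : ∀ (c : H) (f : K), Ψ c ((sp k R l ⊔ LC.restrictScalars k).mkQ f) = ν (f * c) :=
    fun c f => rfl
  refine (LinearEquiv.ofBijective Ψ ⟨?_, ?_⟩).finrank_eq
  · rw [injective_iff_map_eq_zero]
    intro c hc
    by_contra hne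
    have hc0 : (c : K) ≠ 0 := fun h => hne (Subtype.ext h)
    apply hν0
    ext f
    have := hΨ c (f / c)
    rw [hc, div_mul_cancel₀ _ hc0] at this
    exact this.symm
  · intro μ
    obtain ⟨c, hc, hcC, hcR⟩ := exists_mul hinj LC EC l e hl he hbig
      (μ ∘ₗ (sp k R l ⊔ LC.restrictScalars k).mkQ) ν (fun x hx =>
        (congrArg μ ((Submodule.Quotient.mk_eq_zero _).mpr (Submodule.mem_sup_left hx))).trans (map_zero μ))
      (fun x hx =>
        (congrArg μ ((Submodule.Quotient.mk_eq_zero _).mpr (Submodule.mem_sup_right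
          (show x ∈ LC.restrictScalars k from hx)))).trans (map_zero μ))
      hνR hνC hν0 ndR ndC
    refine ⟨⟨c, hcC, hcR⟩, ?_⟩
    apply Submodule.linearMap_qext
    ext f
    exact (hc f).symm

end Lattice

section Dedekind

open scoped nonZeroDivisors

/-- Local nondegeneracy implies global nondegeneracy, over a Dedekind domain. -/
theorem nondeg_of_local {D K k : Type*} [CommRing D] [IsDedekindDomain D] [Field K] [Algebra D K]
    [IsFractionRing D K] [AddCommGroup k] (ν : K →+ k) (E : Submodule D K) (hE : E ≠ ⊥) (hfg : E.FG)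
    (hloc : ∀ p : Ideal D, p.IsMaximal → ∃ f : K,
      (∀ x ∈ p, ∃ d : D, f * algebraMap D K x = algebraMap D K d) ∧ ∃ e ∈ E, ν (f * e) ≠ 0)
    (N : Submodule D K) (hN : E < N) : ∃ x ∈ N, ν x ≠ 0 := by
  obtain ⟨n, hn, hnE⟩ := SetLike.exists_of_lt hN
  let E' : FractionalIdeal D⁰ K := ⟨E, FractionalIdeal.isFractional_of_fg hfg⟩
  have hfg' : (E ⊔ Submodule.span D {n}).FG := hfg.sup (Submodule.fg_span_singleton n)
  let N' : FractionalIdeal D⁰ K := ⟨E ⊔ Submodule.span D {n}, FractionalIdeal.isFractional_of_fg hfg'⟩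
  have hE0 : E' ≠ 0 := by
    intro h
    apply hE
    have := congrArg (fun I : FractionalIdeal D⁰ K => (I : Submodule D K)) h
    simpa [E'] using this
  have hEN : E' ≤ N' := by
    change E ≤ E ⊔ Submodule.span D {n}
    exact le_sup_left
  have hN0 : N' ≠ 0 := by
    intro h
    rw [h] at hEN
    exact hE0 (le_antisymm hEN bot_le)
  have hne : E' ≠ N' := by
    intro h
    apply hnE
    have : n ∈ (N' : Submodule D K) := Submodule.mem_sup_right (Submodule.mem_span_singleton_self n)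
    rw [← h] at this
    exact this
  have hI : E' * N'⁻¹ ≤ 1 := by
    rw [← mul_inv_cancel₀ hN0]
    exact mul_le_mul_left hEN _
  obtain ⟨𝔞, h𝔞⟩ := FractionalIdeal.le_one_iff_exists_coeIdeal.mp hI
  have h𝔞top : 𝔞 ≠ ⊤ := by
    rintro rfl
    apply hne
    rw [FractionalIdeal.coeIdeal_top] at h𝔞
    have := congrArg (· * N') h𝔞
    simp only [one_mul, mul_assoc, inv_mul_cancel₀ hN0, mul_one] at this
    exact this.symm
  obtain ⟨p, hp, hle⟩ := Ideal.exists_le_maximal 𝔞 h𝔞top
  obtain ⟨f, hf, e, he, hne'⟩ := hloc p hp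
  refine ⟨f * e, ?_, hne'⟩
  have h1 : FractionalIdeal.spanSingleton D⁰ f * (p : FractionalIdeal D⁰ K) ≤ 1 := by
    rw [FractionalIdeal.mul_le]
    intro i hi j hj
    rw [FractionalIdeal.mem_spanSingleton] at hi
    obtain ⟨z, rfl⟩ := hi
    rw [FractionalIdeal.mem_coeIdeal] at hj
    obtain ⟨x, hx, rfl⟩ := hj
    obtain ⟨d, hd⟩ := hf x hx
    rw [smul_mul_assoc, hd, FractionalIdeal.mem_one_iff]
    exact ⟨z * d, by rw [map_mul, Algebra.smul_def]⟩
  have h2 : FractionalIdeal.spanSingleton D⁰ f * E' ≤ N' := by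
    have h3 : FractionalIdeal.spanSingleton D⁰ f * (E' * N'⁻¹) ≤ 1 := by
      rw [← h𝔞]
      exact (mul_le_mul_right (FractionalIdeal.coeIdeal_le_coeIdeal K |>.mpr hle) _).trans h1
    have h4 := mul_le_mul_left h3 N'
    rw [one_mul, mul_assoc, mul_assoc, inv_mul_cancel₀ hN0, mul_one] at h4
    exact h4
  have h5 : f * e ∈ N' := h2 (FractionalIdeal.mul_mem_mul (FractionalIdeal.mem_spanSingleton_self _ f) he)
  have h6 : f * e ∈ E ⊔ Submodule.span D {n} := h5
  exact (sup_le hN.le ((Submodule.span_singleton_le_iff_mem n N).mpr hn)) h6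

end Dedekind

end Groth.Agent.CurvesB.WeilPair
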