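import Groth.Agent.CurvesB.TateLocal
import Groth.Agent.CurvesB.WeilPair

/-!
# Serre duality on a curve with one point at infinity (pure algebra)
-/

set_option autoImplicit false
set_option linter.unusedSectionVars false
set_option linter.style.haveILetI false

namespace Groth.Agent.CurvesB.OnePointDuality

open Module Groth.Agent.CurvesB.TateLam Groth.Agent.CurvesB.TateLocal Groth.Agent.CurvesB.WeilPair
open Groth.Agent.CurvesB.FinTrace

section Prelim

variable {k D K : Type*} [Field k] [CommRing D] [IsDomain D] [Algebra k D] [Field K] [Algebra k K]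
  [Algebra D K] [IsScalarTower k D K] [IsFractionRing D K]

/-- Finite-dimensional quotients by powers of a nonunit have unbounded dimension. -/
theorem exists_big (hfin : ∀ r : D, r ≠ 0 → FiniteDimensional k (D ⧸ Ideal.span {r})) (t : D) (ht0 : t ≠ 0)
    (htu : ¬ IsUnit t) (N : ℕ) : ∃ r : D, r ≠ 0 ∧ FiniteDimensional k (D ⧸ Ideal.span {r}) ∧
      N < finrank k (D ⧸ Ideal.span {r}) := by
  have key : ∀ n : ℕ, n ≤ finrank k (D ⧸ Ideal.span {t ^ n}) := by
    intro n
    induction n with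
    | zero => exact Nat.zero_le _
    | succ n ih =>
      have h1 := hfin (t ^ (n + 1)) (pow_ne_zero _ ht0)
      have hle : Ideal.span {t ^ (n + 1)} ≤ Ideal.span {t ^ n} := by
        rw [Ideal.span_singleton_le_span_singleton]
        exact pow_dvd_pow t (Nat.le_succ n)
      let g : (D ⧸ Ideal.span {t ^ (n + 1)}) →ₗ[k] (D ⧸ Ideal.span {t ^ n}) :=
        (Ideal.Quotient.factorₐ k hle).toLinearMap
      have hg : Function.Surjective g := Ideal.Quotient.factor_surjective hle
      refine Nat.succ_le_of_lt (ih.trans_lt ?_)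
      refine lt_of_le_of_ne (LinearMap.finrank_le_finrank_of_surjective hg) ?_
      intro heq
      have h2 := hfin (t ^ n) (pow_ne_zero _ ht0)
      have hinj : Function.Injective g :=
        (LinearMap.injective_iff_surjective_of_finrank_eq_finrank heq.symm).mpr hg
      have h3 : g (Ideal.Quotient.mk _ (t ^ n)) = 0 := by
        change Ideal.Quotient.factor hle (Ideal.Quotient.mk _ (t ^ n)) = 0
        rw [Ideal.Quotient.factor_mk]
        exact Ideal.Quotient.eq_zero_iff_mem.mpr (Ideal.mem_span_singleton_self _)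
      have h4 := (injective_iff_map_eq_zero g).mp hinj _ h3
      rw [Ideal.Quotient.eq_zero_iff_mem, Ideal.mem_span_singleton] at h4
      obtain ⟨c, hc⟩ := h4
      apply htu
      rw [pow_succ, mul_assoc] at hc
      have h5 : t * c = 1 := by
        have := mul_left_cancel₀ (pow_ne_zero n ht0) ((mul_one _).trans hc)
        exact this.symm
      exact IsUnit.of_mul_eq_one c h5
  exact ⟨t ^ (N + 1), pow_ne_zero _ ht0, hfin _ (pow_ne_zero _ ht0), key (N + 1)⟩

/-- `D` in `K` is stable under multiplication by elements of `K` up to finite dimension. -/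
theorem almostStable (hfin : ∀ r : D, r ≠ 0 → FiniteDimensional k (D ⧸ Ideal.span {r})) :
    AlmostStable (sp k D (1 : K)) := by
  intro f
  obtain ⟨a, b, hb, rfl⟩ := IsFractionRing.div_surjective (A := D) f
  have hb0 : b ≠ 0 := nonZeroDivisors.ne_zero hb
  have hb' : algebraMap D K b ≠ 0 := by
    rwa [Ne, map_eq_zero_iff _ (IsFractionRing.injective D K)]
  have e := quotEquiv (k := k) (IsFractionRing.injective D K) b hb' (1 : K) one_ne_zero
  have := hfin b hb0
  have hfd : FiniteDimensional k (sp k D (1 / algebraMap D K b) ⧸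
    (sp k D (1 : K)).submoduleOf (sp k D (1 / algebraMap D K b))) := Module.Finite.equiv e
  obtain ⟨W, hW⟩ := Submodule.exists_isCompl ((sp k D (1 : K)).submoduleOf (sp k D (1 / algebraMap D K b)))
  have hWfd : FiniteDimensional k W := Module.Finite.equiv (Submodule.quotientEquivOfIsCompl _ _ hW)
  refine ⟨W.map (sp k D (1 / algebraMap D K b)).subtype, inferInstance, fun x hx => ?_⟩
  obtain ⟨c, rfl⟩ := mem_sp.mp hx
  have hmem : algebraMap D K a / algebraMap D K b * (algebraMap D K c * 1) ∈ sp k D (1 / algebraMap D K b) := by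
    refine mem_sp.mpr ⟨a * c, ?_⟩
    rw [map_mul]
    field_simp
  have htop : (⟨_, hmem⟩ : sp k D (1 / algebraMap D K b)) ∈
      (sp k D (1 : K)).submoduleOf (sp k D (1 / algebraMap D K b)) ⊔ W := by
    rw [hW.sup_eq_top]
    trivial
  obtain ⟨y, hy, z, hz, hyz⟩ := Submodule.mem_sup.mp htop
  have h1 : (y : K) + (z : K) = algebraMap D K a / algebraMap D K b * (algebraMap D K c * 1) :=
    congrArg Subtype.val hyz
  rw [← h1]
  exact Submodule.add_mem_sup hy ⟨z, hz, rfl⟩

end Prelim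

section Main

/-- the lattice of regular differentials -/
noncomputable abbrev omegaSub (k D K : Type*) [Field k] [CommRing D] [Algebra k D] [Field K] [Algebra k K]
    [Algebra D K] [IsScalarTower k D K] : Submodule D Ω[K⁄k] :=
  LinearMap.range (KaehlerDifferential.map k k D K)

theorem exists_D_ne_zero {k D K : Type*} [Field k] [CommRing D] [IsDomain D] [Algebra k D] [Field K]
    [Algebra k K] [Algebra D K] [IsScalarTower k D K] [IsFractionRing D K] (ω₀ : Ω[K⁄k]) (hω₀ : ω₀ ≠ 0) :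
    ∃ y : D, KaehlerDifferential.D k K (algebraMap D K y) ≠ 0 := by
  by_contra hcon
  push Not at hcon
  have h := KaehlerDifferential.span_range_map_derivation_of_isLocalization k D K (nonZeroDivisors D)
  have h2 : (Set.range <| KaehlerDifferential.map k k D K ∘ KaehlerDifferential.D k D) ⊆ {0} := by
    rintro _ ⟨y, rfl⟩
    rw [Function.comp_apply, KaehlerDifferential.map_D]
    exact hcon y
  have h3 : (⊤ : Submodule K Ω[K⁄k]) ≤ ⊥ := by
    rw [← h]
    exact (Submodule.span_mono h2).trans (by simp)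
  exact hω₀ ((Submodule.mem_bot K).mp (h3 trivial))

theorem mem_of_mul_le {D K : Type*} [CommRing D] [IsDomain D] [IsIntegrallyClosed D] [Field K] [Algebra D K]
    [IsFractionRing D K] (E : Submodule D K) (hE : E ≠ ⊥) (hfg : E.FG) (c : K) (hc : ∀ x ∈ E, x * c ∈ E) :
    ∃ d : D, algebraMap D K d = c := by
  have hint : IsIntegral D c := by
    refine isIntegral_of_smul_mem_submodule E hE hfg c ?_
    intro x hx
    rw [smul_eq_mul, mul_comm]
    exact hc x hx
  exact IsIntegrallyClosed.isIntegral_iff.mp hint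

/-- Input data: a Dedekind domain `D` with fraction field `K`, essentially of finite type over `k`. -/
structure Good (k D K : Type*) [Field k] [CommRing D] [IsDedekindDomain D] [Algebra k D] [Field K]
    [Algebra k K] [Algebra D K] [IsScalarTower k D K] [IsFractionRing D K] : Prop where
  ess : Algebra.EssFiniteType k D
  fin : ∀ r : D, r ≠ 0 → FiniteDimensional k (D ⧸ Ideal.span {r})
  notField : ¬ IsField D
  cyc : ∀ p : Ideal D, p.IsMaximal → ∃ ω₀ : Ω[D⁄k], ∀ ω : Ω[D⁄k], ∃ s : D, s ∉ p ∧ ∃ a : D, s • ω = a • ω₀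

section

variable {k D K : Type*} [Field k] [CommRing D] [IsDedekindDomain D] [Algebra k D] [Field K]
    [Algebra k K] [Algebra D K] [IsScalarTower k D K] [IsFractionRing D K]

theorem Good.fin_quot (h : Good k D K) (p : Ideal D) (hp : p ≠ ⊥) : FiniteDimensional k (D ⧸ p) := by
  obtain ⟨r, hr, hr0⟩ := Submodule.exists_mem_ne_zero_of_ne_bot hp
  have := h.fin r hr0
  have hle : Ideal.span {r} ≤ p := (Ideal.span_singleton_le_iff_mem p).mpr hr
  exact Module.Finite.of_surjective (Ideal.Quotient.factorₐ k hle).toLinearMap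
    (Ideal.Quotient.factor_surjective hle)

theorem Good.ne_bot (h : Good k D K) (p : Ideal D) (hp : p.IsMaximal) : p ≠ ⊥ :=
  Ring.ne_bot_of_isMaximal_of_not_isField hp h.notField

/-- coordinates on `Ω[K⁄k]` -/
noncomputable def coord (ω₀ : Ω[K⁄k]) (h0 : ω₀ ≠ 0) (h1 : ∀ ω : Ω[K⁄k], ∃ c : K, c • ω₀ = ω) :
    K ≃ₗ[K] Ω[K⁄k] :=
  LinearEquiv.ofBijective (LinearMap.toSpanSingleton K Ω[K⁄k] ω₀)
    ⟨fun a b hab => by
      simp only [LinearMap.toSpanSingleton_apply] at hab
      rw [← sub_eq_zero, ← sub_smul, smul_eq_zero] at hab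
      exact sub_eq_zero.mp (hab.resolve_right h0), fun ω => h1 ω⟩

/-- The lattice of regular differentials in coordinates. -/
noncomputable def lat (φ : K ≃ₗ[K] Ω[K⁄k]) : Submodule D K :=
  (omegaSub k D K).comap (φ.toLinearMap.restrictScalars D)

theorem mem_lat (φ : K ≃ₗ[K] Ω[K⁄k]) (x : K) : x ∈ lat (k := k) (D := D) φ ↔ φ x ∈ omegaSub k D K := Iff.rfl

theorem Good.fg_lat (h : Good k D K) (φ : K ≃ₗ[K] Ω[K⁄k]) : (lat (k := k) (D := D) φ).FG := by
  have := h.ess
  have h1 : (omegaSub k D K).FG := by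
    rw [omegaSub, LinearMap.range_eq_map]
    exact Submodule.FG.map _ Module.Finite.fg_top
  have h2 : lat (k := k) (D := D) φ = (omegaSub k D K).map (φ.symm.toLinearMap.restrictScalars D) := by
    ext x
    rw [mem_lat]
    constructor
    · intro hx
      exact ⟨φ x, hx, by simp⟩
    · rintro ⟨y, hy, rfl⟩
      simpa using hy
  rw [h2]
  exact h1.map _

theorem lat_ne_bot (φ : K ≃ₗ[K] Ω[K⁄k]) : lat (k := k) (D := D) φ ≠ ⊥ := by
  intro hbot
  obtain ⟨y, hy⟩ := exists_D_ne_zero (D := D) (φ 1) (by simp)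
  have : φ.symm (KaehlerDifferential.D k K (algebraMap D K y)) ∈ lat (k := k) (D := D) φ := by
    rw [mem_lat, LinearEquiv.apply_symm_apply]
    exact ⟨KaehlerDifferential.D k D y, KaehlerDifferential.map_D _ _ _ _ _⟩
  rw [hbot, Submodule.mem_bot, LinearEquiv.map_eq_zero_iff] at this
  exact hy this

/-- global nondegeneracy -/
theorem Good.nondeg (h : Good k D K) (φ : K ≃ₗ[K] Ω[K⁄k]) {P : K →ₗ[k] K} (hP : Adm P)
    (h1 : ∀ x, ∃ d : D, P x = algebraMap D K d) (h2 : ∀ d : D, P (algebraMap D K d) = algebraMap D K d)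
    (N : Submodule D K) (hN : lat (k := k) (D := D) φ < N) :
    ∃ x ∈ N, lam hP (φ x) ≠ 0 := by
  have := h.ess
  refine nondeg_of_local ((lam hP).toAddMonoidHom.comp (φ.toLinearMap.toAddMonoidHom)) (lat φ) (lat_ne_bot φ)
    (h.fg_lat φ) ?_ N hN
  intro p hp
  have := h.fin_quot p (h.ne_bot p hp)
  obtain ⟨f, y, hf, hne⟩ := exists_lam_ne_zero (IsFractionRing.injective D K) p (h.ne_bot p hp) (h.cyc p hp)
    hP h1 h2
  refine ⟨f, hf, φ.symm (KaehlerDifferential.D k K (algebraMap D K y)), ?_, ?_⟩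
  · rw [mem_lat, LinearEquiv.apply_symm_apply]
    exact ⟨KaehlerDifferential.D k D y, KaehlerDifferential.map_D _ _ _ _ _⟩
  · change lam hP (φ (f * φ.symm _)) ≠ 0
    rw [← smul_eq_mul, map_smul, LinearEquiv.apply_symm_apply]
    exact hne

/-- `lam` is not zero. -/
theorem Good.exists_ne (h : Good k D K) {P : K →ₗ[k] K} (hP : Adm P)
    (h1 : ∀ x, ∃ d : D, P x = algebraMap D K d) (h2 : ∀ d : D, P (algebraMap D K d) = algebraMap D K d) :
    ∃ ω, lam hP ω ≠ 0 := by
  have := h.ess
  obtain ⟨p, hp⟩ := Ideal.exists_maximal D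
  have := h.fin_quot p (h.ne_bot p hp)
  obtain ⟨f, y, hf, hne⟩ := exists_lam_ne_zero (IsFractionRing.injective D K) p (h.ne_bot p hp) (h.cyc p hp)
    hP h1 h2
  exact ⟨_, hne⟩

/-- elements of `D` in `K` -/
theorem mem_sp_one {x : K} : x ∈ sp k D (1 : K) ↔ ∃ d : D, x = algebraMap D K d := by
  rw [mem_sp]
  simp only [mul_one]
  exact exists_congr fun d => eq_comm

theorem lam_omegaSub {P : K →ₗ[k] K} (hP : Adm P)
    (h1 : ∀ x, ∃ d : D, P x = algebraMap D K d) (h2 : ∀ d : D, P (algebraMap D K d) = algebraMap D K d)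
    (ω : Ω[K⁄k]) (hω : ω ∈ omegaSub k D K) : lam hP ω = 0 := by
  obtain ⟨ω, rfl⟩ := hω
  refine lam_map_eq_zero hP (D := D) (fun x => ?_) h2 ω
  obtain ⟨d, hd⟩ := h1 x
  exact ⟨d, hd.symm⟩

end

end Main

section Final

variable {k C R K : Type*} [Field k] [CommRing C] [IsDedekindDomain C] [Algebra k C] [CommRing R]
  [IsDedekindDomain R] [Algebra k R] [Field K] [Algebra k K] [Algebra C K] [IsScalarTower k C K]
  [IsFractionRing C K] [Algebra R K] [IsScalarTower k R K] [IsFractionRing R K]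

/-- transport of a quotient of `Ω[K⁄k]` to a quotient of `K` -/
theorem exists_nu (hC : Good k C K) (hR : Good k R K) (φ : K ≃ₗ[K] Ω[K⁄k])
    [FiniteDimensional k (sp k C (1 : K) ⊓ sp k R (1 : K) : Submodule k K)]
    [FiniteDimensional k (K ⧸ (sp k R (1 : K) ⊔ sp k C (1 : K)))] :
    ∃ ν : K →ₗ[k] k, (∀ x ∈ lat (k := k) (D := R) φ, ν x = 0) ∧ (∀ x ∈ lat (k := k) (D := C) φ, ν x = 0) ∧ ν ≠ 0 ∧
      (∀ N : Submodule R K, lat (k := k) (D := R) φ < N → ∃ x ∈ N, ν x ≠ 0) ∧
      (∀ N : Submodule C K, lat (k := k) (D := C) φ < N → ∃ x ∈ N, ν x ≠ 0) := by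
  haveI : FiniteDimensional k (K ⧸ (sp k C (1 : K) ⊔ sp k R (1 : K))) := by
    rw [sup_comm]
    infer_instance
  obtain ⟨P, Q, hP, hQ, hP1, hP2, hQ1, hQ2, hPQ⟩ := exists_PQ (almostStable (D := C) (K := K) hC.fin)
    (almostStable (D := R) (K := K) hR.fin)
  have hP1' : ∀ x, ∃ d : R, P x = algebraMap R K d := fun x => mem_sp_one.mp (hP1 x)
  have hP2' : ∀ d : R, P (algebraMap R K d) = algebraMap R K d := fun d => hP2 _ (mem_sp_one.mpr ⟨d, rfl⟩)
  have hQ1' : ∀ x, ∃ d : C, Q x = algebraMap C K d := fun x => mem_sp_one.mp (hQ1 x)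
  have hQ2' : ∀ d : C, Q (algebraMap C K d) = algebraMap C K d := fun d => hQ2 _ (mem_sp_one.mpr ⟨d, rfl⟩)
  have hlam : lam hP = - lam hQ := by
    rw [lam_congr hP hQ.one_sub hPQ, lam_one_sub]
  refine ⟨(lam hP) ∘ₗ (φ.toLinearMap.restrictScalars k), ?_, ?_, ?_, ?_, ?_⟩
  · intro x hx
    exact lam_omegaSub hP hP1' hP2' _ hx
  · intro x hx
    change lam hP (φ x) = 0
    have h3 : lam hQ (φ x) = 0 := lam_omegaSub hQ hQ1' hQ2' _ hx
    rw [hlam, LinearMap.neg_apply, h3, neg_zero]
  · intro h0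
    obtain ⟨ω, hω⟩ := hR.exists_ne hP hP1' hP2'
    apply hω
    have := LinearMap.congr_fun h0 (φ.symm ω)
    simpa using this
  · intro N hN
    exact hR.nondeg φ hP hP1' hP2' N hN
  · intro N hN
    obtain ⟨x, hx, hx'⟩ := hC.nondeg φ hQ hQ1' hQ2' N hN
    refine ⟨x, hx, ?_⟩
    change lam hP (φ x) ≠ 0
    rwa [hlam, LinearMap.neg_apply, neg_ne_zero]

theorem Good.exists_lat_eq (hR : Good k R K) [IsLocalRing R] (φ : K ≃ₗ[K] Ω[K⁄k]) :
    ∃ e : K, e ≠ 0 ∧ lat (k := k) (D := R) φ = Submodule.span R {e} := by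
  obtain ⟨ω₀, hω₀⟩ := hR.cyc (IsLocalRing.maximalIdeal R) inferInstance
  have h2 : ∀ ω : Ω[R⁄k], ∃ a : R, ω = a • ω₀ := by
    intro ω
    obtain ⟨s, hs, a, ha⟩ := hω₀ ω
    have hu : IsUnit s := by
      by_contra hu
      exact hs ((IsLocalRing.mem_maximalIdeal s).mpr hu)
    obtain ⟨u, rfl⟩ := hu
    refine ⟨((u⁻¹ : Rˣ) : R) * a, ?_⟩
    rw [mul_smul, ← ha, ← mul_smul, Units.inv_mul, one_smul]
  have hlat : lat (k := k) (D := R) φ = Submodule.span R {φ.symm (KaehlerDifferential.map k k R K ω₀)} := by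
    ext x
    rw [mem_lat, Submodule.mem_span_singleton]
    constructor
    · rintro ⟨ω, hω⟩
      obtain ⟨a, rfl⟩ := h2 ω
      refine ⟨a, ?_⟩
      rw [map_smul] at hω
      have h3 : φ.symm (φ x) = φ.symm (algebraMap R K a • KaehlerDifferential.map k k R K ω₀) := by
        rw [← hω, algebraMap_smul]
      rw [LinearEquiv.symm_apply_apply, map_smul, algebraMap_smul] at h3
      exact h3.symm
    · rintro ⟨a, rfl⟩
      refine ⟨a • ω₀, ?_⟩
      rw [map_smul, ← algebraMap_smul K a (φ.symm _), map_smul, LinearEquiv.apply_symm_apply, algebraMap_smul]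
  refine ⟨_, ?_, hlat⟩
  intro h0
  apply lat_ne_bot (k := k) (D := R) φ
  rw [hlat, h0, Submodule.span_singleton_eq_bot]

/-- The quotient `Ω_K / (Ω_R ⊔ Ω_C)` in coordinates. -/
noncomputable def quotLat (φ : K ≃ₗ[K] Ω[K⁄k]) :
    (K ⧸ ((lat (k := k) (D := R) φ).restrictScalars k ⊔ (lat (k := k) (D := C) φ).restrictScalars k)) ≃ₗ[k]
      (Ω[K⁄k] ⧸ ((omegaSub k R K).restrictScalars k ⊔ (omegaSub k C K).restrictScalars k)) :=
  Submodule.Quotient.equiv _ _ (φ.restrictScalars k) (by
    rw [Submodule.map_sup]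
    congr 1
    · ext x
      constructor
      · rintro ⟨y, hy, rfl⟩
        exact hy
      · intro hx
        refine ⟨φ.symm x, ?_, φ.apply_symm_apply x⟩
        change φ (φ.symm x) ∈ omegaSub k R K
        rw [LinearEquiv.apply_symm_apply]
        exact hx
    · ext x
      constructor
      · rintro ⟨y, hy, rfl⟩
        exact hy
      · intro hx
        refine ⟨φ.symm x, ?_, φ.apply_symm_apply x⟩
        change φ (φ.symm x) ∈ omegaSub k C K
        rw [LinearEquiv.apply_symm_apply]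
        exact hx)

/-- Serre duality for a curve with one point at infinity. -/
theorem duality (hC : Good k C K) (hR : Good k R K) [IsLocalRing R]
    (one : ∃ ω₀ : Ω[K⁄k], ω₀ ≠ 0 ∧ ∀ ω : Ω[K⁄k], ∃ c : K, c • ω₀ = ω)
    [FiniteDimensional k (sp k C (1 : K) ⊓ sp k R (1 : K) : Submodule k K)]
    [FiniteDimensional k (K ⧸ (sp k R (1 : K) ⊔ sp k C (1 : K)))]
    [FiniteDimensional k
      (Ω[K⁄k] ⧸ ((omegaSub k R K).restrictScalars k ⊔ (omegaSub k C K).restrictScalars k))] :
    finrank k ((omegaSub k C K).restrictScalars k ⊓ (omegaSub k R K).restrictScalars k : Submodule k Ω[K⁄k]) =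
      finrank k (K ⧸ (sp k R (1 : K) ⊔ sp k C (1 : K))) ∧
    finrank k (Ω[K⁄k] ⧸ ((omegaSub k R K).restrictScalars k ⊔ (omegaSub k C K).restrictScalars k)) =
      finrank k (sp k C (1 : K) ⊓ sp k R (1 : K) : Submodule k K) := by
  obtain ⟨ω₀, h0, h1⟩ := one
  let φ := coord ω₀ h0 h1
  obtain ⟨ν, hνR, hνC, hν0, ndR, ndC⟩ := exists_nu hC hR φ
  obtain ⟨e, he, hlat⟩ := hR.exists_lat_eq φ
  have hinj : Function.Injective (algebraMap R K) := IsFractionRing.injective R K
  have hlatk : (lat (k := k) (D := R) φ).restrictScalars k = sp k R e := by rw [hlat]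
  haveI fd1 : FiniteDimensional k (K ⧸ (sp k R e ⊔ (lat (k := k) (D := C) φ).restrictScalars k)) := by
    rw [← hlatk]
    exact Module.Finite.equiv (quotLat (R := R) (C := C) φ).symm
  haveI fd2 : FiniteDimensional k (K ⧸ (sp k R (1 : K) ⊔ (Submodule.span C {(1 : K)}).restrictScalars k)) :=
    inferInstanceAs (FiniteDimensional k (K ⧸ (sp k R (1 : K) ⊔ sp k C (1 : K))))
  obtain ⟨t, ht0, htu⟩ : ∃ t : R, t ≠ 0 ∧ ¬ IsUnit t := by
    by_contra hcon
    push Not at hcon
    exact hR.notField ⟨⟨0, 1, zero_ne_one⟩, mul_comm, fun {a} ha => (hcon a ha).exists_right_inv⟩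
  have hbig := exists_big (k := k) hR.fin t ht0 htu
  have hνR' : ∀ x ∈ sp k R e, ν x = 0 := fun x hx => hνR x (by rw [hlat]; exact hx)
  have ndR' : ∀ N : Submodule R K, Submodule.span R {e} < N → ∃ x ∈ N, ν x ≠ 0 := by
    rw [← hlat]
    exact ndR
  constructor
  · have key := finrank_homs hinj (Submodule.span C {(1 : K)}) (lat (k := k) (D := C) φ) 1 e one_ne_zero he
      hbig ν hνR' hνC hν0 ndR' ndC
    refine Eq.trans ?_ key
    refine LinearEquiv.finrank_eq ?_
    refine LinearEquiv.ofSubmodules (φ.symm.restrictScalars k) _ _ ?_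
    ext x
    constructor
    · rintro ⟨ω, hω, rfl⟩
      refine ⟨fun y hy => ?_, fun y hy => ?_⟩
      · obtain ⟨c, rfl⟩ := Submodule.mem_span_singleton.mp hy
        rw [smul_mul_assoc, one_mul]
        refine Submodule.smul_mem _ _ ?_
        rw [mem_lat]
        change φ (φ.symm ω) ∈ _
        rw [LinearEquiv.apply_symm_apply]
        exact hω.1
      · obtain ⟨c, rfl⟩ := Submodule.mem_span_singleton.mp hy
        rw [smul_mul_assoc, one_mul, ← hlat]
        refine Submodule.smul_mem _ _ ?_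
        rw [mem_lat]
        change φ (φ.symm ω) ∈ _
        rw [LinearEquiv.apply_symm_apply]
        exact hω.2
    · rintro ⟨hx1, hx2⟩
      refine ⟨φ x, ⟨?_, ?_⟩, φ.symm_apply_apply x⟩
      · have := hx1 1 (Submodule.mem_span_singleton_self _)
        rwa [one_mul] at this
      · have := hx2 1 (Submodule.mem_span_singleton_self _)
        rwa [one_mul, ← hlat] at this
  · have key := finrank_homs hinj (lat (k := k) (D := C) φ) (lat (k := k) (D := C) φ) e e he he
      hbig ν hνR' hνC hν0 ndR' ndC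
    have e1 : finrank k (Ω[K⁄k] ⧸ ((omegaSub k R K).restrictScalars k ⊔ (omegaSub k C K).restrictScalars k)) =
      finrank k (K ⧸ (sp k R e ⊔ (lat (k := k) (D := C) φ).restrictScalars k)) := by
      rw [← hlatk]
      exact (quotLat (R := R) (C := C) φ).finrank_eq.symm
    have e2 : homs k (Submodule.span R {e}) (Submodule.span R {e}) (lat (k := k) (D := C) φ)
        (lat (k := k) (D := C) φ) = sp k C (1 : K) ⊓ sp k R (1 : K) := ?_
    · rw [e1, ← key, e2]
    ext c
    constructor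
    · rintro ⟨h1, h2⟩
      constructor
      · obtain ⟨d, hd⟩ := mem_of_mul_le _ (lat_ne_bot φ) (hC.fg_lat φ) c h1
        exact mem_sp_one.mpr ⟨d, hd.symm⟩
      · have h2' : ∀ x ∈ lat (k := k) (D := R) φ, x * c ∈ lat (k := k) (D := R) φ := by
          rw [hlat]
          exact h2
        obtain ⟨d, hd⟩ := mem_of_mul_le _ (lat_ne_bot φ) (hR.fg_lat φ) c h2'
        exact mem_sp_one.mpr ⟨d, hd.symm⟩
    · rintro ⟨h1, h2⟩
      obtain ⟨d, rfl⟩ := mem_sp_one.mp h1
      obtain ⟨d', hd'⟩ := mem_sp_one.mp h2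
      constructor
      · intro x hx
        rw [mul_comm, ← Algebra.smul_def]
        exact Submodule.smul_mem _ _ hx
      · intro x hx
        rw [hd', mul_comm, ← Algebra.smul_def]
        exact Submodule.smul_mem _ _ hx

end Final

end Groth.Agent.CurvesB.OnePointDuality
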