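import Groth.Agent.CurvesB.OmegaStalkDict
import Groth.Agent.CurvesB.OnePointDuality
import Groth.Agent.Fdesc.StructMod
import Mathlib.AlgebraicGeometry.FunctionField

/-!
# Regular differentials inside `Ω[K⁄k]`

`X` integral over `k`, `K` its function field.  The image of `Ω_x` (resp. of `Γ(U, Ω)`, `U` affine) in the generic
stalk `Ω_η` corresponds to the lattice `omegaSub k O_x K` (resp. `omegaSub k Γ(X, U) K`) of `Ω[K⁄k]`.
-/

set_option autoImplicit false
universe u
open CategoryTheory CategoryTheory.Limits AlgebraicGeometry Opposite TopologicalSpace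

namespace Groth.Agent.CurvesB.OmegaGeneric

open Groth.Agent.CurvesB.OmegaDer Groth.Agent.CurvesB.OmegaStalkDict Groth.Agent.CurvesB.OnePointDuality
open Groth.Agent.CurvesB.TateLam

section Algebra

variable {k D K MD MK : Type*} [Field k] [CommRing D] [Algebra k D] [Field K] [Algebra k K] [Algebra D K]
  [IsScalarTower k D K] [AddCommGroup MD] [Module D MD] [Module k MD] [IsScalarTower k D MD]
  [AddCommGroup MK] [Module K MK] [Module k MK] [IsScalarTower k K MK]

/-- Transport of a map of modules of differentials. -/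
theorem map_lift (τ : MD →+ MK) (hτ : ∀ (d : D) (m : MD), τ (d • m) = algebraMap D K d • τ m)
    (δD : Derivation k D MD) (δK : Derivation k K MK) (h : ∀ d, τ (δD d) = δK (algebraMap D K d))
    (ω : Ω[D⁄k]) : τ (δD.liftKaehlerDifferential ω) =
      δK.liftKaehlerDifferential (KaehlerDifferential.map k k D K ω) := by
  induction ω using smul_D_induction with
  | h0 => simp
  | hadd x y hx hy => rw [map_add, map_add, map_add, map_add, hx, hy]
  | hs a b =>
    rw [map_smul, hτ, Derivation.liftKaehlerDifferential_comp_D, h, map_smul, KaehlerDifferential.map_D,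
      ← algebraMap_smul K a, map_smul, Derivation.liftKaehlerDifferential_comp_D]

theorem mem_range_iff (τ : MD →+ MK) (hτ : ∀ (d : D) (m : MD), τ (d • m) = algebraMap D K d • τ m)
    (δD : Derivation k D MD) (δK : Derivation k K MK) (h : ∀ d, τ (δD d) = δK (algebraMap D K d))
    (hs : Function.Surjective δD.liftKaehlerDifferential)
    (hK : Function.Injective δK.liftKaehlerDifferential) (ω : Ω[K⁄k]) :
    δK.liftKaehlerDifferential ω ∈ τ.range ↔ ω ∈ omegaSub k D K := by
  constructor
  · rintro ⟨m, hm⟩
    obtain ⟨ω', rfl⟩ := hs m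
    rw [map_lift τ hτ δD δK h] at hm
    exact ⟨ω', hK hm⟩
  · rintro ⟨ω', rfl⟩
    exact ⟨_, map_lift τ hτ δD δK h ω'⟩

end Algebra

section Geometry

variable (k : Type u) [Field k] (X : Scheme.{u}) [X.Over (Spec (CommRingCat.of k))]

/-- The `k`-algebra structure on stalks -/
noncomputable abbrev stalkAlgebra (x : X) : Algebra k (X.presheaf.stalk x) :=
  stAlg (X ↘ Spec (CommRingCat.of k)) x

attribute [local instance] stalkAlgebra

/-- The `k`-algebra structure on sections -/
noncomputable abbrev secAlgebra (U : X.Opens) : Algebra k Γ(X, U) :=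
  secAlg (X ↘ Spec (CommRingCat.of k)) U

attribute [local instance] secAlgebra

/-- The `k`-vector space structure on the stalks -/
noncomputable abbrev stalkVS (M : X.Modules) (x : X) : Module k (M.presheaf.stalk x) :=
  stMod (X ↘ Spec (CommRingCat.of k)) M x

/-- The `k`-vector space structure on sections -/
noncomputable abbrev secVS (M : X.Modules) (U : X.Opens) : Module k Γ(M, U) :=
  secMod (X ↘ Spec (CommRingCat.of k)) M U

attribute [local instance] stalkVS secVS

instance stalkTower (M : X.Modules) (x : X) : IsScalarTower k (X.presheaf.stalk x) (M.presheaf.stalk x) :=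
  stTower (X ↘ Spec (CommRingCat.of k)) M x

instance secTower' (M : X.Modules) (U : X.Opens) : IsScalarTower k Γ(X, U) Γ(M, U) :=
  secTower (X ↘ Spec (CommRingCat.of k)) M U

instance tower_stalk [IsIntegral X] (x : X) : IsScalarTower k (X.presheaf.stalk x) X.functionField := by
  refine IsScalarTower.of_algebraMap_eq fun a => ?_
  change X.presheaf.germ ⊤ (genericPoint X) trivial _ = X.presheaf.stalkSpecializes _ (X.presheaf.germ ⊤ x trivial _)
  exact congr($(X.presheaf.germ_stalkSpecializes (U := ⊤) (y := x) trivial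
    ((genericPoint_spec X).specializes trivial)) _).symm

instance tower_sec [IsIntegral X] (U : X.Opens) [Nonempty U] : IsScalarTower k Γ(X, U) X.functionField := by
  refine IsScalarTower.of_algebraMap_eq fun a => ?_
  exact (germ_secHom (X ↘ Spec (CommRingCat.of k)) U (genericPoint X) _ a).symm

end Geometry

section Gen

open Groth.Agent.Fdesc

variable {X : Scheme.{u}}

theorem stalkSpecializes_smul (M : X.Modules) {x y : X} (h : y ⤳ x) (r : X.presheaf.stalk x)
    (m : M.presheaf.stalk x) :
    M.presheaf.stalkSpecializes h (r • m) =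
      (show X.presheaf.stalk y from X.presheaf.stalkSpecializes h r) •
        (show M.presheaf.stalk y from M.presheaf.stalkSpecializes h m) := by
  obtain ⟨V, hV, t, rfl⟩ := TopCat.Presheaf.exists_germ_eq X.presheaf r
  obtain ⟨W, hW, s, rfl⟩ := TopCat.Presheaf.exists_germ_eq M.presheaf m
  rw [← QCohStalk.ring_germ_map (inf_le_left : V ⊓ W ≤ V) x ⟨hV, hW⟩,
    ← QCohStalk.germ_map M (inf_le_right : V ⊓ W ≤ W) x ⟨hV, hW⟩, ← QCohStalk.germ_smul']
  have h1 := fun s => congr($(TopCat.Presheaf.germ_stalkSpecializes M.presheaf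
    (show x ∈ V ⊓ W from ⟨hV, hW⟩) h) s)
  have h2 := fun s => congr($(TopCat.Presheaf.germ_stalkSpecializes X.presheaf
    (show x ∈ V ⊓ W from ⟨hV, hW⟩) h) s)
  refine (h1 _).trans ?_
  refine (QCohStalk.germ_smul' M y _ _ _).trans ?_
  exact congrArg₂ (fun (a : X.presheaf.stalk y) (b : M.presheaf.stalk y) => a • b) (h2 _).symm (h1 _).symm

theorem stalkSpecializes_stalkEquiv {x y : X} (h : y ⤳ x) (r : X.presheaf.stalk x) :
    (Coh.structureModule X).presheaf.stalkSpecializes h (StructMod.stalkEquiv x r) =
      StructMod.stalkEquiv y (X.presheaf.stalkSpecializes h r) := by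
  obtain ⟨V, hV, t, rfl⟩ := TopCat.Presheaf.exists_germ_eq X.presheaf r
  rw [StructMod.stalkEquiv_germ]
  have h1 := congr($(TopCat.Presheaf.germ_stalkSpecializes (Coh.structureModule X).presheaf hV h)
    ((StructMod.sectionsEquiv V).symm t))
  have h2 := congr($(TopCat.Presheaf.germ_stalkSpecializes X.presheaf hV h) t)
  refine h1.trans ?_
  refine Eq.trans ?_ (congrArg (StructMod.stalkEquiv y) h2).symm
  exact (StructMod.stalkEquiv_germ y _ t).symm

/-- Regular functions at `x` in the function field. -/
theorem mem_range_stalk_O [IsIntegral X] (x : X) (c : X.functionField) :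
    (∃ m : (Coh.structureModule X).presheaf.stalk x,
      (Coh.structureModule X).presheaf.stalkSpecializes
        ((genericPoint_spec X).specializes trivial) m = StructMod.stalkEquiv (genericPoint X) c) ↔
      ∃ r : X.presheaf.stalk x, c = algebraMap (X.presheaf.stalk x) X.functionField r := by
  constructor
  · rintro ⟨m, hm⟩
    obtain ⟨r, rfl⟩ := (StructMod.stalkEquiv x).surjective m
    rw [stalkSpecializes_stalkEquiv] at hm
    exact ⟨r, ((StructMod.stalkEquiv (genericPoint X)).injective hm).symm⟩
  · rintro ⟨r, rfl⟩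
    exact ⟨StructMod.stalkEquiv x r, stalkSpecializes_stalkEquiv _ r⟩

theorem mem_range_sec_O [IsIntegral X] (U : X.Opens) [Nonempty U] (hη : genericPoint X ∈ U)
    (c : X.functionField) :
    (∃ m : Γ(Coh.structureModule X, U),
      (Coh.structureModule X).presheaf.germ U (genericPoint X) hη m = StructMod.stalkEquiv (genericPoint X) c) ↔
      ∃ r : Γ(X, U), c = algebraMap Γ(X, U) X.functionField r := by
  constructor
  · rintro ⟨m, hm⟩
    obtain ⟨r, rfl⟩ := (StructMod.sectionsEquiv U).symm.surjective m
    rw [← StructMod.stalkEquiv_germ] at hm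
    exact ⟨r, ((StructMod.stalkEquiv (genericPoint X)).injective hm).symm⟩
  · rintro ⟨r, rfl⟩
    exact ⟨(StructMod.sectionsEquiv U).symm r, (StructMod.stalkEquiv_germ (genericPoint X) hη r).symm⟩

end Gen

section Main

variable (k : Type u) [Field k] (X : Scheme.{u}) [X.Over (Spec (CommRingCat.of k))] [IsIntegral X]
  [QuasiCompact (pullback.diagonal (X ↘ Spec (CommRingCat.of k)))]

attribute [local instance] stalkAlgebra secAlgebra stalkVS secVS

/-- `Ω[K⁄k] ≃ Ω_η` -/
noncomputable def genEquiv : Ω[X.functionField⁄k] ≃ₗ[X.functionField]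
    (Omega.sheaf (X ↘ Spec (CommRingCat.of k))).presheaf.stalk (genericPoint X) :=
  LinearEquiv.ofBijective _ (bijective_stDer (X ↘ Spec (CommRingCat.of k)) (genericPoint X))

theorem genEquiv_apply (ω : Ω[X.functionField⁄k]) : genEquiv k X ω =
    (stDer (X ↘ Spec (CommRingCat.of k)) (genericPoint X)).liftKaehlerDifferential ω := rfl

/-- Regular differentials at `x`. -/
theorem mem_range_stalk (x : X) (ω : Ω[X.functionField⁄k]) :
    (∃ m : (Omega.sheaf (X ↘ Spec (CommRingCat.of k))).presheaf.stalk x,
      (Omega.sheaf (X ↘ Spec (CommRingCat.of k))).presheaf.stalkSpecializes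
        ((genericPoint_spec X).specializes trivial) m = genEquiv k X ω) ↔
      ω ∈ omegaSub k (X.presheaf.stalk x) X.functionField :=
  mem_range_iff (D := X.presheaf.stalk x) (K := X.functionField)
    (MD := (Omega.sheaf (X ↘ Spec (CommRingCat.of k))).presheaf.stalk x)
    (MK := (Omega.sheaf (X ↘ Spec (CommRingCat.of k))).presheaf.stalk (genericPoint X))
    ((Omega.sheaf (X ↘ Spec (CommRingCat.of k))).presheaf.stalkSpecializes
      ((genericPoint_spec X).specializes trivial)).hom
    (fun d m => stalkSpecializes_smul _ _ d m)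
    (stDer (X ↘ Spec (CommRingCat.of k)) x) (stDer (X ↘ Spec (CommRingCat.of k)) (genericPoint X))
    (fun d => dSt_specializes (X ↘ Spec (CommRingCat.of k)) _ d)
    (bijective_stDer (X ↘ Spec (CommRingCat.of k)) x).2
    (bijective_stDer (X ↘ Spec (CommRingCat.of k)) (genericPoint X)).1 ω

/-- Regular differentials on an affine open. -/
theorem mem_range_sec {U : X.Opens} (hU : IsAffineOpen U) [Nonempty U] (hη : genericPoint X ∈ U)
    (ω : Ω[X.functionField⁄k]) :
    (∃ m : Γ(Omega.sheaf (X ↘ Spec (CommRingCat.of k)), U),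
      (Omega.sheaf (X ↘ Spec (CommRingCat.of k))).presheaf.germ U (genericPoint X) hη m = genEquiv k X ω) ↔
      ω ∈ omegaSub k Γ(X, U) X.functionField :=
  mem_range_iff (D := Γ(X, U)) (K := X.functionField)
    (MD := Γ(Omega.sheaf (X ↘ Spec (CommRingCat.of k)), U))
    (MK := (Omega.sheaf (X ↘ Spec (CommRingCat.of k))).presheaf.stalk (genericPoint X))
    ((Omega.sheaf (X ↘ Spec (CommRingCat.of k))).presheaf.germ U (genericPoint X) hη).hom
    (fun d m => Groth.Agent.Fdesc.QCohStalk.germ_smul' _ _ _ d m)
    (secDer (X ↘ Spec (CommRingCat.of k)) U) (stDer (X ↘ Spec (CommRingCat.of k)) (genericPoint X))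
    (fun d => (dSt_germ (X ↘ Spec (CommRingCat.of k)) (genericPoint X) U hη d).symm)
    (bijective_secDer (X ↘ Spec (CommRingCat.of k)) hU).2
    (bijective_stDer (X ↘ Spec (CommRingCat.of k)) (genericPoint X)).1 ω

end Main

end Groth.Agent.CurvesB.OmegaGeneric
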