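import Groth.Agent.CurvesB.SmoothCurveFacts
import Groth.Agent.Divis.StalkMod
import Groth.Agent.Dcoh.PerfFlat
import Groth.Agent.Ega2.QCohLocal
import Groth.Agent.CohqB.FiniteType2

/-!
# The sheaf of differentials of a smooth curve is invertible

* `isCoh_omega`: `Omega.sheaf f` is coherent for `f : X ⟶ Spec k` locally of finite type (separated);
* `isInvertible_omega`: for `X` integral, smooth of dimension one over a field `k`, `Omega.sheaf f` is
  invertible.
-/

set_option autoImplicit false
set_option linter.style.haveILetI false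
universe u

open CategoryTheory CategoryTheory.Limits AlgebraicGeometry Opposite TopologicalSpace Module

namespace Groth.Agent.CurvesB.OmegaInv

open OmegaStalkDict SmoothCurveFacts

section Rank

open Groth.Agent.Dcoh Groth.Agent.Dcoh.PerfFlat Groth.Agent.Dcoh.LocalD
  Groth.Agent.Dcoh.StalkMod Groth.Agent.CycB.StalkExact Groth.Agent.Dcoh.StalkRestrict
  Groth.Agent.Dcoh.FreeSec

/-- The stalk of a module free of rank `n` near `x` has a basis with `n` elements. -/
theorem nonempty_basis_stalk {X : Scheme.{u}} {M : X.Modules} {U : X.Opens} {n : ℕ}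
    (a : M.restrict U.ι ≅ FlatMod.freeMod (U : Scheme.{u}) n) (x : X) (hx : x ∈ U) :
    Nonempty (Module.Basis (Fin n) (X.presheaf.stalk x) (M.presheaf.stalk x)) := by
  let b : Module.Basis (Fin n) ((U : Scheme.{u}).presheaf.stalk (pt U hx))
      ((M.restrict U.ι).presheaf.stalk (pt U hx)) :=
    Module.Basis.ofEquivFun ((stalkLinEquiv a (pt U hx)).trans (stalkFree n (pt U hx)).symm)
  exact ⟨basisOfSemilinear (σo U hx).symm (ρo U hx M) (ρo_smul' U hx M) b⟩

/-- A coherent module on a locally Noetherian scheme all of whose stalks are free of rank one is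
invertible. -/
theorem isInvertible_of_stalks {X : Scheme.{u}} [IsLocallyNoetherian X] {M : X.Modules}
    (hM : Coh.IsCoh M) (h : ∀ x : X, Module.Free (X.presheaf.stalk x) (M.presheaf.stalk x))
    (h1 : ∀ x : X, Module.finrank (X.presheaf.stalk x) (M.presheaf.stalk x) = 1) :
    PicF.IsInvertible M := by
  rw [← Ega2.QCohLocal.isFinLocFreeOfRank_one_iff]
  intro x
  obtain ⟨V, n, hx, ⟨e⟩⟩ := Divis.StalkMod.exists_free_nhd hM x (h x)
  obtain ⟨b⟩ := nonempty_basis_stalk e x hx
  have hn := Module.finrank_eq_card_basis b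
  rw [h1 x, Fintype.card_fin] at hn
  subst hn
  exact ⟨V, hx, ⟨e⟩⟩

end Rank

variable {k : Type u} [Field k] {X : Scheme.{u}} (f : X ⟶ Spec (CommRingCat.of k))

theorem isCoh_omega [LocallyOfFiniteType f] [IsSeparated f] : Coh.IsCoh (Omega.sheaf f) := by
  have hq : Coh.IsQCoh (Omega.sheaf f) := isQCoh_omega f
  refine ⟨hq, CohqB.FiniteType2.isFT_of_finite_sections _ fun x => ?_⟩
  obtain ⟨W, hW, hx, -⟩ := exists_isAffineOpen_mem_and_subset (x := x) (U := ⊤) trivial
  refine ⟨W, hx, hW, ?_⟩
  letI := secAlg f W
  letI := secMod f (Omega.sheaf f) W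
  haveI := secTower f (Omega.sheaf f) W
  haveI : Algebra.FiniteType k Γ(X, W) := finiteType_secHom f hW
  haveI : Module.Finite Γ(X, W) Ω[Γ(X, W)⁄k] := inferInstance
  exact Module.Finite.equiv (LinearEquiv.ofBijective _ (bijective_secDer f hW))

theorem free_stalk_omega [Smooth f] [IsSeparated f] (x : X) :
    Module.Free (X.presheaf.stalk x) ((Omega.sheaf f).presheaf.stalk x) := by
  letI := stAlg f x
  letI := stMod f (Omega.sheaf f) x
  haveI := stTower f (Omega.sheaf f) x
  haveI := (free_kaehler_stalk f x).2
  exact Module.Free.of_equiv (LinearEquiv.ofBijective _ (bijective_stDer f x))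

theorem finrank_stalk_omega [Smooth f] [IsSeparated f] [IsIntegral X]
    (hdim : topologicalKrullDim X = 1) (x : X) :
    Module.finrank (X.presheaf.stalk x) ((Omega.sheaf f).presheaf.stalk x) = 1 := by
  letI := stAlg f x
  letI := stMod f (Omega.sheaf f) x
  haveI := stTower f (Omega.sheaf f) x
  rw [← (LinearEquiv.ofBijective _ (bijective_stDer f x)).finrank_eq]
  exact finrank_kaehler_stalk f hdim x

/-- The sheaf of differentials of a smooth integral curve over a field is invertible. -/
theorem isInvertible_omega [Smooth f] [IsSeparated f] [IsIntegral X]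
    (hdim : topologicalKrullDim X = 1) : PicF.IsInvertible (Omega.sheaf f) := by
  haveI : IsLocallyNoetherian X := LocallyOfFiniteType.isLocallyNoetherian f
  exact isInvertible_of_stalks (isCoh_omega f) (free_stalk_omega f) (finrank_stalk_omega f hdim)

end Groth.Agent.CurvesB.OmegaInv
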