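import Groth.Agent.CurvesB.OmegaDer
import Groth.Prelude.Def_CurvBase
import Mathlib.RingTheory.Etale.Kaehler

/-!
# Stalks of `Omega.sheaf f` for `f : X ⟶ Spec A`

`stDer f x : Derivation A O_x Ω_x`, universal at every point `x`, compatible with germs and specialization.
-/

set_option autoImplicit false
universe u
open CategoryTheory CategoryTheory.Limits AlgebraicGeometry Opposite TopologicalSpace

namespace Groth.Agent.CurvesB.OmegaStalkDict

open Groth.Agent.CurvesB.OmegaDer Groth.Agent.VarietyB Groth.Agent.Fdesc

section Algebra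

theorem bijective_map_of_surjective {A A' B : Type u} [CommRing A] [CommRing A'] [CommRing B]
    [Algebra A A'] [Algebra A' B] [Algebra A B] [IsScalarTower A A' B]
    (hs : Function.Surjective (algebraMap A A')) :
    Function.Bijective (KaehlerDifferential.map A A' B B) := by
  refine ⟨?_, KaehlerDifferential.map_surjective A A' B⟩
  rw [injective_iff_map_eq_zero]
  intro w hw
  have := KaehlerDifferential.subsingleton_of_surjective A A' hs
  obtain ⟨y, rfl⟩ := (KaehlerDifferential.exact_mapBaseChange_map A A' B w).mp hw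
  rw [Subsingleton.elim y 0, map_zero]

theorem bijective_lift_of_surjective {A A' B M : Type u} [CommRing A] [CommRing A'] [CommRing B]
    [Algebra A A'] [Algebra A' B] [Algebra A B] [IsScalarTower A A' B] [AddCommGroup M] [Module A M]
    [Module A' M] [Module B M] [IsScalarTower A B M] [IsScalarTower A' B M]
    (hs : Function.Surjective (algebraMap A A')) (D : Derivation A' B M) (D₀ : Derivation A B M)
    (h : ∀ b, D₀ b = D b) (hD : Function.Bijective D.liftKaehlerDifferential) :
    Function.Bijective D₀.liftKaehlerDifferential := by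
  have h1 : D₀.liftKaehlerDifferential = D.liftKaehlerDifferential ∘ₗ KaehlerDifferential.map A A' B B := by
    apply Derivation.liftKaehlerDifferential_unique
    ext b
    simp [h]
  rw [h1]
  exact hD.comp (bijective_map_of_surjective hs)

/-- A linear map between two localizations of the same module is bijective. -/
theorem bijective_of_isLocalizedModule {R M M₁ M₂ : Type u} [CommRing R] (S : Submonoid R)
    [AddCommGroup M] [Module R M] [AddCommGroup M₁] [Module R M₁] [AddCommGroup M₂] [Module R M₂]
    (f₁ : M →ₗ[R] M₁) (f₂ : M →ₗ[R] M₂) [IsLocalizedModule S f₁] [IsLocalizedModule S f₂]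
    (ψ : M₁ →ₗ[R] M₂) (h : ∀ m, ψ (f₁ m) = f₂ m) : Function.Bijective ψ := by
  have h1 : ψ = (IsLocalizedModule.linearEquiv S f₁ f₂).toLinearMap := by
    apply IsLocalizedModule.ext S f₁ (IsLocalizedModule.map_units f₂)
    ext m
    simp [h]
  rw [h1]
  exact (IsLocalizedModule.linearEquiv S f₁ f₂).bijective

end Algebra

variable {A : Type u} [CommRing A] {X : Scheme.{u}} (f : X ⟶ Spec (CommRingCat.of A))

/-- `A → Γ(X, W)` -/
noncomputable def secHom (W : X.Opens) : A →+* Γ(X, W) :=
  (X.presheaf.map (homOfLE (le_top : W ≤ ⊤)).op).hom.comp (Coh.toGlobal f)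

/-- `A → O_{X,x}` -/
noncomputable def stHom (x : X) : A →+* X.presheaf.stalk x :=
  (X.presheaf.germ ⊤ x trivial).hom.comp (Coh.toGlobal f)

theorem germ_secHom (W : X.Opens) (x : X) (hx : x ∈ W) (a : A) :
    X.presheaf.germ W x hx (secHom f W a) = stHom f x a :=
  QCohStalk.ring_germ_map le_top x hx _

theorem res_secHom {W W' : X.Opens} (h : W' ≤ W) (a : A) :
    X.presheaf.map (homOfLE h).op (secHom f W a) = secHom f W' a := by
  change X.presheaf.map _ (X.presheaf.map _ _) = X.presheaf.map _ _
  rw [← X.presheaf.map_comp_apply]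
  rfl

/-- algebra structure on sections -/
noncomputable abbrev secAlg (W : X.Opens) : Algebra A Γ(X, W) := (secHom f W).toAlgebra

/-- algebra structure on stalks -/
noncomputable abbrev stAlg (x : X) : Algebra A (X.presheaf.stalk x) := (stHom f x).toAlgebra

/-- base ring module structure on sections -/
noncomputable abbrev secMod (M : X.Modules) (W : X.Opens) : Module A Γ(M, W) :=
  Module.compHom _ (secHom f W)

/-- base ring module structure on stalks -/
noncomputable abbrev stMod (M : X.Modules) (x : X) : Module A (M.presheaf.stalk x) :=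
  Module.compHom _ (stHom f x)

theorem secTower (M : X.Modules) (W : X.Opens) :
    letI := secAlg f W
    letI := secMod f M W
    IsScalarTower A Γ(X, W) Γ(M, W) := by
  let := secAlg f W
  let := secMod f M W
  refine ⟨fun a b c => ?_⟩
  rw [Algebra.smul_def, mul_smul]
  rfl

theorem stTower (M : X.Modules) (x : X) :
    letI := stAlg f x
    letI := stMod f M x
    IsScalarTower A (X.presheaf.stalk x) (M.presheaf.stalk x) := by
  let := stAlg f x
  let := stMod f M x
  refine ⟨fun a b c => ?_⟩
  rw [Algebra.smul_def, mul_smul]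
  rfl

theorem secHom_eq (W : X.Opens) (a : A) :
    secHom f W a = f.appLE ⊤ W le_top ((Scheme.ΓSpecIso (CommRingCat.of A)).inv a) := rfl

variable [QuasiCompact (pullback.diagonal f)]

theorem d_secHom (W : X.Opens) (a : A) : d f W (secHom f W a) = 0 := by
  let := algX f (U := ⊤) (W := W) le_top
  let := modO f (U := ⊤) (W := W) le_top
  have := isScalarTower f (U := ⊤) (W := W) le_top
  rw [secHom_eq, ← der_apply f (U := ⊤) le_top]
  exact (der f (U := ⊤) (W := W) le_top).map_algebraMap _

/-- The universal derivation on sections, over `A`. -/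
noncomputable def secDer (W : X.Opens) :
    letI := secAlg f W
    letI := secMod f (Omega.sheaf f) W
    haveI := secTower f (Omega.sheaf f) W
    Derivation A Γ(X, W) Γ(Omega.sheaf f, W) :=
  letI := secAlg f W
  letI := secMod f (Omega.sheaf f) W
  haveI := secTower f (Omega.sheaf f) W
  { toFun := d f W
    map_add' := map_add _
    map_smul' := fun a b => by
      rw [Algebra.smul_def, d_mul]
      change _ + b • d f W (secHom f W a) = _
      rw [d_secHom, smul_zero, add_zero]
      rfl
    map_one_eq_zero' := by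
      change d f W 1 = 0
      rw [← map_one (secHom f W), d_secHom]
    leibniz' := d_mul f W }

theorem secDer_apply (W : X.Opens) (s : Γ(X, W)) :
    letI := secAlg f W
    letI := secMod f (Omega.sheaf f) W
    haveI := secTower f (Omega.sheaf f) W
    secDer f W s = d f W s := rfl

theorem bijective_secDer {W : X.Opens} (hW : IsAffineOpen W) :
    letI := secAlg f W
    letI := secMod f (Omega.sheaf f) W
    haveI := secTower f (Omega.sheaf f) W
    Function.Bijective (secDer f W).liftKaehlerDifferential := by
  let := secAlg f W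
  let := secMod f (Omega.sheaf f) W
  have := secTower f (Omega.sheaf f) W
  let := algX f (U := ⊤) (W := W) le_top
  let := modO f (U := ⊤) (W := W) le_top
  have := isScalarTower f (U := ⊤) (W := W) le_top
  let : Algebra A Γ(Spec (CommRingCat.of A), ⊤) := (Scheme.ΓSpecIso (CommRingCat.of A)).inv.hom.toAlgebra
  have : IsScalarTower A Γ(Spec (CommRingCat.of A), ⊤) Γ(X, W) := IsScalarTower.of_algebraMap_eq (fun _ => rfl)
  exact bijective_lift_of_surjective (A := A) (A' := Γ(Spec (CommRingCat.of A), ⊤))
    (ConcreteCategory.bijective_of_isIso (Scheme.ΓSpecIso (CommRingCat.of A)).inv).2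
    (der f (U := ⊤) (W := W) le_top) (secDer f W)
    (fun b => (der_apply f (U := ⊤) (W := W) le_top b).symm)
    (bijective_lift f (U := ⊤) (W := W) le_top (isAffineOpen_top _) hW)

/-- additive map out of a stalk of functions, from compatible additive maps on sections. -/
theorem exists_dSt (x : X) : ∃ D : X.presheaf.stalk x →+ (Omega.sheaf f).presheaf.stalk x,
    ∀ (W : X.Opens) (hx : x ∈ W) (s : Γ(X, W)),
      D (X.presheaf.germ W x hx s) = (Omega.sheaf f).presheaf.germ W x hx (d f W s) := by
  have hwd : ∀ (W W' : X.Opens) (hx : x ∈ W) (hx' : x ∈ W') (s : Γ(X, W)) (s' : Γ(X, W')),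
      X.presheaf.germ W x hx s = X.presheaf.germ W' x hx' s' →
      (Omega.sheaf f).presheaf.germ W x hx (d f W s) = (Omega.sheaf f).presheaf.germ W' x hx' (d f W' s') := by
    intro W W' hx hx' s s' hs
    obtain ⟨V, hxV, i, i', h⟩ := X.presheaf.germ_eq x hx hx' s s' hs
    rw [← QCohStalk.germ_map (Omega.sheaf f) i.le x hxV, ← QCohStalk.germ_map (Omega.sheaf f) i'.le x hxV,
      d_res f i.le, d_res f i'.le]
    congr 2
  have hex : ∀ a : X.presheaf.stalk x, ∃ (W : X.Opens) (hx : x ∈ W) (s : Γ(X, W)),
      X.presheaf.germ W x hx s = a := fun a => TopCat.Presheaf.exists_germ_eq X.presheaf a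
  choose W hx s hs using hex
  have key : ∀ (V : X.Opens) (hxV : x ∈ V) (t : Γ(X, V)),
      (Omega.sheaf f).presheaf.germ (W (X.presheaf.germ V x hxV t)) x (hx _) (d f _ (s _)) =
        (Omega.sheaf f).presheaf.germ V x hxV (d f V t) := fun V hxV t => hwd _ _ _ _ _ _ (hs _)
  refine ⟨{
    toFun := fun a => (Omega.sheaf f).presheaf.germ (W a) x (hx a) (d f (W a) (s a))
    map_zero' := ?_
    map_add' := ?_ }, key⟩
  · have := key ⊤ trivial 0
    rw [map_zero] at this
    rw [this, map_zero, map_zero]
  · intro a b
    obtain ⟨V, hV, t, rfl⟩ := TopCat.Presheaf.exists_germ_eq X.presheaf a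
    obtain ⟨V', hV', t', rfl⟩ := TopCat.Presheaf.exists_germ_eq X.presheaf b
    rw [key, key]
    have h1 : X.presheaf.germ V x hV t + X.presheaf.germ V' x hV' t' =
        X.presheaf.germ (V ⊓ V') x ⟨hV, hV'⟩
          (X.presheaf.map (homOfLE inf_le_left).op t + X.presheaf.map (homOfLE inf_le_right).op t') := by
      rw [map_add, QCohStalk.ring_germ_map, QCohStalk.ring_germ_map]
    rw [h1, key, map_add, map_add, ← d_res f inf_le_left, ← d_res f inf_le_right,
      QCohStalk.germ_map, QCohStalk.germ_map]

/-- `d` on stalks -/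
noncomputable def dSt (x : X) : X.presheaf.stalk x →+ (Omega.sheaf f).presheaf.stalk x :=
  (exists_dSt f x).choose

theorem dSt_germ (x : X) (W : X.Opens) (hx : x ∈ W) (s : Γ(X, W)) :
    dSt f x (X.presheaf.germ W x hx s) = (Omega.sheaf f).presheaf.germ W x hx (d f W s) :=
  (exists_dSt f x).choose_spec W hx s

theorem exists_common (x : X) (a b : X.presheaf.stalk x) : ∃ (W : X.Opens) (hx : x ∈ W) (s t : Γ(X, W)),
    X.presheaf.germ W x hx s = a ∧ X.presheaf.germ W x hx t = b := by
  obtain ⟨V, hV, t, rfl⟩ := TopCat.Presheaf.exists_germ_eq X.presheaf a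
  obtain ⟨V', hV', t', rfl⟩ := TopCat.Presheaf.exists_germ_eq X.presheaf b
  exact ⟨V ⊓ V', ⟨hV, hV'⟩, X.presheaf.map (homOfLE inf_le_left).op t,
    X.presheaf.map (homOfLE inf_le_right).op t', QCohStalk.ring_germ_map _ _ _ _,
    QCohStalk.ring_germ_map _ _ _ _⟩

theorem dSt_mul (x : X) (a b : X.presheaf.stalk x) :
    dSt f x (a * b) = a • dSt f x b + b • dSt f x a := by
  obtain ⟨W, hx, s, t, rfl, rfl⟩ := exists_common x a b
  rw [← map_mul, dSt_germ, dSt_germ, dSt_germ, d_mul, map_add, QCohStalk.germ_smul', QCohStalk.germ_smul']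

theorem dSt_stHom (x : X) (a : A) : dSt f x (stHom f x a) = 0 := by
  rw [← germ_secHom f ⊤ x trivial, dSt_germ, d_secHom, map_zero]

/-- The universal derivation on stalks, over `A`. -/
noncomputable def stDer (x : X) :
    letI := stAlg f x
    letI := stMod f (Omega.sheaf f) x
    haveI := stTower f (Omega.sheaf f) x
    Derivation A (X.presheaf.stalk x) ((Omega.sheaf f).presheaf.stalk x) :=
  letI := stAlg f x
  letI := stMod f (Omega.sheaf f) x
  haveI := stTower f (Omega.sheaf f) x
  { toFun := dSt f x
    map_add' := map_add _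
    map_smul' := fun a b => by
      rw [Algebra.smul_def, dSt_mul]
      change _ + b • dSt f x (stHom f x a) = _
      rw [dSt_stHom, smul_zero, add_zero]
      rfl
    map_one_eq_zero' := by
      change dSt f x 1 = 0
      rw [← map_one (stHom f x), dSt_stHom]
    leibniz' := dSt_mul f x }

omit [QuasiCompact (pullback.diagonal f)] in
theorem isQCoh_omega : Coh.IsQCoh (Omega.sheaf f) :=
  PullSec.isQCoh_pullback _ _ (PerfA.IdealModule.isQCoh_idealMod _)

theorem bijective_stDer (x : X) :
    letI := stAlg f x
    letI := stMod f (Omega.sheaf f) x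
    haveI := stTower f (Omega.sheaf f) x
    Function.Bijective (stDer f x).liftKaehlerDifferential := by
  obtain ⟨W, hW, hx, -⟩ := exists_isAffineOpen_mem_and_subset (x := x) (U := ⊤) trivial
  let := secAlg f W
  let := secMod f (Omega.sheaf f) W
  have := secTower f (Omega.sheaf f) W
  let := stAlg f x
  let := stMod f (Omega.sheaf f) x
  have := stTower f (Omega.sheaf f) x
  let := PullSec.germAlg x hx
  let := QCohStalk.stalkModule (Omega.sheaf f) x hx
  have := PullSec.stalk_isScalarTower (Omega.sheaf f) x hx
  have tow : IsScalarTower A Γ(X, W) (X.presheaf.stalk x) :=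
    IsScalarTower.of_algebraMap_eq (fun a => (germ_secHom f W x hx a).symm)
  have tow' : IsScalarTower A Γ(X, W) ((Omega.sheaf f).presheaf.stalk x) := by
    refine ⟨fun a b c => ?_⟩
    rw [Algebra.smul_def, mul_smul]
    exact congrArg (fun t : X.presheaf.stalk x => t • (b • c)) (germ_secHom f W x hx a)
  let S := (hW.primeIdealOf ⟨x, hx⟩).asIdeal.primeCompl
  have h1 : IsLocalization.AtPrime (X.presheaf.stalk x) (hW.primeIdealOf ⟨x, hx⟩).asIdeal :=
    hW.isLocalization_stalk ⟨x, hx⟩
  have h2 : IsLocalizedModule S (KaehlerDifferential.map A A Γ(X, W) (X.presheaf.stalk x)) :=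
    KaehlerDifferential.isLocalizedModule_map A Γ(X, W) (X.presheaf.stalk x) S
  have h3 : IsLocalizedModule S (QCohStalk.germₗ (Omega.sheaf f) x hx) :=
    QCohStalk.isLocalizedModule_germ (Omega.sheaf f) hW (isQCoh_omega f) x hx
  let φ : Ω[Γ(X, W)⁄A] ≃ₗ[Γ(X, W)] Γ(Omega.sheaf f, W) :=
    LinearEquiv.ofBijective _ (bijective_secDer f hW)
  have h4 : IsLocalizedModule S ((QCohStalk.germₗ (Omega.sheaf f) x hx) ∘ₗ φ.toLinearMap) :=
    IsLocalizedModule.of_linearEquiv_right S _ φ
  refine bijective_of_isLocalizedModule S (KaehlerDifferential.map A A Γ(X, W) (X.presheaf.stalk x))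
    ((QCohStalk.germₗ (Omega.sheaf f) x hx) ∘ₗ φ.toLinearMap)
    ((stDer f x).liftKaehlerDifferential.restrictScalars Γ(X, W)) ?_
  intro m
  have h5 : ((stDer f x).liftKaehlerDifferential.restrictScalars Γ(X, W)) ∘ₗ
      (KaehlerDifferential.map A A Γ(X, W) (X.presheaf.stalk x)) =
      (QCohStalk.germₗ (Omega.sheaf f) x hx) ∘ₗ φ.toLinearMap := by
    apply Derivation.liftKaehlerDifferential_unique
    ext s
    change (stDer f x).liftKaehlerDifferential (KaehlerDifferential.map A A Γ(X, W) (X.presheaf.stalk x)
      (KaehlerDifferential.D A Γ(X, W) s)) = (Omega.sheaf f).presheaf.germ W x hx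
        ((secDer f W).liftKaehlerDifferential (KaehlerDifferential.D A Γ(X, W) s))
    rw [KaehlerDifferential.map_D, Derivation.liftKaehlerDifferential_comp_D,
      Derivation.liftKaehlerDifferential_comp_D]
    exact dSt_germ f x W hx s
  exact LinearMap.congr_fun h5 m

section Specializes

variable {x y : X} (h : y ⤳ x)

theorem dSt_specializes (a : X.presheaf.stalk x) :
    (Omega.sheaf f).presheaf.stalkSpecializes h (dSt f x a) = dSt f y (X.presheaf.stalkSpecializes h a) := by
  obtain ⟨W, hx, s, rfl⟩ := TopCat.Presheaf.exists_germ_eq X.presheaf a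
  rw [dSt_germ]
  have h1 := congr($(TopCat.Presheaf.germ_stalkSpecializes (Omega.sheaf f).presheaf hx h) (d f W s))
  have h2 := congr($(TopCat.Presheaf.germ_stalkSpecializes X.presheaf hx h) s)
  refine h1.trans ?_
  refine Eq.trans ?_ (congrArg (dSt f y) h2).symm
  exact (dSt_germ f y W _ s).symm

end Specializes

end Groth.Agent.CurvesB.OmegaStalkDict
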