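import Groth.Agent.CurvesB.GenApprox
import Groth.Agent.CycB.StalkLoc
import Groth.Agent.Sga3B.DimOneTop
import Mathlib.AlgebraicGeometry.FunctionField
import Mathlib.RingTheory.Flat.TorsionFree

/-!
# Criteria for `GenStk.TF` (torsion-freeness) and `GenStk.DimLe`

* `TF.of_local`, `TF.of_isFlat`, `tf_structureModule`, `tf_of_isInvertible`, `TF.of_iso`;
* `dimLe_of_dim_le_one`.
-/

set_option autoImplicit false
universe u
open CategoryTheory CategoryTheory.Limits AlgebraicGeometry Opposite TopologicalSpace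

namespace Groth.Agent.CurvesB.TFLemmas

open Groth.Agent.Ega1.ModGerm Groth.Agent.CurvesB.GenStk Groth.Agent.CurvesB.GenApprox

theorem dimLe_of_dim_le_one {X : Scheme.{u}} [IrreducibleSpace X] (h : topologicalKrullDim X ≤ 1) :
    DimLe X := by
  intro y z hzy
  by_cases hz : z = genericPoint X
  · exact Or.inr hz
  · exact Or.inl (Groth.Agent.Sga3B.DimOneTop.eq_of_specializes_of_dim_le_one h (gspec z) (Ne.symm hz) hzy)

variable {X : Scheme.{u}}

/-- A module with injective restriction maps on small opens is torsion free. -/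
theorem tf_of_local [IrreducibleSpace X] {F : X.Modules}
    (h : ∀ x : X, ∃ U : X.Opens, x ∈ U ∧ ∀ (V W : X.Opens) (_ : V ≤ U) (hWV : W ≤ V),
      (W : Set X).Nonempty → Function.Injective (F.presheaf.map (homOfLE hWV).op)) : TF F := by
  intro y
  rw [injective_iff_map_eq_zero]
  intro m hm
  obtain ⟨U, hyU, hU⟩ := h y
  obtain ⟨V, hVU, hyV, s, rfl⟩ := exists_germ F m hyU
  rw [sp_germ] at hm
  obtain ⟨W, hW, hWV, hs⟩ := germ_eq_zero F (gmem hyV) s hm
  have : s = 0 := hU V W hVU hWV ⟨_, hW⟩ (by rw [map_zero]; exact hs)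
  rw [this, map_zero]

theorem tf_structureModule [IsIntegral X] : TF (Coh.structureModule X) := by
  refine tf_of_local fun x => ⟨⊤, trivial, fun V W _ hWV hW => ?_⟩
  have : Nonempty W := hW.to_subtype
  exact map_injective_of_isIntegral X (homOfLE hWV)

theorem tf_of_isInvertible [IsIntegral X] {L : X.Modules} (hL : PicF.IsInvertible L) : TF L := by
  refine tf_of_local fun x => ?_
  obtain ⟨U, hxU, s, hs⟩ := Groth.Agent.CycB.ModStalk.exists_isGenOn hL x
  refine ⟨U, hxU, fun V W hVU hWV hW => ?_⟩
  rw [injective_iff_map_eq_zero]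
  intro m hm
  obtain ⟨r, rfl⟩ := (hs V hVU).2 m
  have h1 : L.presheaf.map (homOfLE hWV).op (r • L.presheaf.map (homOfLE hVU).op s) =
      X.presheaf.map (homOfLE hWV).op r • L.presheaf.map (homOfLE (hWV.trans hVU)).op s := by
    rw [map_smul' L hWV, res_res]
  have h2 : X.presheaf.map (homOfLE hWV).op r • L.presheaf.map (homOfLE (hWV.trans hVU)).op s =
      (0 : Γ(X, W)) • L.presheaf.map (homOfLE (hWV.trans hVU)).op s := by
    rw [zero_smul, ← h1]
    exact hm
  have h3 : X.presheaf.map (homOfLE hWV).op r = 0 := (hs W (hWV.trans hVU)).1 h2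
  have : Nonempty W := hW.to_subtype
  have h4 : r = 0 := map_injective_of_isIntegral X (homOfLE hWV) (by rw [h3, map_zero])
  rw [h4]
  exact zero_smul _ _

/-- Flat quasi-coherent modules on integral schemes are torsion free. -/
theorem tf_of_isFlat [IsIntegral X] {F : X.Modules} (hF : Coh.IsQCoh F) (hfl : FlatMod.IsFlat F) :
    TF F := by
  intro y
  rw [injective_iff_map_eq_zero]
  intro m hm
  let _ := Groth.Agent.CycB.StalkLoc.specMod F (gspec y)
  have hloc := Groth.Agent.CycB.StalkLoc.isLocalizedModule_specLin F hF (gspec y)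
  have h0 : Groth.Agent.CycB.StalkLoc.specLin F (gspec y) m =
      Groth.Agent.CycB.StalkLoc.specLin F (gspec y) 0 := by
    rw [map_zero]
    exact hm
  obtain ⟨c, hc⟩ := hloc.exists_of_eq h0
  rw [smul_zero] at hc
  have hflat : Module.Flat (X.presheaf.stalk y) (F.presheaf.stalk y) := hfl y
  have hc0 : (c : X.presheaf.stalk y) ≠ 0 := by
    intro h
    apply c.2
    rw [h]
    exact zero_mem _
  have htf : Module.IsTorsionFree (X.presheaf.stalk y) (F.presheaf.stalk y) := inferInstance
  exact (smul_eq_zero.1 (show (c : X.presheaf.stalk y) • m = 0 from hc)).resolve_left hc0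

end Groth.Agent.CurvesB.TFLemmas
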