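import Groth.Agent.CurvesB.MVOne
import Groth.Agent.CurvesB.GenApprox
import Groth.Agent.CohqA.AffVan

/-!
# The one-point description of `H^1` on a curve

`X` integral locally Noetherian of dimension `≤ 1`, `F` quasi-coherent and torsion free (`TF F`), `x` closed,
`U = X ∖ x` affine: there is a surjective `Δ : F_η → H^1(X, F)` with kernel `F_x + Γ(F, U)`,
linear over the global functions.
-/

set_option autoImplicit false
universe u
open CategoryTheory CategoryTheory.Limits AlgebraicGeometry Opposite TopologicalSpace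

namespace Groth.Agent.CurvesB.OnePoint

open Groth.Agent.Ega1.ModGerm Groth.Agent.CurvesB.GenStk Groth.Agent.CurvesB.GenApprox
  Groth.Agent.CurvesB.MVOne Groth.Agent.CohqA

variable {X : Scheme.{u}} (F : X.Modules)

/-- The connecting map on sections of a module. -/
noncomputable def connM {U V : X.Opens} (h : U ⊔ V = ⊤) : Γ(F, U ⊓ V) →+ Coh.HH X F 1 :=
  conn (X := X.toTopCat) (Coh.toAb F) h

theorem connM_eq_zero_iff {U V : X.Opens} (h : U ⊔ V = ⊤) (s : Γ(F, U ⊓ V)) :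
    connM F h s = 0 ↔ ∃ (a : Γ(F, U)) (b : Γ(F, V)),
      s = F.presheaf.map (homOfLE (inf_le_left : U ⊓ V ≤ U)).op a -
        F.presheaf.map (homOfLE (inf_le_right : U ⊓ V ≤ V)).op b :=
  conn_eq_zero_iff (X := X.toTopCat) (Coh.toAb F) h s

theorem connM_surjective [Coh.IsQCoh F] {U V : X.Opens} (h : U ⊔ V = ⊤) (hU : IsAffineOpen U)
    (hV : IsAffineOpen V) : Function.Surjective (connM F h) :=
  conn_surjective (X := X.toTopCat) (Coh.toAb F) h (AffVan.subsingleton_HU_of_isAffineOpen F hU 0)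
    (AffVan.subsingleton_HU_of_isAffineOpen F hV 0)

theorem connM_smul {U V : X.Opens} (h : U ⊔ V = ⊤) (r : Γ(X, ⊤)) (s : Γ(F, U ⊓ V)) :
    connM F h (X.presheaf.map (homOfLE (le_top (a := U ⊓ V))).op r • s) =
      (id r : Coh.Γtop X) • connM F h s :=
  conn_map (X := X.toTopCat) (Coh.smulAb F r) h s

section Main

variable {F} [IsIntegral X] [IsLocallyNoetherian X] (hF : Coh.IsQCoh F) (hT : TF F) (hd : DimLe X)
  {x : X} (hx : x ≠ genericPoint X) {U : X.Opens} (hU : IsAffineOpen U) (hUx : ∀ y, y ∈ U ↔ y ≠ x)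

include hUx in
omit [IsIntegral X] [IsLocallyNoetherian X] in
theorem sup_eq_top {V : X.Opens} (hxV : x ∈ V) : U ⊔ V = ⊤ := by
  ext y
  simp only [Opens.coe_sup, Set.mem_union, SetLike.mem_coe, Opens.coe_top, Set.mem_univ, iff_true]
  by_cases h : y = x
  · exact Or.inr (h ▸ hxV)
  · exact Or.inl ((hUx y).2 h)

include hT hUx in
omit [IsLocallyNoetherian X] in
theorem connM_eq_zero_iff_gm {V : X.Opens} (hxV : x ∈ V) (h : U ⊔ V = ⊤)
    (hη : genericPoint X ∈ U ⊓ V) (s : Γ(F, U ⊓ V)) :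
    connM F h s = 0 ↔ gm F (U ⊓ V) hη s ∈ rng F x ⊔ rngU F U hη.1 := by
  rw [connM_eq_zero_iff]
  constructor
  · rintro ⟨a, b, rfl⟩
    rw [map_sub, gm_res, gm_res, sub_eq_neg_add]
    exact add_mem (AddSubgroup.mem_sup_left (neg_mem (gm_mem_rng F hη.2 hxV b)))
      (AddSubgroup.mem_sup_right ⟨a, rfl⟩)
  · intro hs
    obtain ⟨m, hm, n, ⟨a, rfl⟩, hmn⟩ := AddSubgroup.mem_sup.1 hs
    have hmV : m ∈ rngU F V hη.2 := by
      rw [hT.mem_rngU_iff]
      intro y hy
      by_cases hyx : y = x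
      · rw [hyx]
        exact hm
      · have h1 : m = gm F (U ⊓ V) hη s - gm F U hη.1 a := by
          rw [← hmn, add_sub_cancel_right]
        rw [h1]
        exact sub_mem (gm_mem_rng F hη ⟨(hUx y).2 hyx, hy⟩ s) (gm_mem_rng F hη.1 ((hUx y).2 hyx) a)
    obtain ⟨b, rfl⟩ := hmV
    refine ⟨a, -b, ?_⟩
    apply hT.gm_injective (U ⊓ V) hη
    rw [map_sub, gm_res, gm_res, map_neg, sub_neg_eq_add, ← hmn, add_comm]

include hF hT hd hx hU hUx in
theorem exists_delta (hη : genericPoint X ∈ U) : ∃ Δ : Eta F →+ Coh.HH X F 1, Function.Surjective Δ ∧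
    (∀ f, Δ f = 0 ↔ f ∈ rng F x ⊔ rngU F U hη) ∧
    ∀ (r : Γ(X, ⊤)) (f : Eta F), Δ (X.presheaf.germ ⊤ (genericPoint X) trivial r • f) =
      (id r : Coh.Γtop X) • Δ f := by
  obtain ⟨V, hV, hxV, -⟩ := exists_isAffineOpen_mem_and_subset (X := X) (x := x) (U := ⊤) trivial
  have hUV := sup_eq_top hUx hxV
  have hηW : genericPoint X ∈ U ⊓ V := ⟨hη, gmem hxV⟩
  set N : AddSubgroup (Eta F) := rng F x ⊔ rngU F U hη with hN
  have hker := connM_eq_zero_iff_gm hT hUx hxV hUV hηW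
  have hsurj : ∀ f : Eta F, ∃ s : Γ(F, U ⊓ V), f - gm F (U ⊓ V) hηW s ∈ N := by
    intro f
    obtain ⟨g, hg, hfg⟩ := exists_approx F hF hd hV hxV hx f
    have hgW : g ∈ rngU F (U ⊓ V) hηW := by
      rw [hT.mem_rngU_iff]
      exact fun y hy => hg y hy.2 ((hUx y).1 hy.1)
    obtain ⟨s, rfl⟩ := hgW
    exact ⟨s, AddSubgroup.mem_sup_left hfg⟩
  let q : Γ(F, U ⊓ V) →+ Eta F ⧸ N := (QuotientAddGroup.mk' N).comp (gm F (U ⊓ V) hηW)
  have hq0 : ∀ s, q s = 0 ↔ gm F (U ⊓ V) hηW s ∈ N := fun s => QuotientAddGroup.eq_zero_iff _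
  have hqs : Function.Surjective q := by
    intro b
    obtain ⟨f, rfl⟩ := QuotientAddGroup.mk'_surjective N b
    obtain ⟨s, hs⟩ := hsurj f
    refine ⟨s, ?_⟩
    change QuotientAddGroup.mk' N (gm F (U ⊓ V) hηW s) = QuotientAddGroup.mk' N f
    rw [eq_comm, ← sub_eq_zero, ← map_sub]
    exact (QuotientAddGroup.eq_zero_iff _).2 hs
  have hle : q.ker ≤ (connM F hUV).ker := fun s hs => (hker s).2 ((hq0 s).1 hs)
  let D : Eta F ⧸ N →+ Coh.HH X F 1 := AddMonoidHom.liftOfSurjective q hqs ⟨connM F hUV, hle⟩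
  have hD : ∀ s, D (q s) = connM F hUV s := fun s =>
    AddMonoidHom.liftOfRightInverse_comp_apply q _ _ ⟨connM F hUV, hle⟩ s
  let Δ : Eta F →+ Coh.HH X F 1 := D.comp (QuotientAddGroup.mk' N)
  have hΔ : ∀ (f : Eta F) (s : Γ(F, U ⊓ V)), f - gm F (U ⊓ V) hηW s ∈ N → Δ f = connM F hUV s := by
    intro f s hs
    rw [← hD]
    change D (QuotientAddGroup.mk' N f) = D (QuotientAddGroup.mk' N (gm F (U ⊓ V) hηW s))
    congr 1
    rw [← sub_eq_zero, ← map_sub]
    exact (QuotientAddGroup.eq_zero_iff _).2 hs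
  have hsmul : ∀ (r : Γ(X, ⊤)) (f : Eta F), f ∈ N →
      X.presheaf.germ ⊤ (genericPoint X) trivial r • f ∈ N := by
    intro r f hf
    obtain ⟨m, hm, n, ⟨a, rfl⟩, rfl⟩ := AddSubgroup.mem_sup.1 hf
    rw [smul_add]
    refine add_mem (AddSubgroup.mem_sup_left (germ_smul_mem_rng F (U := ⊤) trivial r hm))
      (AddSubgroup.mem_sup_right ⟨X.presheaf.map (homOfLE (le_top (a := U))).op r • a, ?_⟩)
    rw [gm_smul]
    congr 1
    exact germ_res_ring (le_top (a := U)) hη r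
  refine ⟨Δ, ?_, ?_, ?_⟩
  · intro y
    obtain ⟨s, rfl⟩ := connM_surjective F hUV hU hV y
    exact ⟨gm F (U ⊓ V) hηW s, hΔ _ s (by rw [sub_self]; exact zero_mem _)⟩
  · intro f
    obtain ⟨s, hs⟩ := hsurj f
    rw [hΔ f s hs, hker s]
    constructor
    · intro h
      have := add_mem hs h
      rwa [sub_add_cancel] at this
    · intro h
      have := sub_mem h hs
      rwa [sub_sub_cancel] at this
  · intro r f
    obtain ⟨s, hs⟩ := hsurj f
    have h1 := hsmul r _ hs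
    rw [smul_sub] at h1
    have h2 : X.presheaf.germ ⊤ (genericPoint X) trivial r • gm F (U ⊓ V) hηW s =
        gm F (U ⊓ V) hηW (X.presheaf.map (homOfLE (le_top (a := U ⊓ V))).op r • s) := by
      rw [gm_smul]
      congr 1
      exact (germ_res_ring (le_top (a := U ⊓ V)) hηW r).symm
    rw [h2] at h1
    rw [hΔ _ _ h1, hΔ f s hs, connM_smul]

end Main

end Groth.Agent.CurvesB.OnePoint
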