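import Mathlib.LinearAlgebra.Dual.Lemmas
import Mathlib.Algebra.BigOperators.Finprod

/-!
# Families of local linear forms with vanishing sum

`L : P → Submodule k V` with `{y | f ∉ L y}` finite for all `f`.  `Fam L hfin` is the module of families
`l : P → (V →ₗ[k] k)` with `l y` zero on `L y` and `∑ᶠ y, l y f = 0` for all `f`.  If approximation
away from `x` holds, then `l ↦ l x` is an isomorphism onto the linear forms vanishing on
`L x ⊔ ⨅_{y ≠ x} L y`.
-/

set_option autoImplicit false

namespace Groth.Agent.CurvesB.WeilFam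

variable {k V P : Type*} [CommRing k] [AddCommGroup V] [Module k V] {L : P → Submodule k V}
  (hfin : ∀ f : V, {y | f ∉ L y}.Finite)

include hfin in
theorem finite_support {l : P → (V →ₗ[k] k)} (hl : ∀ y, ∀ f ∈ L y, l y f = 0) (f : V) :
    (Function.support fun y => l y f).Finite :=
  (hfin f).subset fun y hy hf => hy (hl y f hf)

variable (L) in
/-- Families of local linear forms with vanishing sum. -/
def Fam (hfin : ∀ f : V, {y | f ∉ L y}.Finite) : Submodule k (P → (V →ₗ[k] k)) where
  carrier := {l | (∀ y, ∀ f ∈ L y, l y f = 0) ∧ ∀ f, ∑ᶠ y, l y f = 0}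
  add_mem' := fun {a b} ha hb => by
    refine ⟨fun y f hf => by
      rw [Pi.add_apply, LinearMap.add_apply, ha.1 y f hf, hb.1 y f hf, add_zero], fun f => ?_⟩
    simp only [Pi.add_apply, LinearMap.add_apply]
    rw [finsum_add_distrib (finite_support hfin ha.1 f) (finite_support hfin hb.1 f), ha.2, hb.2,
      add_zero]
  zero_mem' := ⟨fun y f _ => rfl, fun f => by simp⟩
  smul_mem' := fun c l hl => by
    refine ⟨fun y f hf => by
      rw [Pi.smul_apply, LinearMap.smul_apply, hl.1 y f hf, smul_zero], fun f => ?_⟩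
    simp only [Pi.smul_apply, LinearMap.smul_apply]
    rw [← smul_finsum' c (finite_support hfin hl.1 f), hl.2, smul_zero]

theorem mem_Fam {l : P → (V →ₗ[k] k)} :
    l ∈ Fam L hfin ↔ (∀ y, ∀ f ∈ L y, l y f = 0) ∧ ∀ f, ∑ᶠ y, l y f = 0 := Iff.rfl

variable {x : P} (happ : ∀ y, y ≠ x → ∀ f : V, ∃ g : V, (∀ z, z ≠ x → z ≠ y → g ∈ L z) ∧ f - g ∈ L y)

theorem val_eq_zero {l : P → (V →ₗ[k] k)} (hl : l ∈ Fam L hfin) {f : V} (hf : ∀ y, y ≠ x → f ∈ L y) :
    l x f = 0 := by
  have h1 := hl.2 f
  rwa [finsum_eq_single _ x fun y hy => hl.1 y f (hf y hy)] at h1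

theorem val_add_val {l : P → (V →ₗ[k] k)} (hl : l ∈ Fam L hfin) {y : P} (hy : y ≠ x) {f : V}
    (hf : ∀ z, z ≠ x → z ≠ y → f ∈ L z) : l x f + l y f = 0 := by
  classical
  have h1 := hl.2 f
  rw [finsum_eq_sum_of_support_subset (s := {x, y}) _ (by
    intro z hz
    simp only [Finset.coe_insert, Finset.coe_singleton, Set.mem_insert_iff, Set.mem_singleton_iff]
    by_contra h
    push Not at h
    exact hz (hl.1 z f (hf z h.1 h.2))), Finset.sum_pair hy.symm] at h1
  exact h1

/-- The restriction to the place `x`. -/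
def atx (x : P) : Fam L hfin →ₗ[k] (L x ⊔ ⨅ y : {y // y ≠ x}, L y.1 : Submodule k V).dualAnnihilator where
  toFun l := ⟨l.1 x, by
    rw [Submodule.mem_dualAnnihilator]
    intro w hw
    obtain ⟨a, ha, b, hb, rfl⟩ := Submodule.mem_sup.1 hw
    rw [map_add, l.2.1 x a ha, zero_add]
    rw [Submodule.mem_iInf] at hb
    exact val_eq_zero hfin l.2 fun y hy => hb ⟨y, hy⟩⟩
  map_add' _ _ := rfl
  map_smul' _ _ := rfl

theorem atx_apply (x : P) (l : Fam L hfin) : (atx hfin x l : Module.Dual k V) = l.1 x := rfl

include happ in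
theorem atx_injective : Function.Injective (atx hfin x) := by
  rw [injective_iff_map_eq_zero]
  intro l hl
  have hx : l.1 x = 0 := congrArg Subtype.val hl
  apply Subtype.ext
  funext y
  by_cases hy : y = x
  · rw [hy]
    exact hx
  · ext f
    obtain ⟨g, hg, hfg⟩ := happ y hy f
    have h1 := val_add_val hfin l.2 hy hg
    rw [hx, LinearMap.zero_apply, zero_add] at h1
    have h2 := l.2.1 y _ hfg
    rw [map_sub, h1, sub_zero] at h2
    exact h2

include happ in
theorem atx_surjective : Function.Surjective (atx hfin x) := by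
  classical
  rintro ⟨m, hm⟩
  rw [Submodule.mem_dualAnnihilator] at hm
  have hmx : ∀ f ∈ L x, m f = 0 := fun f hf => hm f (Submodule.mem_sup_left hf)
  have hmU : ∀ f, (∀ y, y ≠ x → f ∈ L y) → m f = 0 := fun f hf =>
    hm f (Submodule.mem_sup_right (by
      rw [Submodule.mem_iInf]
      exact fun y => hf y.1 y.2))
  choose G hG1 hG2 using happ
  -- well-definedness
  have key : ∀ (y : P) (hy : y ≠ x) (f g : V), (∀ z, z ≠ x → z ≠ y → g ∈ L z) → f - g ∈ L y →
      m (G y hy f) = m g := by
    intro y hy f g hg hfg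
    rw [← sub_eq_zero, ← map_sub]
    apply hmU
    intro z hz
    by_cases hzy : z = y
    · subst hzy
      have := sub_mem hfg (hG2 z hz f)
      rwa [sub_sub_sub_cancel_left] at this
    · exact sub_mem (hG1 y hy f z hz hzy) (hg z hz hzy)
  let l : P → (V →ₗ[k] k) := fun y =>
    if hy : y = x then m else
      { toFun := fun f => - m (G y hy f)
        map_add' := fun f f' => by
          rw [key y hy (f + f') (G y hy f + G y hy f')
            (fun z hz hzy => add_mem (hG1 y hy f z hz hzy) (hG1 y hy f' z hz hzy))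
            (by
              have := add_mem (hG2 y hy f) (hG2 y hy f')
              rwa [← add_sub_add_comm] at this), map_add, neg_add]
        map_smul' := fun c f => by
          rw [key y hy (c • f) (c • G y hy f)
            (fun z hz hzy => Submodule.smul_mem _ c (hG1 y hy f z hz hzy))
            (by
              rw [← smul_sub]
              exact Submodule.smul_mem _ c (hG2 y hy f)), map_smul, RingHom.id_apply, smul_neg] }
  have hlx : l x = m := by simp [l]
  have hly : ∀ (y : P) (hy : y ≠ x) (f : V), l y f = - m (G y hy f) := by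
    intro y hy f
    simp [l, hy]
  have hl : l ∈ Fam L hfin := by
    have h0 : ∀ y, ∀ f ∈ L y, l y f = 0 := by
      intro y f hf
      by_cases hy : y = x
      · subst hy
        rw [hlx]
        exact hmx f hf
      · rw [hly y hy, key y hy f 0 (fun z _ _ => zero_mem _) (by rwa [sub_zero]), map_zero, neg_zero]
    refine ⟨h0, fun f => ?_⟩
    -- the bad points different from `x`
    let S : Finset P := (hfin f).toFinset.erase x
    have hS : ∀ y, y ∈ S ↔ y ≠ x ∧ f ∉ L y := by
      intro y
      simp [S]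
    have hsum : m f = ∑ y ∈ S.attach, m (G y.1 ((hS y.1).1 y.2).1 f) := by
      rw [← map_sum, ← sub_eq_zero, ← map_sub]
      apply hmU
      intro z hz
      by_cases hzS : z ∈ S
      · have h1 : ∑ y ∈ S.attach, G y.1 ((hS y.1).1 y.2).1 f =
            G z hz f + ∑ y ∈ S.attach.erase ⟨z, hzS⟩, G y.1 ((hS y.1).1 y.2).1 f :=
          (Finset.add_sum_erase S.attach (fun y => G y.1 ((hS y.1).1 y.2).1 f)
            (Finset.mem_attach S ⟨z, hzS⟩)).symm
        rw [h1, ← sub_sub]
        refine sub_mem (hG2 z hz f) (Submodule.sum_mem _ fun y hy => ?_)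
        refine hG1 _ _ _ _ hz ?_
        rintro rfl
        exact (Finset.mem_erase.1 hy).1 rfl
      · have hzf : f ∈ L z := by
          by_contra h
          exact hzS ((hS z).2 ⟨hz, h⟩)
        refine sub_mem hzf (Submodule.sum_mem _ fun y _ => ?_)
        refine hG1 _ _ _ _ hz ?_
        rintro rfl
        exact hzS y.2
    have hsupp : (Function.support fun y => l y f) ⊆ ((insert x S : Finset P) : Set P) := by
      intro y hy
      rw [Finset.coe_insert, Set.mem_insert_iff]
      by_cases hyx : y = x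
      · exact Or.inl hyx
      · refine Or.inr ((hS y).2 ⟨hyx, fun h => hy (h0 y f h)⟩)
    rw [finsum_eq_sum_of_support_subset _ hsupp, Finset.sum_insert (by simp [S]), hlx, hsum,
      ← Finset.sum_attach S (fun y => l y f), ← Finset.sum_add_distrib]
    apply Finset.sum_eq_zero
    intro y _
    rw [hly y.1 ((hS y.1).1 y.2).1, add_neg_cancel]
  exact ⟨⟨l, hl⟩, Subtype.ext hlx⟩

include happ in
/-- Families of local forms are the linear forms on `V ⧸ (L x ⊔ ⨅_{y ≠ x} L y)`. -/
theorem nonempty_equiv :
    Nonempty (Fam L hfin ≃ₗ[k] Module.Dual k (V ⧸ (L x ⊔ ⨅ y : {y // y ≠ x}, L y.1 : Submodule k V))) :=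
  ⟨(LinearEquiv.ofBijective (atx hfin x) ⟨atx_injective hfin happ, atx_surjective hfin happ⟩).trans
    (Submodule.dualQuotEquivDualAnnihilator _).symm⟩

end Groth.Agent.CurvesB.WeilFam
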