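import Groth.Agent.CurvesB.OnePointLin
import Groth.Agent.CurvesB.WeilFam

/-!
# The dual of `H^1(X, F)` as families of local linear forms

`X` integral Noetherian of dimension `≤ 1`, `F` quasi-coherent torsion free, some `X ∖ x` affine.
`Pl X` : the points different from the generic point; `Lat k F y := rngₗ k F y`.
`nonempty_dual_H1 : Dual k (H^1(X, F)) ≃ Fam (Lat k F)`.
-/

set_option autoImplicit false
universe u
open CategoryTheory CategoryTheory.Limits AlgebraicGeometry Opposite TopologicalSpace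

namespace Groth.Agent.CurvesB.OnePointFam

open Groth.Agent.Ega1.ModGerm Groth.Agent.CurvesB.GenStk Groth.Agent.CurvesB.GenApprox
  Groth.Agent.CurvesB.OnePoint Groth.Agent.CurvesB.OnePointLin Groth.Agent.CurvesB.HZero
  Groth.Agent.CurvesB.WeilFam

/-- The places: the points different from the generic point. -/
abbrev Pl (X : Scheme.{u}) [IrreducibleSpace X] : Type u := {y : X // y ≠ genericPoint X}

variable {X : Scheme.{u}} (k : Type u) [CommRing k] [X.Over (Spec (CommRingCat.of k))]
  [IrreducibleSpace X] (F : X.Modules)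

/-- The lattices `F_y ⊆ F_η`. -/
noncomputable abbrev Lat : letI := modk k F (genericPoint X); Pl X → Submodule k (Eta F) :=
  letI := modk k F (genericPoint X)
  fun y => rngₗ k F y.1

theorem finite_bad_pl [NoetherianSpace X] (hd : DimLe X) (f : Eta F) :
    letI := modk k F (genericPoint X)
    {y : Pl X | f ∉ Lat k F y}.Finite :=
  (finite_bad hd f).preimage Subtype.val_injective.injOn

variable {F}

theorem iInf_eq (hT : TF F) {x : X} (hx : x ≠ genericPoint X) {U : X.Opens}
    (hUx : ∀ y, y ∈ U ↔ y ≠ x) (hη : genericPoint X ∈ U) :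
    letI := modk k F (genericPoint X)
    rngUₗ k F U hη = ⨅ y : {y : Pl X // y ≠ ⟨x, hx⟩}, Lat k F y.1 := by
  let _ := modk k F (genericPoint X)
  ext f
  rw [mem_rngUₗ, hT.mem_rngU_iff, Submodule.mem_iInf]
  constructor
  · rintro h ⟨⟨y, hy⟩, hyx⟩
    exact h y ((hUx y).2 fun h => hyx (Subtype.ext h))
  · intro h y hyU
    by_cases hy : y = genericPoint X
    · rw [hy]
      exact mem_rng_genericPoint f
    · exact h ⟨⟨y, hy⟩, fun e => (hUx y).1 hyU (congrArg Subtype.val e)⟩

/-- The dual of `H^1(X, F)`: families of local forms on `F_η` vanishing on the `F_y` and with sum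
zero. -/
theorem nonempty_dual_H1 [IsIntegral X] [IsNoetherian X] (hF : Coh.IsQCoh F) (hT : TF F)
    (hd : DimLe X) {x : X} (hx : x ≠ genericPoint X) {U : X.Opens} (hU : IsAffineOpen U)
    (hUx : ∀ y, y ∈ U ↔ y ≠ x) :
    letI := modk k F (genericPoint X)
    Nonempty (Fam (Lat k F) (finite_bad_pl k F hd) ≃ₗ[k] Module.Dual k (Coh.HH X F 1)) := by
  let _ := modk k F (genericPoint X)
  have hη : genericPoint X ∈ U := (hUx _).2 hx.symm
  obtain ⟨e⟩ := nonempty_H1 k hF hT hd hx hU hUx hη
  obtain ⟨e'⟩ := nonempty_equiv (L := Lat k F) (finite_bad_pl k F hd) (x := (⟨x, hx⟩ : Pl X))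
    (by
      rintro ⟨y, hy⟩ hyx f
      have hyU : y ∈ U := (hUx y).2 fun h => hyx (Subtype.ext h)
      obtain ⟨g, hg, hfg⟩ := exists_approx F hF hd hU hyU hy f
      refine ⟨g, ?_, hfg⟩
      rintro ⟨z, hz⟩ hzx hzy
      exact hg z ((hUx z).2 fun h => hzx (Subtype.ext h)) fun h => hzy (Subtype.ext h))
  have h1 : (rngₗ k F x ⊔ rngUₗ k F U hη : Submodule k (Eta F)) =
      Lat k F ⟨x, hx⟩ ⊔ ⨅ y : {y : Pl X // y ≠ ⟨x, hx⟩}, Lat k F y.1 := by
    rw [iInf_eq k hT hx hUx hη]
  exact ⟨e'.trans ((Submodule.quotEquivOfEq _ _ h1).dualMap.trans e.symm.dualMap)⟩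

end Groth.Agent.CurvesB.OnePointFam
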