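import Groth.Agent.CurvesB.OnePointLin

/-!
# The one-point connecting map without affineness of the complement

`exists_deltaₗ` : for `X` integral locally Noetherian of dimension `≤ 1`, `F` quasi-coherent torsion free,
`x ≠ η` and `U = X ∖ x` (not assumed affine) there is a `k`-linear `D : F_η → H^1(X, F)` with
kernel `F_x ⊔ Γ(F, U)`; it is surjective if `U` is affine.
-/

set_option autoImplicit false
universe u
open CategoryTheory CategoryTheory.Limits AlgebraicGeometry Opposite TopologicalSpace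

namespace Groth.Agent.CurvesB.OnePointGen

open Groth.Agent.Ega1.ModGerm Groth.Agent.CurvesB.GenStk Groth.Agent.CurvesB.GenApprox
  Groth.Agent.CurvesB.OnePoint Groth.Agent.CurvesB.OnePointLin Groth.Agent.CurvesB.HZero

variable {X : Scheme.{u}} {F : X.Modules} [IsIntegral X] [IsLocallyNoetherian X] (hF : Coh.IsQCoh F)
  (hT : TF F) (hd : DimLe X) {x : X} (hx : x ≠ genericPoint X) {U : X.Opens}
  (hUx : ∀ y, y ∈ U ↔ y ≠ x)

include hF hT hd hx hUx in
theorem exists_delta (hη : genericPoint X ∈ U) : ∃ Δ : Eta F →+ Coh.HH X F 1,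
    (IsAffineOpen U → Function.Surjective Δ) ∧
    (∀ f, Δ f = 0 ↔ f ∈ rng F x ⊔ rngU F U hη) ∧
    ∀ (r : Γ(X, ⊤)) (f : Eta F), Δ (X.presheaf.germ ⊤ (genericPoint X) trivial r • f) =
      (id r : Coh.Γtop X) • Δ f := by
  obtain ⟨V, hV, hxV, -⟩ := exists_isAffineOpen_mem_and_subset (X := X) (x := x) (U := ⊤) trivial
  have hUV := sup_eq_top hUx hxV
  have hηW : genericPoint X ∈ U ⊓ V := ⟨hη, gmem hxV⟩
  set N : AddSubgroup (Eta F) := rng F x ⊔ rngU F U hη with hN
  have hker := connM_eq_zero_iff_gm hT hUx hxV hUV hηW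
  have hsurj : ∀ f : Eta F, ∃ s : Γ(F, U ⊓ V), f - gm F (U ⊓ V) hηW s ∈ N := by
    intro f
    obtain ⟨g, hg, hfg⟩ := exists_approx F hF hd hV hxV hx f
    have hgW : g ∈ rngU F (U ⊓ V) hηW := by
      rw [hT.mem_rngU_iff]
      exact fun y hy => hg y hy.2 ((hUx y).1 hy.1)
    obtain ⟨s, rfl⟩ := hgW
    exact ⟨s, AddSubgroup.mem_sup_left hfg⟩
  let q : Γ(F, U ⊓ V) →+ Eta F ⧸ N := (QuotientAddGroup.mk' N).comp (gm F (U ⊓ V) hηW)
  have hq0 : ∀ s, q s = 0 ↔ gm F (U ⊓ V) hηW s ∈ N := fun s => QuotientAddGroup.eq_zero_iff _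
  have hqs : Function.Surjective q := by
    intro b
    obtain ⟨f, rfl⟩ := QuotientAddGroup.mk'_surjective N b
    obtain ⟨s, hs⟩ := hsurj f
    refine ⟨s, ?_⟩
    change QuotientAddGroup.mk' N (gm F (U ⊓ V) hηW s) = QuotientAddGroup.mk' N f
    rw [eq_comm, ← sub_eq_zero, ← map_sub]
    exact (QuotientAddGroup.eq_zero_iff _).2 hs
  have hle : q.ker ≤ (connM F hUV).ker := fun s hs => (hker s).2 ((hq0 s).1 hs)
  let D : Eta F ⧸ N →+ Coh.HH X F 1 := AddMonoidHom.liftOfSurjective q hqs ⟨connM F hUV, hle⟩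
  have hD : ∀ s, D (q s) = connM F hUV s := fun s =>
    AddMonoidHom.liftOfRightInverse_comp_apply q _ _ ⟨connM F hUV, hle⟩ s
  let Δ : Eta F →+ Coh.HH X F 1 := D.comp (QuotientAddGroup.mk' N)
  have hΔ : ∀ (f : Eta F) (s : Γ(F, U ⊓ V)), f - gm F (U ⊓ V) hηW s ∈ N → Δ f = connM F hUV s := by
    intro f s hs
    rw [← hD]
    change D (QuotientAddGroup.mk' N f) = D (QuotientAddGroup.mk' N (gm F (U ⊓ V) hηW s))
    congr 1
    rw [← sub_eq_zero, ← map_sub]
    exact (QuotientAddGroup.eq_zero_iff _).2 hs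
  have hsmul : ∀ (r : Γ(X, ⊤)) (f : Eta F), f ∈ N →
      X.presheaf.germ ⊤ (genericPoint X) trivial r • f ∈ N := by
    intro r f hf
    obtain ⟨m, hm, n, ⟨a, rfl⟩, rfl⟩ := AddSubgroup.mem_sup.1 hf
    rw [smul_add]
    refine add_mem (AddSubgroup.mem_sup_left (germ_smul_mem_rng F (U := ⊤) trivial r hm))
      (AddSubgroup.mem_sup_right ⟨X.presheaf.map (homOfLE (le_top (a := U))).op r • a, ?_⟩)
    rw [gm_smul]
    congr 1
    exact germ_res_ring (le_top (a := U)) hη r
  refine ⟨Δ, ?_, ?_, ?_⟩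
  · intro hU y
    obtain ⟨s, rfl⟩ := connM_surjective F hUV hU hV y
    exact ⟨gm F (U ⊓ V) hηW s, hΔ _ s (by rw [sub_self]; exact zero_mem _)⟩
  · intro f
    obtain ⟨s, hs⟩ := hsurj f
    rw [hΔ f s hs, hker s]
    constructor
    · intro h
      have := add_mem hs h
      rwa [sub_add_cancel] at this
    · intro h
      have := sub_mem h hs
      rwa [sub_sub_cancel] at this
  · intro r f
    obtain ⟨s, hs⟩ := hsurj f
    have h1 := hsmul r _ hs
    rw [smul_sub] at h1
    have h2 : X.presheaf.germ ⊤ (genericPoint X) trivial r • gm F (U ⊓ V) hηW s =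
        gm F (U ⊓ V) hηW (X.presheaf.map (homOfLE (le_top (a := U ⊓ V))).op r • s) := by
      rw [gm_smul]
      congr 1
      exact (germ_res_ring (le_top (a := U ⊓ V)) hηW r).symm
    rw [h2] at h1
    rw [hΔ _ _ h1, hΔ f s hs, connM_smul]

include hF hT hd hx hUx in
/-- The one-point connecting map, `k`-linearly; `X ∖ x` is not assumed affine. -/
theorem exists_deltaₗ (k : Type u) [CommRing k] [X.Over (Spec (CommRingCat.of k))]
    (hη : genericPoint X ∈ U) :
    letI := modk k F (genericPoint X)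
    ∃ D : Eta F →ₗ[k] Coh.HH X F 1,
      LinearMap.ker D = (rngₗ k F x ⊔ rngUₗ k F U hη : Submodule k (Eta F)) ∧
      (IsAffineOpen U → Function.Surjective D) := by
  let _ := modk k F (genericPoint X)
  obtain ⟨Δ, hs, hk, hl⟩ := exists_delta hF hT hd hx hUx hη
  let D : Eta F →ₗ[k] Coh.HH X F 1 :=
    { toFun := Δ
      map_add' := map_add Δ
      map_smul' := fun t f => hl (gl k X t) f }
  refine ⟨D, ?_, hs⟩
  ext f
  rw [mem_sup_iff]
  exact hk f

/-- The complement of a closed point. -/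
def compl (x : X) (hd : DimLe X) (hx : x ≠ genericPoint X) : X.Opens :=
  ⟨{x}ᶜ, (isClosed_singleton hd hx).isOpen_compl⟩

omit [IsLocallyNoetherian X] in
theorem mem_compl (y : X) : y ∈ compl x hd hx ↔ y ≠ x := Iff.rfl

omit [IsLocallyNoetherian X] in
theorem gen_mem_compl : genericPoint X ∈ compl x hd hx := fun h => hx h.symm

end Groth.Agent.CurvesB.OnePointGen
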