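import Groth.Agent.CurvesB.OnePoint
import Mathlib.LinearAlgebra.Isomorphisms

/-!
# The one-point description of `H^0` and `H^1` on a curve, `k`-linearly

`modk k F y` : the `k`-module structure on the stalk `F_y` (a reducible definition, use with `letI`),
`rngₗ k F y`, `rngUₗ k F U hU` : the images of `F_y` and `Γ(F, U)` in `F_η` as `k`-submodules.

* `nonempty_H1` : `H^1(X, F) ≃ₗ[k] F_η ⧸ (F_x ⊔ Γ(F, X ∖ x))`,
* `nonempty_H0` : `H^0(X, F) ≃ₗ[k] F_x ⊓ Γ(F, X ∖ x)`,
* `rngUₗ_eq_iInf` : `Γ(F, U) = ⨅_{y ∈ U} F_y`.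
-/

set_option autoImplicit false
universe u
open CategoryTheory CategoryTheory.Limits AlgebraicGeometry Opposite TopologicalSpace

namespace Groth.Agent.CurvesB.OnePointLin

open Groth.Agent.Ega1.ModGerm Groth.Agent.CurvesB.GenStk Groth.Agent.CurvesB.GenApprox
  Groth.Agent.CurvesB.OnePoint Groth.Agent.CurvesB.HZero

variable {X : Scheme.{u}} (k : Type u) [CommRing k] [X.Over (Spec (CommRingCat.of k))]

/-- The constants in the local ring at `y`. -/
noncomputable def cst (y : X) : k →+* X.presheaf.stalk y :=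
  (X.presheaf.germ ⊤ y trivial).hom.comp (gl k X)

theorem cst_apply (y : X) (t : k) : cst k y t = X.presheaf.germ ⊤ y trivial (gl k X t) := rfl

/-- The `k`-module structure on the stalk `F_y` of an `O_X`-module. -/
noncomputable abbrev modk (F : X.Modules) (y : X) : Module k (F.presheaf.stalk y) :=
  Module.compHom _ (cst k y)

theorem modk_smul (F : X.Modules) (y : X) (t : k) (f : F.presheaf.stalk y) :
    letI := modk k F y
    t • f = cst k y t • f := rfl

variable [IrreducibleSpace X] (F : X.Modules)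

/-- The image of `F_y` in `F_η`, as a `k`-submodule. -/
noncomputable def rngₗ (y : X) : letI := modk k F (genericPoint X); Submodule k (Eta F) :=
  let _ := modk k F (genericPoint X)
  { rng F y with
    smul_mem' := fun t _ hf => germ_smul_mem_rng F (U := ⊤) (y := y) trivial (gl k X t) hf }

theorem mem_rngₗ {y : X} {f : Eta F} : f ∈ rngₗ k F y ↔ f ∈ rng F y := Iff.rfl

/-- The image of `Γ(F, U)` in `F_η`, as a `k`-submodule. -/
noncomputable def rngUₗ (U : X.Opens) (hU : genericPoint X ∈ U) :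
    letI := modk k F (genericPoint X); Submodule k (Eta F) :=
  let _ := modk k F (genericPoint X)
  { rngU F U hU with
    smul_mem' := by
      rintro t _ ⟨a, rfl⟩
      refine ⟨X.presheaf.map (homOfLE (le_top (a := U))).op (gl k X t) • a, ?_⟩
      rw [gm_smul]
      exact congrArg (· • gm F U hU a) (germ_res_ring (le_top (a := U)) hU (gl k X t)) }

theorem mem_rngUₗ {U : X.Opens} {hU : genericPoint X ∈ U} {f : Eta F} :
    f ∈ rngUₗ k F U hU ↔ f ∈ rngU F U hU := Iff.rfl

variable {F}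

theorem rngUₗ_eq_iInf (hT : TF F) (U : X.Opens) (hU : genericPoint X ∈ U) :
    letI := modk k F (genericPoint X)
    rngUₗ k F U hU = ⨅ y : U, rngₗ k F y.1 := by
  let _ := modk k F (genericPoint X)
  ext f
  rw [mem_rngUₗ, hT.mem_rngU_iff, Submodule.mem_iInf]
  exact ⟨fun h y => h y.1 y.2, fun h y hy => h ⟨y, hy⟩⟩

/-- Membership in the sum of two submodules, additively. -/
theorem mem_sup_iff {x : X} {U : X.Opens} {hU : genericPoint X ∈ U} {f : Eta F} :
    letI := modk k F (genericPoint X)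
    f ∈ rngₗ k F x ⊔ rngUₗ k F U hU ↔ f ∈ rng F x ⊔ rngU F U hU := by
  let _ := modk k F (genericPoint X)
  rw [Submodule.mem_sup, AddSubgroup.mem_sup]
  rfl

/-- `H^0(X, F) = F_x ⊓ Γ(F, X ∖ x)`. -/
theorem nonempty_H0 (hT : TF F) {x : X} {U : X.Opens} (hUx : ∀ y, y ∈ U ↔ y ≠ x)
    (hη : genericPoint X ∈ U) :
    letI := modk k F (genericPoint X)
    Nonempty (Coh.HH X F 0 ≃ₗ[k] (rngₗ k F x ⊓ rngUₗ k F U hη : Submodule k (Eta F))) := by
  let _ := modk k F (genericPoint X)
  let g : Coh.HH X F 0 →ₗ[k] Eta F :=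
    { toFun := fun x => gm F ⊤ trivial (equivAdd F x)
      map_add' := fun a b => by rw [map_add, map_add]
      map_smul' := fun t a => by
        rw [equivAdd_smul_over, gm_smul]
        rfl }
  have hg : Function.Injective g := (hT.gm_injective ⊤ trivial).comp (equivAdd F).injective
  have hr : LinearMap.range g = (rngₗ k F x ⊓ rngUₗ k F U hη : Submodule k (Eta F)) := by
    have h1 : ∀ f : Eta F, f ∈ LinearMap.range g ↔ f ∈ rngU F ⊤ trivial := by
      intro f
      constructor
      · rintro ⟨a, rfl⟩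
        exact ⟨equivAdd F a, rfl⟩
      · rintro ⟨s, rfl⟩
        refine ⟨(equivAdd F).symm s, ?_⟩
        change gm F ⊤ trivial (equivAdd F ((equivAdd F).symm s)) = _
        rw [AddEquiv.apply_symm_apply]
    ext f
    rw [h1, Submodule.mem_inf, mem_rngₗ, mem_rngUₗ, hT.mem_rngU_iff, hT.mem_rngU_iff]
    constructor
    · intro h
      exact ⟨h x trivial, fun y _ => h y trivial⟩
    · rintro ⟨h1, h2⟩ y -
      by_cases hyx : y = x
      · exact hyx ▸ h1
      · exact h2 y ((hUx y).2 hyx)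
  exact ⟨(LinearEquiv.ofInjective g hg).trans (LinearEquiv.ofEq _ _ hr)⟩

/-- `H^1(X, F) = F_η ⧸ (F_x ⊔ Γ(F, X ∖ x))`. -/
theorem nonempty_H1 [IsIntegral X] [IsLocallyNoetherian X] (hF : Coh.IsQCoh F) (hT : TF F)
    (hd : DimLe X) {x : X} (hx : x ≠ genericPoint X) {U : X.Opens} (hU : IsAffineOpen U)
    (hUx : ∀ y, y ∈ U ↔ y ≠ x) (hη : genericPoint X ∈ U) :
    letI := modk k F (genericPoint X)
    Nonempty ((Eta F ⧸ (rngₗ k F x ⊔ rngUₗ k F U hη : Submodule k (Eta F))) ≃ₗ[k] Coh.HH X F 1) := by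
  let _ := modk k F (genericPoint X)
  obtain ⟨Δ, hs, hk, hl⟩ := exists_delta hF hT hd hx hU hUx hη
  let D : Eta F →ₗ[k] Coh.HH X F 1 :=
    { toFun := Δ
      map_add' := map_add Δ
      map_smul' := fun t f => hl (gl k X t) f }
  have hD : LinearMap.ker D = (rngₗ k F x ⊔ rngUₗ k F U hη : Submodule k (Eta F)) := by
    ext f
    rw [mem_sup_iff]
    exact hk f
  exact ⟨(Submodule.quotEquivOfEq _ _ hD.symm).trans (D.quotKerEquivOfSurjective hs)⟩

end Groth.Agent.CurvesB.OnePointLin
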