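import Groth.Agent.CurvesB.OmegaGeneric
import Groth.Agent.CurvesB.OnePointLin

/-!
# Serre duality between `O` and `Ω` on a curve: the geometric assembly
-/

set_option autoImplicit false
set_option linter.unusedSectionVars false
universe u
open CategoryTheory CategoryTheory.Limits AlgebraicGeometry Opposite TopologicalSpace

namespace Groth.Agent.CurvesB.OnePointSerre

open Groth.Agent.CurvesB.OmegaGeneric Groth.Agent.CurvesB.OnePointLin Groth.Agent.CurvesB.OnePointDuality
open Groth.Agent.CurvesB.GenStk Groth.Agent.CurvesB.WeilPair Groth.Agent.Fdesc Module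

variable (k : Type u) [Field k] (X : Scheme.{u}) [X.Over (Spec (CommRingCat.of k))] [IsIntegral X]
  [QuasiCompact (pullback.diagonal (X ↘ Spec (CommRingCat.of k)))]

attribute [local instance] stalkAlgebra secAlgebra stalkVS secVS

theorem modk_eq (F : X.Modules) (y : X) : modk k F y = stalkVS k X F y := rfl

/-- `Ω[K⁄k] ≃ Ω_η`, linear over `k`. -/
noncomputable def genEquivk : letI := modk k (Omega.sheaf (X ↘ Spec (CommRingCat.of k))) (genericPoint X)
    Ω[X.functionField⁄k] ≃ₗ[k] Eta (Omega.sheaf (X ↘ Spec (CommRingCat.of k))) :=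
  (genEquiv k X).restrictScalars k

/-- `K ≃ O_η`, linear over `k`. -/
noncomputable def genEquivO : letI := modk k (Coh.structureModule X) (genericPoint X)
    X.functionField ≃ₗ[k] Eta (Coh.structureModule X) :=
  letI := modk k (Coh.structureModule X) (genericPoint X)
  { StructMod.stalkEquiv (genericPoint X) with
    map_smul' := fun t c => by
      change StructMod.stalkEquiv (genericPoint X) (t • c) = _
      rw [Algebra.smul_def]
      exact (StructMod.stalkEquiv (genericPoint X)).map_smul
        (algebraMap k (X.presheaf.stalk (genericPoint X)) t) c }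

theorem map_rng_omega (x : X) :
    letI := modk k (Omega.sheaf (X ↘ Spec (CommRingCat.of k))) (genericPoint X)
    ((omegaSub k (X.presheaf.stalk x) X.functionField).restrictScalars k).map (genEquivk k X).toLinearMap =
      rngₗ k (Omega.sheaf (X ↘ Spec (CommRingCat.of k))) x := by
  let _ := modk k (Omega.sheaf (X ↘ Spec (CommRingCat.of k))) (genericPoint X)
  ext z
  obtain ⟨ω, rfl⟩ := (genEquivk k X).surjective z
  constructor
  · rintro ⟨ω', hω', h⟩
    obtain rfl := (genEquivk k X).injective h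
    exact (mem_range_stalk k X x ω').mpr hω'
  · intro h
    exact ⟨ω, (mem_range_stalk k X x ω).mp h, rfl⟩

theorem map_rngU_omega {U : X.Opens} (hU : IsAffineOpen U) [Nonempty U] (hη : genericPoint X ∈ U) :
    letI := modk k (Omega.sheaf (X ↘ Spec (CommRingCat.of k))) (genericPoint X)
    ((omegaSub k Γ(X, U) X.functionField).restrictScalars k).map (genEquivk k X).toLinearMap =
      rngUₗ k (Omega.sheaf (X ↘ Spec (CommRingCat.of k))) U hη := by
  let _ := modk k (Omega.sheaf (X ↘ Spec (CommRingCat.of k))) (genericPoint X)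
  ext z
  obtain ⟨ω, rfl⟩ := (genEquivk k X).surjective z
  constructor
  · rintro ⟨ω', hω', h⟩
    obtain rfl := (genEquivk k X).injective h
    exact (mem_range_sec k X hU hη ω').mpr hω'
  · intro h
    exact ⟨ω, (mem_range_sec k X hU hη ω).mp h, rfl⟩

theorem map_rng_O (x : X) :
    letI := modk k (Coh.structureModule X) (genericPoint X)
    (sp k (X.presheaf.stalk x) (1 : X.functionField)).map (genEquivO k X).toLinearMap =
      rngₗ k (Coh.structureModule X) x := by
  let _ := modk k (Coh.structureModule X) (genericPoint X)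
  ext z
  obtain ⟨ω, rfl⟩ := (genEquivO k X).surjective z
  constructor
  · rintro ⟨ω', hω', h⟩
    obtain rfl := (genEquivO k X).injective h
    refine (mem_range_stalk_O x ω').mpr ?_
    obtain ⟨a, ha⟩ := mem_sp.mp hω'
    exact ⟨a, by rw [← ha, mul_one]⟩
  · intro h
    obtain ⟨a, ha⟩ := (mem_range_stalk_O x ω).mp h
    exact ⟨ω, mem_sp.mpr ⟨a, by rw [ha, mul_one]⟩, rfl⟩

theorem map_rngU_O (U : X.Opens) [Nonempty U] (hη : genericPoint X ∈ U) :
    letI := modk k (Coh.structureModule X) (genericPoint X)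
    (sp k Γ(X, U) (1 : X.functionField)).map (genEquivO k X).toLinearMap =
      rngUₗ k (Coh.structureModule X) U hη := by
  let _ := modk k (Coh.structureModule X) (genericPoint X)
  ext z
  obtain ⟨ω, rfl⟩ := (genEquivO k X).surjective z
  constructor
  · rintro ⟨ω', hω', h⟩
    obtain rfl := (genEquivO k X).injective h
    refine (mem_range_sec_O U hη ω').mpr ?_
    obtain ⟨a, ha⟩ := mem_sp.mp hω'
    exact ⟨a, by rw [← ha, mul_one]⟩
  · intro h
    obtain ⟨a, ha⟩ := (mem_range_sec_O U hη ω).mp h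
    exact ⟨ω, mem_sp.mpr ⟨a, by rw [ha, mul_one]⟩, rfl⟩

section LinAlg

variable {k V W H : Type*} [Field k] [AddCommGroup V] [Module k V] [AddCommGroup W] [Module k W]
  [AddCommGroup H] [Module k H] (e : V ≃ₗ[k] W) (A B : Submodule k V) (A' B' : Submodule k W)
  (hA : A.map e.toLinearMap = A') (hB : B.map e.toLinearMap = B')

include hA hB in
theorem nonempty_inf : Nonempty ((A ⊓ B : Submodule k V) ≃ₗ[k] (A' ⊓ B' : Submodule k W)) := by
  subst hA hB
  rw [← Submodule.map_inf _ e.injective]
  exact ⟨e.submoduleMap _⟩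

include hA hB in
theorem nonempty_quot : Nonempty ((V ⧸ (A ⊔ B)) ≃ₗ[k] (W ⧸ (A' ⊔ B'))) := by
  subst hA hB
  rw [← Submodule.map_sup]
  exact ⟨Submodule.Quotient.equiv _ _ e rfl⟩

end LinAlg

variable [IsLocallyNoetherian X] (hd : DimLe X) {x : X} (hx : x ≠ genericPoint X) {U : X.Opens}
  (hU : IsAffineOpen U) (hUx : ∀ y, y ∈ U ↔ y ≠ x) [Nonempty U] (hη : genericPoint X ∈ U)

section

include hUx hη

theorem H0_omega (hT : TF (Omega.sheaf (X ↘ Spec (CommRingCat.of k)))) (hU : IsAffineOpen U) :
    Nonempty (Coh.HH X (Omega.sheaf (X ↘ Spec (CommRingCat.of k))) 0 ≃ₗ[k]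
      ((omegaSub k (X.presheaf.stalk x) X.functionField).restrictScalars k ⊓
        (omegaSub k Γ(X, U) X.functionField).restrictScalars k :
          Submodule k Ω[X.functionField⁄k])) := by
  let _ := modk k (Omega.sheaf (X ↘ Spec (CommRingCat.of k))) (genericPoint X)
  obtain ⟨e⟩ := nonempty_H0 k (F := Omega.sheaf (X ↘ Spec (CommRingCat.of k))) hT hUx hη
  obtain ⟨e'⟩ := nonempty_inf (genEquivk k X) _ _ _ _ (map_rng_omega k X x) (map_rngU_omega k X hU hη)
  exact ⟨e.trans e'.symm⟩

theorem H0_O (hT : TF (Coh.structureModule X)) :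
    Nonempty (Coh.HH X (Coh.structureModule X) 0 ≃ₗ[k]
      (sp k (X.presheaf.stalk x) (1 : X.functionField) ⊓ sp k Γ(X, U) (1 : X.functionField) :
          Submodule k X.functionField)) := by
  let _ := modk k (Coh.structureModule X) (genericPoint X)
  obtain ⟨e⟩ := nonempty_H0 k (F := Coh.structureModule X) hT hUx hη
  obtain ⟨e'⟩ := nonempty_inf (genEquivO k X) _ _ _ _ (map_rng_O k X x) (map_rngU_O k X U hη)
  exact ⟨e.trans e'.symm⟩

include hd hx hU

theorem H1_omega (hT : TF (Omega.sheaf (X ↘ Spec (CommRingCat.of k)))) :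
    Nonempty (Coh.HH X (Omega.sheaf (X ↘ Spec (CommRingCat.of k))) 1 ≃ₗ[k]
      (Ω[X.functionField⁄k] ⧸ ((omegaSub k (X.presheaf.stalk x) X.functionField).restrictScalars k ⊔
        (omegaSub k Γ(X, U) X.functionField).restrictScalars k :
          Submodule k Ω[X.functionField⁄k]))) := by
  let _ := modk k (Omega.sheaf (X ↘ Spec (CommRingCat.of k))) (genericPoint X)
  obtain ⟨e⟩ := nonempty_H1 k (F := Omega.sheaf (X ↘ Spec (CommRingCat.of k)))
    (OmegaStalkDict.isQCoh_omega _) hT hd hx hU hUx hη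
  obtain ⟨e'⟩ := nonempty_quot (genEquivk k X) _ _ _ _ (map_rng_omega k X x) (map_rngU_omega k X hU hη)
  exact ⟨e.symm.trans e'.symm⟩

theorem H1_O (hT : TF (Coh.structureModule X)) :
    Nonempty (Coh.HH X (Coh.structureModule X) 1 ≃ₗ[k]
      (X.functionField ⧸ (sp k (X.presheaf.stalk x) (1 : X.functionField) ⊔
        sp k Γ(X, U) (1 : X.functionField) : Submodule k X.functionField))) := by
  let _ := modk k (Coh.structureModule X) (genericPoint X)
  obtain ⟨e⟩ := nonempty_H1 k (F := Coh.structureModule X)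
    (StructMod.isQCoh_structureModule X) hT hd hx hU hUx hη
  obtain ⟨e'⟩ := nonempty_quot (genEquivO k X) _ _ _ _ (map_rng_O k X x) (map_rngU_O k X U hη)
  exact ⟨e.symm.trans e'.symm⟩

/-- Serre duality for the structure sheaf and the sheaf of differentials. -/
theorem serre [IsDedekindDomain Γ(X, U)] [IsDedekindDomain (X.presheaf.stalk x)]
    [IsFractionRing Γ(X, U) X.functionField] [IsFractionRing (X.presheaf.stalk x) X.functionField]
    (hTO : TF (Coh.structureModule X)) (hTΩ : TF (Omega.sheaf (X ↘ Spec (CommRingCat.of k))))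
    (hC : Good k Γ(X, U) X.functionField) (hR : Good k (X.presheaf.stalk x) X.functionField)
    (one : ∃ ω₀ : Ω[X.functionField⁄k], ω₀ ≠ 0 ∧ ∀ ω : Ω[X.functionField⁄k], ∃ c : X.functionField, c • ω₀ = ω)
    [FiniteDimensional k (Coh.HH X (Coh.structureModule X) 0)]
    [FiniteDimensional k (Coh.HH X (Coh.structureModule X) 1)]
    [FiniteDimensional k (Coh.HH X (Omega.sheaf (X ↘ Spec (CommRingCat.of k))) 1)] :
    finrank k (Coh.HH X (Omega.sheaf (X ↘ Spec (CommRingCat.of k))) 0) =
      finrank k (Coh.HH X (Coh.structureModule X) 1) ∧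
    finrank k (Coh.HH X (Omega.sheaf (X ↘ Spec (CommRingCat.of k))) 1) =
      finrank k (Coh.HH X (Coh.structureModule X) 0) := by
  obtain ⟨e1⟩ := H0_omega k X hUx hη hTΩ hU
  obtain ⟨e2⟩ := H1_omega k X hd hx hU hUx hη hTΩ
  obtain ⟨e3⟩ := H0_O k X hUx hη hTO
  obtain ⟨e4⟩ := H1_O k X hd hx hU hUx hη hTO
  have := Module.Finite.equiv e2
  have := Module.Finite.equiv e4
  have : FiniteDimensional k (sp k Γ(X, U) (1 : X.functionField) ⊓
      sp k (X.presheaf.stalk x) (1 : X.functionField) : Submodule k X.functionField) := by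
    rw [inf_comm]
    exact Module.Finite.equiv e3
  obtain ⟨h1, h2⟩ := duality hC hR one
  refine ⟨?_, ?_⟩
  · rw [e1.finrank_eq, e4.finrank_eq, ← h1, inf_comm]
  · rw [e2.finrank_eq, e3.finrank_eq, h2, inf_comm]

end

end Groth.Agent.CurvesB.OnePointSerre
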