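import Groth.Agent.CurvesB.SubLemma
import Groth.Agent.CurvesB.GenStalk
import Groth.Agent.CurvesB.Pairing
import Groth.Agent.CohqA.HBiprod
import Groth.Agent.CohqA.FinSec
import Groth.Agent.Fdesc.StructMod
import Mathlib.RingTheory.TensorProduct.Free
import Mathlib.LinearAlgebra.Dimension.Finrank

/-!
# The pairing lemma

`N` a coherent torsion-free module of generic rank one on a reduced Noetherian scheme `X` of dimension at most one
over a field `k`, `K/k` a finite field extension such that `O_{X,ξ} ⊗ K` is a field for every generic point `ξ`,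
and `λ : H¹(X, N) → K` a `k`-linear map which is not zero on the kernel of `H¹(N) → H¹(Q)` for every coherent
quotient `Q` of `N` vanishing at one generic point. Then `dim H⁰(X, N) ≤ dim H¹(X, O_X)`.
-/

set_option autoImplicit false
universe u
open CategoryTheory CategoryTheory.Limits AlgebraicGeometry TopologicalSpace Opposite
open scoped TensorProduct

namespace Groth.Agent.CurvesB.PairLemma

open Groth.Agent.CycB.StalkExact Groth.Agent.VarietyA.FiniteSupport Groth.Agent.VarietyA.StalkCrit
open Groth.Agent.CohqB.HSeqMod SubH1 SubLemma GenStalk HZero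

section Alg

variable {k : Type u} [Field k] {K : Type u} [Field K] [Algebra k K] {ι : Type} [Fintype ι]
  (b : Module.Basis ι k K)

/-- The structure constants of `K` with respect to the basis `b`. -/
noncomputable def cst (j i m : ι) : k := b.repr (b j * b i) m

theorem mul_eq_sum (j i : ι) : b j * b i = ∑ m, cst b j i m • b m := (b.sum_repr _).symm

theorem exists_solution {R M : Type*} [CommRing R] [Algebra k R] [AddCommGroup M] [Module R M]
    (e : M ≃ₗ[R] R) (hK : IsField (R ⊗[k] K)) (a : ι → M) (ha : ∃ i, a i ≠ 0) (t : ι → M) :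
    ∃ x : ι → R, ∀ m, ∑ j, ∑ i, (algebraMap k R (cst b j i m) * x j) • a i = t m := by
  let B : Module.Basis ι R (R ⊗[k] K) := Algebra.TensorProduct.basis R b
  have hB : ∀ i, B i = 1 ⊗ₜ b i := fun i => Algebra.TensorProduct.basis_apply b i
  have hBB : ∀ j i, B j * B i = ∑ m, algebraMap k R (cst b j i m) • B m := by
    intro j i
    simp only [hB, Algebra.TensorProduct.tmul_mul_tmul, mul_one, mul_eq_sum b j i, TensorProduct.tmul_sum]
    refine Finset.sum_congr rfl fun m _ => ?_
    rw [TensorProduct.tmul_smul, algebraMap_smul]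
  let A : R ⊗[k] K := ∑ i, e (a i) • B i
  have hA : A ≠ 0 := by
    intro h
    obtain ⟨i, hi⟩ := ha
    apply hi
    have h1 := congrFun (B.repr_sum_self (fun i => e (a i))) i
    change B.repr A i = e (a i) at h1
    rw [h, map_zero] at h1
    exact e.map_eq_zero_iff.mp h1.symm
  obtain ⟨A', hA'⟩ := hK.mul_inv_cancel hA
  let T : R ⊗[k] K := ∑ m, e (t m) • B m
  let x : ι → R := fun j => B.repr (A' * T) j
  have hx : A' * T = ∑ j, x j • B j := (B.sum_repr _).symm
  have hAx : (∑ j, x j • B j) * A = T := by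
    rw [← hx, mul_comm, ← mul_assoc, hA', one_mul]
  have h2 : (∑ j, x j • B j) * A =
      ∑ m, (∑ j, ∑ i, algebraMap k R (cst b j i m) * x j * e (a i)) • B m := by
    simp only [A, Finset.sum_mul_sum, smul_mul_smul_comm, hBB, Finset.smul_sum, smul_smul, Finset.sum_smul]
    rw [Finset.sum_comm_cycle]
    refine Finset.sum_congr rfl fun m _ => ?_
    refine Finset.sum_congr rfl fun j _ => ?_
    refine Finset.sum_congr rfl fun i _ => ?_
    congr 1
    ring
  refine ⟨x, fun m => ?_⟩
  have h3 := congrFun (B.repr_sum_self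
    (fun m => ∑ j, ∑ i, algebraMap k R (cst b j i m) * x j * e (a i))) m
  have h4 := congrFun (B.repr_sum_self (fun m => e (t m))) m
  apply e.injective
  rw [map_sum]
  simp only [map_sum, map_smul, smul_eq_mul]
  refine h3.symm.trans (Eq.trans ?_ h4)
  rw [← h2, hAx]

end Alg

attribute [local instance] Abelian.hasFiniteBiproducts

/-- A finite direct sum of coherent modules is coherent. -/
theorem isCoh_biproduct {X : Scheme.{u}} {r : ℕ} (A : Fin r → X.Modules)
    (h : ∀ j, Coh.IsCoh (A j)) : Coh.IsCoh (⨁ A) := by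
  have hq : Coh.IsQCoh (⨁ A) := CohqA.HBiprod.isQCoh_biproduct A fun j => (h j).1
  refine ⟨hq, CohqA.FinSec.isFT_of_finite hq fun x => ?_⟩
  obtain ⟨_, ⟨U, hU, rfl⟩, hxU, -⟩ :=
    X.isBasis_affineOpens.exists_subset_of_mem_open (Set.mem_univ x) isOpen_univ
  refine ⟨U, hU, hxU, ?_⟩
  have : ∀ j, Module.Finite Γ(X, U) Γ(A j, U) := fun j =>
    CohqA.FinSec.finite_sections hU (h j).1 (h j).2
  let φ : (∀ j, Γ(A j, U)) →ₗ[Γ(X, U)] Γ(⨁ A, U) :=
    { toFun := fun z => ∑ j, (biproduct.ι A j).app U (z j)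
      map_add' := fun z w => by
        simp only [Pi.add_apply, map_add, Finset.sum_add_distrib]
      map_smul' := fun c z => by
        simp only [Pi.smul_apply, Scheme.Modules.Hom.app_smul, Finset.smul_sum, RingHom.id_apply] }
  refine Module.Finite.of_surjective φ fun x => ?_
  exact ⟨fun j => (biproduct.π A j).app U x, (CohqA.HBiprod.eq_sum A U x).symm⟩

section Stalk

variable {X : Scheme.{u}}

theorem stalkLin_add {M N : X.Modules} (f g : M ⟶ N) (x : X) (t : M.presheaf.stalk x) :
    stalkLin (f + g) x t = stalkLin f x t + stalkLin g x t := by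
  change (stalkFun x).map (f + g) t = (stalkFun x).map f t + (stalkFun x).map g t
  rw [Functor.map_add]
  rfl

theorem stalkLin_zero' (M N : X.Modules) (x : X) (t : M.presheaf.stalk x) :
    stalkLin (0 : M ⟶ N) x t = 0 := by
  change (stalkFun x).map (0 : M ⟶ N) t = 0
  rw [Functor.map_zero]
  rfl

theorem stalkLin_sum {M N : X.Modules} {J : Type*} (S : Finset J) (f : J → (M ⟶ N)) (x : X)
    (t : M.presheaf.stalk x) : stalkLin (∑ j ∈ S, f j) x t = ∑ j ∈ S, stalkLin (f j) x t := by
  classical
  induction S using Finset.induction_on with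
  | empty => simpa using stalkLin_zero' M N x t
  | insert a S ha ih => rw [Finset.sum_insert ha, Finset.sum_insert ha, stalkLin_add, ih]

/-- `N` has generic rank one. -/
def RankOne (N : X.Modules) : Prop :=
  ∀ ξ : X, IsGen ξ → Nonempty (N.presheaf.stalk ξ ≃ₗ[X.presheaf.stalk ξ] X.presheaf.stalk ξ)

/-- The germ of the unit section. -/
noncomputable def one (X : Scheme.{u}) (ξ : X) : (Coh.structureModule X).presheaf.stalk ξ :=
  (Coh.structureModule X).presheaf.germ ⊤ ξ trivial (1 : Γ(X, ⊤))

theorem exists_eq_smul_one (ξ : X) (t : (Coh.structureModule X).presheaf.stalk ξ) :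
    ∃ a : X.presheaf.stalk ξ, t = a • one X ξ := by
  obtain ⟨U, hU, s, rfl⟩ := (Coh.structureModule X).presheaf.exists_germ_eq t
  refine ⟨X.presheaf.germ U ξ hU s, ?_⟩
  have h1 : one X ξ = (Coh.structureModule X).presheaf.germ U ξ hU (1 : Γ(X, U)) := by
    have := (Coh.structureModule X).presheaf.germ_res_apply (homOfLE (le_top (a := U))) ξ hU
      (1 : Γ(X, ⊤))
    refine this.symm.trans ?_
    congr 1
    exact map_one (X.presheaf.map (homOfLE (le_top (a := U))).op).hom
  rw [h1]
  refine Eq.trans ?_ (germ_smul (M := Coh.structureModule X) ξ hU s (1 : Γ(X, U)))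
  congr 1
  exact (mul_one (M := Γ(X, U)) s).symm

theorem stalk_biproduct_ext {r : ℕ} (A : Fin r → X.Modules) (ξ : X) (u v : (⨁ A).presheaf.stalk ξ)
    (h : ∀ j, stalkLin (biproduct.π A j) ξ u = stalkLin (biproduct.π A j) ξ v) : u = v := by
  have key : ∀ w : (⨁ A).presheaf.stalk ξ,
      w = ∑ j, stalkLin (biproduct.ι A j) ξ (stalkLin (biproduct.π A j) ξ w) := by
    intro w
    have h1 : stalkLin (𝟙 (⨁ A)) ξ w = w := by rw [stalkLin_id]; rfl
    rw [← biproduct.total, stalkLin_sum] at h1
    refine h1.symm.trans (Finset.sum_congr rfl fun j _ => ?_)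
    rw [stalkLin_comp]
    rfl
  rw [key u, key v]
  exact Finset.sum_congr rfl fun j _ => by rw [h j]

end Stalk

section Main

variable (k : Type u) [Field k] {K : Type u} [Field K] [Algebra k K] {r : ℕ}
  (b : Module.Basis (Fin r) k K) {X : Scheme.{u}} [X.Over (Spec (CommRingCat.of k))]

/-- The matrix entries of multiplication by `∑ s_i b_i`. -/
noncomputable def entry {N : X.Modules} (s : Fin r → (Coh.structureModule X ⟶ N)) (j m : Fin r) :
    Coh.structureModule X ⟶ N :=
  ∑ i, s i ≫ Formal.smulMod k N (cst b j i m)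

theorem hmap_smulMod (N : X.Modules) (c : k) (n : ℕ) (x : Coh.HH X N n) :
    hmap (Formal.smulMod k N c) n x = c • x := hmap_smulModΓ N _ n x

theorem hmap_entry {N : X.Modules} (s : Fin r → (Coh.structureModule X ⟶ N)) (j m : Fin r) (n : ℕ)
    (y : Coh.HH X (Coh.structureModule X) n) :
    hmap (entry k b s j m) n y = ∑ i, cst b j i m • hmap (s i) n y := by
  rw [entry, hmap_sum_apply]
  refine Finset.sum_congr rfl fun i _ => ?_
  rw [hmap_comp_apply, hmap_smulMod]

theorem stalkLin_smulMod (N : X.Modules) (c : k) (ξ : X) (t : N.presheaf.stalk ξ) :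
    stalkLin (Formal.smulMod k N c) ξ t = Curv2.stalkMap k X ξ c • t := by
  obtain ⟨U, hU, s, rfl⟩ := N.presheaf.exists_germ_eq t
  rw [stalkLin_germ]
  have h1 : Curv2.stalkMap k X ξ c = X.presheaf.germ U ξ hU
      (X.presheaf.map (homOfLE (le_top (a := U))).op (gl k X c)) := by
    rw [X.presheaf.germ_res_apply]
    rfl
  rw [h1, ← germ_smul]
  rfl

theorem stalkLin_entry {N : X.Modules} (s : Fin r → (Coh.structureModule X ⟶ N)) (j m : Fin r) (ξ : X)
    (t : (Coh.structureModule X).presheaf.stalk ξ) :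
    stalkLin (entry k b s j m) ξ t = ∑ i, Curv2.stalkMap k X ξ (cst b j i m) • stalkLin (s i) ξ t := by
  rw [entry, stalkLin_sum]
  refine Finset.sum_congr rfl fun i _ => ?_
  rw [stalkLin_comp, LinearMap.comp_apply, stalkLin_smulMod]

/-- The matrix of multiplication by `∑ s_i b_i`. -/
noncomputable def mat {N : X.Modules} (s : Fin r → (Coh.structureModule X ⟶ N)) :
    (⨁ fun _ : Fin r => Coh.structureModule X) ⟶ (⨁ fun _ : Fin r => N) :=
  biproduct.matrix (entry k b s)

theorem ι_mat_π {N : X.Modules} (s : Fin r → (Coh.structureModule X ⟶ N)) (j m : Fin r) :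
    biproduct.ι (fun _ : Fin r => Coh.structureModule X) j ≫ mat k b s ≫ biproduct.π (fun _ : Fin r => N) m =
      entry k b s j m := by
  rw [mat, biproduct.matrix_π, biproduct.ι_desc]

theorem mat_surjective {N : X.Modules} (s : Fin r → (Coh.structureModule X ⟶ N)) (ξ : X)
    (e : N.presheaf.stalk ξ ≃ₗ[X.presheaf.stalk ξ] X.presheaf.stalk ξ)
    (hK : letI := Curv2.stalkAlgebra k X ξ; IsField (X.presheaf.stalk ξ ⊗[k] K))
    (hs : ∃ i, stalkLin (s i) ξ ≠ 0) : Function.Surjective (stalkLin (mat k b s) ξ) := by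
  let _ := Curv2.stalkAlgebra k X ξ
  intro t
  have ha : ∃ i, stalkLin (s i) ξ (one X ξ) ≠ 0 := by
    obtain ⟨i, hi⟩ := hs
    refine ⟨i, fun h => hi (LinearMap.ext fun t => ?_)⟩
    obtain ⟨a, rfl⟩ := exists_eq_smul_one ξ t
    rw [map_smul, h, smul_zero]
    rfl
  obtain ⟨x, hx⟩ := exists_solution b e hK (fun i => stalkLin (s i) ξ (one X ξ)) ha
    (fun m => stalkLin (biproduct.π (fun _ : Fin r => N) m) ξ t)
  refine ⟨∑ j, stalkLin (biproduct.ι (fun _ : Fin r => Coh.structureModule X) j) ξ (x j • one X ξ), ?_⟩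
  refine stalk_biproduct_ext _ ξ _ _ fun m => ?_
  rw [← hx m, map_sum, map_sum]
  refine Finset.sum_congr rfl fun j _ => ?_
  rw [← LinearMap.comp_apply, ← LinearMap.comp_apply, ← stalkLin_comp, ← stalkLin_comp, ι_mat_π,
    map_smul, stalkLin_entry, Finset.smul_sum]
  refine Finset.sum_congr rfl fun i _ => ?_
  rw [smul_smul, mul_comm]
  rfl

theorem desc_surjective {N : X.Modules} (s : Fin r → (Coh.structureModule X ⟶ N)) (ξ : X)
    (hO : IsField (X.presheaf.stalk ξ))
    (e : N.presheaf.stalk ξ ≃ₗ[X.presheaf.stalk ξ] X.presheaf.stalk ξ)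
    (hs : ∃ i, stalkLin (s i) ξ ≠ 0) : Function.Surjective (stalkLin (biproduct.desc s) ξ) := by
  obtain ⟨i, hi⟩ := hs
  obtain ⟨u, hu⟩ : ∃ u, stalkLin (s i) ξ u ≠ 0 := by
    by_contra h
    push Not at h
    exact hi (LinearMap.ext h)
  have hu' : e (stalkLin (s i) ξ u) ≠ 0 := fun h => hu (e.map_eq_zero_iff.mp h)
  obtain ⟨c, hc⟩ := hO.mul_inv_cancel hu'
  intro t
  refine ⟨stalkLin (biproduct.ι (fun _ : Fin r => Coh.structureModule X) i) ξ ((e t * c) • u), ?_⟩
  rw [← LinearMap.comp_apply, ← stalkLin_comp, biproduct.ι_desc, map_smul]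
  apply e.injective
  rw [map_smul, smul_eq_mul, mul_assoc, mul_comm c, hc, mul_one]

/-- The core of the pairing lemma. -/
theorem exists_ne_zero [IsNoetherian X] [IsReduced X] (hdim : topologicalKrullDim X ≤ 1)
    {N : X.Modules} (hN : Coh.IsCoh N) (htf : TorsionFree N) (hr : RankOne N)
    (hK : ∀ ξ : X, IsGen ξ → letI := Curv2.stalkAlgebra k X ξ; IsField (X.presheaf.stalk ξ ⊗[k] K))
    (lam : Coh.HH X N 1 →ₗ[k] K)
    (hlam : ∀ (Q : X.Modules) (q : N ⟶ Q) [Epi q], Coh.IsCoh Q →
      (∃ ξ : X, IsGen ξ ∧ Subsingleton (Q.presheaf.stalk ξ)) → ∃ v, hmap q 1 v = 0 ∧ lam v ≠ 0)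
    (s : Fin r → (Coh.structureModule X ⟶ N)) (hs : ∃ i, s i ≠ 0) :
    ∃ y : Coh.HH X (Coh.structureModule X) 1, ∑ i, b i * lam (hmap (s i) 1 y) ≠ 0 := by
  by_contra hall
  push Not at hall
  have hO : Coh.IsCoh (Coh.structureModule X) := Fdesc.StructMod.isCoh_structureModule X
  obtain ⟨i0, hi0⟩ := hs
  obtain ⟨ξ0, hξ0, hs0⟩ : ∃ ξ : X, IsGen ξ ∧ stalkLin (s i0) ξ ≠ 0 := by
    by_contra h
    push Not at h
    exact hi0 (htf.hom_eq_zero (s i0) h)
  let d := biproduct.desc s
  have hQ : Coh.IsCoh (cokernel d) := Sga67.CohBasic.isCoh_cokernel d (isCoh_biproduct _ fun _ => hO).1 hN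
  obtain ⟨v, hv, hlv⟩ := hlam (cokernel d) (cokernel.π d) hQ ⟨ξ0, hξ0,
    (subsingleton_cokernel_stalk_iff d ξ0).mpr
      (desc_surjective s ξ0 (isField_stalk ξ0 hξ0) (hr ξ0 hξ0).some ⟨i0, hs0⟩)⟩
  let p' : (⨁ fun _ : Fin r => N) ⟶ (⨁ fun _ : Fin r => cokernel d) := biproduct.map fun _ => cokernel.π d
  let p := cokernel.π (mat k b s)
  have hp' : Epi p' := inferInstanceAs (Epi (biproduct.map fun _ => cokernel.π d))
  let w : Coh.HH X (⨁ fun _ : Fin r => N) 1 := hmap (biproduct.ι (fun _ : Fin r => N) i0) 1 v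
  have hw : hmap p' 1 w = 0 := by
    change hmap p' 1 (hmap (biproduct.ι (fun _ : Fin r => N) i0) 1 v) = 0
    rw [← hmap_comp_apply, biproduct.ι_map, hmap_comp_apply, hv, map_zero]
  have hpw : hmap p 1 w = 0 := by
    refine hmap_eq_zero hdim (isCoh_biproduct _ fun _ => hN)
      (CohqA.HBiprod.isQCoh_biproduct _ fun _ => hQ.1) p p' (fun ξ hξ => ?_) w hw
    by_cases hsξ : ∃ i, stalkLin (s i) ξ ≠ 0
    · have h1 : Subsingleton ((cokernel (mat k b s)).presheaf.stalk ξ) :=
        (subsingleton_cokernel_stalk_iff _ ξ).mpr (mat_surjective k b s ξ (hr ξ hξ).some (hK ξ hξ) hsξ)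
      exact LinearMap.ext fun _ => Subsingleton.elim _ _
    · push Not at hsξ
      rw [stalkLin_comp]
      have h2 : stalkLin (kernel.ι p') ξ = 0 := by
        refine LinearMap.ext fun u => ?_
        refine stalk_biproduct_ext _ ξ _ _ fun m => ?_
        rw [LinearMap.zero_apply, map_zero]
        have hex : Function.Exact (stalkLin d ξ) (stalkLin (cokernel.π d) ξ) :=
          stalkLin_exact (ShortComplex.mk d (cokernel.π d) (cokernel.condition d))
            (ShortComplex.exact_of_g_is_cokernel _ (cokernelIsCokernel _)) ξ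
        have h3 : stalkLin (cokernel.π d) ξ
            (stalkLin (biproduct.π (fun _ : Fin r => N) m) ξ (stalkLin (kernel.ι p') ξ u)) = 0 := by
          have h7 : kernel.ι p' ≫ biproduct.π (fun _ : Fin r => N) m ≫ cokernel.π d = 0 := by
            rw [show biproduct.π (fun _ : Fin r => N) m ≫ cokernel.π d =
              p' ≫ biproduct.π (fun _ : Fin r => cokernel d) m from
                (biproduct.map_π (f := fun _ : Fin r => N) (g := fun _ : Fin r => cokernel d)
                  (fun _ => cokernel.π d) m).symm,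
              ← Category.assoc, kernel.condition, zero_comp]
          rw [← LinearMap.comp_apply, ← LinearMap.comp_apply, ← stalkLin_comp, ← stalkLin_comp, h7]
          exact stalkLin_zero' _ _ ξ u
        obtain ⟨z, hz⟩ := (hex _).mp h3
        rw [← hz]
        have h4 : ∀ z, stalkLin d ξ z = 0 := by
          intro z
          have h5 : stalkLin (𝟙 (⨁ fun _ : Fin r => Coh.structureModule X)) ξ z = z := by
            rw [stalkLin_id]; rfl
          rw [← h5, ← biproduct.total, stalkLin_sum, map_sum]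
          refine Finset.sum_eq_zero fun j _ => ?_
          rw [← LinearMap.comp_apply, ← stalkLin_comp, Category.assoc, biproduct.ι_desc, stalkLin_comp, hsξ j]
          rfl
        exact h4 z
      rw [h2, LinearMap.comp_zero]
  obtain ⟨y, hy⟩ := exists_of_hmap_cokernel hdim (mat k b s) w hpw
  let yj : Fin r → Coh.HH X (Coh.structureModule X) 1 := fun j =>
    hmap (biproduct.π (fun _ : Fin r => Coh.structureModule X) j) 1 y
  have hyj : y = ∑ j, hmap (biproduct.ι (fun _ : Fin r => Coh.structureModule X) j) 1 (yj j) := by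
    have h5 := hmap_id_apply (M := ⨁ fun _ : Fin r => Coh.structureModule X) 1 y
    rw [← biproduct.total, hmap_sum_apply] at h5
    refine h5.symm.trans (Finset.sum_congr rfl fun j _ => ?_)
    exact hmap_comp_apply _ _ 1 y
  have hm : ∀ m : Fin r, (if i0 = m then v else 0) = ∑ j, ∑ i, cst b j i m • hmap (s i) 1 (yj j) := by
    intro m
    have h6 : hmap (biproduct.π (fun _ : Fin r => N) m) 1 w = if i0 = m then v else 0 := by
      change hmap _ 1 (hmap (biproduct.ι (fun _ : Fin r => N) i0) 1 v) = _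
      rw [← hmap_comp_apply]
      by_cases h7 : i0 = m
      · subst h7
        rw [biproduct.ι_π_self, hmap_id_apply, if_pos rfl]
      · rw [biproduct.ι_π_ne _ h7, hmap_zero_apply, if_neg h7]
    rw [← h6, ← hy, ← hmap_comp_apply]
    conv_lhs => rw [hyj]
    rw [map_sum]
    refine Finset.sum_congr rfl fun j _ => ?_
    rw [← hmap_comp_apply, ι_mat_π, hmap_entry]
  have hfin : b i0 * lam v = 0 := by
    calc b i0 * lam v = ∑ m, b m * lam (if i0 = m then v else 0) := by
          rw [Finset.sum_eq_single i0]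
          · rw [if_pos rfl]
          · intro m _ hm
            rw [if_neg (Ne.symm hm), map_zero, mul_zero]
          · intro h; exact absurd (Finset.mem_univ _) h
      _ = ∑ m, b m * (∑ j, ∑ i, cst b j i m • lam (hmap (s i) 1 (yj j))) := by
          refine Finset.sum_congr rfl fun m _ => ?_
          rw [hm m, map_sum]
          congr 1
          refine Finset.sum_congr rfl fun j _ => ?_
          rw [map_sum]
          exact Finset.sum_congr rfl fun i _ => map_smul _ _ _
      _ = ∑ j, b j * ∑ i, b i * lam (hmap (s i) 1 (yj j)) := by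
          simp only [Finset.mul_sum]
          rw [Finset.sum_comm]
          refine Finset.sum_congr rfl fun j _ => ?_
          rw [Finset.sum_comm]
          refine Finset.sum_congr rfl fun i _ => ?_
          rw [← mul_assoc, mul_eq_sum b j i, Finset.sum_mul]
          refine Finset.sum_congr rfl fun m _ => ?_
          rw [mul_smul_comm, smul_mul_assoc]
      _ = 0 := Finset.sum_eq_zero fun j _ => by rw [hall, mul_zero]
  rcases mul_eq_zero.mp hfin with h | h
  · exact b.ne_zero i0 h
  · exact hlv h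

/-- **The pairing lemma.** -/
theorem finrank_le [IsNoetherian X] [IsReduced X] (hdim : topologicalKrullDim X ≤ 1)
    {N : X.Modules} (hN : Coh.IsCoh N) (htf : TorsionFree N) (hr : RankOne N) [FiniteDimensional k K]
    (hK : ∀ ξ : X, IsGen ξ → letI := Curv2.stalkAlgebra k X ξ; IsField (X.presheaf.stalk ξ ⊗[k] K))
    (lam : Coh.HH X N 1 →ₗ[k] K)
    (hlam : ∀ (Q : X.Modules) (q : N ⟶ Q) [Epi q], Coh.IsCoh Q →
      (∃ ξ : X, IsGen ξ ∧ Subsingleton (Q.presheaf.stalk ξ)) → ∃ v, hmap q 1 v = 0 ∧ lam v ≠ 0)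
    [Module.Finite k (Coh.HH X N 0)] [Module.Finite k (Coh.HH X (Coh.structureModule X) 1)] :
    Module.finrank k (Coh.HH X N 0) ≤ Module.finrank k (Coh.HH X (Coh.structureModule X) 1) := by
  let b := Module.finBasis k K
  let r := Module.finrank k K
  have hr0 : 0 < r := Module.finrank_pos
  let Φ : (Fin r → Coh.HH X N 0) →ₗ[k] (Coh.HH X (Coh.structureModule X) 1 →ₗ[k] K) :=
    ∑ i, (((LinearMap.lcomp k K (LinearMap.id (R := k) (M := Coh.HH X (Coh.structureModule X) 1))).comp
      ((LinearMap.llcomp k (Coh.HH X (Coh.structureModule X) 1) (Coh.HH X N 1) K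
        ((LinearMap.mulLeft k (b i)).comp lam)).comp (Pairing.pairing k N 1))).comp (LinearMap.proj i))
  have hΦ : ∀ z y, Φ z y = ∑ i, b i * lam (hmap (Pairing.secHom N (equivAdd N (z i))) 1 y) := by
    intro z y
    simp only [Φ, LinearMap.sum_apply]
    rfl
  have hinj : Function.Injective Φ := by
    rw [← LinearMap.ker_eq_bot, LinearMap.ker_eq_bot']
    intro z hz
    by_contra hz0
    obtain ⟨i, hi⟩ : ∃ i, z i ≠ 0 := by
      by_contra h
      push Not at h
      exact hz0 (funext h)
    obtain ⟨y, hy⟩ := exists_ne_zero k b hdim hN htf hr hK lam hlam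
      (fun i => Pairing.secHom N (equivAdd N (z i)))
      ⟨i, Pairing.secHom_ne_zero ((map_ne_zero_iff _ (equivAdd N).injective).2 hi)⟩
    apply hy
    rw [← hΦ, hz]
    rfl
  have h1 := LinearMap.finrank_le_finrank_of_injective hinj
  rw [Module.finrank_pi_fintype, Finset.sum_const, Finset.card_univ, Fintype.card_fin, smul_eq_mul,
    Module.finrank_linearMap, mul_comm] at h1
  exact Nat.le_of_mul_le_mul_right h1 hr0

end Main


end Groth.Agent.CurvesB.PairLemma
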