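import Groth.Agent.CohtopA.PushExact
import Groth.Agent.CohqB.HSeqMod
import Groth.Agent.CohqA.AffineVanish
import Groth.Agent.CurvesB.HZero

set_option autoImplicit false
universe u
open CategoryTheory CategoryTheory.Limits AlgebraicGeometry Opposite TopologicalSpace

namespace Groth.Agent.CurvesB.PushH1

open Groth.Agent.CohqB Groth.Agent.CohqB.HSeq Groth.Agent.CohqB.ToSheafExact

variable {X Y : Scheme.{u}} (f : Y ⟶ X)

/-- sections over the whole space -/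
noncomputable def s₀ (G : Sh X) : Sheaf.H G 0 ≃+ G.obj.obj (op ⊤) :=
  Sheaf.H.equiv₀ G (T := (⊤ : Opens X)) isTerminalTop

theorem s₀_naturality {G G' : Sh X} (g : G ⟶ G') (x : Sheaf.H G 0) :
    s₀ G' (Sheaf.H.map g 0 x) = g.hom.app (op ⊤) (s₀ G x) :=
  (Sheaf.H.equiv₀_naturality (T := (⊤ : Opens X)) isTerminalTop g x).symm

/-- degree zero comparison -/
noncomputable def c₀ (G : Sh Y) : Sheaf.H G 0 ≃+ Sheaf.H ((Coh.pushAb f).obj G) 0 :=
  (s₀ G).trans (s₀ ((Coh.pushAb f).obj G)).symm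

theorem s₀_c₀ (G : Sh Y) (x : Sheaf.H G 0) :
    s₀ ((Coh.pushAb f).obj G) (c₀ f G x) = s₀ G x :=
  AddEquiv.apply_symm_apply (s₀ ((Coh.pushAb f).obj G)) (s₀ G x)

theorem c₀_naturality {G G' : Sh Y} (g : G ⟶ G') (x : Sheaf.H G 0) :
    c₀ f G' (Sheaf.H.map g 0 x) = Sheaf.H.map ((Coh.pushAb f).map g) 0 (c₀ f G x) := by
  apply (s₀ ((Coh.pushAb f).obj G')).injective
  rw [s₀_c₀, s₀_naturality, s₀_naturality, s₀_c₀]
  rfl

/-- `f_*` of a short exact sequence of abelian sheaves is short exact if `H^1` of the kernel vanishes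
over the preimages of affine opens. -/
theorem push_shortExact {S : ShortComplex (Sh Y)} (hS : S.ShortExact)
    (h : ∀ V : X.Opens, IsAffineOpen V → Subsingleton (CohqA.SheafH.HU S.X₁ 1 (f ⁻¹ᵁ V))) :
    (S.map (Coh.pushAb f)).ShortExact := by
  apply CohtopA.PushExact.push_map_shortExact f.base hS
  rw [← Sheaf.isLocallySurjective_iff_epi']
  refine ⟨fun {U} s => ?_⟩
  intro x hx
  obtain ⟨V, hV, hxV, hVU⟩ := exists_isAffineOpen_mem_and_subset (X := X) (U := U) hx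
  refine ⟨V, homOfLE hVU, ?_, hxV⟩
  have := h V hV
  obtain ⟨t, ht⟩ := CohqA.SheafH.exists_lift_of_H1_eq_zero hS (f ⁻¹ᵁ V)
    (((Coh.pushAb f).obj S.X₃).obj.map (homOfLE hVU).op s)
  exact ⟨t, ht⟩

end Groth.Agent.CurvesB.PushH1

namespace Groth.Agent.CurvesB.PushH1

open Groth.Agent.CohqB Groth.Agent.CohqB.HSeq Groth.Agent.CohqB.ToSheafExact

variable {X Y : Scheme.{u}} (f : Y ⟶ X)

theorem exists_addEquiv {Q A B : Type u} [AddCommGroup Q] [AddCommGroup A] [AddCommGroup B]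
    (g : Q →+ A) (h : Q →+ B) (hg : Function.Surjective g) (hh : Function.Surjective h)
    (hker : ∀ q, g q = 0 ↔ h q = 0) : ∃ e : A ≃+ B, ∀ q, e (g q) = h q := by
  have hk : g.ker = h.ker := by
    ext q
    exact hker q
  let e1 := QuotientAddGroup.quotientKerEquivOfSurjective g hg
  let e2 := QuotientAddGroup.quotientKerEquivOfSurjective h hh
  let e3 := QuotientAddGroup.quotientAddEquivOfEq hk
  refine ⟨(e1.symm.trans e3).trans e2, fun q => ?_⟩
  have h1 : e1.symm (g q) = QuotientAddGroup.mk q := by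
    rw [AddEquiv.symm_apply_eq]
    rfl
  rw [AddEquiv.trans_apply, AddEquiv.trans_apply, h1]
  rfl

/-- The comparison in degree one for a given flasque embedding. -/
theorem exists_comparison {S : ShortComplex (Sh Y)} (hS : S.ShortExact)
    (hfl : TopCat.Sheaf.IsFlasque S.X₂) (hT : (S.map (Coh.pushAb f)).ShortExact) :
    ∃ e : Sheaf.H S.X₁ 1 ≃+ Sheaf.H ((Coh.pushAb f).obj S.X₁) 1,
      ∀ q : Sheaf.H S.X₃ 0, e (δ hS 0 q) = δ hT 0 (c₀ f S.X₃ q) := by
  have hfl' : TopCat.Sheaf.IsFlasque ((Coh.pushAb f).obj S.X₂) := inferInstance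
  have hs1 : Subsingleton (Sheaf.H S.X₂ 1) := CohtopA.Flasque.subsingleton_H_succ S.X₂ 0
  have hs2 : Subsingleton (Sheaf.H ((Coh.pushAb f).obj S.X₂) 1) :=
    CohtopA.Flasque.subsingleton_H_succ ((Coh.pushAb f).obj S.X₂) 0
  refine exists_addEquiv (δ hS 0) ((δ hT 0).comp (c₀ f S.X₃).toAddMonoidHom) ?_ ?_ ?_
  · intro x
    exact exact₁ hS 0 x (Subsingleton.elim _ _)
  · intro x
    obtain ⟨y, hy⟩ := exact₁ hT 0 x (hs2.elim _ _)
    exact ⟨(c₀ f S.X₃).symm y, by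
      change δ hT 0 (c₀ f S.X₃ ((c₀ f S.X₃).symm y)) = x
      rw [AddEquiv.apply_symm_apply]
      exact hy⟩
  · intro q
    constructor
    · intro hq
      obtain ⟨y, hy⟩ := exact₃ hS 0 q hq
      change δ hT 0 (c₀ f S.X₃ q) = 0
      rw [← hy, c₀_naturality]
      exact δ_map hT 0 (c₀ f S.X₂ y)
    · intro hq
      change δ hT 0 (c₀ f S.X₃ q) = 0 at hq
      obtain ⟨y, hy⟩ := exact₃ hT 0 _ hq
      have h1 : q = Sheaf.H.map S.g 0 ((c₀ f S.X₂).symm y) := by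
        apply (c₀ f S.X₃).injective
        rw [c₀_naturality, AddEquiv.apply_symm_apply]
        exact hy.symm
      rw [h1]
      exact δ_map hS 0 _

end Groth.Agent.CurvesB.PushH1

namespace Groth.Agent.CurvesB.PushH1

open Groth.Agent.CohqB Groth.Agent.CohqB.HSeq Groth.Agent.CohqB.ToSheafExact

variable {X Y : Scheme.{u}} (f : Y ⟶ X)

/-- vanishing of `H^1` over preimages of affine opens -/
def Good (F : Sh Y) : Prop :=
  ∀ V : X.Opens, IsAffineOpen V → Subsingleton (CohqA.SheafH.HU F 1 (f ⁻¹ᵁ V))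

/-- extension of an endomorphism of the kernel to a short exact sequence with injective middle term -/
theorem exists_hom {S T : ShortComplex (Sh Y)} (hS : S.ShortExact) (hT : T.ShortExact)
    (hI : Injective T.X₂) (φ : S.X₁ ⟶ T.X₁) : ∃ ψ : S ⟶ T, ψ.τ₁ = φ := by
  have := hS.mono_f
  have := hS.epi_g
  let τ₂ : S.X₂ ⟶ T.X₂ := Injective.factorThru (φ ≫ T.f) S.f
  have h1 : S.f ≫ τ₂ = φ ≫ T.f := Injective.comp_factorThru _ _
  have h2 : S.f ≫ (τ₂ ≫ T.g) = 0 := by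
    rw [← Category.assoc, h1, Category.assoc, T.zero, comp_zero]
  let τ₃ : S.X₃ ⟶ T.X₃ := hS.exact.desc (τ₂ ≫ T.g) h2
  have h3 : S.g ≫ τ₃ = τ₂ ≫ T.g := hS.exact.g_desc _ _
  exact ⟨{ τ₁ := φ, τ₂ := τ₂, τ₃ := τ₃, comm₁₂ := h1.symm, comm₂₃ := h3.symm }, rfl⟩

theorem exists_e_aux {S : ShortComplex (Sh Y)} (hS : S.ShortExact) (hI : Injective S.X₂)
    (hF : Good f S.X₁) :
    ∃ e : Sheaf.H S.X₁ 1 ≃+ Sheaf.H ((Coh.pushAb f).obj S.X₁) 1,
      ∀ (φ : S.X₁ ⟶ S.X₁) (x : Sheaf.H S.X₁ 1),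
        e (Sheaf.H.map φ 1 x) = Sheaf.H.map ((Coh.pushAb f).map φ) 1 (e x) := by
  have hfl : TopCat.Sheaf.IsFlasque S.X₂ := CohtopA.Flasque.isFlasque_of_injective S.X₂
  have hT := push_shortExact f hS hF
  obtain ⟨e, he⟩ := exists_comparison f hS hfl hT
  refine ⟨e, fun φ x => ?_⟩
  have hs1 : Subsingleton (Sheaf.H S.X₂ 1) := CohtopA.Flasque.subsingleton_H_succ S.X₂ 0
  obtain ⟨q, rfl⟩ := exact₁ hS 0 x (Subsingleton.elim _ _)
  obtain ⟨ψ, hψ⟩ := exists_hom hS hS hI φ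
  have h1 : Sheaf.H.map φ 1 (δ hS 0 q) = δ hS 0 (Sheaf.H.map ψ.τ₃ 0 q) := by
    rw [← hψ]
    exact (δ_naturality hS hS ψ 0 q).symm
  rw [h1, he, he, c₀_naturality, ← hψ]
  exact δ_naturality hT hT ((Coh.pushAb f).mapShortComplex.map ψ) 0 (c₀ f S.X₃ q)

/-- `H^1(Y, F) ≃ H^1(X, f_* F)` compatibly with all endomorphisms of `F`, if `H^1` of `F` vanishes over
preimages of affine opens. -/
theorem exists_e (F : Sh Y) (hF : Good f F) :
    ∃ e : Sheaf.H F 1 ≃+ Sheaf.H ((Coh.pushAb f).obj F) 1,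
      ∀ (φ : F ⟶ F) (x : Sheaf.H F 1),
        e (Sheaf.H.map φ 1 x) = Sheaf.H.map ((Coh.pushAb f).map φ) 1 (e x) := by
  obtain ⟨S, hS, hI, rfl⟩ := CohqA.SheafH.exists_injective_shortExact F
  exact exists_e_aux f hS hI hF

end Groth.Agent.CurvesB.PushH1

namespace Groth.Agent.CurvesB.PushH1

open Groth.Agent.CohqB Groth.Agent.CohqB.HSeq Groth.Agent.CohqB.ToSheafExact

variable {X Y : Scheme.{u}} (f : Y ⟶ X)

theorem good_of_isQCoh [IsAffineHom f] (M : Y.Modules) [hM : Coh.IsQCoh M] : Good f (Coh.toAb M) := by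
  intro V hV
  exact CohqA.AffineVanish.HU_subsingleton M 1 one_pos (f ⁻¹ᵁ V) (hV.preimage f)

theorem smulAb_push (M : Y.Modules) (r : Γ(X, ⊤)) :
    Coh.smulAb ((Coh.push f).obj M) r = (Coh.pushAb f).map (Coh.smulAb M (f.appTop.hom r)) := by
  ext U m
  have h1 : f.app U.unop (X.presheaf.map (homOfLE (le_top (a := U.unop))).op r) =
      Y.presheaf.map (homOfLE (le_top (a := (f ⁻¹ᵁ U.unop)))).op (f.appTop.hom r) :=
    congr($(f.naturality (homOfLE (le_top (a := U.unop))).op) r)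
  change f.app U.unop (X.presheaf.map (homOfLE (le_top (a := U.unop))).op r) •
      (show Γ(M, f ⁻¹ᵁ U.unop) from m) =
    (Y.presheaf.map (homOfLE (le_top (a := (f ⁻¹ᵁ U.unop)))).op (f.appTop.hom r)) •
      (show Γ(M, f ⁻¹ᵁ U.unop) from m)
  rw [h1]

/-- The comparison `H^1(Y, M) ≃ H^1(X, f_* M)` for `f` affine and `M` quasi-coherent is compatible with
endomorphisms of the abelian sheaf `M`. -/
theorem exists_e_mod [IsAffineHom f] (M : Y.Modules) [Coh.IsQCoh M] :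
    ∃ e : Coh.HH Y M 1 ≃+ Coh.HH X ((Coh.push f).obj M) 1,
      ∀ (φ : Coh.toAb M ⟶ Coh.toAb M) (x : Coh.HH Y M 1),
        e (Sheaf.H.map φ 1 x) =
          Sheaf.H.map (F := Coh.toAb ((Coh.push f).obj M)) ((Coh.pushAb f).map φ) 1 (e x) :=
  exists_e f (Coh.toAb M) (good_of_isQCoh f M)

/-- `A`-linear comparison `H^1(Y, M) ≃ H^1(X, f_* M)` for `f` affine and `M` quasi-coherent. -/
theorem exists_linearEquiv (A : Type u) [CommRing A] [X.Over (Spec (CommRingCat.of A))]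
    [Y.Over (Spec (CommRingCat.of A))] [IsAffineHom f]
    (hf : f ≫ (X ↘ (Spec (CommRingCat.of A))) = Y ↘ (Spec (CommRingCat.of A)))
    (M : Y.Modules) [Coh.IsQCoh M] :
    Nonempty (Coh.HH Y M 1 ≃ₗ[A] Coh.HH X ((Coh.push f).obj M) 1) := by
  obtain ⟨e, he⟩ := exists_e_mod f M
  have hg : ∀ t : A, f.appTop.hom (HZero.gl A X t) = HZero.gl A Y t := by
    intro t
    have h1 : (Y ↘ (Spec (CommRingCat.of A))).appTop =
        (X ↘ (Spec (CommRingCat.of A))).appTop ≫ f.appTop := by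
      rw [← Scheme.Hom.comp_appTop, hf]
    change f.appTop.hom ((X ↘ (Spec (CommRingCat.of A))).appTop.hom
      ((Scheme.ΓSpecIso (CommRingCat.of A)).inv.hom t)) =
      (Y ↘ (Spec (CommRingCat.of A))).appTop.hom ((Scheme.ΓSpecIso (CommRingCat.of A)).inv.hom t)
    rw [h1]
    rfl
  refine ⟨{ e with map_smul' := fun t x => ?_ }⟩
  change e (Sheaf.H.map (Coh.smulAb M (HZero.gl A Y t)) 1 x) =
    Sheaf.H.map (Coh.smulAb ((Coh.push f).obj M) (HZero.gl A X t)) 1 (e x)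
  rw [smulAb_push, hg]
  exact he _ x

end Groth.Agent.CurvesB.PushH1
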