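import Groth.Agent.CurvesB.GenStalk
import Groth.Agent.Ega1.ReducedSub
import Groth.Agent.Ega1.ClosedUnit

/-!
# Closed subschemes given by sets of generic points

* `exists_sub`: for a set `T` of generic points of a Noetherian reduced scheme `X` there is a reduced closed
  subscheme `Y` whose generic points are exactly the points of `T`;
* `epi_unit`: `F ⟶ i_* i^* F` is an epimorphism for a closed immersion `i`;
* `stalkLin_unit_injective`: it is injective at the points `i y` where `O_{X, i y} → O_{Y,y}` is injective, for
  example at generic points of a reduced `X`.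
-/

set_option autoImplicit false
universe u
open CategoryTheory CategoryTheory.Limits AlgebraicGeometry TopologicalSpace Opposite

namespace Groth.Agent.CurvesB.SubClosed

open Groth.Agent.CycB.StalkExact SubH1

variable {X Y : Scheme.{u}}

theorem finite_isGen (X : Scheme.{u}) [NoetherianSpace X] : {ξ : X | IsGen ξ}.Finite := by
  have h := NoetherianSpace.finite_irreducibleComponents (α := X)
  refine Set.Finite.of_finite_image (f := fun ξ => closure {ξ}) (h.subset ?_) ?_
  · rintro _ ⟨ξ, hξ, rfl⟩
    exact (DimOneTop.closure_mem_irreducibleComponents_iff ξ).mpr hξ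
  · intro a _ b _ hab
    exact ((specializes_iff_closure_subset.mpr (le_of_eq hab.symm)).antisymm
      (specializes_iff_closure_subset.mpr (le_of_eq hab))).eq

theorem exists_isGen_specializes (x : X) : ∃ ξ : X, IsGen ξ ∧ ξ ⤳ x :=
  DimOneTop.exists_generic_specializes x

theorem mem_closure_iff_of_finite {T : Set X} (hT : T.Finite) (x : X) :
    x ∈ closure T ↔ ∃ t ∈ T, t ⤳ x := by
  rw [← Set.biUnion_of_singleton T, hT.closure_biUnion]
  simp only [Set.mem_iUnion, exists_prop, Set.biUnion_of_singleton]
  simp only [specializes_iff_mem_closure]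

/-- A closed immersion is injective on points and reflects specializations. -/
theorem specializes_iff (i : Y ⟶ X) [IsClosedImmersion i] (a b : Y) : i a ⤳ i b ↔ a ⤳ b :=
  i.isClosedEmbedding.isInducing.specializes_iff

theorem isGen_of_isGen_map (i : Y ⟶ X) [IsClosedImmersion i] (y : Y) (h : IsGen (i y)) : IsGen y :=
  fun _ hy' => i.isClosedEmbedding.injective (h _ ((specializes_iff i _ _).mpr hy'))

/-- The generic points of a closed subscheme whose underlying set is the closure of a finite set `T` of generic
points. -/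
theorem isGen_iff_of_range_eq (i : Y ⟶ X) [IsClosedImmersion i] {T : Set X} (hfin : T.Finite)
    (hT : ∀ ξ ∈ T, IsGen ξ) (h : Set.range i = closure T) (y : Y) : IsGen y ↔ i y ∈ T := by
  constructor
  · intro hy
    have h1 : i y ∈ closure T := h ▸ ⟨y, rfl⟩
    obtain ⟨t, ht, hty⟩ := (mem_closure_iff_of_finite hfin _).mp h1
    obtain ⟨y', rfl⟩ : t ∈ Set.range i := h ▸ subset_closure ht
    rw [specializes_iff] at hty
    rwa [← hy _ hty]
  · intro hy
    exact isGen_of_isGen_map i y (hT _ hy)

theorem exists_sub [NoetherianSpace X] (T : Set X) (hT : ∀ ξ ∈ T, IsGen ξ) :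
    ∃ (Y : Scheme.{u}) (i : Y ⟶ X), IsClosedImmersion i ∧ IsReduced Y ∧
      (∀ y : Y, IsGen y ↔ i y ∈ T) ∧ T ⊆ Set.range i ∧ Set.range i = closure T := by
  have hfin : T.Finite := (finite_isGen X).subset hT
  let J : X.IdealSheafData := Scheme.IdealSheafData.vanishingIdeal ⟨closure T, isClosed_closure⟩
  have hr : Set.range J.subschemeι = closure T := by
    erw [Scheme.IdealSheafData.range_subschemeι]
    rw [Scheme.IdealSheafData.coe_support_vanishingIdeal]
    rfl
  exact ⟨J.subscheme, J.subschemeι, inferInstance,
    Ega1.ReducedSub.isReduced_subscheme_vanishingIdeal _,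
    fun y => isGen_iff_of_range_eq J.subschemeι hfin hT hr y, hr ▸ subset_closure, hr⟩

section Unit

open Groth.Agent.Fdesc Groth.Agent.Fdesc.PullbackStalk Groth.Agent.Ega1.ClosedUnit

theorem stalkLin_eq_stalkMap {M N : X.Modules} (φ : M ⟶ N) (x : X) (t : M.presheaf.stalk x) :
    stalkLin φ x t = Skyscraper.stalkMap φ x t := by
  obtain ⟨U, hU, s, rfl⟩ := TopCat.Presheaf.exists_germ_eq M.presheaf t
  rw [stalkLin_germ, Skyscraper.stalkMap_germ]

variable (i : Y ⟶ X) (F : X.Modules)

/-- The unit `F ⟶ i_* i^* F`. -/
noncomputable abbrev unitι : F ⟶ (Scheme.Modules.pushforward i).obj ((Scheme.Modules.pullback i).obj F) :=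
  (Scheme.Modules.pullbackPushforwardAdjunction i).unit.app F

theorem stalkLin_unit_surjective [IsClosedImmersion i] (x : X) :
    Function.Surjective (stalkLin (unitι i F) x) := by
  by_cases hx : x ∈ Set.range i
  · obtain ⟨y, rfl⟩ := hx
    have h1 := canAdd_surjective i F y (i.stalkMap_surjective y)
    have h2 := pushAdd_injective i i.isClosedEmbedding.isInducing ((Scheme.Modules.pullback i).obj F) y
    intro t
    obtain ⟨s, hs⟩ := h1 (pushAdd i ((Scheme.Modules.pullback i).obj F) y t)
    refine ⟨s, h2 ?_⟩
    rw [← hs, stalkLin_eq_stalkMap]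
    rfl
  · have := subsingleton_stalk_pushforward i i.isClosedEmbedding.isClosed_range
      ((Scheme.Modules.pullback i).obj F) x hx
    exact fun t => ⟨0, Subsingleton.elim _ _⟩

instance epi_unit [IsClosedImmersion i] : Epi (unitι i F) :=
  VarietyA.StalkCrit.epi_of_stalks _ fun x => stalkLin_unit_surjective i F x

theorem stalkLin_unit_injective [IsClosedImmersion i] (y : Y)
    (hk : ∀ a : X.presheaf.stalk (i y), i.stalkMap y a = 0 →
      ∀ t : F.presheaf.stalk (i y), a • t = 0) :
    Function.Injective (stalkLin (unitι i F) (i y)) := by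
  have h := (stalkMap_unit_bijective i F i.isClosedEmbedding.isInducing y (i.stalkMap_surjective y) hk).1
  intro s t hst
  apply h
  have h1 := stalkLin_eq_stalkMap (unitι i F) (i y) s
  have h2 := stalkLin_eq_stalkMap (unitι i F) (i y) t
  rw [← h1, ← h2, hst]

theorem stalkLin_unit_injective_of_isGen [IsReduced X] [IsClosedImmersion i] (ξ : X) (hξ : IsGen ξ)
    (h : ξ ∈ Set.range i) : Function.Injective (stalkLin (unitι i F) ξ) := by
  obtain ⟨y, rfl⟩ := h
  refine stalkLin_unit_injective i F y fun a ha t => ?_
  let := (GenStalk.isField_stalk (i y) hξ).toField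
  have : a = 0 := by
    by_contra hne
    have hu : IsUnit a := by
      obtain ⟨b, hb⟩ := (GenStalk.isField_stalk (i y) hξ).mul_inv_cancel hne
      exact IsUnit.of_mul_eq_one b hb
    have := hu.map (i.stalkMap y).hom
    have h0 : (i.stalkMap y).hom a = 0 := ha
    rw [h0] at this
    exact not_isUnit_zero this
  rw [this, zero_smul]

theorem stalkLin_unit_bijective_of_isGen [IsReduced X] [IsClosedImmersion i] (ξ : X) (hξ : IsGen ξ)
    (h : ξ ∈ Set.range i) : Function.Bijective (stalkLin (unitι i F) ξ) :=
  ⟨stalkLin_unit_injective_of_isGen i F ξ hξ h, stalkLin_unit_surjective i F ξ⟩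

/-- The stalk of `i_* i^* F` vanishes off the image. -/
theorem subsingleton_stalk_push [IsClosedImmersion i] (G : Y.Modules) (x : X) (hx : x ∉ Set.range i) :
    Subsingleton (((Scheme.Modules.pushforward i).obj G).presheaf.stalk x) :=
  subsingleton_stalk_pushforward i i.isClosedEmbedding.isClosed_range G x hx

end Unit

end Groth.Agent.CurvesB.SubClosed
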