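import Groth.Agent.CurvesB.RankOne
import Groth.Agent.CurvesB.Pairing
import Groth.Agent.CurvesB.HZero

/-!
# A nonzero map between rank one torsion-free modules on an integral scheme is injective
-/

set_option autoImplicit false
universe u
open CategoryTheory CategoryTheory.Limits AlgebraicGeometry Opposite TopologicalSpace

namespace Groth.Agent.CurvesB.RankOneMono

open Groth.Agent.CurvesB.RankOne

variable {X : Scheme.{u}} [IsIntegral X] {G F : X.Modules}

theorem nonempty_of_ne_zero {F : X.Modules} {U : X.Opens} {g : Γ(F, U)} (hg : g ≠ 0) :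
    (U : Set X).Nonempty := by
  rw [Set.nonempty_iff_ne_empty]
  intro h0
  apply hg
  refine Groth.Agent.Ega2.Tens.eq_of_locally_eq F _ 0 fun x hx => ?_
  exact absurd hx (by rw [← SetLike.mem_coe, h0]; exact Set.notMem_empty x)

/-- A nonzero map between modules locally embedded in `O_X` is injective on sections. -/
theorem app_injective (hG : LocEmb G) (hF : LocEmb F) (φ : G ⟶ F) (hφ : φ ≠ 0) (U : X.Opens) :
    Function.Injective (φ.app U) := by
  rw [injective_iff_map_eq_zero]
  intro m hm
  by_contra hm0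
  apply hφ
  ext U₀ (t : Γ(G, U₀))
  change φ.app U₀ t = 0
  by_contra ht
  have hU : (U : Set X).Nonempty := nonempty_of_ne_zero hm0
  have hU₀ : (U₀ : Set X).Nonempty := nonempty_of_ne_zero ht
  have hW : ((U ⊓ U₀ : X.Opens) : Set X).Nonempty := inf_nonempty hU hU₀
  have hmW : G.presheaf.map (homOfLE (inf_le_left : U ⊓ U₀ ≤ U)).op m ≠ 0 :=
    fun h => hm0 (hG.eq_zero inf_le_left hW m h)
  obtain ⟨V, hV, hVn, a, ha⟩ := hG.exists_eq_smul hW _ hmW
    (G.presheaf.map (homOfLE (inf_le_right : U ⊓ U₀ ≤ U₀)).op t)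
  refine ht (hF.eq_zero (hV.trans inf_le_right) hVn _ ?_)
  have e1 : F.presheaf.map (homOfLE (hV.trans inf_le_right)).op (φ.app U₀ t) =
      φ.app V (G.presheaf.map (homOfLE (hV.trans inf_le_right)).op t) :=
    (congr($(φ.mapPresheaf.naturality (homOfLE (hV.trans inf_le_right)).op) t)).symm
  have e2 : φ.app V (G.presheaf.map (homOfLE (hV.trans inf_le_left)).op m) =
      F.presheaf.map (homOfLE (hV.trans inf_le_left)).op (φ.app U m) :=
    congr($(φ.mapPresheaf.naturality (homOfLE (hV.trans inf_le_left)).op) m)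
  rw [res_res, res_res] at ha
  rw [e1, ha, Scheme.Modules.Hom.app_smul, e2, hm, map_zero, smul_zero]

/-- Comparison of dimensions of global sections. -/
theorem finrank_H0_le (k : Type u) [Field k] [X.Over (Spec (CommRingCat.of k))]
    (hG : LocEmb G) (hF : LocEmb F) (φ : G ⟶ F) (hφ : φ ≠ 0) [Module.Finite k (Coh.HH X F 0)] :
    Module.finrank k (Coh.HH X G 0) ≤ Module.finrank k (Coh.HH X F 0) := by
  refine LinearMap.finrank_le_finrank_of_injective (f := Pairing.hmapₗ k φ 0) ?_
  rw [← LinearMap.ker_eq_bot, LinearMap.ker_eq_bot']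
  intro x hx
  apply (HZero.equivAdd G).injective
  rw [map_zero]
  apply app_injective hG hF φ hφ ⊤
  rw [map_zero]
  refine (HZero.equivAdd_map φ x).symm.trans ?_
  exact (congrArg (HZero.equivAdd F) hx).trans (map_zero _)

end Groth.Agent.CurvesB.RankOneMono
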