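import Groth.Agent.CurvesB.GenFlatFinite
import Groth.Agent.S0565
import Mathlib.AlgebraicGeometry.Morphisms.Proper
import Mathlib.RingTheory.RegularLocalRing.Defs

/-!
Regular alterations: the target of a morphism from a regular scheme, generically finite, is
generically regular.
-/

set_option autoImplicit false
universe u
open CategoryTheory CategoryTheory.Limits AlgebraicGeometry

namespace Groth.Agent.CurvesB.RegAlt

/-- Restricting to a smaller open preserves properties stable under base change. -/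
theorem isPullback_homOfLE {X Y : Scheme.{u}} (f : X ⟶ Y) {V W : Y.Opens} (h : W ≤ V) :
    IsPullback (X.homOfLE (show f ⁻¹ᵁ W ≤ f ⁻¹ᵁ V from fun _ hx => h hx)) (f ∣_ W) (f ∣_ V)
      (Y.homOfLE h) := by
  refine IsPullback.of_right (h₁₂ := (f ⁻¹ᵁ V).ι) (h₂₂ := V.ι) (v₁₃ := f) ?_ ?_ ?_
  · simpa using (isPullback_morphismRestrict f W).flip
  · rw [← cancel_mono V.ι]
    simp
  · exact (isPullback_morphismRestrict f V).flip

/-- If `f : X ⟶ Y` is surjective, `X` has regular local rings, `Y` is integral and locally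
Noetherian and `f` is finite over a nonempty open, then `Y` is regular on a nonempty open. -/
theorem exists_regular_open {X Y : Scheme.{u}} [IsIntegral Y] [IsLocallyNoetherian Y] (f : X ⟶ Y)
    (hs : Function.Surjective f) (V : Y.Opens) (hne : (V : Set Y).Nonempty)
    (hf : IsFinite (f ∣_ V)) (hreg : ∀ x : X, IsRegularLocalRing (X.presheaf.stalk x)) :
    ∃ U : Y.Opens, (U : Set Y).Nonempty ∧ ∀ y ∈ U, IsRegularLocalRing (Y.presheaf.stalk y) := by
  obtain ⟨y0, hy0⟩ := hne
  obtain ⟨_, ⟨V0, hV0, rfl⟩, hyV0, hV0V⟩ :=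
    Y.isBasis_affineOpens.exists_subset_of_mem_open hy0 V.isOpen
  have hfin0 : IsFinite (f ∣_ V0) :=
    MorphismProperty.of_isPullback (P := @IsFinite) (isPullback_homOfLE f (V := V) (W := V0) hV0V) hf
  obtain ⟨W, hWV, hWaff, hWne, hWflat⟩ := GenFlatFinite.exists_flat_restrict f V0 hV0 ⟨y0, hyV0⟩
    (IsLocallyNoetherian.component_noetherian ⟨V0, hV0⟩) hfin0
  refine ⟨W, hWne, ?_⟩
  intro y hy
  obtain ⟨x, rfl⟩ := hs y
  have hst : (f.stalkMap x).hom.Flat := by
    have h1 : Flat ((f ⁻¹ᵁ W).ι ≫ f) := by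
      rw [← morphismRestrict_ι]
      infer_instance
    obtain ⟨x', rfl⟩ : ∃ x' : (f ⁻¹ᵁ W).toScheme, (f ⁻¹ᵁ W).ι x' = x := ⟨⟨x, hy⟩, rfl⟩
    have h2 := Flat.stalkMap ((f ⁻¹ᵁ W).ι ≫ f) x'
    rw [Scheme.Hom.stalkMap_comp] at h2
    exact (RingHom.Flat.comp_iff_of_bijective_left
      (ConcreteCategory.bijective_of_isIso ((f ⁻¹ᵁ W).ι.stalkMap x'))).mp h2
  have := hreg x
  have hloc : IsLocalHom (f.stalkMap x).hom := inferInstance
  algebraize [(f.stalkMap x).hom]
  exact Groth.Agent.S0565.result (Y.presheaf.stalk (f x)) (X.presheaf.stalk x)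

end Groth.Agent.CurvesB.RegAlt
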