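import Groth.Prelude.Def_Models
import Groth.Agent.Ega2.Normal
import Groth.Agent.Models.DVRGeneric2
import Mathlib.RingTheory.Flat.TorsionFree
import Mathlib.AlgebraicGeometry.Morphisms.Immersion

/-!
# Integral proper models over a discrete valuation ring

The scheme-theoretic image of an integral proper scheme over the fraction field of a discrete valuation
ring in a proper scheme over the ring is an integral proper flat model.
-/

set_option autoImplicit false
universe u
open CategoryTheory CategoryTheory.Limits AlgebraicGeometry

namespace Groth.Agent.CurvesB.RegModelImage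

/-- An injective ring map from a discrete valuation ring to a domain is flat. -/
theorem ringHom_flat_of_injective {R S : Type*} [CommRing R] [IsDomain R] [IsPrincipalIdealRing R]
    [CommRing S] [IsDomain S] (φ : R →+* S) (h : Function.Injective φ) : φ.Flat := by
  algebraize [φ]
  change Module.Flat R S
  rw [Module.Flat.flat_iff_torsion_eq_bot_of_isBezout, ← Submodule.isTorsionFree_iff_torsion_eq_bot]
  refine ⟨fun r hr => ?_⟩
  rw [isSMulRegular_iff_right_eq_zero_of_smul]
  intro s hs
  rw [Algebra.smul_def] at hs
  rcases mul_eq_zero.mp hs with h0 | h0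
  · exact absurd (h (h0.trans (map_zero _).symm)) hr.ne_zero
  · exact h0

variable (R : Type u) [CommRing R] [IsDomain R] [IsDiscreteValuationRing R]

/-- An integral scheme dominating a discrete valuation ring is flat over it. -/
theorem flat_of_isDominant {X : Scheme.{u}} [IsIntegral X] (p : X ⟶ Spec (CommRingCat.of R))
    [IsDominant p] [QuasiCompact p] : Flat p := by
  rw [HasRingHomProperty.iff_of_iSup_eq_top (P := @Flat) (fun U : X.affineOpens => U)
    (iSup_affineOpens_eq_top X)]
  intro U
  by_cases hU : Nonempty (U : X.Opens)
  · have hd : IsDomain Γ(X, U) := inferInstance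
    have hR : IsDomain Γ(Spec (CommRingCat.of R), ⊤) := inferInstance
    have hP : IsPrincipalIdealRing Γ(Spec (CommRingCat.of R), ⊤) :=
      IsPrincipalIdealRing.of_surjective (Scheme.ΓSpecIso (CommRingCat.of R)).inv.hom
        (ConcreteCategory.bijective_of_isIso (Scheme.ΓSpecIso (CommRingCat.of R)).inv).2
    apply ringHom_flat_of_injective
    have h1 : Function.Injective (p.app ⊤).hom := by
      have := IsSchemeTheoreticallyDominant.of_isDominant p
      exact p.app_injective ⊤
    have h2 : Function.Injective (X.presheaf.map (homOfLE (le_top : (U : X.Opens) ≤ ⊤)).op).hom := by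
      have : Nonempty (U : X.Opens) := hU
      exact map_injective_of_isIntegral X (homOfLE (le_top : (U : X.Opens) ≤ ⊤))
    have h3 : (p.appLE ⊤ U le_top).hom =
        (X.presheaf.map (homOfLE (le_top : (U : X.Opens) ≤ ⊤)).op).hom.comp (p.app ⊤).hom := rfl
    rw [h3]
    exact h2.comp h1
  · have : (U : X.Opens) = ⊥ := by
      ext x
      simp only [TopologicalSpace.Opens.coe_bot, Set.mem_empty_iff_false, iff_false]
      exact fun hx => hU ⟨⟨x, hx⟩⟩
    have h1 : Subsingleton Γ(X, U) := by
      rw [this]
      infer_instance
    algebraize [(p.appLE ⊤ U le_top).hom]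
    change Module.Flat _ _
    infer_instance

omit [IsDomain R] [IsDiscreteValuationRing R] in
/-- `Spec K → Spec R` is dominant. -/
theorem isDominant_generic (K : Type u) [Field K] [Algebra R K] [IsFractionRing R K] :
    IsDominant (Spec.map (CommRingCat.ofHom (algebraMap R K))) := by
  refine ⟨?_⟩
  change DenseRange (PrimeSpectrum.comap (algebraMap R K))
  rw [PrimeSpectrum.denseRange_comap_iff_ker_le_nilRadical]
  rw [(RingHom.injective_iff_ker_eq_bot _).mp (IsFractionRing.injective R K)]
  exact bot_le

theorem surjective_of_nonempty {K : Type u} [Field K] {C : Scheme.{u}} [Nonempty C]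
    (f : C ⟶ Spec (CommRingCat.of K)) : Surjective f := by
  refine ⟨fun y => ?_⟩
  obtain ⟨c⟩ := ‹Nonempty C›
  have : Subsingleton (Spec (CommRingCat.of K)) :=
    inferInstanceAs (Subsingleton (PrimeSpectrum K))
  exact ⟨c, Subsingleton.elim _ _⟩

/-- A clopen immersion into a connected scheme from a nonempty scheme is an isomorphism. -/
theorem isIso_of_isClosedMap {X Y : Scheme.{u}} [Nonempty X] [PreconnectedSpace Y] (l : X ⟶ Y)
    [IsOpenImmersion l] (hl : IsClosed (Set.range l)) : IsIso l := by
  have h1 : IsClopen (Set.range l) := ⟨hl, l.isOpenEmbedding.isOpen_range⟩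
  have h2 : Set.range l = Set.univ := h1.eq_univ (Set.range_nonempty l)
  exact (isIso_iff_isOpenImmersion_and_surjective l).mpr ⟨inferInstance, ⟨Set.range_eq_univ.mp h2⟩⟩

/-- The scheme-theoretic image of an immersion of a proper integral scheme over the fraction field in a
proper scheme over the discrete valuation ring is an integral proper model. -/
theorem isModel_image {C Y : Scheme.{u}} [IsIntegral C]
    (f : C ⟶ Spec (CommRingCat.of (FractionRing R))) [IsProper f]
    (j : C ⟶ Y) [IsImmersion j] [QuasiCompact j] (q : Y ⟶ Spec (CommRingCat.of R)) [IsProper q]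
    (h : j ≫ q = f ≫ Spec.map (CommRingCat.ofHom (algebraMap R (FractionRing R)))) :
    Models.IsModel R j.image (j.imageι ≫ q) C f ∧ IsProper (j.imageι ≫ q) ∧ IsIntegral j.image := by
  have hint : IsIntegral j.image := Groth.Agent.Ega2.Normal.isIntegral_image j
  have hprop : IsProper (j.imageι ≫ q) := inferInstance
  have hcomp : j.toImage ≫ (j.imageι ≫ q) =
      f ≫ Spec.map (CommRingCat.ofHom (algebraMap R (FractionRing R))) := by
    rw [Scheme.Hom.toImage_imageι_assoc, h]
  have hdomi := isDominant_generic R (FractionRing R)
  have hf : Surjective f := surjective_of_nonempty f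
  have hdom : IsDominant (j.imageι ≫ q) := by
    have : IsDominant (j.toImage ≫ (j.imageι ≫ q)) := by
      rw [hcomp]; infer_instance
    exact IsDominant.of_comp j.toImage _
  have hflat : Flat (j.imageι ≫ q) := flat_of_isDominant R _
  refine ⟨⟨hflat, inferInstance, inferInstance, j.toImage, ?_⟩, hprop, hint⟩
  have hopen := Models.DVRGeneric.isOpenImmersion_generic R (FractionRing R)
  set i := Spec.map (CommRingCat.ofHom (algebraMap R (FractionRing R))) with hi
  set p := j.imageι ≫ q with hp
  let l : C ⟶ pullback p i := pullback.lift j.toImage f hcomp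
  have hl1 : l ≫ pullback.fst p i = j.toImage := pullback.lift_fst _ _ _
  have hl2 : l ≫ pullback.snd p i = f := pullback.lift_snd _ _ _
  have hlo : IsOpenImmersion l := by
    have : IsOpenImmersion (l ≫ pullback.fst p i) := by rw [hl1]; infer_instance
    exact IsOpenImmersion.of_comp l (pullback.fst p i)
  have hlp : IsProper l := by
    have : IsProper (l ≫ pullback.snd p i) := by rw [hl2]; infer_instance
    exact IsProper.of_comp l (pullback.snd p i)
  have hne : Nonempty (pullback p i : Scheme.{u}) := by
    obtain ⟨c⟩ : Nonempty C := inferInstance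
    exact ⟨l c⟩
  have hpi : IsIntegral (pullback p i) :=
    isIntegral_of_isOpenImmersion (pullback.fst p i)
  have hliso : IsIso l := isIso_of_isClosedMap l l.isClosedMap.isClosed_range
  exact IsPullback.of_iso_pullback ⟨hcomp⟩ (asIso l) hl1 hl2

end Groth.Agent.CurvesB.RegModelImage
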