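import Groth.Agent.CurvesB.ChiLin
import Mathlib.LinearAlgebra.Dimension.Constructions
import Mathlib.LinearAlgebra.FiniteDimensional.Basic

/-!
# More linear algebra of relative dimensions
-/

namespace Groth.Agent.CurvesB.ChiLin

universe u v w x

variable {k : Type u} [Field k] {E : Type v} [AddCommGroup E] [Module k E]
variable {F : Type w} [AddCommGroup F] [Module k F]

section RelMul

variable {U₁ U₂ : Submodule k E} {W₁ W₂ : Submodule k F} {n : ℕ} (Ψ : Fin n → E →ₗ[k] F)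
  (h2 : ∀ i, U₂ ≤ W₂.comap (Ψ i)) (h1 : ∀ i, U₁ ≤ W₁.comap (Ψ i))

/-- The map on relative quotients. -/
noncomputable def relMap :
    (Fin n → U₂ ⧸ U₁.submoduleOf U₂) →ₗ[k] W₂ ⧸ W₁.submoduleOf W₂ :=
  ∑ i, ((U₁.submoduleOf U₂).mapQ (W₁.submoduleOf W₂) ((Ψ i).restrict (fun _ hx => h2 i hx))
    (fun _ hx => h1 i hx)) ∘ₗ LinearMap.proj i

lemma relMap_mk (a : Fin n → U₂) :
    relMap Ψ h2 h1 (fun i => Submodule.Quotient.mk (a i)) =
      Submodule.Quotient.mk ⟨∑ i, Ψ i (a i), Submodule.sum_mem _ fun i _ => h2 i (a i).2⟩ := by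
  have : (⟨∑ i, Ψ i (a i), Submodule.sum_mem _ fun i _ => h2 i (a i).2⟩ : W₂) =
      ∑ i, (⟨Ψ i (a i), h2 i (a i).2⟩ : W₂) := by
    apply Subtype.ext
    rw [AddSubmonoidClass.coe_finsetSum]
  rw [this, relMap, LinearMap.sum_apply]
  change _ = (W₁.submoduleOf W₂).mkQ _
  rw [map_sum]
  rfl

lemma relMap_injective (hinj : ∀ a : Fin n → U₂, ∑ i, Ψ i (a i) ∈ W₁ → ∀ i, (a i : E) ∈ U₁) :
    Function.Injective (relMap Ψ h2 h1) := by
  rw [injective_iff_map_eq_zero]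
  intro q hq
  choose a ha using fun i => Submodule.Quotient.mk_surjective _ (q i)
  have hqa : q = fun i => Submodule.Quotient.mk (a i) := funext fun i => (ha i).symm
  rw [hqa, relMap_mk, Submodule.Quotient.mk_eq_zero] at hq
  rw [hqa]
  funext i
  exact (Submodule.Quotient.mk_eq_zero _).2 (hinj a hq i)

lemma relMap_surjective (hsurj : ∀ w ∈ W₂, ∃ a : Fin n → U₂, ∑ i, Ψ i (a i) = w) :
    Function.Surjective (relMap Ψ h2 h1) := by
  intro q
  obtain ⟨⟨w, hw⟩, rfl⟩ := Submodule.Quotient.mk_surjective _ q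
  obtain ⟨a, ha⟩ := hsurj w hw
  refine ⟨fun i => Submodule.Quotient.mk (a i), ?_⟩
  rw [relMap_mk]
  congr 1
  exact Subtype.ext ha

include Ψ h2 h1 in
theorem relFin_of_mul (hn : 0 < n) (hfin : RelFin W₁ W₂)
    (hinj : ∀ a : Fin n → U₂, ∑ i, Ψ i (a i) ∈ W₁ → ∀ i, (a i : E) ∈ U₁) : RelFin U₁ U₂ := by
  have : FiniteDimensional k (W₂ ⧸ W₁.submoduleOf W₂) := hfin
  have hi := relMap_injective Ψ h2 h1 hinj
  let j : Fin n := ⟨0, hn⟩
  let s : (U₂ ⧸ U₁.submoduleOf U₂) →ₗ[k] (Fin n → U₂ ⧸ U₁.submoduleOf U₂) :=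
    LinearMap.single k (fun _ => U₂ ⧸ U₁.submoduleOf U₂) j
  exact FiniteDimensional.of_injective (relMap Ψ h2 h1 ∘ₗ s)
    (hi.comp (Pi.single_injective (M := fun _ : Fin n => U₂ ⧸ U₁.submoduleOf U₂) j))

include Ψ h2 h1 in
theorem mul_rel_le (hn : 0 < n) (hfin : RelFin W₁ W₂)
    (hinj : ∀ a : Fin n → U₂, ∑ i, Ψ i (a i) ∈ W₁ → ∀ i, (a i : E) ∈ U₁) :
    n * rel U₁ U₂ ≤ rel W₁ W₂ := by
  have h3 : FiniteDimensional k (U₂ ⧸ U₁.submoduleOf U₂) := relFin_of_mul Ψ h2 h1 hn hfin hinj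
  have : FiniteDimensional k (W₂ ⧸ W₁.submoduleOf W₂) := hfin
  have hi := LinearMap.finrank_le_finrank_of_injective (relMap_injective Ψ h2 h1 hinj)
  rwa [Module.finrank_pi_fintype, Finset.sum_const, Finset.card_univ, Fintype.card_fin,
    smul_eq_mul] at hi

include Ψ h2 h1 in
theorem mul_rel_eq (hn : 0 < n) (hfin : RelFin W₁ W₂)
    (hinj : ∀ a : Fin n → U₂, ∑ i, Ψ i (a i) ∈ W₁ → ∀ i, (a i : E) ∈ U₁)
    (hsurj : ∀ w ∈ W₂, ∃ a : Fin n → U₂, ∑ i, Ψ i (a i) = w) :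
    n * rel U₁ U₂ = rel W₁ W₂ := by
  have h3 : FiniteDimensional k (U₂ ⧸ U₁.submoduleOf U₂) := relFin_of_mul Ψ h2 h1 hn hfin hinj
  have : FiniteDimensional k (W₂ ⧸ W₁.submoduleOf W₂) := hfin
  have hi := (LinearEquiv.ofBijective _ ⟨relMap_injective Ψ h2 h1 hinj,
    relMap_surjective Ψ h2 h1 hsurj⟩).finrank_eq
  rwa [Module.finrank_pi_fintype, Finset.sum_const, Finset.card_univ, Fintype.card_fin,
    smul_eq_mul] at hi

end RelMul

/-- `RelFin` from a map with small kernel. -/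
lemma relFin_of_ker {U U' : Submodule k E} {N : Type*} [AddCommGroup N] [Module k N]
    [FiniteDimensional k N] (φ : U' →ₗ[k] N) (h : ∀ f : U', φ f = 0 → (f : E) ∈ U) :
    RelFin U U' := by
  have hle : LinearMap.ker φ ≤ U.submoduleOf U' := fun f hf => h f hf
  have h1 : FiniteDimensional k (U' ⧸ LinearMap.ker φ) :=
    FiniteDimensional.of_injective ((LinearMap.ker φ).liftQ φ le_rfl)
      (by rw [← LinearMap.ker_eq_bot]; exact Submodule.ker_liftQ_eq_bot _ _ _ le_rfl)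
  exact Module.Finite.of_surjective (Submodule.factor hle) (Submodule.factor_surjective hle)

/-- `RelFin` from a surjection. -/
lemma relFin_of_surj {U U' : Submodule k E} {N : Type*} [AddCommGroup N] [Module k N]
    [FiniteDimensional k N] (φ : N →ₗ[k] (U' ⧸ U.submoduleOf U'))
    (h : Function.Surjective φ) : RelFin U U' :=
  Module.Finite.of_surjective φ h

lemma relFin_trans {U V W : Submodule k E} (hVW : V ≤ W) (h1 : RelFin U V) (h2 : RelFin V W) :
    RelFin U W := by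
  have h1' : FiniteDimensional k (V ⧸ U.submoduleOf V) := h1
  have h2' : FiniteDimensional k (W ⧸ V.submoduleOf W) := h2
  -- lift: there is a finite-dimensional complement C ⊂ W with W = V + C; φ : V/U × C → W/U surjective
  obtain ⟨C, hC⟩ := Submodule.exists_isCompl (V.submoduleOf W)
  have hCfin : FiniteDimensional k C :=
    Module.Finite.equiv (Submodule.quotientEquivOfIsCompl _ _ hC)
  let ι : V →ₗ[k] W := Submodule.inclusion hVW
  let φ₁ : (V ⧸ U.submoduleOf V) →ₗ[k] (W ⧸ U.submoduleOf W) :=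
    (U.submoduleOf V).mapQ (U.submoduleOf W) ι (fun x hx => hx)
  let φ₂ : C →ₗ[k] (W ⧸ U.submoduleOf W) := (U.submoduleOf W).mkQ ∘ₗ C.subtype
  refine relFin_of_surj (φ₁.coprod φ₂) fun q => ?_
  obtain ⟨w, rfl⟩ := Submodule.Quotient.mk_surjective _ q
  have hw : w ∈ V.submoduleOf W ⊔ C := by rw [hC.sup_eq_top]; trivial
  obtain ⟨a, ha, b, hb, rfl⟩ := Submodule.mem_sup.1 hw
  exact ⟨(Submodule.Quotient.mk ⟨a.1, ha⟩, ⟨b, hb⟩), rfl⟩

lemma finrank_inf_le {K U U' : Submodule k E} (hU : U ≤ U') (hr : RelFin U U')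
    (hf : FiniteDimensional k (K ⊓ U' : Submodule k E)) :
    Module.finrank k (K ⊓ U' : Submodule k E) ≤
      Module.finrank k (K ⊓ U : Submodule k E) + rel U U' ∧
    (Module.finrank k (K ⊓ U' : Submodule k E) =
      Module.finrank k (K ⊓ U : Submodule k E) + rel U U' → U' ≤ K ⊓ U' ⊔ U) := by
  have hr' : FiniteDimensional k (U' ⧸ U.submoduleOf U') := hr
  let ι : (K ⊓ U' : Submodule k E) →ₗ[k] U' := Submodule.inclusion inf_le_right
  let f : (K ⊓ U' : Submodule k E) →ₗ[k] (U' ⧸ U.submoduleOf U') := (U.submoduleOf U').mkQ ∘ₗ ι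
  have hker : LinearMap.ker f = (K ⊓ U).submoduleOf (K ⊓ U') := by
    ext x
    rw [LinearMap.mem_ker]
    change Submodule.Quotient.mk _ = 0 ↔ _
    rw [Submodule.Quotient.mk_eq_zero]
    change (x : E) ∈ U ↔ (x : E) ∈ K ⊓ U
    exact ⟨fun h => ⟨x.2.1, h⟩, fun h => h.2⟩
  have hk : Module.finrank k (LinearMap.ker f) = Module.finrank k (K ⊓ U : Submodule k E) := by
    rw [hker]
    exact finrank_submoduleOf (inf_le_inf_left K hU)
  have hrn := f.finrank_range_add_finrank_ker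
  have hle : Module.finrank k (LinearMap.range f) ≤ rel U U' := Submodule.finrank_le _
  refine ⟨by omega, fun heq => ?_⟩
  have htop : LinearMap.range f = ⊤ := by
    apply Submodule.eq_top_of_finrank_eq
    change _ = rel U U'
    omega
  intro u hu
  have : (Submodule.Quotient.mk ⟨u, hu⟩ : U' ⧸ U.submoduleOf U') ∈ LinearMap.range f := by
    rw [htop]; trivial
  obtain ⟨x, hx⟩ := this
  have h3 : ι x - ⟨u, hu⟩ ∈ U.submoduleOf U' := (Submodule.Quotient.eq _).1 hx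
  have h4 : (x : E) - u ∈ U := h3
  refine Submodule.mem_sup.2 ⟨x, x.2, u - x, ?_, by abel⟩
  rw [← neg_sub]; exact U.neg_mem h4

end Groth.Agent.CurvesB.ChiLin
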