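import Groth.Prelude.Def_ClSub2
import Groth.Agent.Ega2.TensGen
import Groth.Agent.CohqB.HSeqMod
import Groth.Agent.Smoothlim.ModKer
import Groth.Agent.CurvesB.HZero

/-!
# Lifting sections of `L / I L` to global sections of `L` when `H^1(I ⊗ L) = 0`
-/

set_option autoImplicit false
universe u
open CategoryTheory CategoryTheory.Limits AlgebraicGeometry Opposite TopologicalSpace

namespace Groth.Agent.CurvesB.SepLift

open Groth.Agent.Ega2
open Groth.Agent.Fdesc.LocGen (res ores res_res ores_ores res_smul app_res IsGen)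

variable {X : Scheme.{u}} (Z : X.IdealSheafData) (L : X.Modules)

/-- multiplication `I ⊗ L ⟶ L`. -/
noncomputable def mu : CohB1.tensorMod (ClSub.idealMod Z) L ⟶ L :=
  Tens.mapT (ClSub.idealModι Z) (𝟙 L) ≫ (Tens.lunit L).hom

/-- inclusion of the ideal module on sections, valued in functions -/
noncomputable def inc (U : X.Opens) (i : Γ(ClSub.idealMod Z, U)) : Γ(X, U) :=
  (ClSub.idealModι Z).app U i

theorem mu_tmul {U : X.Opens} (i : Γ(ClSub.idealMod Z, U)) (l : Γ(L, U)) :
    (mu Z L).app U (Tens.tmul i l) = inc Z U i • l := by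
  have h1 : (Tens.mapT (ClSub.idealModι Z) (𝟙 L)).app U (Tens.tmul i l) =
      Tens.tmul ((ClSub.idealModι Z).app U i) l := by
    rw [Tens.mapT_tmul]
    rfl
  change (Tens.lunit L).hom.app U ((Tens.mapT (ClSub.idealModι Z) (𝟙 L)).app U (Tens.tmul i l)) = _
  rw [h1]
  exact Tens.lunit_hom_tmul (inc Z U i) l

instance mono_idealModι : Mono (ClSub.idealModι Z) :=
  show Mono (kernel.ι (ClSub.toSubscheme Z)) from equalizer.ι_mono

theorem inc_injective (U : X.Opens) : Function.Injective (inc Z U) :=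
  Smoothlim.ModKer.app_injective_of_mono (ClSub.idealModι Z) U

theorem subschemeι_inc (U : X.Opens) (i : Γ(ClSub.idealMod Z, U)) :
    Z.subschemeι.app U (inc Z U i) = 0 := by
  have := kernel.condition (ClSub.toSubscheme Z)
  exact congr(($this).app U i)

theorem exists_inc (U : X.Opens) (a : Γ(X, U)) (ha : Z.subschemeι.app U a = 0) :
    ∃ i, inc Z U i = a :=
  Smoothlim.ModKer.exists_of_app_eq_zero (ClSub.toSubscheme Z) U a ha

variable {L}

theorem mu_injective (hL : PicF.IsInvertible L) (U : X.Opens) :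
    Function.Injective ((mu Z L).app U) := by
  rw [injective_iff_map_eq_zero]
  intro t ht
  refine Tens.eq_of_locally_eq _ _ _ fun x hx => ?_
  obtain ⟨V, e, hxV, hVU, -, he⟩ := TensGen.exists_affine_gen hL x hx
  refine ⟨V, homOfLE hVU, hxV, ?_⟩
  obtain ⟨i, hi⟩ := TensGen.exists_eq_tmul (F := ClSub.idealMod Z) he
    (res (CohB1.tensorMod (ClSub.idealMod Z) L) hVU t)
  have h1 : (mu Z L).app V (res (CohB1.tensorMod (ClSub.idealMod Z) L) hVU t) = 0 := by
    rw [app_res, ht, map_zero]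
  have h2 : inc Z V i • e = (0 : Γ(X, V)) • e := by
    rw [zero_smul, ← mu_tmul, ← h1, hi]
    rfl
  have h3 : inc Z V i = 0 := he.ext h2
  have h4 : i = 0 := by
    apply inc_injective Z V
    rw [h3]
    exact (map_zero ((ClSub.idealModι Z).app V).hom).symm
  change res (CohB1.tensorMod (ClSub.idealMod Z) L) hVU t =
    res (CohB1.tensorMod (ClSub.idealMod Z) L) hVU 0
  rw [hi, h4, map_zero]
  exact Tens.zero_tmul e

theorem mono_mu (hL : PicF.IsInvertible L) : Mono (mu Z L) :=
  Smoothlim.ModKer.mono_of_app_injective _ (mu_injective Z hL)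

/-- the short complex `I ⊗ L → L → L / IL`. -/
noncomputable def sc (L : X.Modules) : ShortComplex X.Modules :=
  ShortComplex.mk (mu Z L) (cokernel.π (mu Z L)) (cokernel.condition _)

theorem sc_shortExact (hL : PicF.IsInvertible L) : (sc Z L).ShortExact := by
  have : Mono (mu Z L) := mono_mu Z hL
  have : Mono (sc Z L).f := this
  have : Epi (sc Z L).g := inferInstanceAs (Epi (cokernel.π (mu Z L)))
  refine ShortComplex.ShortExact.mk ?_
  exact ShortComplex.exact_of_g_is_cokernel _ (cokernelIsCokernel (mu Z L))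

/-- the projection `L ⟶ L / I L`. -/
noncomputable abbrev pr (L : X.Modules) : L ⟶ cokernel (mu Z L) := cokernel.π (mu Z L)

theorem exists_mu_of_pr_eq_zero (hL : PicF.IsInvertible L) {U : X.Opens} (l : Γ(L, U))
    (hl : (pr Z L).app U l = 0) : ∃ t, (mu Z L).app U t = l := by
  have hse := sc_shortExact Z hL
  have : Mono (sc Z L).f := hse.mono_f
  obtain ⟨y, hy⟩ := Smoothlim.ModKer.exists_of_app_eq_zero (pr Z L) U l hl
  let k : kernel (pr Z L) ⟶ (sc Z L).X₁ :=
    hse.exact.lift (kernel.ι (pr Z L)) (kernel.condition _)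
  have hk : k ≫ mu Z L = kernel.ι (pr Z L) := hse.exact.lift_f _ _
  refine ⟨k.app U y, ?_⟩
  rw [← hy, ← hk]
  rfl

/-- A section killed by `pr`, in terms of a generator. -/
theorem exists_coeff_of_pr_eq_zero (hL : PicF.IsInvertible L) {U : X.Opens} {e : Γ(L, U)}
    (he : IsGen e) (l : Γ(L, U)) (hl : (pr Z L).app U l = 0) (a : Γ(X, U)) (ha : l = a • e) :
    Z.subschemeι.app U a = 0 := by
  obtain ⟨t, ht⟩ := exists_mu_of_pr_eq_zero Z hL l hl
  obtain ⟨i, rfl⟩ := TensGen.exists_eq_tmul (F := ClSub.idealMod Z) he t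
  have h1 : inc Z U i • e = a • e := by
    rw [← ha, ← ht]
    exact (mu_tmul Z L i e).symm
  rw [← he.ext h1]
  exact subschemeι_inc Z U i

theorem pr_eq_zero_of_coeff {U : X.Opens} (e : Γ(L, U))
    (a : Γ(X, U)) (ha : Z.subschemeι.app U a = 0) : (pr Z L).app U (a • e) = 0 := by
  obtain ⟨i, rfl⟩ := exists_inc Z U a ha
  rw [← mu_tmul]
  have := cokernel.condition (mu Z L)
  exact congr(($this).app U (Tens.tmul i e))

theorem subschemeι_app_eq_zero {U : X.Opens} (hU : ∀ y ∈ U, y ∉ Z.support) (a : Γ(X, U)) :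
    Z.subschemeι.app U a = 0 := by
  have h1 : Z.subschemeι ⁻¹ᵁ U = ⊥ := by
    rw [eq_bot_iff]
    intro z hz
    exfalso
    have h2 : Z.subschemeι z ∈ Z.support := by
      have : Z.subschemeι z ∈ Set.range Z.subschemeι := ⟨z, rfl⟩
      rwa [Scheme.IdealSheafData.range_subschemeι] at this
    exact hU _ hz h2
  have h3 : Subsingleton Γ(Z.subscheme, Z.subschemeι ⁻¹ᵁ U) := by
    rw [h1]
    exact CommRingCat.subsingleton_of_isTerminal (Z.subscheme.sheaf.isTerminalOfEmpty)
  exact Subsingleton.elim _ _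

theorem pr_eq_zero_of_disjoint (hL : PicF.IsInvertible L) {U : X.Opens}
    (hU : ∀ y ∈ U, y ∉ Z.support) (l : Γ(L, U)) : (pr Z L).app U l = 0 := by
  refine Tens.eq_of_locally_eq _ _ _ fun x hx => ?_
  obtain ⟨V, e, hxV, hVU, -, he⟩ := TensGen.exists_affine_gen hL x hx
  refine ⟨V, homOfLE hVU, hxV, ?_⟩
  obtain ⟨a, ha⟩ := he.exists_eq (res L hVU l)
  change res _ hVU ((pr Z L).app U l) = res _ hVU 0
  rw [← app_res, ha, map_zero]
  exact pr_eq_zero_of_coeff Z e a (subschemeι_app_eq_zero Z (fun y hy => hU y (hVU hy)) a)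

/-- Global sections lift. -/
theorem pr_surjective (hL : PicF.IsInvertible L)
    (h1 : Subsingleton (Coh.HH X (CohB1.tensorMod (ClSub.idealMod Z) L) 1)) :
    Function.Surjective ((pr Z L).app ⊤) := by
  intro q
  obtain ⟨y, hy⟩ := CohqB.HSeqMod.exact₃ (sc_shortExact Z hL) 0
    ((HZero.equivAdd (cokernel (mu Z L))).symm q) (Subsingleton.elim (α := Coh.HH X
      (CohB1.tensorMod (ClSub.idealMod Z) L) 1) _ _)
  refine ⟨HZero.equivAdd L y, ?_⟩
  have h2 := HZero.equivAdd_map (pr Z L) y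
  rw [← h2]
  have h3 : Sheaf.H.map ((SheafOfModules.toSheaf X.ringCatSheaf).map (pr Z L)) 0 y =
    (HZero.equivAdd (cokernel (mu Z L))).symm q := hy
  rw [h3, AddEquiv.apply_symm_apply]

/-- **Lifting lemma.** If `H^1(I ⊗ L) = 0`, `x` is a closed point with a neighbourhood `U` meeting
the support of `I` at most in `x`, and `l` a section of `L` over `U`, there is a global section `s`
of `L` congruent to `l` modulo `I` over `U` and to zero modulo `I` off `x`. -/
theorem exists_section (hL : PicF.IsInvertible L)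
    (h1 : Subsingleton (Coh.HH X (CohB1.tensorMod (ClSub.idealMod Z) L) 1)) {x : X}
    (hx : IsClosed ({x} : Set X)) {U : X.Opens} (hxU : x ∈ U)
    (hU : ∀ y ∈ U, y ≠ x → y ∉ Z.support) (l : Γ(L, U)) :
    ∃ s : Γ(L, ⊤),
      (∀ (V : X.Opens) (hV : V ≤ U) (e : Γ(L, V)), IsGen e → ∀ a b : Γ(X, V),
        res L le_top s = a • e → res L hV l = b • e → Z.subschemeι.app V (a - b) = 0) ∧
      (∀ (V : X.Opens) (e : Γ(L, V)), x ∉ V → IsGen e → ∀ a : Γ(X, V),
        res L le_top s = a • e → Z.subschemeι.app V a = 0) := by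
  let W : X.Opens := ⟨({x} : Set X)ᶜ, hx.isOpen_compl⟩
  let O : Bool → X.Opens := fun b => bif b then U else W
  let q : ∀ b : Bool, Γ(cokernel (mu Z L), O b) := fun b =>
    match b with
    | true => (pr Z L).app U l
    | false => 0
  have hcov : (⊤ : X.Opens) ≤ ⨆ b, O b := by
    intro y _
    rw [Opens.mem_iSup]
    by_cases hy : y = x
    · exact ⟨true, hy ▸ hxU⟩
    · exact ⟨false, hy⟩
  have hzero : ∀ (V : X.Opens) (hVU : V ≤ U) (hVW : V ≤ W),
      res (cokernel (mu Z L)) hVU ((pr Z L).app U l) = 0 := by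
    intro V hVU hVW
    rw [← app_res]
    exact pr_eq_zero_of_disjoint Z hL (fun y hy => hU y (hVU hy) (fun h => hVW hy h)) _
  obtain ⟨t, ht⟩ := Fdesc.LocGen.res_glue (cokernel (mu Z L)) O (fun _ => le_top) hcov q (by
    rintro (_ | _) (_ | _)
    · rfl
    · refine (map_zero (res (cokernel (mu Z L)) _)).trans ?_
      exact (hzero (W ⊓ U) inf_le_right inf_le_left).symm
    · refine (hzero (U ⊓ W) inf_le_left inf_le_right).trans ?_
      exact (map_zero (res (cokernel (mu Z L)) _)).symm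
    · rfl)
  obtain ⟨s, hs⟩ := pr_surjective Z hL h1 t
  refine ⟨s, ?_, ?_⟩
  · intro V hV e he a b ha hb
    refine exists_coeff_of_pr_eq_zero Z hL he (res L le_top s - res L hV l) ?_ (a - b) ?_
    · rw [map_sub, app_res, app_res, hs]
      have h2 : res _ (le_top : V ≤ ⊤) t = res _ hV (res _ (le_top : U ≤ ⊤) t) := by
        rw [res_res]
      have h3 : res _ (le_top : U ≤ ⊤) t = (pr Z L).app U l := ht true
      rw [h2, h3, sub_self]
    · rw [ha, hb, sub_smul]
  · intro V e hxV he a ha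
    have hVW : V ≤ W := fun y hy h => hxV (h ▸ hy)
    refine exists_coeff_of_pr_eq_zero Z hL he (res L le_top s) ?_ a ha
    rw [app_res, hs]
    have h2 : res _ (le_top : V ≤ ⊤) t = res _ hVW (res _ (le_top : W ≤ ⊤) t) := by
      rw [res_res]
    have h3 : res _ (le_top : W ≤ ⊤) t = 0 := ht false
    rw [h2, h3, map_zero]

end Groth.Agent.CurvesB.SepLift
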