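import Mathlib.AlgebraicGeometry.AlgClosed.Basic
import Mathlib.RingTheory.Nakayama
import Groth.Agent.CurvesB.SepLift
import Groth.Agent.CurvesC.Gen
import Groth.Agent.Ega1.ReducedSub
import Groth.Agent.Smoothlim.ConormalRes

/-!
# Separating points and tangent vectors from vanishing of `H^1(I_Z ⊗ M)` for `Z` of length `≤ 2`
-/

set_option autoImplicit false
universe u
open CategoryTheory CategoryTheory.Limits AlgebraicGeometry Opposite TopologicalSpace

namespace Groth.Agent.CurvesB.SepPoints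

open IsLocalRing

section LinAlg

theorem finrank_le_two {K G R : Type*} [Field K] [AddCommGroup G] [Module K G] [CommRing R]
    (c : K →+* R) (e : G →+ R) (he : Function.Injective e) (t : R)
    (hsmul : ∀ (a : K) (g : G), e (a • g) = c a * e g)
    (h : ∀ g : G, ∃ a b : K, e g = c a + c b * t) :
    Module.finrank K G ≤ 2 := by
  letI : Module K R := Module.compHom R c
  let el : G →ₗ[K] R := { e with map_smul' := fun a x => hsmul a x }
  let f : (K × K) →ₗ[K] R :=
    { toFun := fun p => c p.1 + c p.2 * t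
      map_add' := fun p q => by simp only [Prod.fst_add, Prod.snd_add, map_add]; ring
      map_smul' := fun a p => by
        change c (a * p.1) + c (a * p.2) * t = c a * (c p.1 + c p.2 * t)
        simp only [map_mul]; ring }
  have h1 : LinearMap.range el ≤ LinearMap.range f := by
    rintro _ ⟨g, rfl⟩
    obtain ⟨a, b, hab⟩ := h g
    exact ⟨(a, b), hab.symm⟩
  calc Module.finrank K G = Module.finrank K (LinearMap.range el) :=
        (LinearMap.finrank_range_of_inj (f := el) he).symm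
    _ ≤ Module.finrank K (LinearMap.range f) := Submodule.finrank_mono h1
    _ ≤ Module.finrank K (K × K) := LinearMap.finrank_range_le f
    _ = 2 := by simp

theorem exists_hyperplane {K R : Type*} [Field K] [CommRing R] [IsLocalRing R] [IsNoetherianRing R]
    (c : K →+* R) (hc : ∀ r : R, ∃ a : K, r - c a ∈ maximalIdeal R)
    (N : Ideal R) (hN : N < maximalIdeal R) :
    ∃ q : Ideal R, N ≤ q ∧ q ≤ maximalIdeal R ∧ (∀ a ∈ maximalIdeal R, a * a ∈ q) ∧
      ∃ t ∈ maximalIdeal R, t ∉ q ∧ ∀ r : R, ∃ a b : K, r - (c a + c b * t) ∈ q := by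
  let m := maximalIdeal R
  have h1 : N ⊔ m • m < m := by
    refine lt_of_le_of_ne (sup_le hN.le Ideal.mul_le_left) fun heq => ?_
    have h2 : m ≤ N := by
      refine Submodule.le_of_le_smul_of_le_jacobson_bot (I := m)
        (IsNoetherian.noetherian m) ?_ heq.ge
      exact (IsLocalRing.jacobson_eq_maximalIdeal (⊥ : Ideal R) bot_ne_top).ge
    exact absurd (lt_of_lt_of_le hN h2) (lt_irrefl _)
  obtain ⟨q, ⟨hq1, hq2⟩, hq3⟩ := set_has_maximal_iff_noetherian.mpr (inferInstance : IsNoetherianRing R)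
    {J : Ideal R | N ⊔ m • m ≤ J ∧ J < m} ⟨_, le_rfl, h1⟩
  obtain ⟨t, ht, htq⟩ := SetLike.exists_of_lt hq2
  have h3 : q ⊔ Ideal.span {t} = m := by
    by_contra hne
    refine hq3 (q ⊔ Ideal.span {t}) ⟨hq1.trans le_sup_left, ?_⟩ ?_
    · exact lt_of_le_of_ne (sup_le hq2.le ((Ideal.span_singleton_le_iff_mem _).2 ht)) hne
    · refine lt_of_le_of_ne le_sup_left fun heq => htq ?_
      rw [heq]
      exact Ideal.mem_sup_right (Ideal.mem_span_singleton_self t)
  refine ⟨q, le_sup_left.trans hq1, hq2.le, fun a ha => hq1 (Ideal.mem_sup_right (Ideal.mul_mem_mul ha ha)),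
    t, ht, htq, fun r => ?_⟩
  obtain ⟨a, ha⟩ := hc r
  have ha' : r - c a ∈ q ⊔ Ideal.span {t} := by rw [h3]; exact ha
  obtain ⟨q0, hq0, w, hw, hqw⟩ := Submodule.mem_sup.1 ha'
  obtain ⟨r', rfl⟩ := Ideal.mem_span_singleton'.1 hw
  obtain ⟨b, hb⟩ := hc r'
  refine ⟨a, b, ?_⟩
  have h4 : r - (c a + c b * t) = q0 + (r' - c b) * t := by
    linear_combination -hqw
  rw [h4]
  refine q.add_mem hq0 (hq1 (Ideal.mem_sup_right ?_))
  exact Ideal.mul_mem_mul hb ht

end LinAlg

section Geo

variable {K : Type u} [Field K] {Y : Scheme.{u}}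

/-- The map `K → Γ(Y, ⊤)` of a morphism to `Spec K`. -/
noncomputable def glb {K : Type u} [CommRing K] (f : Y ⟶ Spec (CommRingCat.of K)) : K →+* Γ(Y, ⊤) :=
  (f.appTop).hom.comp (Scheme.ΓSpecIso (CommRingCat.of K)).inv.hom

theorem fromSpecStalk_comp_eq (f : Y ⟶ Spec (CommRingCat.of K)) (x : Y) :
    Y.fromSpecStalk x ≫ f = Spec.map (CommRingCat.ofHom (glb f) ≫ Y.presheaf.germ ⊤ x trivial) := by
  have h1 : Spec.map (CommRingCat.ofHom (glb f)) =
      Spec.map f.appTop ≫ Spec.map (Scheme.ΓSpecIso (CommRingCat.of K)).inv := by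
    rw [← Spec.map_comp]
    rfl
  have h2 : f = Y.toSpecΓ ≫ Spec.map (CommRingCat.ofHom (glb f)) := by
    rw [h1, ← Scheme.toSpecΓ_naturality_assoc, ← SpecMap_ΓSpecIso_hom, ← Spec.map_comp, Iso.inv_hom_id,
      Spec.map_id, Category.comp_id]
  rw [Spec.map_comp, ← Scheme.fromSpecStalk_toSpecΓ, Category.assoc, ← h2]

variable [IsAlgClosed K]

/-- At a closed point of a scheme locally of finite type over an algebraically closed field,
functions are constant modulo the maximal ideal. -/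
theorem exists_const_sub_mem (f : Y ⟶ Spec (CommRingCat.of K)) [LocallyOfFiniteType f] (x : Y)
    (hx : IsClosed ({x} : Set Y)) (r : Y.presheaf.stalk x) :
    ∃ a : K, r - Y.presheaf.germ ⊤ x trivial (glb f a) ∈ maximalIdeal (Y.presheaf.stalk x) := by
  have h1 := SpecMap_residueFieldIsoBase_inv f x hx
  rw [Scheme.fromSpecResidueField, Category.assoc, fromSpecStalk_comp_eq, ← Spec.map_comp] at h1
  have h2 := Spec.map_injective h1
  let a : K := (residueFieldIsoBase f x hx).hom (Y.residue x r)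
  refine ⟨a, ?_⟩
  have h3 : (residueFieldIsoBase f x hx).inv a = Y.residue x r := by
    rw [← ConcreteCategory.comp_apply, Iso.hom_inv_id]
    rfl
  rw [h2] at h3
  have h4 : Y.residue x (Y.presheaf.germ ⊤ x trivial (glb f a)) = Y.residue x r := h3
  exact Ideal.Quotient.eq.1 h4.symm


/-- A function vanishing on the closed subscheme `Z` vanishes at the points of its support. -/
theorem notMem_basicOpen_of_app_eq_zero (Z : Y.IdealSheafData) {x : Y} (hx : x ∈ Z.support) (V : Y.Opens)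
    (a : Γ(Y, V)) (ha : Z.subschemeι.app V a = 0) : x ∉ Y.basicOpen a := by
  intro hxa
  obtain ⟨z, rfl⟩ : x ∈ Set.range Z.subschemeι := by
    rw [Scheme.IdealSheafData.range_subschemeι]; exact hx
  have h1 : z ∈ Z.subschemeι ⁻¹ᵁ Y.basicOpen a := hxa
  rw [Scheme.preimage_basicOpen, ha, Scheme.basicOpen_zero] at h1
  exact h1

theorem germ_mem_maximalIdeal_iff {V : Y.Opens} {x : Y} (hx : x ∈ V) (a : Γ(Y, V)) :
    Y.presheaf.germ V x hx a ∈ maximalIdeal (Y.presheaf.stalk x) ↔ x ∉ Y.basicOpen a := by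
  rw [Scheme.mem_basicOpen _ _ _ hx, mem_maximalIdeal, mem_nonunits_iff]

/-- A finite closed set of closed points has dimension `≤ 0`. -/
theorem topologicalKrullDim_le_zero {T : Set Y} (hT : T.Finite) (hc : ∀ x ∈ T, IsClosed ({x} : Set Y)) :
    topologicalKrullDim T ≤ 0 := by
  have h1 : _root_.IsDiscrete T := Set.Finite.isDiscrete_of_subset_closedPoints hT fun x hx => by
    rw [mem_closedPoints_iff]; exact hc x hx
  have : DiscreteTopology T := h1.to_subtype
  rcases isEmpty_or_nonempty T with h | h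
  · have h2 : topologicalKrullDim T = ⊥ := by
      unfold topologicalKrullDim
      have : IsEmpty (IrreducibleCloseds T) := ⟨fun s => by
        obtain ⟨x, -⟩ := s.isIrreducible.1
        exact h.elim x⟩
      exact Order.krullDim_eq_bot
    rw [h2]; exact bot_le
  · exact topologicalKrullDim_zero_of_discreteTopology T

variable (K) in
theorem finrank_quotMod_le [Y.Over (Spec (CommRingCat.of K))] (Z : Y.IdealSheafData)
    {R : Type*} [CommRing R] (e : Γ(Z.subscheme, ⊤) →+* R) (he : Function.Injective e) (t : R)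
    (h : ∀ g : Γ(Z.subscheme, ⊤), ∃ a b : K, e g =
      e (Z.subschemeι.appTop (glb (Y ↘ Spec (CommRingCat.of K)) a)) +
      e (Z.subschemeι.appTop (glb (Y ↘ Spec (CommRingCat.of K)) b)) * t) :
    Module.finrank K (Coh.HH Y (ClSub.quotMod Z) 0) ≤ 2 := by
  let c : K →+* R := (e.comp (Z.subschemeι.appTop).hom).comp (glb (Y ↘ Spec (CommRingCat.of K)))
  let E : Coh.HH Y (ClSub.quotMod Z) 0 →+ R :=
    e.toAddMonoidHom.comp (HZero.equivAdd (ClSub.quotMod Z)).toAddMonoidHom
  refine finrank_le_two c E ?_ t ?_ ?_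
  · exact he.comp (HZero.equivAdd (ClSub.quotMod Z)).injective
  · intro a g
    have h1 := HZero.equivAdd_smul_over (ClSub.quotMod Z) a g
    change e (HZero.equivAdd (ClSub.quotMod Z) (a • g)) = _
    rw [h1]
    exact map_mul e (Z.subschemeι.appTop (glb (Y ↘ Spec (CommRingCat.of K)) a))
      (show Γ(Z.subscheme, ⊤) from HZero.equivAdd (ClSub.quotMod Z) g)
  · intro g
    exact h _


/-- the vanishing condition used throughout. -/
def VanShort (K : Type u) [Field K] (Y : Scheme.{u}) [Y.Over (Spec (CommRingCat.of K))] (M : Y.Modules) : Prop :=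
  ∀ Z : Y.IdealSheafData, (Z.support : Set Y).Finite → (∀ x ∈ Z.support, IsClosed ({x} : Set Y)) →
    topologicalKrullDim (Z.support : Set Y) ≤ 0 →
    Module.finrank K (Coh.HH Y (ClSub.quotMod Z) 0) ≤ 2 →
    Subsingleton (Coh.HH Y (CohB1.tensorMod (ClSub.idealMod Z) M) 1)

/-- For the reduced subscheme with points `x`, `y`, the space of functions has dimension `≤ 2`. -/
theorem finrank_two_points [Y.Over (Spec (CommRingCat.of K))]
    [LocallyOfFiniteType (Y ↘ Spec (CommRingCat.of K))] (x y : Y)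
    (hx : IsClosed ({x} : Set Y)) (hy : IsClosed ({y} : Set Y)) (Z : Y.IdealSheafData)
    [IsReduced Z.subscheme] (hZ : (Z.support : Set Y) = {x, y}) :
    Module.finrank K (Coh.HH Y (ClSub.quotMod Z) 0) ≤ 2 := by
  have hmem : ∀ w ∈ (Z.support : Set Y), ∃ z, Z.subschemeι z = w := by
    intro w hw
    rw [← Scheme.IdealSheafData.range_subschemeι] at hw
    exact hw
  obtain ⟨zx, hzx⟩ := hmem x (by rw [hZ]; simp)
  obtain ⟨zy, hzy⟩ := hmem y (by rw [hZ]; simp)
  have hinj : Function.Injective Z.subschemeι := Z.subschemeι.isClosedEmbedding.injective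
  have hz : ∀ z : Z.subscheme, z = zx ∨ z = zy := by
    intro z
    have h1 : Z.subschemeι z ∈ (Z.support : Set Y) := by
      rw [← Scheme.IdealSheafData.range_subschemeι]; exact ⟨z, rfl⟩
    rw [hZ] at h1
    rcases h1 with h1 | h1
    · exact Or.inl (hinj (h1.trans hzx.symm))
    · exact Or.inr (hinj (h1.trans hzy.symm))
  have hcl : ∀ (w : Y) (z : Z.subscheme), IsClosed ({w} : Set Y) → Z.subschemeι z = w →
      IsClosed ({z} : Set Z.subscheme) := by
    rintro _ z hw rfl
    have h1 : ({z} : Set Z.subscheme) = Z.subschemeι ⁻¹' {Z.subschemeι z} := by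
      ext z'
      simp [hinj.eq_iff]
    rw [h1]
    exact hw.preimage Z.subschemeι.continuous
  let fZ := Z.subschemeι ≫ (Y ↘ Spec (CommRingCat.of K))
  have hglb : ∀ a : K, glb fZ a = Z.subschemeι.appTop (glb (Y ↘ Spec (CommRingCat.of K)) a) := by
    intro a
    rfl
  let ev (z : Z.subscheme) : Γ(Z.subscheme, ⊤) →+* Z.subscheme.residueField z :=
    ((Z.subscheme.residue z).hom).comp (Z.subscheme.presheaf.germ ⊤ z trivial).hom
  have hev : ∀ (w : Y) (z : Z.subscheme), IsClosed ({w} : Set Y) → Z.subschemeι z = w →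
      ∀ g : Γ(Z.subscheme, ⊤), ∃ a : K,
        ev z g = ev z (Z.subschemeι.appTop (glb (Y ↘ Spec (CommRingCat.of K)) a)) := by
    intro w z hw hz g
    obtain ⟨a, ha⟩ := exists_const_sub_mem fZ z (hcl w z hw hz) (Z.subscheme.presheaf.germ ⊤ z trivial g)
    refine ⟨a, ?_⟩
    rw [← hglb]
    exact Ideal.Quotient.eq.2 ha
  let e : Γ(Z.subscheme, ⊤) →+* Z.subscheme.residueField zx × Z.subscheme.residueField zy :=
    (ev zx).prod (ev zy)
  refine finrank_quotMod_le K Z e ?_ (0, 1) ?_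
  · rw [injective_iff_map_eq_zero]
    intro g hg
    have h1 : ev zx g = 0 := congrArg Prod.fst hg
    have h2 : ev zy g = 0 := congrArg Prod.snd hg
    rw [← basicOpen_eq_bot_iff, Scheme.basicOpen_eq_bot_iff_forall_evaluation_eq_zero]
    rintro ⟨z, -⟩
    rcases hz z with rfl | rfl
    · exact h1
    · exact h2
  · intro g
    obtain ⟨a, ha⟩ := hev x zx hx hzx g
    obtain ⟨b, hb⟩ := hev y zy hy hzy (g - (Z.subschemeι.appTop (glb (Y ↘ Spec (CommRingCat.of K)) a)))
    refine ⟨a, b, ?_⟩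
    refine Prod.ext ?_ ?_
    · change ev zx g = ev zx _ + ev zx _ * 0
      rw [mul_zero, add_zero, ha]
    · change ev zy g = ev zy _ + ev zy _ * 1
      rw [mul_one, ← hb, map_sub]
      ring

open Groth.Agent.CurvesC.Gen in
/-- **Separation of points.** -/
theorem exists_sec_points [Y.Over (Spec (CommRingCat.of K))]
    [LocallyOfFiniteType (Y ↘ Spec (CommRingCat.of K))] (M : Y.Modules) (hM : PicF.IsInvertible M)
    (hB : VanShort K Y M) (x y : Y) (hx : IsClosed ({x} : Set Y)) (hy : IsClosed ({y} : Set Y)) :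
    ∃ s : Coh.structureModule Y ⟶ M, y ∈ CohB1.genLocus M s ∧ (x ≠ y → x ∉ CohB1.genLocus M s) := by
  let T : Closeds Y := ⟨{x, y}, by
    rw [Set.insert_eq]; exact hx.union hy⟩
  let Z := Scheme.IdealSheafData.vanishingIdeal T
  have : IsReduced Z.subscheme := Ega1.ReducedSub.isReduced_subscheme_vanishingIdeal T
  have hsupp : (Z.support : Set Y) = {x, y} := Scheme.IdealSheafData.coe_support_vanishingIdeal T
  have hcl : ∀ w ∈ Z.support, IsClosed ({w} : Set Y) := by
    intro w hw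
    have hw' : w ∈ (Z.support : Set Y) := hw
    rw [hsupp] at hw'
    rcases hw' with rfl | rfl
    · exact hx
    · exact hy
  have hfin : (Z.support : Set Y).Finite := by rw [hsupp]; simp
  have h1 := hB Z hfin hcl (topologicalKrullDim_le_zero hfin hcl)
    (finrank_two_points x y hx hy Z hsupp)
  obtain ⟨U0, hyU0, e0, he0⟩ := exists_isGen hM y
  -- complement of `x` if `x ≠ y`
  obtain ⟨W, hyW, hWx⟩ : ∃ W : Y.Opens, y ∈ W ∧ (x ≠ y → x ∉ W) := by
    by_cases hxy : x = y
    · exact ⟨⊤, trivial, fun h => absurd hxy h⟩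
    · exact ⟨⟨({x} : Set Y)ᶜ, hx.isOpen_compl⟩, fun h => hxy h.symm, fun _ h => h rfl⟩
  let U := U0 ⊓ W
  have hyU : y ∈ U := ⟨hyU0, hyW⟩
  let e := M.presheaf.map (homOfLE (inf_le_left : U ≤ U0)).op e0
  have he : IsGen M U e := he0.mono _
  obtain ⟨s, hs1, hs2⟩ := SepLift.exists_section Z hM h1 hy hyU (by
    intro w hw hwy hws
    have hw' : w ∈ (Z.support : Set Y) := hws
    rw [hsupp] at hw'
    rcases hw' with rfl | rfl
    · exact hWx hwy hw.2
    · exact hwy rfl) e
  refine ⟨ofSec s, ?_, ?_⟩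
  · obtain ⟨a, ha⟩ := he.exists_eq (sec (ofSec s) U)
    have h2 := hs1 U le_rfl e he a 1 (by rw [ha, sec_ofSec]; rfl) (by
      rw [one_smul]; exact map_self_section M le_rfl e)
    have h3 := notMem_basicOpen_of_app_eq_zero Z (x := y) (by
      change y ∈ (Z.support : Set Y); rw [hsupp]; simp) U (a - 1) h2
    rw [← germ_mem_maximalIdeal_iff hyU, map_sub, map_one] at h3
    have h4 : y ∈ Y.basicOpen a := by
      rw [Scheme.mem_basicOpen _ _ _ hyU]
      by_contra h5
      have h6 : (1 : Y.presheaf.stalk y) ∈ maximalIdeal (Y.presheaf.stalk y) := by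
        have h7 := (maximalIdeal (Y.presheaf.stalk y)).sub_mem ((mem_maximalIdeal _).2 h5) h3
        simpa using h7
      exact (Ideal.ne_top_iff_one _).1 (maximalIdeal.isMaximal _).ne_top h6
    rw [← genLocus_inf_eq_basicOpen he (ofSec s) ha] at h4
    exact h4.1
  · intro hxy hxs
    obtain ⟨V0, hxV0, e1, he1⟩ := exists_isGen hM x
    let V : Y.Opens := V0 ⊓ ⟨({y} : Set Y)ᶜ, hy.isOpen_compl⟩
    have hxV : x ∈ V := ⟨hxV0, hxy⟩
    have he2 : IsGen M V (M.presheaf.map (homOfLE (inf_le_left : V ≤ V0)).op e1) := he1.mono _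
    obtain ⟨a, ha⟩ := he2.exists_eq (sec (ofSec s) V)
    have h2 := hs2 V _ (fun h => h.2 rfl) he2 a (by rw [ha, sec_ofSec]; rfl)
    have h3 := notMem_basicOpen_of_app_eq_zero Z (x := x) (by
      change x ∈ (Z.support : Set Y); rw [hsupp]; simp) V a h2
    apply h3
    rw [← genLocus_inf_eq_basicOpen he2 (ofSec s) ha]
    exact ⟨hxs, hxV⟩


section Tangent

variable (x : Y) (q : Ideal (Y.presheaf.stalk x))

/-- `Spec (O_x / q) ⟶ Y`. -/
noncomputable def zq : Spec (CommRingCat.of (Y.presheaf.stalk x ⧸ q)) ⟶ Y :=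
  Spec.map (CommRingCat.ofHom (Ideal.Quotient.mk q)) ≫ Y.fromSpecStalk x

theorem zq_preimage {V : Y.Opens} (hx : x ∈ V) : (zq x q) ⁻¹ᵁ V = ⊤ := by
  rw [eq_top_iff]
  intro w _
  have h1 : (Y.fromSpecStalk x) (Spec.map (CommRingCat.ofHom (Ideal.Quotient.mk q)) w) ⤳ x := by
    have h2 : (Y.fromSpecStalk x) (Spec.map (CommRingCat.ofHom (Ideal.Quotient.mk q)) w) ∈
      Set.range (Y.fromSpecStalk x) := ⟨_, rfl⟩
    rwa [Scheme.range_fromSpecStalk] at h2
  exact h1.mem_open V.2 hx

theorem zq_appTop (b : Γ(Y, ⊤)) :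
    (Scheme.ΓSpecIso (CommRingCat.of (Y.presheaf.stalk x ⧸ q))).hom ((zq x q).appTop b) =
      Ideal.Quotient.mk q (Y.presheaf.germ ⊤ x trivial b) := by
  have h1 : (zq x q).appTop = Y.presheaf.germ ⊤ x trivial ≫
      CommRingCat.ofHom (Ideal.Quotient.mk q) ≫
        (Scheme.ΓSpecIso (CommRingCat.of (Y.presheaf.stalk x ⧸ q))).inv := by
    have h2 : (Y.fromSpecStalk x).appTop = Y.presheaf.germ ⊤ x trivial ≫
        (Scheme.ΓSpecIso (Y.presheaf.stalk x)).inv := by
      rw [Scheme.fromSpecStalk_appTop]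
      simp
    rw [zq, Scheme.Hom.comp_appTop, h2, Category.assoc, ← Scheme.ΓSpecIso_inv_naturality]
    rfl
  rw [h1, ← ConcreteCategory.comp_apply]
  simp only [Category.assoc, Iso.inv_hom_id, Category.comp_id]
  rfl

theorem zq_app_eq_zero_iff {V : Y.Opens} (hx : x ∈ V) (a : Γ(Y, V)) :
    (zq x q).app V a = 0 ↔ Y.presheaf.germ V x hx a ∈ q := by
  have h1 : (zq x q).app V = Y.presheaf.germ V x hx ≫
      CommRingCat.ofHom (Ideal.Quotient.mk q) ≫
        (Scheme.ΓSpecIso (CommRingCat.of (Y.presheaf.stalk x ⧸ q))).inv ≫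
          (Spec (CommRingCat.of (Y.presheaf.stalk x ⧸ q))).presheaf.map
            (homOfLE (le_top : (zq x q) ⁻¹ᵁ V ≤ ⊤)).op := by
    rw [zq, Scheme.Hom.comp_app, Scheme.fromSpecStalk_app hx]
    simp only [Category.assoc]
    congr 1
    rw [Scheme.Hom.naturality, ← Category.assoc, ← Category.assoc]
    erw [← Scheme.ΓSpecIso_inv_naturality]
    rfl
  have h2 : Function.Injective ((Scheme.ΓSpecIso (CommRingCat.of (Y.presheaf.stalk x ⧸ q))).inv ≫
          (Spec (CommRingCat.of (Y.presheaf.stalk x ⧸ q))).presheaf.map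
            (homOfLE (le_top : (zq x q) ⁻¹ᵁ V ≤ ⊤)).op) := by
    have h3 : IsIso (homOfLE (le_top : (zq x q) ⁻¹ᵁ V ≤ ⊤)) :=
      ⟨homOfLE (zq_preimage x q hx).ge, rfl, rfl⟩
    exact (ConcreteCategory.bijective_of_isIso _).1
  rw [h1]
  have h4 := map_eq_zero_iff _ h2 (x := Ideal.Quotient.mk q (Y.presheaf.germ V x hx a))
  rw [← Ideal.Quotient.eq_zero_iff_mem]
  exact h4

theorem zq_apply (hsq : ∀ a ∈ maximalIdeal (Y.presheaf.stalk x), a * a ∈ q)
    (w : Spec (CommRingCat.of (Y.presheaf.stalk x ⧸ q))) : zq x q w = x := by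
  have h1 : Spec.map (CommRingCat.ofHom (Ideal.Quotient.mk q)) w = closedPoint (Y.presheaf.stalk x) := by
    apply PrimeSpectrum.ext
    change Ideal.comap (Ideal.Quotient.mk q) w.asIdeal = maximalIdeal (Y.presheaf.stalk x)
    have h2 : maximalIdeal (Y.presheaf.stalk x) ≤ Ideal.comap (Ideal.Quotient.mk q) w.asIdeal := by
      intro a ha
      rw [Ideal.mem_comap]
      have h3 : Ideal.Quotient.mk q a * Ideal.Quotient.mk q a ∈ w.asIdeal := by
        rw [← map_mul, Ideal.Quotient.eq_zero_iff_mem.2 (hsq a ha)]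
        exact w.asIdeal.zero_mem
      rcases w.2.mem_or_mem h3 with h | h <;> exact h
    exact ((maximalIdeal.isMaximal _).eq_of_le
      (Ideal.IsPrime.ne_top (Ideal.comap_isPrime (Ideal.Quotient.mk q) w.asIdeal)) h2).symm
  change (Y.fromSpecStalk x) (Spec.map (CommRingCat.ofHom (Ideal.Quotient.mk q)) w) = x
  rw [h1]
  exact Scheme.fromSpecStalk_closedPoint

theorem support_ker_zq [QuasiCompact (zq x q)] (hq : q ≤ maximalIdeal (Y.presheaf.stalk x))
    (hsq : ∀ a ∈ maximalIdeal (Y.presheaf.stalk x), a * a ∈ q) (hx : IsClosed ({x} : Set Y)) :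
    ((zq x q).ker.support : Set Y) = {x} := by
  have h0 : Nontrivial (Y.presheaf.stalk x ⧸ q) := Ideal.Quotient.nontrivial_iff.2 fun h => by
    rw [h] at hq
    exact (maximalIdeal.isMaximal (Y.presheaf.stalk x)).ne_top (top_le_iff.1 hq)
  obtain ⟨w⟩ : Nonempty (Spec (CommRingCat.of (Y.presheaf.stalk x ⧸ q))) :=
    inferInstanceAs (Nonempty (PrimeSpectrum (Y.presheaf.stalk x ⧸ q)))
  rw [Scheme.Hom.support_ker]
  have h1 : Set.range (zq x q) = {x} := by
    ext y
    constructor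
    · rintro ⟨w, rfl⟩
      exact zq_apply x q hsq w
    · rintro rfl
      exact ⟨w, zq_apply _ q hsq w⟩
  rw [h1, hx.closure_eq]

theorem finrank_tangent [Y.Over (Spec (CommRingCat.of K))] [QuasiCompact (zq x q)] (t : Y.presheaf.stalk x)
    (h : ∀ r : Y.presheaf.stalk x, ∃ a b : K,
      r - (Y.presheaf.germ ⊤ x trivial (glb (Y ↘ Spec (CommRingCat.of K)) a) +
        Y.presheaf.germ ⊤ x trivial (glb (Y ↘ Spec (CommRingCat.of K)) b) * t) ∈ q) :
    Module.finrank K (Coh.HH Y (ClSub.quotMod (zq x q).ker) 0) ≤ 2 := by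
  let e : Γ((zq x q).ker.subscheme, ⊤) →+* (Y.presheaf.stalk x ⧸ q) :=
    (Scheme.ΓSpecIso (CommRingCat.of (Y.presheaf.stalk x ⧸ q))).hom.hom.comp ((zq x q).toImage.appTop).hom
  have he : Function.Injective e := by
    refine Function.Injective.comp (g := (Scheme.ΓSpecIso (CommRingCat.of (Y.presheaf.stalk x ⧸ q))).hom)
      (ConcreteCategory.bijective_of_isIso _).1 ?_
    exact Smoothlim.ConormalRes.toImage_app_injective (zq x q) ⊤
  have hcomp : ∀ b : Γ(Y, ⊤), e ((zq x q).ker.subschemeι.appTop b) =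
      Ideal.Quotient.mk q (Y.presheaf.germ ⊤ x trivial b) := by
    intro b
    rw [← zq_appTop]
    change (Scheme.ΓSpecIso (CommRingCat.of (Y.presheaf.stalk x ⧸ q))).hom
      ((zq x q).toImage.appTop ((zq x q).imageι.appTop b)) = _
    congr 1
    have h1 := Scheme.Hom.comp_appTop (zq x q).toImage (zq x q).imageι
    have h2 : ((zq x q).toImage ≫ (zq x q).imageι).appTop = (zq x q).appTop := by
      rw [Scheme.Hom.toImage_imageι]
    rw [h2] at h1
    rw [h1]
    rfl
  refine finrank_quotMod_le K _ e he (Ideal.Quotient.mk q t) ?_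
  intro g
  obtain ⟨r, hr⟩ := Ideal.Quotient.mk_surjective (e g)
  obtain ⟨a, b, hab⟩ := h r
  refine ⟨a, b, ?_⟩
  rw [hcomp, hcomp, ← hr, ← map_mul, ← map_add]
  exact Ideal.Quotient.eq.2 hab

end Tangent

open Groth.Agent.CurvesC.Gen in
/-- **Separation of tangent vectors.** -/
theorem exists_sec_tangent [Y.Over (Spec (CommRingCat.of K))] [IsLocallyNoetherian Y]
    [LocallyOfFiniteType (Y ↘ Spec (CommRingCat.of K))] (M : Y.Modules) (hM : PicF.IsInvertible M)
    (hB : VanShort K Y M) (x : Y) (hx : IsClosed ({x} : Set Y)) (I : Ideal (Y.presheaf.stalk x))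
    (hI : I < maximalIdeal (Y.presheaf.stalk x)) :
    ∃ (V : Y.Opens) (hxV : x ∈ V) (e : Γ(M, V)) (s : Coh.structureModule Y ⟶ M) (a : Γ(Y, V)),
      IsGen M V e ∧ a • e = sec s V ∧ Y.presheaf.germ V x hxV a ∈ maximalIdeal (Y.presheaf.stalk x) ∧
      Y.presheaf.germ V x hxV a ∉ I := by
  let c : K →+* Y.presheaf.stalk x :=
    (Y.presheaf.germ ⊤ x trivial).hom.comp (glb (Y ↘ Spec (CommRingCat.of K)))
  obtain ⟨q, hIq, hqm, hsq, t, htm, htq, hq⟩ := exists_hyperplane c
    (exists_const_sub_mem (Y ↘ Spec (CommRingCat.of K)) x hx) I hI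
  have hqc : QuasiCompact (zq x q) := by
    have : TopologicalSpace.NoetherianSpace (Spec (CommRingCat.of (Y.presheaf.stalk x ⧸ q))) :=
      inferInstanceAs (TopologicalSpace.NoetherianSpace (PrimeSpectrum (Y.presheaf.stalk x ⧸ q)))
    infer_instance
  have hsupp := support_ker_zq x q hqm hsq hx
  have hcl : ∀ w ∈ (zq x q).ker.support, IsClosed ({w} : Set Y) := by
    intro w hw
    have hw' : w ∈ ((zq x q).ker.support : Set Y) := hw
    rw [hsupp] at hw'
    obtain rfl := hw'
    exact hx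
  have hfin : ((zq x q).ker.support : Set Y).Finite := by rw [hsupp]; simp
  have h1 := hB (zq x q).ker hfin hcl (topologicalKrullDim_le_zero hfin hcl)
    (finrank_tangent x q t hq)
  obtain ⟨U0, hxU0, e0, he0⟩ := exists_isGen hM x
  obtain ⟨U1, hxU1, t1, ht1⟩ := Y.presheaf.exists_germ_eq t
  let U := U0 ⊓ U1
  have hxU : x ∈ U := ⟨hxU0, hxU1⟩
  let e := M.presheaf.map (homOfLE (inf_le_left : U ≤ U0)).op e0
  have he : IsGen M U e := he0.mono _
  let t2 : Γ(Y, U) := Y.presheaf.map (homOfLE (inf_le_right : U ≤ U1)).op t1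
  have ht2 : Y.presheaf.germ U x hxU t2 = t := by
    rw [← ht1]
    exact Y.presheaf.germ_res_apply (homOfLE (inf_le_right : U ≤ U1)) x hxU t1
  obtain ⟨s, hs1, -⟩ := SepLift.exists_section (zq x q).ker hM h1 hx hxU (by
    intro w hw hwx hws
    have hw' : w ∈ ((zq x q).ker.support : Set Y) := hws
    rw [hsupp] at hw'
    exact hwx hw') (t2 • e)
  obtain ⟨a, ha⟩ := he.exists_eq (sec (ofSec s) U)
  have h2 := hs1 U le_rfl e he a t2 (by rw [ha, sec_ofSec]; rfl) (map_self_section M le_rfl _)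
  have h3 : (zq x q).app U (a - t2) = 0 :=
    (Smoothlim.ConormalRes.app_eq_zero_iff_imageι (zq x q) U (a - t2)).2 h2
  rw [zq_app_eq_zero_iff x q hxU, map_sub, ht2] at h3
  refine ⟨U, hxU, e, ofSec s, a, he, ha, ?_, ?_⟩
  · have h4 := (maximalIdeal (Y.presheaf.stalk x)).add_mem (hqm h3) htm
    simpa using h4
  · intro h4
    apply htq
    have h5 := q.sub_mem (hIq h4) h3
    simpa using h5

end Geo

end Groth.Agent.CurvesB.SepPoints
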