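import Groth.Agent.CurvesB.TateLam
import Groth.Agent.Ega41.Cartier2
import Mathlib.RingTheory.DedekindDomain.Basic
import Mathlib.RingTheory.Spectrum.Prime.FreeLocus
import Mathlib.RingTheory.Flat.TorsionFree
import Mathlib.RingTheory.Jacobson.Ring

/-!
# Algebra of smooth curves: finite-dimensional quotients, almost stability, rank one differentials
-/

set_option autoImplicit false
set_option linter.style.haveILetI false

universe u

namespace Groth.Agent.CurvesB.SmoothCurveAlg

open Module KaehlerDifferential

section Quot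

variable {k D : Type*} [Field k] [CommRing D] [Algebra k D]

/-- In a Noetherian one-dimensional `k`-algebra with residue fields finite over `k`, quotients by
nonzero ideals are finite-dimensional. -/
theorem finite_quotient [IsNoetherianRing D] [Ring.DimensionLEOne D]
    (hres : ∀ p : Ideal D, p.IsMaximal → Module.Finite k (D ⧸ p)) {I : Ideal D} (hI : I ≠ ⊥) :
    Module.Finite k (D ⧸ I) := by
  have key : ∀ J : Ideal D, J ≠ ⊥ → Module.Finite k (D ⧸ J) := by
    intro J
    refine WellFounded.induction (C := fun J : Ideal D => J ≠ ⊥ → Module.Finite k (D ⧸ J))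
      (wellFounded_gt (α := Ideal D)) J ?_
    intro J ih hJ
    by_cases hJT : J = ⊤
    · subst hJT
      have : Subsingleton (D ⧸ (⊤ : Ideal D)) := Ideal.Quotient.subsingleton_iff.mpr rfl
      infer_instance
    by_cases hJP : J.IsPrime
    · exact hres J (Ring.DimensionLEOne.maximalOfPrime hJ hJP)
    · obtain ⟨a, b, hab, ha, hb⟩ : ∃ a b : D, a * b ∈ J ∧ a ∉ J ∧ b ∉ J := by
        by_contra hcon
        push Not at hcon
        exact hJP ⟨hJT, fun {x y} hxy => by
          by_contra h
          push Not at h
          exact h.2 (hcon x y hxy h.1)⟩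
      let J1 : Ideal D := J ⊔ Ideal.span {a}
      let J2 : Ideal D := J ⊔ Ideal.span {b}
      have h1 : J < J1 := lt_of_le_of_ne le_sup_left (fun h => ha (by
        rw [h]; exact Ideal.mem_sup_right (Ideal.mem_span_singleton_self a)))
      have h2 : J < J2 := lt_of_le_of_ne le_sup_left (fun h => hb (by
        rw [h]; exact Ideal.mem_sup_right (Ideal.mem_span_singleton_self b)))
      haveI hf1 : Module.Finite k (D ⧸ J1) := ih J1 h1 (ne_bot_of_le_ne_bot hJ h1.le)
      haveI hf2 : Module.Finite k (D ⧸ J2) := ih J2 h2 (ne_bot_of_le_ne_bot hJ h2.le)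
      -- multiplication by `a`
      let m : (D ⧸ J2) →ₗ[k] (D ⧸ J) :=
        (Submodule.mapQ J2 J (LinearMap.mulLeft D a) (by
          refine sup_le ?_ ?_
          · intro x hx
            exact J.mul_mem_left a hx
          · rw [Ideal.span_le, Set.singleton_subset_iff]
            exact hab)).restrictScalars k
      haveI : Module.Finite k (LinearMap.range m) := inferInstance
      have hq : Module.Finite k ((D ⧸ J) ⧸ LinearMap.range m) := by
        let q : (D ⧸ J1) →ₗ[k] ((D ⧸ J) ⧸ LinearMap.range m) :=
          Submodule.liftQ (J1.restrictScalars k)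
            ((LinearMap.range m).mkQ ∘ₗ (Ideal.Quotient.mkₐ k J).toLinearMap) (by
              intro x hx
              rw [Submodule.restrictScalars_mem, Submodule.mem_sup] at hx
              obtain ⟨y, hy, z, hz, rfl⟩ := hx
              obtain ⟨c, rfl⟩ := Ideal.mem_span_singleton'.mp hz
              rw [LinearMap.mem_ker]
              simp only [LinearMap.comp_apply, AlgHom.toLinearMap_apply, Ideal.Quotient.mkₐ_eq_mk,
                map_add]
              rw [Ideal.Quotient.eq_zero_iff_mem.mpr hy, map_zero, zero_add,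
                Submodule.mkQ_apply, Submodule.Quotient.mk_eq_zero]
              exact ⟨Ideal.Quotient.mk _ c, congrArg (Ideal.Quotient.mk J) (mul_comm a c)⟩)
        refine Module.Finite.of_surjective q ?_
        rintro ⟨⟨x⟩⟩
        exact ⟨Ideal.Quotient.mk _ x, rfl⟩
      exact Module.Finite.of_submodule_quotient (LinearMap.range m)
  exact key I hI

/-- Residue fields of finite type algebras over a field are finite. -/
theorem finite_quotient_isMaximal [Algebra.FiniteType k D] (p : Ideal D) (hp : p.IsMaximal) :
    Module.Finite k (D ⧸ p) := by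
  letI := Ideal.Quotient.field p
  exact finite_of_finite_type_of_isJacobsonRing k (D ⧸ p)

end Quot

section Stable

open TateLam

variable {k D K : Type*} [Field k] [CommRing D] [IsDomain D] [Algebra k D] [Field K] [Algebra k K]
  [Algebra D K] [IsScalarTower k D K] [IsFractionRing D K]

theorem almostStable_range (h : ∀ b : D, b ≠ 0 → Module.Finite k (D ⧸ Ideal.span {b})) :
    AlmostStable (LinearMap.range (IsScalarTower.toAlgHom k D K).toLinearMap) := by
  intro f
  obtain ⟨a, b, hb, rfl⟩ := IsFractionRing.div_surjective (A := D) f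
  have hb0 : b ≠ 0 := nonZeroDivisors.ne_zero hb
  have hbK : algebraMap D K b ≠ 0 := by
    rw [Ne, IsFractionRing.to_map_eq_zero_iff (K := K)]
    exact hb0
  haveI := h b hb0
  obtain ⟨E, hE⟩ := Submodule.exists_isCompl ((Ideal.span {b}).restrictScalars k)
  haveI : Module.Finite k (D ⧸ (Ideal.span {b}).restrictScalars k) := h b hb0
  haveI : FiniteDimensional k E := Module.Finite.equiv (Submodule.quotientEquivOfIsCompl _ _ hE)
  refine ⟨E.map (LinearMap.mulLeft k (algebraMap D K a / algebraMap D K b) ∘ₗ
    (IsScalarTower.toAlgHom k D K).toLinearMap), inferInstance, ?_⟩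
  rintro _ ⟨d, rfl⟩
  have hd : d ∈ (Ideal.span {b}).restrictScalars k ⊔ E := by
    rw [hE.sup_eq_top]
    trivial
  obtain ⟨y, hy, z, hz, rfl⟩ := Submodule.mem_sup.mp hd
  obtain ⟨c, rfl⟩ := Ideal.mem_span_singleton'.mp hy
  rw [map_add, mul_add]
  refine Submodule.add_mem_sup ⟨a * c, ?_⟩ ⟨z, hz, rfl⟩
  change algebraMap D K (a * c) = algebraMap D K a / algebraMap D K b * algebraMap D K (c * b)
  rw [map_mul, map_mul]
  field_simp

end Stable

section Rank

theorem finrank_kaehler_eq_trdeg (K L : Type u) [Field K] [Field L] [Algebra K L]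
    [Algebra.EssFiniteType K L] [Algebra.FormallySmooth K L] :
    finrank L Ω[L⁄K] = Cardinal.toNat (Algebra.trdeg K L) := by
  obtain ⟨-, -, -, h⟩ := Groth.Agent.Ega41.Cartier2.cartier (K := K) (L := L)
  have hker : LinearMap.ker (mapBaseChange ℤ K L) = ⊥ := by
    rw [Submodule.eq_bot_iff]
    intro x hx
    have h1 := (Algebra.H1Cotangent.exact_δ_mapBaseChange ℤ K L x).mp hx
    obtain ⟨y, rfl⟩ := h1
    have : Subsingleton (Algebra.H1Cotangent K L) := inferInstance
    rw [Subsingleton.elim y 0, map_zero]
  rw [hker, (Groth.Agent.Ega41.Cartier2.cokerEquiv K L).finrank_eq] at h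
  simpa using h


theorem finrank_eq_of_isFractionRing (k D K : Type*) [CommRing k] [CommRing D] [IsDomain D] [Algebra k D]
    [Field K] [Algebra k K] [Algebra D K] [IsScalarTower k D K] [IsFractionRing D K] :
    finrank K Ω[K⁄k] = finrank D Ω[D⁄k] :=
  haveI : IsLocalizedModule (nonZeroDivisors D) (KaehlerDifferential.map k k D K) :=
    KaehlerDifferential.isLocalizedModule_map _ _ _ (nonZeroDivisors D)
  ((isLocalizedModule_iff_isBaseChange (nonZeroDivisors D) K
    (KaehlerDifferential.map k k D K)).mp inferInstance).finrank_eq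

/-- If `D` is formally smooth over `k` then `Ω[D⁄k]` embeds in `Ω[K⁄k]`. -/
theorem injective_map_kaehler (k D K : Type*) [CommRing k] [CommRing D] [IsDomain D] [Algebra k D]
    [Field K] [Algebra k K] [Algebra D K] [IsScalarTower k D K] [IsFractionRing D K]
    [Algebra.FormallySmooth k D] : Function.Injective (KaehlerDifferential.map k k D K) := by
  haveI : IsLocalizedModule (nonZeroDivisors D) (KaehlerDifferential.map k k D K) :=
    KaehlerDifferential.isLocalizedModule_map _ _ _ (nonZeroDivisors D)
  intro x y hxy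
  obtain ⟨c, hc⟩ := (IsLocalizedModule.eq_iff_exists (nonZeroDivisors D)
    (KaehlerDifferential.map k k D K)).mp hxy
  exact smul_right_injective _ (nonZeroDivisors.ne_zero c.2) hc

/-- A finite projective module of rank at most one over a domain is locally cyclic. -/
theorem exists_cyclic_at {D M : Type*} [CommRing D] [IsDomain D] [AddCommGroup M] [Module D M]
    [Module.Finite D M] [Module.Projective D M] (h : finrank D M ≤ 1) (p : Ideal D) [hp : p.IsPrime] :
    ∃ ω₀ : M, ∀ ω : M, ∃ s : D, s ∉ p ∧ ∃ a : D, s • ω = a • ω₀ := by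
  have h1 : finrank (Localization.AtPrime p) (LocalizedModule p.primeCompl M) ≤ 1 := by
    have h2 := p.finrank_fiber_eq_finrank (M := M)
    rw [p.finrank_fiber_eq_rankAtStalk, rankAtStalk] at h2
    exact h2.le.trans h
  haveI : Module.Projective (Localization.AtPrime p) (LocalizedModule p.primeCompl M) :=
    inferInstance
  haveI : Module.Free (Localization.AtPrime p) (LocalizedModule p.primeCompl M) :=
    free_of_flat_of_isLocalRing
  obtain ⟨v, hv⟩ := finrank_le_one_iff.mp h1
  obtain ⟨⟨m, t⟩, hm⟩ := IsLocalizedModule.mk'_surjective p.primeCompl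
    (LocalizedModule.mkLinearMap p.primeCompl M) v
  refine ⟨m, fun ω => ?_⟩
  obtain ⟨c, hc⟩ := hv (LocalizedModule.mkLinearMap p.primeCompl M ω)
  obtain ⟨a, s, rfl⟩ := IsLocalization.exists_mk'_eq p.primeCompl c
  rw [← hm] at hc
  change IsLocalization.mk' _ a s • IsLocalizedModule.mk' _ m t = _ at hc
  rw [IsLocalizedModule.mk'_smul_mk', ← IsLocalizedModule.mk'_one p.primeCompl,
    IsLocalizedModule.mk'_eq_mk'_iff] at hc
  obtain ⟨u, hu⟩ := hc
  refine ⟨u * (s * t), ?_, u * a, ?_⟩
  · exact (u * (s * t) : p.primeCompl).2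
  · simp only [one_smul, Submonoid.smul_def, Submonoid.coe_mul] at hu
    rw [mul_smul, hu, mul_smul]

end Rank

end Groth.Agent.CurvesB.SmoothCurveAlg
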