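import Groth.Agent.CurvesB.SmoothCurveAlg
import Groth.Agent.CurvesB.OmegaStalkDict
import Groth.Agent.Picfga.CurveP1
import Groth.Agent.CalgC.DimFT

/-!
# Facts on smooth integral curves over a field

`f : X ⟶ Spec k` smooth, `X` integral of Krull dimension one: local rings at closed points are DVRs,
affine opens are Dedekind domains with residue fields finite over `k`, differentials have rank one.
-/

set_option autoImplicit false
set_option linter.style.haveILetI false
universe u

open CategoryTheory CategoryTheory.Limits AlgebraicGeometry Opposite TopologicalSpace Module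

namespace Groth.Agent.CurvesB.SmoothCurveFacts

open Groth.Agent.CurvesB.OmegaStalkDict Groth.Agent.CurvesB.SmoothCurveAlg Algebra

section General

variable {A : Type u} [CommRing A] {X : Scheme.{u}} (f : X ⟶ Spec (CommRingCat.of A))

theorem secHom_eq_comp (U : X.Opens) : secHom f U =
    (f.appLE ⊤ U le_top).hom.comp (Scheme.ΓSpecIso (CommRingCat.of A)).inv.hom := by
  ext a
  exact secHom_eq f U a

theorem smooth_secHom [Smooth f] {U : X.Opens} (hU : IsAffineOpen U) : (secHom f U).Smooth := by
  have h := f.smooth_appLE (isAffineOpen_top _) hU le_top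
  rw [secHom_eq_comp]
  exact (RingHom.Smooth.respectsIso).2 _ (Scheme.ΓSpecIso (CommRingCat.of A)).symm.commRingCatIsoToRingEquiv h

theorem finiteType_secHom [LocallyOfFiniteType f] {U : X.Opens} (hU : IsAffineOpen U) :
    (secHom f U).FiniteType := by
  have h := f.finiteType_appLE (isAffineOpen_top _) hU le_top
  rw [secHom_eq_comp]
  exact (RingHom.finiteType_respectsIso).2 _ (Scheme.ΓSpecIso (CommRingCat.of A)).symm.commRingCatIsoToRingEquiv h

theorem tower_sec_st {U : X.Opens} (x : U) :
    letI := secAlg f U
    letI := stAlg f x.1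
    IsScalarTower A Γ(X, U) (X.presheaf.stalk x.1) := by
  letI := secAlg f U
  letI := stAlg f x.1
  refine IsScalarTower.of_algebraMap_eq fun a => ?_
  exact (germ_secHom f U x.1 x.2 a).symm

theorem formallySmooth_stalk_aux [Smooth f] {U : X.Opens} (hU : IsAffineOpen U) (x : U) :
    letI := stAlg f x.1
    Algebra.FormallySmooth A (X.presheaf.stalk x.1) := by
  letI := secAlg f U
  letI := stAlg f x.1
  haveI := tower_sec_st f x
  haveI : Algebra.Smooth A Γ(X, U) := smooth_secHom f hU
  haveI := hU.isLocalization_stalk x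
  haveI : Algebra.FormallySmooth Γ(X, U) (X.presheaf.stalk x.1) :=
    Algebra.FormallySmooth.of_isLocalization (hU.primeIdealOf x).asIdeal.primeCompl
  exact Algebra.FormallySmooth.comp A Γ(X, U) (X.presheaf.stalk x.1)

theorem formallySmooth_stalk [Smooth f] (x : X) :
    letI := stAlg f x
    Algebra.FormallySmooth A (X.presheaf.stalk x) := by
  obtain ⟨_, ⟨U, hU, rfl⟩, hxU, -⟩ :=
    X.isBasis_affineOpens.exists_subset_of_mem_open (Set.mem_univ x) isOpen_univ
  exact formallySmooth_stalk_aux f hU ⟨x, hxU⟩

theorem essFiniteType_stalk_aux [LocallyOfFiniteType f] {U : X.Opens} (hU : IsAffineOpen U) (x : U) :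
    letI := stAlg f x.1
    Algebra.EssFiniteType A (X.presheaf.stalk x.1) := by
  letI := secAlg f U
  letI := stAlg f x.1
  haveI := tower_sec_st f x
  haveI : Algebra.FiniteType A Γ(X, U) := finiteType_secHom f hU
  haveI := hU.isLocalization_stalk x
  haveI : Algebra.EssFiniteType Γ(X, U) (X.presheaf.stalk x.1) :=
    Algebra.EssFiniteType.of_isLocalization _ (hU.primeIdealOf x).asIdeal.primeCompl
  exact Algebra.EssFiniteType.comp A Γ(X, U) (X.presheaf.stalk x.1)

theorem essFiniteType_stalk [LocallyOfFiniteType f] (x : X) :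
    letI := stAlg f x
    Algebra.EssFiniteType A (X.presheaf.stalk x) := by
  obtain ⟨_, ⟨U, hU, rfl⟩, hxU, -⟩ :=
    X.isBasis_affineOpens.exists_subset_of_mem_open (Set.mem_univ x) isOpen_univ
  exact essFiniteType_stalk_aux f hU ⟨x, hxU⟩

variable [IsIntegral X]

theorem tower_sec (U : X.Opens) [Nonempty U] :
    letI := secAlg f U
    letI := stAlg f (genericPoint X)
    IsScalarTower A Γ(X, U) X.functionField := by
  letI := secAlg f U
  letI := stAlg f (genericPoint X)
  refine IsScalarTower.of_algebraMap_eq fun a => ?_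
  exact (germ_secHom f U (genericPoint X) _ a).symm

theorem tower_st (x : X) :
    letI := stAlg f x
    letI := stAlg f (genericPoint X)
    IsScalarTower A (X.presheaf.stalk x) X.functionField := by
  letI := stAlg f x
  letI := stAlg f (genericPoint X)
  refine IsScalarTower.of_algebraMap_eq fun a => ?_
  change stHom f (genericPoint X) a = algebraMap _ _ (stHom f x a)
  rw [← germ_secHom f ⊤ x trivial a, ← germ_secHom f ⊤ (genericPoint X) trivial a]
  haveI : Nonempty (⊤ : X.Opens) := ⟨⟨x, trivial⟩⟩
  exact (Scheme.algebraMap_germ_eq_germToFunctionField X (U := ⊤) (x := x) trivial _).symm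

end General

section Points

variable {X : Scheme.{u}} [IsIntegral X]

theorem not_isField_stalk {x : X} (hx : x ≠ genericPoint X) : ¬ IsField (X.presheaf.stalk x) := by
  intro h
  apply hx
  have h1 : genericPoint X ∈ Set.range (X.fromSpecStalk x) := by
    rw [Scheme.range_fromSpecStalk]
    exact genericPoint_specializes x
  obtain ⟨P, hP⟩ := h1
  letI := h.toField
  have h2 : P = IsLocalRing.closedPoint (X.presheaf.stalk x) :=
    (inferInstance : Subsingleton (PrimeSpectrum (X.presheaf.stalk x))).elim _ _
  rw [← hP, h2, Scheme.fromSpecStalk_closedPoint]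

omit [IsIntegral X] in
theorem exists_point {U : X.Opens} (hU : IsAffineOpen U) (P : Ideal Γ(X, U)) (hP : P.IsPrime) :
    ∃ x : U, (hU.primeIdealOf x).asIdeal = P := by
  have h1 : hU.fromSpec (⟨P, hP⟩ : PrimeSpectrum Γ(X, U)) ∈ U := by
    have : hU.fromSpec (⟨P, hP⟩ : PrimeSpectrum Γ(X, U)) ∈ Set.range hU.fromSpec := ⟨_, rfl⟩
    rwa [hU.range_fromSpec] at this
  refine ⟨⟨_, h1⟩, ?_⟩
  have h2 : hU.primeIdealOf ⟨_, h1⟩ = (⟨P, hP⟩ : PrimeSpectrum Γ(X, U)) := by
    apply hU.fromSpec.isOpenEmbedding.injective
    exact hU.fromSpec_primeIdealOf ⟨_, h1⟩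
  rw [h2]

theorem ne_genericPoint_of_ne_bot {U : X.Opens} (hU : IsAffineOpen U) (x : U)
    (h : (hU.primeIdealOf x).asIdeal ≠ ⊥) : x.1 ≠ genericPoint X := by
  intro hx
  haveI : Nonempty U := ⟨x⟩
  obtain ⟨a, ha, ha0⟩ := Submodule.exists_mem_ne_zero_of_ne_bot h
  haveI := hU.isLocalization_stalk x
  have h1 := (IsLocalization.AtPrime.isUnit_to_map_iff (X.presheaf.stalk x.1)
    (hU.primeIdealOf x).asIdeal a).not.mpr (fun h => h ha)
  obtain ⟨x, hxU⟩ := x
  dsimp only at hx
  subst hx
  apply h1
  have h2 : X.germToFunctionField U a ≠ 0 := by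
    rw [Ne, ← map_zero (X.germToFunctionField U).hom]
    exact fun h => ha0 (X.germToFunctionField_injective U h)
  exact isUnit_iff_ne_zero.mpr h2

end Points

section Curve

variable {k : Type u} [Field k] {X : Scheme.{u}} [IsIntegral X] (f : X ⟶ Spec (CommRingCat.of k))

omit [IsIntegral X] in
theorem isNoetherianRing_stalk [LocallyOfFiniteType f] (x : X) :
    IsNoetherianRing (X.presheaf.stalk x) := by
  haveI : IsLocallyNoetherian X := LocallyOfFiniteType.isLocallyNoetherian f
  infer_instance

omit [IsIntegral X] in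
theorem isNoetherianRing_sec [LocallyOfFiniteType f] {U : X.Opens} (hU : IsAffineOpen U) :
    IsNoetherianRing Γ(X, U) := by
  haveI : IsLocallyNoetherian X := LocallyOfFiniteType.isLocallyNoetherian f
  exact IsLocallyNoetherian.component_noetherian ⟨U, hU⟩

/-- (f1) -/
theorem isDiscreteValuationRing_stalk [Smooth f] (hdim : topologicalKrullDim X ≤ 1) {x : X}
    (hx : x ≠ genericPoint X) : IsDiscreteValuationRing (X.presheaf.stalk x) := by
  haveI := isNoetherianRing_stalk f x
  exact ((IsDiscreteValuationRing.TFAE _ (not_isField_stalk hx)).out 0 1).mpr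
    (Picfga.CurvePts.valuationRing_stalk f hdim x)

theorem isMaximal_primeIdealOf (hdim : topologicalKrullDim X ≤ 1) {U : X.Opens}
    (hU : IsAffineOpen U) (x : U) (hx : x.1 ≠ genericPoint X) :
    (hU.primeIdealOf x).asIdeal.IsMaximal :=
  hU.primeIdealOf_isMaximal_of_isClosed x (Picfga.CurvePts.isClosed_singleton_of_dim_le_one hdim hx)

theorem dimensionLEOne_sec (hdim : topologicalKrullDim X ≤ 1) {U : X.Opens}
    (hU : IsAffineOpen U) : Ring.DimensionLEOne Γ(X, U) := by
  refine ⟨fun {P} hP hP' => ?_⟩
  obtain ⟨x, rfl⟩ := exists_point hU P hP'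
  exact isMaximal_primeIdealOf hdim hU x (ne_genericPoint_of_ne_bot hU x hP)

/-- (f2) -/
theorem isDedekindDomain_sec [Smooth f] (hdim : topologicalKrullDim X ≤ 1) {U : X.Opens}
    (hU : IsAffineOpen U) [Nonempty U] : IsDedekindDomain Γ(X, U) := by
  haveI := isNoetherianRing_sec f hU
  haveI : IsDedekindDomainDvr Γ(X, U) := by
    refine { is_dvr_at_nonzero_prime := fun P hP hP' => ?_ }
    obtain ⟨x, rfl⟩ := exists_point hU P hP'
    haveI := isDiscreteValuationRing_stalk f hdim (ne_genericPoint_of_ne_bot hU x hP)
    haveI := hU.isLocalization_stalk x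
    let e := IsLocalization.algEquiv (hU.primeIdealOf x).asIdeal.primeCompl
      (Localization.AtPrime (hU.primeIdealOf x).asIdeal) (X.presheaf.stalk x.1)
    exact IsDiscreteValuationRing.RingEquivClass.isDiscreteValuationRing e.symm
  infer_instance

omit [IsIntegral X] in
/-- Residue fields at closed points of an affine open are finite over `k`. -/
theorem finite_quotient_sec [LocallyOfFiniteType f] {U : X.Opens} (hU : IsAffineOpen U) :
    letI := secAlg f U
    ∀ p : Ideal Γ(X, U), p.IsMaximal → Module.Finite k (Γ(X, U) ⧸ p) := by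
  letI := secAlg f U
  haveI : Algebra.FiniteType k Γ(X, U) := finiteType_secHom f hU
  exact fun p hp => finite_quotient_isMaximal p hp

theorem finite_quotient_sec_of_ne_bot [LocallyOfFiniteType f] (hdim : topologicalKrullDim X ≤ 1)
    {U : X.Opens} (hU : IsAffineOpen U) :
    letI := secAlg f U
    ∀ I : Ideal Γ(X, U), I ≠ ⊥ → Module.Finite k (Γ(X, U) ⧸ I) := by
  letI := secAlg f U
  haveI := isNoetherianRing_sec f hU
  haveI := dimensionLEOne_sec hdim hU
  exact fun I hI => finite_quotient (finite_quotient_sec f hU) hI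

omit [IsIntegral X] in
theorem finite_residue_stalk_aux [LocallyOfFiniteType f] {U : X.Opens} (hU : IsAffineOpen U) (x : U)
    (hx : (hU.primeIdealOf x).asIdeal.IsMaximal) :
    letI := stAlg f x.1
    Module.Finite k (X.presheaf.stalk x.1 ⧸ IsLocalRing.maximalIdeal (X.presheaf.stalk x.1)) := by
  letI := secAlg f U
  letI := stAlg f x.1
  haveI := tower_sec_st f x
  haveI := hU.isLocalization_stalk x
  haveI := finite_quotient_sec f hU _ hx
  let P := (hU.primeIdealOf x).asIdeal
  let e := IsLocalization.AtPrime.equivQuotMaximalIdeal P (X.presheaf.stalk x.1)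
  let g : (Γ(X, U) ⧸ P) →ₗ[k]
      (X.presheaf.stalk x.1 ⧸ IsLocalRing.maximalIdeal (X.presheaf.stalk x.1)) :=
    { toFun := e
      map_add' := fun a b => map_add e a b
      map_smul' := by
        rintro c ⟨a⟩
        rw [RingHom.id_apply, Algebra.smul_def, map_mul, Algebra.smul_def]
        congr 1
        rw [IsScalarTower.algebraMap_apply k Γ(X, U) (Γ(X, U) ⧸ P),
          IsScalarTower.algebraMap_apply k (X.presheaf.stalk x.1)
            (X.presheaf.stalk x.1 ⧸ IsLocalRing.maximalIdeal (X.presheaf.stalk x.1)),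
          IsScalarTower.algebraMap_apply k Γ(X, U) (X.presheaf.stalk x.1)]
        exact IsLocalization.AtPrime.equivQuotMaximalIdeal_apply_mk P _ _ }
  exact Module.Finite.of_surjective g e.surjective

omit [IsIntegral X] in
theorem finite_residue_stalk [LocallyOfFiniteType f] {x : X} (hx : IsClosed ({x} : Set X)) :
    letI := stAlg f x
    Module.Finite k (X.presheaf.stalk x ⧸ IsLocalRing.maximalIdeal (X.presheaf.stalk x)) := by
  obtain ⟨_, ⟨U, hU, rfl⟩, hxU, -⟩ :=
    X.isBasis_affineOpens.exists_subset_of_mem_open (Set.mem_univ x) isOpen_univ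
  exact finite_residue_stalk_aux f hU ⟨x, hxU⟩ (hU.primeIdealOf_isMaximal_of_isClosed ⟨x, hxU⟩ hx)

theorem finite_quotient_stalk_of_ne_bot [LocallyOfFiniteType f] (hdim : topologicalKrullDim X ≤ 1)
    {x : X} (hx : IsClosed ({x} : Set X)) :
    letI := stAlg f x
    ∀ I : Ideal (X.presheaf.stalk x), I ≠ ⊥ → Module.Finite k (X.presheaf.stalk x ⧸ I) := by
  letI := stAlg f x
  haveI := isNoetherianRing_stalk f x
  haveI := Picfga.CurvePts.dimensionLEOne_stalk hdim x
  refine fun I hI => finite_quotient (fun p hp => ?_) hI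
  rw [IsLocalRing.eq_maximalIdeal hp]
  exact finite_residue_stalk f hx

/-- (f4) -/
theorem almostStable_sec [LocallyOfFiniteType f] (hdim : topologicalKrullDim X ≤ 1)
    {U : X.Opens} (hU : IsAffineOpen U) [Nonempty U] :
    letI := secAlg f U
    letI := stAlg f (genericPoint X)
    haveI := tower_sec f U
    TateLam.AlmostStable (LinearMap.range (IsScalarTower.toAlgHom k Γ(X, U) X.functionField).toLinearMap) := by
  letI := secAlg f U
  letI := stAlg f (genericPoint X)
  haveI := tower_sec f U
  haveI := functionField_isFractionRing_of_isAffineOpen X U hU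
  refine almostStable_range (D := Γ(X, U)) (K := X.functionField) fun b hb => ?_
  exact finite_quotient_sec_of_ne_bot f hdim hU _ (by simpa using hb)

/-- (f4) -/
theorem almostStable_st [LocallyOfFiniteType f] (hdim : topologicalKrullDim X ≤ 1)
    {x : X} (hx : IsClosed ({x} : Set X)) :
    letI := stAlg f x
    letI := stAlg f (genericPoint X)
    haveI := tower_st f x
    TateLam.AlmostStable
      (LinearMap.range (IsScalarTower.toAlgHom k (X.presheaf.stalk x) X.functionField).toLinearMap) := by
  letI := stAlg f x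
  letI := stAlg f (genericPoint X)
  haveI := tower_st f x
  refine almostStable_range (D := X.presheaf.stalk x) (K := X.functionField) fun b hb => ?_
  exact finite_quotient_stalk_of_ne_bot f hdim hx _ (by simpa using hb)

omit [IsIntegral X] in
theorem coeffHom_eq (U : X.Opens) (a : k) :
    (Picfga.RegLocus.coeffHom f U).hom a = secHom f U a :=
  (secHom_eq f U a).symm

theorem kToK_eq : Picfga.CurvePts.kToK f = stHom f (genericPoint X) := by
  ext a
  rw [← germ_secHom f ⊤ (genericPoint X) trivial a, ← coeffHom_eq]
  rfl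

theorem trdeg_functionField [LocallyOfFiniteType f] (hdim : topologicalKrullDim X = 1) :
    letI := stAlg f (genericPoint X)
    Algebra.trdeg k X.functionField = 1 := by
  letI := stAlg f (genericPoint X)
  obtain ⟨_, ⟨U, hU, rfl⟩, hxU, -⟩ :=
    X.isBasis_affineOpens.exists_subset_of_mem_open (Set.mem_univ (genericPoint X)) isOpen_univ
  haveI : Nonempty U := ⟨⟨_, hxU⟩⟩
  letI := secAlg f U
  haveI := tower_sec f U
  haveI := functionField_isFractionRing_of_isAffineOpen X U hU
  haveI : Algebra.FiniteType k Γ(X, U) := finiteType_secHom f hU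
  haveI := dimensionLEOne_sec hdim.le hU
  obtain ⟨d, hd1, hd2, -⟩ := CalgC.DimFT.exists_dim k Γ(X, U)
  have hd : d ≤ 1 := by
    have : Ring.KrullDimLE 1 Γ(X, U) := inferInstance
    have h := (Ring.krullDimLE_iff (n := 1) (R := Γ(X, U))).mp this
    rw [hd1] at h
    exact_mod_cast h
  haveI : Algebra.IsAlgebraic Γ(X, U) X.functionField :=
    (IsFractionRing.comap_isAlgebraic_iff (A := Γ(X, U)) (K := X.functionField)
      (C := X.functionField)).mpr inferInstance
  haveI : FaithfulSMul k Γ(X, U) := inferInstance
  haveI : FaithfulSMul Γ(X, U) X.functionField := inferInstance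
  have h1 : Algebra.trdeg k X.functionField = d := by
    rw [← trdeg_add_eq k Γ(X, U) (A := X.functionField), hd2, trdeg_eq_zero, add_zero]
  obtain ⟨z, hz⟩ := Picfga.CurvePts.exists_transcendental f hdim
  rw [kToK_eq] at hz
  have h2 : Transcendental k z := transcendental_iff_injective.mpr hz
  have h3 : Algebra.trdeg k X.functionField ≠ 0 := by
    rw [trdeg_ne_zero_iff]
    exact ⟨⟨z, h2⟩⟩
  rw [h1] at h3 ⊢
  have h4 : d ≠ 0 := by
    rintro rfl
    exact h3 (by simp)
  have h5 : d = 1 := by omega
  rw [h5]
  simp

/-- (f3) -/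
theorem finrank_kaehler_functionField [Smooth f] (hdim : topologicalKrullDim X = 1) :
    letI := stAlg f (genericPoint X)
    finrank X.functionField Ω[X.functionField⁄k] = 1 := by
  letI := stAlg f (genericPoint X)
  haveI : Algebra.FormallySmooth k X.functionField := formallySmooth_stalk f (genericPoint X)
  haveI : Algebra.EssFiniteType k X.functionField := essFiniteType_stalk f (genericPoint X)
  rw [finrank_kaehler_eq_trdeg, trdeg_functionField f hdim]
  simp

/-- (f3) -/
theorem injective_kaehler_sec [Smooth f] {U : X.Opens} (hU : IsAffineOpen U) [Nonempty U] :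
    letI := secAlg f U
    letI := stAlg f (genericPoint X)
    haveI := tower_sec f U
    Function.Injective (KaehlerDifferential.map k k Γ(X, U) X.functionField) := by
  letI := secAlg f U
  letI := stAlg f (genericPoint X)
  haveI := tower_sec f U
  haveI := functionField_isFractionRing_of_isAffineOpen X U hU
  haveI : Algebra.Smooth k Γ(X, U) := smooth_secHom f hU
  exact injective_map_kaehler k Γ(X, U) X.functionField

/-- (f3) -/
theorem injective_kaehler_stalk [Smooth f] (x : X) :
    letI := stAlg f x
    letI := stAlg f (genericPoint X)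
    haveI := tower_st f x
    Function.Injective (KaehlerDifferential.map k k (X.presheaf.stalk x) X.functionField) := by
  letI := stAlg f x
  letI := stAlg f (genericPoint X)
  haveI := tower_st f x
  haveI : Algebra.FormallySmooth k (X.presheaf.stalk x) := formallySmooth_stalk f x
  exact injective_map_kaehler k (X.presheaf.stalk x) X.functionField

/-- (f3) -/
theorem finrank_kaehler_sec [Smooth f] (hdim : topologicalKrullDim X = 1) {U : X.Opens}
    (hU : IsAffineOpen U) [Nonempty U] :
    letI := secAlg f U
    finrank Γ(X, U) Ω[Γ(X, U)⁄k] = 1 := by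
  letI := secAlg f U
  letI := stAlg f (genericPoint X)
  haveI := tower_sec f U
  haveI := functionField_isFractionRing_of_isAffineOpen X U hU
  rw [← finrank_eq_of_isFractionRing k Γ(X, U) X.functionField]
  exact finrank_kaehler_functionField f hdim

/-- (f3) -/
theorem finrank_kaehler_stalk [Smooth f] (hdim : topologicalKrullDim X = 1) (x : X) :
    letI := stAlg f x
    finrank (X.presheaf.stalk x) Ω[X.presheaf.stalk x⁄k] = 1 := by
  letI := stAlg f x
  letI := stAlg f (genericPoint X)
  haveI := tower_st f x
  rw [← finrank_eq_of_isFractionRing k (X.presheaf.stalk x) X.functionField]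
  exact finrank_kaehler_functionField f hdim

/-- (f3): differentials on an affine open are locally cyclic. -/
theorem exists_cyclic_sec [Smooth f] (hdim : topologicalKrullDim X = 1) {U : X.Opens}
    (hU : IsAffineOpen U) [Nonempty U] (p : Ideal Γ(X, U)) [p.IsPrime] :
    letI := secAlg f U
    ∃ ω₀ : Ω[Γ(X, U)⁄k], ∀ ω : Ω[Γ(X, U)⁄k], ∃ s : Γ(X, U), s ∉ p ∧ ∃ a : Γ(X, U), s • ω = a • ω₀ := by
  letI := secAlg f U
  haveI : Algebra.Smooth k Γ(X, U) := smooth_secHom f hU
  exact exists_cyclic_at (finrank_kaehler_sec f hdim hU).le p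

omit [IsIntegral X] in
/-- (f3): differentials of a local ring are free of rank one. -/
theorem free_kaehler_stalk [Smooth f] (x : X) :
    letI := stAlg f x
    Module.Finite (X.presheaf.stalk x) Ω[X.presheaf.stalk x⁄k] ∧
      Module.Free (X.presheaf.stalk x) Ω[X.presheaf.stalk x⁄k] := by
  letI := stAlg f x
  haveI : Algebra.FormallySmooth k (X.presheaf.stalk x) := formallySmooth_stalk f x
  haveI : Algebra.EssFiniteType k (X.presheaf.stalk x) := essFiniteType_stalk f x
  haveI : Module.Finite (X.presheaf.stalk x) Ω[X.presheaf.stalk x⁄k] := inferInstance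
  exact ⟨inferInstance, Module.free_of_flat_of_isLocalRing⟩

/-- (f3): differentials of a local ring are generated by one element. -/
theorem exists_generator_stalk [Smooth f] (hdim : topologicalKrullDim X = 1) (x : X) :
    letI := stAlg f x
    ∃ ω₀ : Ω[X.presheaf.stalk x⁄k], ∀ ω : Ω[X.presheaf.stalk x⁄k], ∃ a : X.presheaf.stalk x,
      a • ω₀ = ω := by
  letI := stAlg f x
  obtain ⟨h1, h2⟩ := free_kaehler_stalk f x
  haveI := h1
  haveI := h2
  exact finrank_le_one_iff.mp (finrank_kaehler_stalk f hdim x).le

/-- The locus where a rational function with a single pole is regular. -/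
theorem reg_eq {x : X} (hx : IsClosed ({x} : Set X)) {g : X.functionField}
    (hg : ∀ y : X, y ≠ x → g ∈ Set.range (algebraMap (X.presheaf.stalk y) X.functionField))
    (hgx : g ∉ Set.range (algebraMap (X.presheaf.stalk x) X.functionField)) :
    Picfga.RegLocus.reg g = (⟨{x}ᶜ, hx.isOpen_compl⟩ : X.Opens) := by
  ext y
  by_cases hy : y = x
  · subst hy
    exact iff_of_false hgx (fun h => h rfl)
  · exact iff_of_true (hg y hy) hy

/-- A rational function which is not regular at some point is transcendental. -/
theorem injective_eval_of_not_regular [Smooth f] (hdim : topologicalKrullDim X ≤ 1) {x : X}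
    {g : X.functionField}
    (hgx : g ∉ Set.range (algebraMap (X.presheaf.stalk x) X.functionField)) :
    Function.Injective (Polynomial.eval₂RingHom (Picfga.CurvePts.kToK f) g) := by
  rw [kToK_eq]
  letI := stAlg f x
  letI := stAlg f (genericPoint X)
  haveI := tower_st f x
  haveI := isNoetherianRing_stalk f x
  have hic : IsIntegrallyClosed (X.presheaf.stalk x) ∧ ∀ P : Ideal (X.presheaf.stalk x),
      P ≠ ⊥ → P.IsPrime → P = IsLocalRing.maximalIdeal (X.presheaf.stalk x) :=
    ((tfae_of_isNoetherianRing_of_isLocalRing_of_isDomain (R := X.presheaf.stalk x)).out 1 3).mp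
      (Picfga.CurvePts.valuationRing_stalk f hdim x)
  haveI := hic.1
  change Function.Injective (Polynomial.eval₂RingHom (algebraMap k X.functionField) g)
  refine transcendental_iff_injective.mp fun h => hgx ?_
  have h1 : IsIntegral k g := h.isIntegral
  have h2 : IsIntegral (X.presheaf.stalk x) g := h1.tower_top
  exact IsIntegrallyClosed.isIntegral_iff.mp h2

/-- (f5) -/
theorem isAffineOpen_compl [Smooth f] [IsProper f] (hdim : topologicalKrullDim X ≤ 1) {x : X}
    (hx : IsClosed ({x} : Set X)) {g : X.functionField}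
    (hg : ∀ y : X, y ≠ x → g ∈ Set.range (algebraMap (X.presheaf.stalk y) X.functionField))
    (hgx : g ∉ Set.range (algebraMap (X.presheaf.stalk x) X.functionField)) :
    IsAffineOpen (⟨{x}ᶜ, hx.isOpen_compl⟩ : X.Opens) := by
  rw [← reg_eq hx hg hgx]
  exact Picfga.CurveP1.isAffineOpen_reg f hdim (Picfga.CurvePts.valuationRing_stalk f hdim)
    (injective_eval_of_not_regular f hdim hgx)

end Curve

end Groth.Agent.CurvesB.SmoothCurveFacts
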