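import Groth.Agent.CurvesB.SmoothCurveFacts
import Groth.Agent.CurvesB.OnePointDuality

/-!
# `OnePointDuality.Good` for the rings attached to a smooth curve
-/

set_option autoImplicit false
set_option linter.style.haveILetI false
universe u

open CategoryTheory CategoryTheory.Limits AlgebraicGeometry Opposite TopologicalSpace Module

namespace Groth.Agent.CurvesB.SmoothCurveGood

open Groth.Agent.CurvesB.OmegaStalkDict Groth.Agent.CurvesB.SmoothCurveFacts
  Groth.Agent.CurvesB.OnePointDuality Algebra

variable {k : Type u} [Field k] {X : Scheme.{u}} [IsIntegral X] (f : X ⟶ Spec (CommRingCat.of k))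

theorem ne_genericPoint (hdim : topologicalKrullDim X = 1) {x : X} (hx : IsClosed ({x} : Set X)) :
    x ≠ genericPoint X := by
  intro h
  have h1 : ∀ y : X, y = x := fun y => by
    have h2 : y ∈ closure {genericPoint X} := (genericPoint_specializes y).mem_closure
    rw [← h, hx.closure_eq] at h2
    exact h2
  have h2 : Subsingleton (IrreducibleCloseds X) := by
    refine ⟨fun a b => ?_⟩
    have : ∀ c : IrreducibleCloseds X, (c : Set X) = {x} := by
      intro c
      ext y
      obtain ⟨z, hz⟩ := c.isIrreducible.nonempty
      rw [h1 y]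
      rw [h1 z] at hz
      simp [hz]
    exact IrreducibleCloseds.ext ((this a).trans (this b).symm)
  have h3 : topologicalKrullDim X ≤ 0 := Order.krullDim_nonpos_of_subsingleton
  rw [hdim] at h3
  norm_cast at h3

theorem good_stalk [Smooth f] (hdim : topologicalKrullDim X = 1) {x : X}
    (hx : IsClosed ({x} : Set X)) :
    letI := stAlg f x
    letI := stAlg f (genericPoint X)
    haveI := tower_st f x
    haveI := isDiscreteValuationRing_stalk f hdim.le (ne_genericPoint hdim hx)
    Good k (X.presheaf.stalk x) X.functionField := by
  letI := stAlg f x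
  letI := stAlg f (genericPoint X)
  haveI := tower_st f x
  haveI := isDiscreteValuationRing_stalk f hdim.le (ne_genericPoint hdim hx)
  refine ⟨essFiniteType_stalk f x, fun r hr => ?_, not_isField_stalk (ne_genericPoint hdim hx),
    fun p hp => ?_⟩
  · exact finite_quotient_stalk_of_ne_bot f hdim.le hx _ (by simpa using hr)
  · obtain ⟨ω₀, h⟩ := exists_generator_stalk f hdim x
    refine ⟨ω₀, fun ω => ⟨1, fun h1 => hp.ne_top (Ideal.eq_top_iff_one p |>.mpr h1), ?_⟩⟩
    obtain ⟨a, ha⟩ := h ω
    exact ⟨a, by rw [one_smul, ha]⟩

theorem good_sec [Smooth f] (hdim : topologicalKrullDim X = 1) {U : X.Opens} (hU : IsAffineOpen U)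
    [Nonempty U] :
    letI := secAlg f U
    letI := stAlg f (genericPoint X)
    haveI := tower_sec f U
    haveI := functionField_isFractionRing_of_isAffineOpen X U hU
    haveI := isDedekindDomain_sec f hdim.le hU
    Good k Γ(X, U) X.functionField := by
  letI := secAlg f U
  letI := stAlg f (genericPoint X)
  haveI := tower_sec f U
  haveI := functionField_isFractionRing_of_isAffineOpen X U hU
  haveI := isDedekindDomain_sec f hdim.le hU
  haveI : Algebra.FiniteType k Γ(X, U) := finiteType_secHom f hU
  refine ⟨inferInstance, fun r hr => ?_, fun h => ?_, fun p hp => ?_⟩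
  · exact finite_quotient_sec_of_ne_bot f hdim.le hU _ (by simpa using hr)
  · -- a field which is an affine open of `X` of dimension one: impossible
    letI := h.toField
    have h1 := trdeg_functionField f hdim
    haveI : Algebra.IsAlgebraic Γ(X, U) X.functionField :=
      (IsFractionRing.comap_isAlgebraic_iff (A := Γ(X, U)) (K := X.functionField)
        (C := X.functionField)).mpr inferInstance
    rw [← trdeg_add_eq k Γ(X, U) (A := X.functionField), trdeg_eq_zero (R := Γ(X, U)),
      add_zero] at h1
    haveI : Module.Finite k Γ(X, U) := finite_of_finite_type_of_isJacobsonRing k Γ(X, U)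
    rw [trdeg_eq_zero] at h1
    exact zero_ne_one h1
  · haveI := hp.isPrime
    exact exists_cyclic_sec f hdim hU p

theorem exists_generator_functionField [Smooth f] (hdim : topologicalKrullDim X = 1) :
    letI := stAlg f (genericPoint X)
    ∃ ω₀ : Ω[X.functionField⁄k], ω₀ ≠ 0 ∧ ∀ ω : Ω[X.functionField⁄k], ∃ c : X.functionField,
      c • ω₀ = ω := by
  letI := stAlg f (genericPoint X)
  exact finrank_eq_one_iff'.mp (finrank_kaehler_functionField f hdim)

end Groth.Agent.CurvesB.SmoothCurveGood
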