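import Groth.Agent.CurvesB.SmoothCurveGood
import Groth.Agent.CurvesB.OnePoint

/-!
# The complement of a closed point of a smooth proper curve is affine

If `H^1(X, O_X)` is finite-dimensional there is a rational function whose only pole is `x`.
-/

set_option autoImplicit false
set_option linter.style.haveILetI false
universe u

open CategoryTheory CategoryTheory.Limits AlgebraicGeometry Opposite TopologicalSpace Module

namespace Groth.Agent.CurvesB.SmoothCurvePole

open Groth.Agent.CurvesB.OmegaStalkDict Groth.Agent.CurvesB.SmoothCurveFacts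
  Groth.Agent.CurvesB.SmoothCurveGood Groth.Agent.CurvesB.OnePoint

/-- If `p(y) ∈ D` with `p` a nonconstant polynomial over the field `k`, `D` integrally closed, then
`y ∈ D`. -/
theorem mem_of_aeval_mem {k D K : Type*} [Field k] [CommRing D] [IsDomain D] [IsIntegrallyClosed D]
    [Algebra k D] [Field K] [Algebra k K] [Algebra D K] [IsScalarTower k D K] [IsFractionRing D K]
    (p : Polynomial k) (hp : 0 < p.natDegree) (y : K)
    (h : Polynomial.aeval y p ∈ Set.range (algebraMap D K)) : y ∈ Set.range (algebraMap D K) := by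
  obtain ⟨r, hr⟩ := h
  have h1 : (p.map (algebraMap k D)).natDegree = p.natDegree := Polynomial.natDegree_map _
  have h2 : (p.map (algebraMap k D) - Polynomial.C r).natDegree = p.natDegree := by
    rw [Polynomial.natDegree_sub_C, h1]
  have h3 : (p.map (algebraMap k D) - Polynomial.C r).leadingCoeff =
      algebraMap k D p.leadingCoeff := by
    rw [Polynomial.leadingCoeff, h2, Polynomial.coeff_sub, Polynomial.coeff_C_of_ne_zero hp.ne',
      sub_zero, Polynomial.coeff_map]
    rfl
  have h4 : IsIntegral D ((algebraMap k D p.leadingCoeff) • y) := by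
    rw [← h3]
    refine isIntegral_leadingCoeff_smul _ _ ?_
    rw [map_sub, Polynomial.aeval_C, Polynomial.aeval_map_algebraMap, hr, sub_self]
  have hl : p.leadingCoeff ≠ 0 := Polynomial.leadingCoeff_ne_zero.mpr (by
    rintro rfl
    simp at hp)
  have h5 : IsIntegral D y := by
    have h6 := h4.smul (algebraMap k D (p.leadingCoeff)⁻¹)
    rwa [smul_smul, ← map_mul, inv_mul_cancel₀ hl, map_one, one_smul] at h6
  exact IsIntegrallyClosed.isIntegral_iff.mp h5

section Nhd

variable {X : Scheme.{u}} [IsIntegral X]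

/-- A closed point has a neighbourhood with a function vanishing exactly there. -/
theorem exists_nhd [NoetherianSpace X] (hdim : topologicalKrullDim X ≤ 1) {x : X}
    (hx : x ≠ genericPoint X) :
    ∃ (V : X.Opens) (t : Γ(X, V)), x ∈ V ∧ x ∉ X.basicOpen t ∧
      ∀ y ∈ V, y ≠ x → y ∈ X.basicOpen t := by
  -- a nonzero function vanishing at `x`
  obtain ⟨a, ha0, hau⟩ := Ring.exists_not_isUnit_of_not_isField (not_isField_stalk hx)
  obtain ⟨W, hxW, t, rfl⟩ := X.presheaf.exists_germ_eq a
  have hxt : x ∉ X.basicOpen t := fun h => hau ((Scheme.mem_basicOpen _ _ _ hxW).mp h)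
  have ht0 : t ≠ 0 := by
    rintro rfl
    exact ha0 (map_zero _)
  haveI : Nonempty W := ⟨⟨x, hxW⟩⟩
  have hη : genericPoint X ∈ X.basicOpen t := by
    rw [Scheme.mem_basicOpen _ _ _ (Picfga.RegLocus.genericPoint_mem W)]
    have h1 : X.germToFunctionField W t ≠ 0 := fun h =>
      ht0 (X.germToFunctionField_injective W (h.trans (map_zero _).symm))
    exact isUnit_iff_ne_zero.mpr h1
  have hclosed : ∀ y ∈ ((X.basicOpen t : Set X))ᶜ, IsClosed ({y} : Set X) := fun y hy =>
    Picfga.CurvePts.isClosed_singleton_of_dim_le_one hdim (fun h => hy (h ▸ hη))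
  have hfin : ((X.basicOpen t : Set X))ᶜ.Finite :=
    Picfga.CurvePts.finite_of_forall_isClosed_singleton (X.basicOpen t).isOpen.isClosed_compl hclosed
  have hZ : IsClosed (((X.basicOpen t : Set X))ᶜ \ {x}) := by
    rw [← Set.biUnion_of_singleton (((X.basicOpen t : Set X))ᶜ \ {x})]
    exact (hfin.subset Set.sdiff_subset).isClosed_biUnion fun y hy => hclosed y hy.1
  let V : X.Opens := W ⊓ ⟨_, hZ.isOpen_compl⟩
  refine ⟨V, X.presheaf.map (homOfLE inf_le_left).op t, ⟨hxW, fun h => h.2 rfl⟩, ?_, ?_⟩
  · rw [Scheme.basicOpen_res]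
    exact fun h => hxt h.2
  · intro y hy hyx
    rw [Scheme.basicOpen_res]
    refine ⟨hy, ?_⟩
    by_contra h
    exact hy.2 ⟨h, hyx⟩

end Nhd

section Main

variable {k : Type u} [Field k] {X : Scheme.{u}} [X.Over (Spec (CommRingCat.of k))] [IsIntegral X]

theorem exists_pole [Smooth (X ↘ Spec (CommRingCat.of k))] [IsProper (X ↘ Spec (CommRingCat.of k))]
    [FiniteDimensional k (Coh.HH X (Coh.structureModule X) 1)] (hdim : topologicalKrullDim X = 1)
    {x : X} (hx : IsClosed ({x} : Set X)) :
    ∃ g : X.functionField,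
      (∀ y : X, y ≠ x → g ∈ Set.range (algebraMap (X.presheaf.stalk y) X.functionField)) ∧
      g ∉ Set.range (algebraMap (X.presheaf.stalk x) X.functionField) := by
  let f := X ↘ Spec (CommRingCat.of k)
  have hxη := ne_genericPoint hdim hx
  haveI : CompactSpace X := QuasiCompact.compactSpace_of_compactSpace f
  haveI : IsLocallyNoetherian X := LocallyOfFiniteType.isLocallyNoetherian f
  haveI : AlgebraicGeometry.IsNoetherian X := {}
  obtain ⟨V, t, hxV, hxt, hVt⟩ := exists_nhd hdim.le hxη
  let U : X.Opens := ⟨{x}ᶜ, hx.isOpen_compl⟩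
  have hUx : ∀ y, y ∈ U ↔ y ≠ x := fun y => Iff.rfl
  have hUV : U ⊔ V = ⊤ := sup_eq_top hUx hxV
  have hle : U ⊓ V ≤ X.basicOpen t := fun y hy => hVt y hy.2 hy.1
  have ht : IsUnit (X.presheaf.map (homOfLE (inf_le_right : U ⊓ V ≤ V)).op t) := by
    have h1 := X.toRingedSpace.isUnit_res_basicOpen t
    have h2 := h1.map (X.presheaf.map (homOfLE hle).op).hom
    have h3 : (X.presheaf.map (homOfLE hle).op).hom (X.presheaf.map (homOfLE (X.basicOpen_le t)).op t) =
        X.presheaf.map (homOfLE (inf_le_right : U ⊓ V ≤ V)).op t := by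
      rw [← X.presheaf.map_comp_apply]
      rfl
    rw [← h3]
    exact h2
  obtain ⟨s, hs⟩ := ht.exists_left_inv
  letI := secAlg f (U ⊓ V)
  letI := stAlg f x
  letI := stAlg f (genericPoint X)
  haveI := tower_st f x
  have hηUV : genericPoint X ∈ U ⊓ V := ⟨hxη.symm, (genericPoint_specializes x).mem_open V.2 hxV⟩
  haveI : Nonempty (U ⊓ V : X.Opens) := ⟨⟨_, hηUV⟩⟩
  haveI : Nonempty V := ⟨⟨x, hxV⟩⟩
  haveI : Nonempty U := ⟨⟨_, hηUV.1⟩⟩
  haveI := tower_sec f (U ⊓ V)
  -- the connecting homomorphism on polynomials in `t⁻¹`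
  let φ : Polynomial k →ₗ[k] Coh.HH X (Coh.structureModule X) 1 :=
    { toFun := fun p => connM (Coh.structureModule X) hUV (Polynomial.aeval s (Polynomial.X * p) :)
      map_add' := fun p q => by
        rw [mul_add, map_add]
        exact map_add (connM (Coh.structureModule X) hUV) _ _
      map_smul' := fun c p => by
        rw [mul_smul_comm, map_smul, Algebra.smul_def]
        exact connM_smul (Coh.structureModule X) hUV (Coh.toGlobal f c) _ }
  obtain ⟨p, hp0, hp⟩ : ∃ p : Polynomial k, p ≠ 0 ∧ φ p = 0 := by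
    by_contra hcon
    push Not at hcon
    have hinj : Function.Injective φ := by
      rw [injective_iff_map_eq_zero]
      intro p hp
      by_contra h
      exact hcon p h hp
    exact Polynomial.not_finite (Module.Finite.of_injective φ hinj)
  obtain ⟨a, b, hab⟩ := (connM_eq_zero_iff (Coh.structureModule X) hUV _).mp hp
  let a' : Γ(X, U) := a
  let b' : Γ(X, V) := b
  have hab' : (Polynomial.aeval s (Polynomial.X * p) : Γ(X, U ⊓ V)) =
      X.presheaf.map (homOfLE (inf_le_left : U ⊓ V ≤ U)).op a' -
        X.presheaf.map (homOfLE (inf_le_right : U ⊓ V ≤ V)).op b' := hab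
  have gres : ∀ {W : X.Opens} [Nonempty W] (h : U ⊓ V ≤ W) (c : Γ(X, W)),
      X.germToFunctionField (U ⊓ V) (X.presheaf.map (homOfLE h).op c) =
        X.germToFunctionField W c := by
    intro W _ h c
    simp only [Scheme.germToFunctionField]
    erw [TopCat.Presheaf.germ_res_apply]
  have hgab := congrArg (X.germToFunctionField (U ⊓ V)) hab'
  rw [map_sub, gres, gres] at hgab
  have hσ : Polynomial.aeval (X.germToFunctionField (U ⊓ V) s) (Polynomial.X * p) =
      X.germToFunctionField (U ⊓ V) (Polynomial.aeval s (Polynomial.X * p) : Γ(X, U ⊓ V)) :=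
    Polynomial.aeval_algebraMap_apply X.functionField s (Polynomial.X * p)
  refine ⟨X.germToFunctionField U a', fun y hy => ⟨X.presheaf.germ U y hy a', ?_⟩, ?_⟩
  · exact Scheme.algebraMap_germ_eq_germToFunctionField X (U := U) (x := y) hy a'
  · rintro ⟨r, hr⟩
    haveI := isDiscreteValuationRing_stalk f hdim.le hxη
    have h1 : X.germToFunctionField (U ⊓ V) s ∈
        Set.range (algebraMap (X.presheaf.stalk x) X.functionField) := by
      refine mem_of_aeval_mem (k := k) (Polynomial.X * p) ?_ _ ?_
      · rw [Polynomial.natDegree_X_mul hp0]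
        omega
      · rw [hσ, hgab]
        refine ⟨r - X.presheaf.germ V x hxV b', ?_⟩
        rw [map_sub, hr, Scheme.algebraMap_germ_eq_germToFunctionField X (U := V) (x := x) hxV b']
    obtain ⟨r', hr'⟩ := h1
    apply hxt
    rw [Scheme.mem_basicOpen _ _ _ hxV]
    refine IsUnit.of_mul_eq_one r' ?_
    apply IsFractionRing.injective (X.presheaf.stalk x) X.functionField
    rw [map_mul, map_one, hr', Scheme.algebraMap_germ_eq_germToFunctionField X (U := V) (x := x) hxV t,
      ← gres inf_le_right t, ← map_mul, mul_comm, hs, map_one]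

/-- The complement of a closed point of a smooth proper curve is affine. -/
theorem isAffineOpen_compl_singleton [Smooth (X ↘ Spec (CommRingCat.of k))]
    [IsProper (X ↘ Spec (CommRingCat.of k))]
    [FiniteDimensional k (Coh.HH X (Coh.structureModule X) 1)] (hdim : topologicalKrullDim X = 1)
    {x : X} (hx : IsClosed ({x} : Set X)) :
    IsAffineOpen (⟨{x}ᶜ, hx.isOpen_compl⟩ : X.Opens) := by
  obtain ⟨g, hg, hgx⟩ := exists_pole (k := k) hdim hx
  exact isAffineOpen_compl (X ↘ Spec (CommRingCat.of k)) hdim.le hx hg hgx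

end Main

end Groth.Agent.CurvesB.SmoothCurvePole
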