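import Groth.Agent.CurvesB.OnePointSerre
import Groth.Agent.CurvesB.SmoothCurveGood
import Groth.Agent.CurvesB.GenusLib
import Groth.Agent.S0458
import Groth.Agent.CohqB.FiniteType2

/-!
# Serre duality for `O` and `Ω` on a smooth proper curve
-/

set_option autoImplicit false
universe u
open CategoryTheory CategoryTheory.Limits AlgebraicGeometry Opposite TopologicalSpace

namespace Groth.Agent.CurvesB.SmoothCurveSerre

open Groth.Agent.CurvesB.OmegaGeneric Groth.Agent.CurvesB.OnePointLin Groth.Agent.CurvesB.OnePointDuality
open Groth.Agent.CurvesB.GenStk Groth.Agent.CurvesB.WeilPair Groth.Agent.Fdesc Module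
open Groth.Agent.CurvesB.OmegaStalkDict Groth.Agent.CurvesB.SmoothCurveFacts Groth.Agent.CurvesB.SmoothCurveGood

section

variable {X : Scheme.{u}} [IsIntegral X]

theorem TF_O : TF (Coh.structureModule X) := by
  intro y a b hab
  obtain ⟨a, rfl⟩ := (StructMod.stalkEquiv y).surjective a
  obtain ⟨b, rfl⟩ := (StructMod.stalkEquiv y).surjective b
  have h1 := (stalkSpecializes_stalkEquiv (gspec y) a).symm.trans (hab.trans (stalkSpecializes_stalkEquiv (gspec y) b))
  have h2 := (StructMod.stalkEquiv (genericPoint X)).injective h1
  have h3 : a = b := IsFractionRing.injective (X.presheaf.stalk y) X.functionField h2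
  rw [h3]

theorem dimLe (hdim : topologicalKrullDim X ≤ 1) : DimLe X := by
  intro y z h
  by_cases hz : z = genericPoint X
  · exact Or.inr hz
  · refine Or.inl ?_
    have hc := Picfga.CurvePts.isClosed_singleton_of_dim_le_one hdim hz
    have : y ∈ closure ({z} : Set X) := h.mem_closure
    rw [hc.closure_eq] at this
    exact (Set.mem_singleton_iff.mp this).symm

theorem exists_closedPoint [CompactSpace X] : ∃ x : X, IsClosed ({x} : Set X) := by
  obtain ⟨x, -, hx⟩ := IsClosed.exists_closed_singleton (X := X) isClosed_univ Set.univ_nonempty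
  exact ⟨x, hx⟩

end

section

variable {k : Type u} [Field k] {X : Scheme.{u}} [IsIntegral X] (f : X ⟶ Spec (CommRingCat.of k))
  [QuasiCompact (pullback.diagonal f)] [Smooth f]

theorem TF_omega : TF (Omega.sheaf f) := by
  intro y a b hab
  let := stAlg f y
  let := stAlg f (genericPoint X)
  let := stMod f (Omega.sheaf f) y
  have := stTower f (Omega.sheaf f) y
  let := stMod f (Omega.sheaf f) (genericPoint X)
  have := stTower f (Omega.sheaf f) (genericPoint X)
  have := tower_st f y
  obtain ⟨a, rfl⟩ := (bijective_stDer f y).2 a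
  obtain ⟨b, rfl⟩ := (bijective_stDer f y).2 b
  have key := map_lift (D := X.presheaf.stalk y) (K := X.functionField)
    (MD := (Omega.sheaf f).presheaf.stalk y)
    (MK := (Omega.sheaf f).presheaf.stalk (genericPoint X))
    ((Omega.sheaf f).presheaf.stalkSpecializes
      ((genericPoint_spec X).specializes trivial)).hom
    (fun d m => stalkSpecializes_smul _ _ d m)
    (stDer f y) (stDer f (genericPoint X))
    (fun d => dSt_specializes f _ d)
  have h1 := (key a).symm.trans (hab.trans (key b))
  have h2 := (bijective_stDer f (genericPoint X)).1 h1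
  rw [injective_kaehler_stalk f y h2]

omit [IsIntegral X] in
theorem isCoh_omega : Coh.IsCoh (Omega.sheaf f) := by
  have hq : Coh.IsQCoh (Omega.sheaf f) := isQCoh_omega f
  refine ⟨hq, (CohqB.FiniteType2.isFT_iff_finite_sections _).mpr fun V hV => ?_⟩
  let := secAlg f V
  let := secMod f (Omega.sheaf f) V
  have := secTower f (Omega.sheaf f) V
  have : Algebra.FiniteType k Γ(X, V) := finiteType_secHom f hV
  have : Module.Finite Γ(X, V) Ω[Γ(X, V)⁄k] := inferInstance
  exact Module.Finite.of_surjective _ (bijective_secDer f hV).2

end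

section Euler

variable (k : Type u) [Field k] (X : Scheme.{u}) [X.Over (Spec (CommRingCat.of k))]

theorem subsingleton_HH [NoetherianSpace X] (hdim : topologicalKrullDim X ≤ 1) (F : X.Modules) (i : ℕ)
    (hi : 1 < i) : Subsingleton (Coh.HH X F i) := by
  have : NoetherianSpace X.toTopCat := inferInstanceAs (NoetherianSpace X)
  exact Groth.Agent.S0458.result (X := X.toTopCat) 1 (by exact_mod_cast hdim) (Coh.toAb F) i hi

theorem euler_eq [NoetherianSpace X] (hdim : topologicalKrullDim X ≤ 1) (F : X.Modules) :
    Curv2.euler k X F = (finrank k (Coh.HH X F 0) : ℤ) - finrank k (Coh.HH X F 1) := by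
  rw [Curv2.euler, finsum_eq_sum_of_support_subset (s := Finset.range 2)]
  · simp [Finset.sum_range_succ]
    ring
  · intro i hi
    by_contra hcon
    have h1 : 1 < i := by
      simp at hcon
      omega
    have := subsingleton_HH X hdim F i h1
    apply hi
    simp [finrank_zero_of_subsingleton]

end Euler

end Groth.Agent.CurvesB.SmoothCurveSerre
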