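import Mathlib.AlgebraicGeometry.Morphisms.Flat
import Mathlib.RingTheory.TensorProduct.Basic
import Mathlib.Algebra.Category.Ring.Constructions

/-!
# Stalks of base changes along maps that do not change the residue field
-/

universe u

open CategoryTheory CategoryTheory.Limits AlgebraicGeometry

namespace Groth.Agent.CurvesB.StalkBC

/-- A prime of a pushout lying over an ideal `n` with `A → A'/n` surjective and `n` generated from
`A` is generated by its contraction to the other factor. -/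
theorem prime_eq_map {A A' B C : Type*} [CommRing A] [CommRing A'] [CommRing B] [CommRing C]
    (a0 : A →+* B) (c : A →+* A') (β : B →+* C) (α : A' →+* C) (hcomm : β.comp a0 = α.comp c)
    (hgen : Subring.closure (Set.range β ∪ Set.range α) = ⊤)
    (n : Ideal A') (hn : n = (n.comap c).map c) (hsurj : ∀ a' : A', ∃ a : A, a' - c a ∈ n)
    (q : Ideal C) (hq : n ≤ q.comap α) : (q.comap β).map β = q := by
  apply le_antisymm Ideal.map_comap_le
  have hnq : n.map α ≤ (q.comap β).map β := by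
    rw [hn, Ideal.map_map, ← hcomm, ← Ideal.map_map]
    apply Ideal.map_mono
    rw [Ideal.map_le_iff_le_comap, Ideal.comap_comap, hcomm, ← Ideal.comap_comap]
    exact Ideal.comap_mono hq
  -- every element of C is congruent to an element of β B
  have key : ∀ z : C, ∃ b : B, z - β b ∈ n.map α := by
    intro z
    have hz : z ∈ Subring.closure (Set.range β ∪ Set.range α) := hgen ▸ Subring.mem_top z
    have hle : Subring.closure (Set.range β ∪ Set.range α) ≤
        ((Ideal.Quotient.mk (n.map α)).comp β).range.comap (Ideal.Quotient.mk (n.map α)) := by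
      rw [Subring.closure_le]
      rintro _ (⟨b, rfl⟩ | ⟨a', rfl⟩)
      · exact ⟨b, rfl⟩
      · obtain ⟨a, ha⟩ := hsurj a'
        refine ⟨a0 a, ?_⟩
        rw [RingHom.comp_apply, ← RingHom.comp_apply β, hcomm, eq_comm, Ideal.Quotient.eq,
          RingHom.comp_apply, ← map_sub]
        exact Ideal.mem_map_of_mem _ ha
    obtain ⟨b, hb⟩ := hle hz
    refine ⟨b, ?_⟩
    rw [← Ideal.Quotient.eq]
    exact hb.symm
  intro z hz
  obtain ⟨b, hb⟩ := key z
  have hb' : β b ∈ q := by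
    have : β b = z - (z - β b) := by ring
    rw [this]
    exact sub_mem hz ((hnq.trans Ideal.map_comap_le) hb)
  have : z = (z - β b) + β b := by ring
  rw [this]
  exact add_mem (hnq hb) (Ideal.mem_map_of_mem _ hb')

/-- The maximal ideal of a stalk on an affine open, generated by the corresponding prime. -/
theorem map_germ_primeIdealOf {X : Scheme.{u}} {U : X.Opens} (hU : IsAffineOpen U) (x : X)
    (hx : x ∈ U) :
    (hU.primeIdealOf ⟨x, hx⟩).asIdeal.map (X.presheaf.germ U x hx).hom =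
      IsLocalRing.maximalIdeal (X.presheaf.stalk x) := by
  let := X.presheaf.algebra_section_stalk (U := U) ⟨x, hx⟩
  have := hU.isLocalization_stalk ⟨x, hx⟩
  exact IsLocalization.AtPrime.map_eq_maximalIdeal (hU.primeIdealOf ⟨x, hx⟩).asIdeal
    (X.presheaf.stalk x)

theorem appLE_comp_germ {X Y : Scheme.{u}} (g : Y ⟶ X) (U : X.Opens) (V : Y.Opens)
    (hVU : V ≤ g ⁻¹ᵁ U) (y : Y) (hy : y ∈ V) :
    g.appLE U V hVU ≫ Y.presheaf.germ V y hy =
      X.presheaf.germ U (g y) (show g y ∈ U from hVU hy) ≫ g.stalkMap y := by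
  rw [Scheme.Hom.germ_stalkMap, Scheme.Hom.appLE, Category.assoc]
  congr 1
  exact Y.presheaf.germ_res _ _ _

theorem mem_primeIdealOf_iff {X : Scheme.{u}} {U : X.Opens} (hU : IsAffineOpen U) (x : X)
    (hx : x ∈ U) (s : Γ(X, U)) :
    s ∈ (hU.primeIdealOf ⟨x, hx⟩).asIdeal ↔ x ∉ X.basicOpen s := by
  rw [X.mem_basicOpen s x hx]
  let := X.presheaf.algebra_section_stalk (U := U) ⟨x, hx⟩
  have := hU.isLocalization_stalk ⟨x, hx⟩
  rw [← not_iff_not, not_not, iff_comm]
  exact IsLocalization.AtPrime.isUnit_to_map_iff (X.presheaf.stalk x)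
    (hU.primeIdealOf ⟨x, hx⟩).asIdeal s

theorem map_maximalIdeal_stalkMap {A A' : CommRingCat.{u}} (φ : A ⟶ A') {X Y : Scheme.{u}}
    {g : Y ⟶ X} {iY : Y ⟶ Spec A'} {iX : X ⟶ Spec A} (H : IsPullback g iY iX (Spec.map φ)) (y : Y)
    (hn : (iY y).asIdeal = ((iY y).asIdeal.comap φ.hom).map φ.hom)
    (hsurj : ∀ a' : A', ∃ a : A, a' - φ.hom a ∈ (iY y).asIdeal) :
    (IsLocalRing.maximalIdeal (X.presheaf.stalk (g y))).map (g.stalkMap y).hom =
      IsLocalRing.maximalIdeal (Y.presheaf.stalk y) := by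
  obtain ⟨_, ⟨U, hU, rfl⟩, hxU, -⟩ :=
      X.isBasis_affineOpens.exists_subset_of_mem_open (Set.mem_univ (g y)) isOpen_univ
  have hg : IsAffineHom g := by
    have : IsAffineHom (Spec.map φ) := inferInstance
    exact MorphismProperty.of_isPullback H.flip this
  obtain ⟨V, hV0⟩ : ∃ V : Y.Opens, V = g ⁻¹ᵁ U ⊓ iY ⁻¹ᵁ ⊤ := ⟨_, rfl⟩
  have hV' : V = g ⁻¹ᵁ U := by rw [hV0]; simp
  have hV : IsAffineOpen V := by rw [hV']; exact hU.preimage g
  have hyV : y ∈ V := by rw [hV']; exact hxU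
  have hVU : V ≤ g ⁻¹ᵁ U := hV'.le
  have hS : IsAffineOpen (⊤ : (Spec A).Opens) := isAffineOpen_top _
  have hT : IsAffineOpen (⊤ : (Spec A').Opens) := isAffineOpen_top _
  have h1 : (⊤ : (Spec A').Opens) ≤ (Spec.map φ) ⁻¹ᵁ ⊤ := le_rfl
  have h2 : U ≤ iX ⁻¹ᵁ ⊤ := le_top
  have hpush := (isIso_pushoutSection_iff H h1 h2 hV0).mp
    (isIso_pushoutSection_of_isAffineOpen H h1 h2 hV0 hS hT hU)
  have hgen := CommRingCat.closure_range_union_range_eq_top_of_isPushout hpush
  let q := (hV.primeIdealOf ⟨y, hyV⟩).asIdeal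
  let α : A' ⟶ Γ(Y, V) := (Scheme.ΓSpecIso A').inv ≫ iY.appLE ⊤ V le_top
  let a0 : A ⟶ Γ(X, U) := (Scheme.ΓSpecIso A).inv ≫ iX.appLE ⊤ U h2
  have hcomm : a0 ≫ g.appLE U V hVU = φ ≫ α := by
    simp only [a0, α, Category.assoc]
    rw [hpush.w, ← Category.assoc, ← Category.assoc φ]
    congr 1
    rw [Scheme.ΓSpecIso_inv_naturality]
    congr 1
  have hq : (iY y).asIdeal ≤ q.comap α.hom := by
    intro a ha
    rw [Ideal.mem_comap]
    refine (mem_primeIdealOf_iff hV y hyV _).mpr ?_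
    intro hy
    have h3 : Y.basicOpen (α.hom a) =
        V ⊓ iY ⁻¹ᵁ (Spec A').basicOpen ((Scheme.ΓSpecIso A').inv.hom a) :=
      Scheme.basicOpen_appLE iY V ⊤ le_top _
    rw [h3] at hy
    have h4 : iY y ∈ (Spec A').basicOpen ((Scheme.ΓSpecIso A').inv.hom a) := hy.2
    have h5 := AlgebraicGeometry.basicOpen_eq_of_affine (R := A') a
    rw [h5] at h4
    exact h4 ha
  have hrange : Set.range α.hom = Set.range (iY.appLE ⊤ V le_top).hom := by
    ext z
    constructor
    · rintro ⟨a, rfl⟩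
      exact ⟨_, rfl⟩
    · rintro ⟨a, rfl⟩
      refine ⟨(Scheme.ΓSpecIso A').hom.hom a, ?_⟩
      change (iY.appLE ⊤ V le_top).hom ((Scheme.ΓSpecIso A').inv ((Scheme.ΓSpecIso A').hom a)) = _
      rw [Iso.hom_inv_id_apply]
  have key := prime_eq_map a0.hom φ.hom (g.appLE U V hVU).hom α.hom
    (by rw [← CommRingCat.hom_comp, hcomm, CommRingCat.hom_comp]) (by
      rw [hrange]
      exact hgen) (iY y).asIdeal hn hsurj q hq
  have hp : q.comap (g.appLE U V hVU).hom = (hU.primeIdealOf ⟨g y, hVU hyV⟩).asIdeal :=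
    congr($(IsAffineOpen.comap_primeIdealOf_appLE U hU V hV hVU hyV).1)
  rw [← map_germ_primeIdealOf hU (g y) (hVU hyV), ← hp, ← map_germ_primeIdealOf hV y hyV,
    Ideal.map_map]
  conv_rhs => rw [show (hV.primeIdealOf ⟨y, hyV⟩).asIdeal = q from rfl, ← key, Ideal.map_map]
  congr 1
  rw [← CommRingCat.hom_comp, ← CommRingCat.hom_comp]
  exact congr_arg _ (appLE_comp_germ g U V hVU y hyV).symm

end Groth.Agent.CurvesB.StalkBC
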