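import Groth.Agent.CurvesB.StalkSemilinear
import Groth.Agent.CurvesB.LocPushout
import Mathlib.AlgebraicGeometry.Morphisms.FiniteType
import Mathlib.AlgebraicGeometry.Morphisms.Flat
import Mathlib.Algebra.Category.Ring.Constructions

/-!
# Stalks of base changes along field extensions
-/

set_option autoImplicit false

universe u

open CategoryTheory CategoryTheory.Limits AlgebraicGeometry

namespace Groth.Agent.CurvesB.StalkField

open StalkSemilinear

section Algebra

/-- Differentials of local rings of a base change, algebraic form. -/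
theorem isBaseChange_kaehler_of_localizations (k K R C A B : Type*) [CommRing k] [CommRing K]
    [CommRing R] [CommRing C] [CommRing A] [CommRing B]
    [Algebra k K] [Algebra k R] [Algebra k C] [Algebra K C] [Algebra R C]
    [IsScalarTower k K C] [IsScalarTower k R C] [Algebra.IsPushout k K R C]
    [Algebra k A] [Algebra R A] [IsScalarTower k R A]
    [Algebra k B] [Algebra K B] [Algebra R B] [Algebra C B] [Algebra A B]
    [IsScalarTower k K B] [IsScalarTower k R B] [IsScalarTower R C B] [IsScalarTower K C B]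
    [IsScalarTower k A B] [IsScalarTower R A B]
    (MA : Submonoid R) [IsLocalization MA A] (MC : Submonoid C) [IsLocalization MC B] :
    IsBaseChange B (KaehlerDifferential.map k K A B) := by
  have h1 := LocPushout.isBaseChange_kaehler k K R C B MC
  have := Algebra.FormallyEtale.of_isLocalization (Rₘ := A) MA
  have h2 := KaehlerDifferential.isBaseChange_of_formallyEtale k R A
  have h3 : ((KaehlerDifferential.map k K A B).restrictScalars R).comp
      (KaehlerDifferential.map k k R A) = KaehlerDifferential.map k K R B := by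
    apply Derivation.liftKaehlerDifferential_unique
    ext a
    simp [← IsScalarTower.algebraMap_apply R A B]
  refine IsBaseChange.of_comp h2 ?_
  rw [h3]
  exact h1

end Algebra

section StMap

variable {K : Type u} [Field K] {X : Scheme.{u}}

theorem stMap_eq_comp (f : X ⟶ Spec (CommRingCat.of K)) (x : X) :
    stMap f x = (f.stalkMap x).hom.comp (StructureSheaf.toStalk K (f x)).hom := by
  ext c
  rw [stMap_apply]
  exact (Scheme.Hom.germ_stalkMap_apply f ⊤ x trivial _).symm

theorem essFiniteType_stMap (f : X ⟶ Spec (CommRingCat.of K)) [LocallyOfFiniteType f] (x : X) :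
    (stMap f x).EssFiniteType := by
  rw [stMap_eq_comp]
  refine RingHom.EssFiniteType.comp ?_ (LocallyOfFiniteType.stalkMap f x)
  have h1 : IsLocalization.AtPrime ((Spec.structureSheaf K).presheaf.stalk (f x)) (f x).asIdeal :=
    inferInstance
  exact Algebra.EssFiniteType.of_isLocalization (R := K)
    ((Spec.structureSheaf K).presheaf.stalk (f x)) ((f x).asIdeal.primeCompl)

end StMap

section Sections

variable {K : Type u} [Field K] {X : Scheme.{u}}

/-- The structure map from the base field to the sections over an open. -/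
noncomputable def secMap (f : X ⟶ Spec (CommRingCat.of K)) (U : X.Opens) : K →+* Γ(X, U) :=
  (f.appLE ⊤ U le_top).hom.comp (Scheme.ΓSpecIso (CommRingCat.of K)).inv.hom

theorem germ_secMap (f : X ⟶ Spec (CommRingCat.of K)) (U : X.Opens) (x : X) (hx : x ∈ U) (c : K) :
    X.presheaf.germ U x hx (secMap f U c) = stMap f x c := by
  rw [stMap_apply]
  have h : f.appLE ⊤ U le_top = f.appTop ≫ X.presheaf.map (homOfLE le_top).op := by
    simp [Scheme.Hom.appLE]
  change (f.appLE ⊤ U le_top ≫ X.presheaf.germ U x hx) _ = _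
  rw [h, Category.assoc, TopCat.Presheaf.germ_res]
  rfl

end Sections

section Pullback

variable {k K : Type u} [Field k] [Field K] [Algebra k K] {X Y : Scheme.{u}} {p : Y ⟶ X}
  {f : X ⟶ Spec (CommRingCat.of k)} {q : Y ⟶ Spec (CommRingCat.of K)}

theorem isPushout_sections (H : IsPullback p q f (Spec.map (CommRingCat.ofHom (algebraMap k K))))
    {U : X.Opens} (hU : IsAffineOpen U) :
    IsPushout (CommRingCat.ofHom (secMap f U)) (CommRingCat.ofHom (algebraMap k K))
      (p.app U) (CommRingCat.ofHom (secMap q (p ⁻¹ᵁ U))) := by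
  have h1 := isIso_pushoutSection_of_isAffineOpen H (US := ⊤) (UT := ⊤) (UX := U) (UY := p ⁻¹ᵁ U)
    le_top le_top (by simp) (isAffineOpen_top _) (isAffineOpen_top _) hU
  rw [isIso_pushoutSection_iff] at h1
  refine h1.of_iso (Scheme.ΓSpecIso (CommRingCat.of k)) (Iso.refl _)
    (Scheme.ΓSpecIso (CommRingCat.of K)) (Iso.refl _) ?_ ?_ ?_ ?_
  · rw [Iso.refl_hom, Category.comp_id, ← Iso.inv_comp_eq]
    rfl
  · have := Scheme.ΓSpecIso_naturality (CommRingCat.ofHom (algebraMap k K))
    rw [← this]
    congr 1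
  · simp [Scheme.Hom.appLE]
  · rw [Iso.refl_hom, Category.comp_id, ← Iso.inv_comp_eq]
    rfl

theorem stalkMap_comp_stMap (H : IsPullback p q f (Spec.map (CommRingCat.ofHom (algebraMap k K)))) (y : Y) :
    (p.stalkMap y).hom.comp (stMap f (p y)) = (stMap q y).comp (algebraMap k K) := by
  ext c
  exact stalkMap_stMap p q f (algebraMap k K) H.w y c

/-- Differentials of the local rings of a base change of a `k`-scheme along a field extension `K/k`. -/
theorem isBaseChange_kaehler_stalk
    (H : IsPullback p q f (Spec.map (CommRingCat.ofHom (algebraMap k K)))) (y : Y)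
    [Algebra k (X.presheaf.stalk (p y))] [Algebra K (Y.presheaf.stalk y)]
    [Algebra k (Y.presheaf.stalk y)] [Algebra (X.presheaf.stalk (p y)) (Y.presheaf.stalk y)]
    [IsScalarTower k (X.presheaf.stalk (p y)) (Y.presheaf.stalk y)]
    [IsScalarTower k K (Y.presheaf.stalk y)]
    (h1 : algebraMap k (X.presheaf.stalk (p y)) = stMap f (p y))
    (h2 : algebraMap K (Y.presheaf.stalk y) = stMap q y)
    (h3 : algebraMap (X.presheaf.stalk (p y)) (Y.presheaf.stalk y) = (p.stalkMap y).hom) :
    IsBaseChange (Y.presheaf.stalk y)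
      (KaehlerDifferential.map k K (X.presheaf.stalk (p y)) (Y.presheaf.stalk y)) := by
  obtain ⟨U, hU, hx, -⟩ := exists_isAffineOpen_mem_and_subset (X := X) (x := p y) (U := ⊤) trivial
  have hp : IsAffineHom p := MorphismProperty.of_isPullback H.flip inferInstance
  have hV : IsAffineOpen (p ⁻¹ᵁ U) := hU.preimage p
  have hy : y ∈ p ⁻¹ᵁ U := hx
  have hpo := isPushout_sections H hU
  let _ : Algebra k Γ(X, U) := (secMap f U).toAlgebra
  let _ : Algebra K Γ(Y, p ⁻¹ᵁ U) := (secMap q (p ⁻¹ᵁ U)).toAlgebra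
  let _ : Algebra Γ(X, U) Γ(Y, p ⁻¹ᵁ U) := (p.app U).hom.toAlgebra
  let _ : Algebra k Γ(Y, p ⁻¹ᵁ U) := ((secMap q (p ⁻¹ᵁ U)).comp (algebraMap k K)).toAlgebra
  have _ : IsScalarTower k K Γ(Y, p ⁻¹ᵁ U) := IsScalarTower.of_algebraMap_eq' rfl
  have _ : IsScalarTower k Γ(X, U) Γ(Y, p ⁻¹ᵁ U) := IsScalarTower.of_algebraMap_eq' (by
    have := hpo.w
    exact congrArg CommRingCat.Hom.hom this.symm)
  have _ : Algebra.IsPushout k K Γ(X, U) Γ(Y, p ⁻¹ᵁ U) := by
    rw [← CommRingCat.isPushout_iff_isPushout]
    exact hpo.flip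
  let _ : Algebra Γ(X, U) (X.presheaf.stalk (p y)) := X.presheaf.algebra_section_stalk ⟨p y, hx⟩
  let _ : Algebra Γ(Y, p ⁻¹ᵁ U) (Y.presheaf.stalk y) := Y.presheaf.algebra_section_stalk ⟨y, hy⟩
  have hlocA := hU.isLocalization_stalk ⟨p y, hx⟩
  have hlocB := hV.isLocalization_stalk ⟨y, hy⟩
  let _ : Algebra Γ(X, U) (Y.presheaf.stalk y) :=
    ((p.stalkMap y).hom.comp (X.presheaf.germ U (p y) hx).hom).toAlgebra
  have _ : IsScalarTower k Γ(X, U) (X.presheaf.stalk (p y)) := IsScalarTower.of_algebraMap_eq fun c => by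
    rw [h1]
    exact (germ_secMap f U (p y) hx c).symm
  have _ : IsScalarTower K Γ(Y, p ⁻¹ᵁ U) (Y.presheaf.stalk y) := IsScalarTower.of_algebraMap_eq fun c => by
    rw [h2]
    exact (germ_secMap q (p ⁻¹ᵁ U) y hy c).symm
  have _ : IsScalarTower Γ(X, U) Γ(Y, p ⁻¹ᵁ U) (Y.presheaf.stalk y) := IsScalarTower.of_algebraMap_eq fun c =>
    Scheme.Hom.germ_stalkMap_apply p U y hx c
  have _ : IsScalarTower Γ(X, U) (X.presheaf.stalk (p y)) (Y.presheaf.stalk y) :=
    IsScalarTower.of_algebraMap_eq fun c => by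
      rw [h3]; rfl
  have _ : IsScalarTower k Γ(X, U) (Y.presheaf.stalk y) := IsScalarTower.of_algebraMap_eq fun c => by
    rw [IsScalarTower.algebraMap_apply k (X.presheaf.stalk (p y)) (Y.presheaf.stalk y),
      IsScalarTower.algebraMap_apply k Γ(X, U) (X.presheaf.stalk (p y)),
      ← IsScalarTower.algebraMap_apply Γ(X, U) (X.presheaf.stalk (p y)) (Y.presheaf.stalk y)]
  exact isBaseChange_kaehler_of_localizations k K Γ(X, U) Γ(Y, p ⁻¹ᵁ U) (X.presheaf.stalk (p y))
    (Y.presheaf.stalk y) (hU.primeIdealOf ⟨p y, hx⟩).asIdeal.primeCompl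
    (hV.primeIdealOf ⟨y, hy⟩).asIdeal.primeCompl

end Pullback

end Groth.Agent.CurvesB.StalkField
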