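import Groth.Agent.CohqB.HSeqMod
import Groth.Agent.CohqB.FiniteType2
import Groth.Agent.CohqB.DevSupport
import Groth.Agent.VarietyA.StalkCrit
import Groth.Agent.VarietyA.FiniteSupport
import Groth.Agent.VarietyA.GlobGen
import Groth.Agent.VarietyA.Flasque1
import Groth.Agent.CohtopA.Flasque
import Groth.Agent.CurvesB.DimOneTop
import Groth.Agent.S0458
import Groth.Prelude.Def_CurvBase
import Groth.Prelude.Def_CohTop

/-!
# Cohomology toolbox for modules on schemes of dimension at most one

* `hmapₗ k f n`: the `k`-linear map on `Coh.HH` induced by a morphism of modules;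
* `IsSmall F`: the stalks of `F` at the generic points of the irreducible components vanish;
* `subsingleton_of_isSmall`: on a Noetherian scheme of dimension at most one a module of finite type
  which is small has no higher cohomology;
* right exactness of `H^1`.
-/

set_option autoImplicit false
universe u
open CategoryTheory CategoryTheory.Limits AlgebraicGeometry TopologicalSpace Opposite

namespace Groth.Agent.CurvesB.SubH1

open Groth.Agent.CycB.StalkExact Groth.Agent.VarietyA.FiniteSupport Groth.Agent.VarietyA.StalkCrit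
open Groth.Agent.CohqB.HSeqMod

variable {X : Scheme.{u}}

theorem hmap_smul {M N : X.Modules} (f : M ⟶ N) (n : ℕ) (r : Coh.Γtop X) (x : Coh.HH X M n) :
    hmap f n (r • x) = r • hmap f n x := by
  rw [← hmap_smulModΓ, ← hmap_smulModΓ, ← hmap_comp_apply, ← hmap_comp_apply]
  congr 2
  ext U m
  exact (f.val.app (op U)).hom.map_smul (Coh.resTop X (op U) r) m

/-- The `A`-linear map on cohomology induced by a morphism of modules, for `X` over `Spec A`. -/
noncomputable def hmapₗ (A : Type u) [CommRing A] [X.Over (Spec (CommRingCat.of A))] {M N : X.Modules}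
    (f : M ⟶ N) (n : ℕ) : Coh.HH X M n →ₗ[A] Coh.HH X N n where
  toFun := hmap f n
  map_add' := map_add _
  map_smul' a x := hmap_smul f n (Coh.toGlobal (X ↘ Spec (CommRingCat.of A)) a) x

@[simp] theorem hmapₗ_apply (A : Type u) [CommRing A] [X.Over (Spec (CommRingCat.of A))] {M N : X.Modules}
    (f : M ⟶ N) (n : ℕ) (x : Coh.HH X M n) : hmapₗ A f n x = hmap f n x := rfl

/-- A generic point of an irreducible component: a point without proper generizations. -/
def IsGen (ξ : X) : Prop := ∀ y : X, y ⤳ ξ → y = ξ

/-- A module whose stalks at all generic points of irreducible components vanish. -/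
def IsSmall (F : X.Modules) : Prop := ∀ ξ : X, IsGen ξ → Subsingleton (F.presheaf.stalk ξ)

theorem IsSmall.of_mono {F G : X.Modules} (f : F ⟶ G) [Mono f] (h : IsSmall G) : IsSmall F := fun ξ hξ =>
  have := h ξ hξ
  (stalkLin_injective f ξ).subsingleton

theorem IsSmall.of_epi {F G : X.Modules} (f : F ⟶ G) [Epi f] (h : IsSmall F) : IsSmall G := fun ξ hξ =>
  have := h ξ hξ
  (stalkLin_surjective f ξ).subsingleton

section Top

attribute [local instance] specializationOrder

theorem dim_le_one_iff {T : Type*} [TopologicalSpace T] [QuasiSober T] [T0Space T] :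
    topologicalKrullDim T ≤ 1 ↔ ∀ x : T, (∀ y, x ⤳ y → y = x) ∨ (∀ y, y ⤳ x → y = x) := by
  rw [DimOneTop.topologicalKrullDim_eq_krullDim, Order.krullDim_le_one_iff]
  refine forall_congr' fun x => or_congr ⟨?_, ?_⟩ ⟨?_, ?_⟩
  · intro h y hy
    exact le_antisymm hy (h hy)
  · intro h y hy
    rw [h y hy]
  · intro h y hy
    exact le_antisymm (h hy) hy
  · intro h y hy
    rw [h y hy]

theorem dim_nonpos_iff {T : Type*} [TopologicalSpace T] [QuasiSober T] [T0Space T] :
    topologicalKrullDim T ≤ 0 ↔ ∀ x y : T, x ⤳ y → y = x := by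
  rw [DimOneTop.topologicalKrullDim_eq_krullDim, Order.krullDim_nonpos_iff_forall_isMin]
  refine forall_congr' fun x => ⟨?_, ?_⟩
  · intro h y hy
    exact le_antisymm hy (h hy)
  · intro h y hy
    rw [h y hy]

end Top

theorem topologicalKrullDim_support_le (hdim : topologicalKrullDim X ≤ 1) (F : X.Modules)
    (hc : IsClosed (CohB1.support F)) (h : IsSmall F) :
    topologicalKrullDim (CohB1.support F) ≤ 0 := by
  have hq : QuasiSober (CohB1.support F) := hc.isClosedEmbedding_subtypeVal.quasiSober
  rw [dim_nonpos_iff]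
  rw [dim_le_one_iff] at hdim
  intro a b hab
  have hab' : (a : X) ⤳ b := (subtype_specializes_iff _ _).mp hab
  rcases hdim (a : X) with h1 | h1
  · exact Subtype.ext (h1 _ hab')
  · exact absurd (h a h1) a.2

/-- On a Noetherian scheme of dimension at most one a small module of finite type has no higher
cohomology. -/
theorem subsingleton_of_isSmall [IsNoetherian X] (hdim : topologicalKrullDim X ≤ 1) (F : X.Modules)
    (hF : CohB1.IsFT F) (h : IsSmall F) (n : ℕ) : Subsingleton (Coh.HH X F (n + 1)) := by
  have hc := VarietyA.GlobGen.isClosed_support F hF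
  have hd := topologicalKrullDim_support_le hdim F hc h
  have hfin := VarietyA.GlobGen.finite_support F hF hd
  have hfl : TopCat.Sheaf.IsFlasque (show TopCat.Sheaf AddCommGrpCat.{u} X from Coh.toAb F) := by
    refine VarietyA.Flasque1.isFlasque_of_support_subset _ (CohB1.support F) ?_ ?_
    · intro T hT
      rw [← Set.biUnion_of_singleton T]
      exact (hfin.subset hT).isClosed_biUnion fun x hx =>
        VarietyA.GlobGen.isClosed_singleton_of_mem_support F hF hd (hT hx)
    · intro U hU s
      refine section_eq_of_stalks F (U := U) (fun x hx => ?_) s 0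
      by_contra hn
      exact Set.disjoint_left.mp hU hx hn
  exact @CohtopA.Flasque.subsingleton_H_succ _ (Coh.toAb F) hfl n

theorem subsingleton_ge_two [IsNoetherian X] (hdim : topologicalKrullDim X ≤ 1) (F : X.Modules) (p : ℕ)
    (hp : 1 < p) : Subsingleton (Coh.HH X F p) :=
  Groth.Agent.S0458.result 1 hdim (Coh.toAb F) p hp

/-- `H^1` is right exact. -/
theorem hmap_one_surjective_of_epi [IsNoetherian X] (hdim : topologicalKrullDim X ≤ 1) {F G : X.Modules}
    (f : F ⟶ G) [Epi f] : Function.Surjective (hmap f 1) := by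
  intro y
  have := subsingleton_ge_two hdim (kernel f) 2 (by norm_num)
  exact exact₃ (shortExact_kernel f) 1 y (Subsingleton.elim _ _)

theorem exists_hmap_one_eq_zero_iff {F G : X.Modules} (f : F ⟶ G) [Mono f] (x : Coh.HH X G 1)
    (hx : hmap (cokernel.π f) 1 x = 0) : ∃ y, hmap f 1 y = x :=
  exact₂ (shortExact_cokernel f) 1 x hx

/-- Elements of `H^1(G)` dying in `H^1` of the cokernel of `f : F ⟶ G` come from `H^1(F)`. -/
theorem exists_of_hmap_cokernel [IsNoetherian X] (hdim : topologicalKrullDim X ≤ 1) {F G : X.Modules}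
    (f : F ⟶ G) (x : Coh.HH X G 1) (hx : hmap (cokernel.π f) 1 x = 0) : ∃ y, hmap f 1 y = x := by
  obtain ⟨y, hy⟩ := exact₂ (CohqB.DevSupport.shortExact_image_cokernel f) 1 x hx
  obtain ⟨z, rfl⟩ := hmap_one_surjective_of_epi hdim (Abelian.factorThruImage f) y
  refine ⟨z, ?_⟩
  rw [← hy]
  change _ = hmap (Abelian.image.ι f) 1 _
  rw [← hmap_comp_apply, Abelian.image.fac]

theorem hmap_one_surjective_of_cokernel [IsNoetherian X] (hdim : topologicalKrullDim X ≤ 1) {F G : X.Modules}
    (f : F ⟶ G) (h : Subsingleton (Coh.HH X (cokernel f) 1)) : Function.Surjective (hmap f 1) := fun x =>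
  exists_of_hmap_cokernel hdim f x (Subsingleton.elim _ _)

/-- An epimorphism with small kernel of finite type is bijective on `H^1`. -/
theorem hmap_one_injective_of_kernel [IsNoetherian X] (hdim : topologicalKrullDim X ≤ 1) {F G : X.Modules}
    (f : F ⟶ G) [Epi f] (hF : CohB1.IsFT (kernel f)) (h : IsSmall (kernel f)) :
    Function.Injective (hmap f 1) := by
  rw [injective_iff_map_eq_zero]
  intro x hx
  obtain ⟨y, rfl⟩ := exact₂ (shortExact_kernel f) 1 x hx
  have := subsingleton_of_isSmall hdim _ hF h 0
  rw [show y = 0 from Subsingleton.elim _ _, map_zero]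

end Groth.Agent.CurvesB.SubH1
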