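import Groth.Agent.CurvesB.SubClosed
import Groth.Agent.CurvesB.SubH1
import Groth.Agent.CurvesB.HZero
import Groth.Agent.VarietyA.GlobGen
import Groth.Agent.VarietyA.FiniteSupport
import Groth.Agent.CycB.ModStalk
import Groth.Agent.CycB.CohProp
import Groth.Agent.FormalA.PullbackQC
import Groth.Agent.Ega1.QcqsPush
import Groth.Agent.Fdesc.PullbackStalk
import Groth.Agent.CycB.StalkLoc
import Groth.Agent.Ega2.TensGen
import Groth.Agent.Ega2.QCohLocal

/-!
# Sections vanishing at a closed point

* `VanAt L w`: every global section of `L` vanishes at `w`;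
* `exists_vanAt`: an invertible module which is not globally generated has such a closed point;
* `exists_point_quotient`: the quotient `L ⟶ L ⊗ κ(w)` for a closed point `w`;
* consequences for `H⁰`, and compatibility with closed immersions.
-/

set_option autoImplicit false
universe u
open CategoryTheory CategoryTheory.Limits AlgebraicGeometry TopologicalSpace Opposite
open scoped TensorProduct

namespace Groth.Agent.CurvesB.SubPoint

open Groth.Agent.CycB.StalkExact Groth.Agent.VarietyA.StalkCrit SubH1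

variable {X Y : Scheme.{u}}

/-- Every global section of `L` vanishes at `w`. -/
def VanAt (L : X.Modules) (w : X) : Prop :=
  ∀ s : Γ(L, ⊤), L.presheaf.germ ⊤ w trivial s ∈
    (IsLocalRing.maximalIdeal (X.presheaf.stalk w)) •
      (⊤ : Submodule (X.presheaf.stalk w) (L.presheaf.stalk w))

/-- A proper submodule of a free module of rank one over a local ring lies in `m • ⊤`. -/
theorem le_maximalIdeal_smul {R M : Type*} [CommRing R] [IsLocalRing R] [AddCommGroup M] [Module R M]
    {t : M} (ht : Function.Bijective (fun a : R => a • t)) (W : Submodule R M) (hW : W ≠ ⊤) :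
    W ≤ IsLocalRing.maximalIdeal R • (⊤ : Submodule R M) := by
  intro m hm
  obtain ⟨a, rfl⟩ := ht.2 m
  refine Submodule.smul_mem_smul ?_ trivial
  rw [IsLocalRing.mem_maximalIdeal]
  intro hu
  apply hW
  rw [eq_top_iff]
  intro n _
  obtain ⟨b, rfl⟩ := ht.2 n
  obtain ⟨c, hc⟩ := hu.exists_left_inv
  have h1 : (b * c) • (a • t) = b • t := by rw [smul_smul, mul_assoc, hc, mul_one]
  show b • t ∈ W
  rw [← h1]
  exact W.smul_mem (b * c) hm

/-- Invertible modules are coherent. -/
theorem isCoh_of_isInvertible {L : X.Modules} (hL : PicF.IsInvertible L) : Coh.IsCoh L := by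
  have hq : Coh.IsQCoh L := Ega2.QCohLocal.isQCoh_of_isInvertible hL
  refine ⟨hq, ?_⟩
  refine CohqB.FiniteType2.isFT_of_finite_sections _ fun x => ?_
  obtain ⟨U, e, hx, -, hU, he⟩ := Groth.Agent.Ega2.TensGen.exists_affine_gen hL x (V := ⊤) trivial
  refine ⟨U, hx, hU, ?_⟩
  have h : Function.Bijective (fun a : Γ(X, U) => a • e) := by simpa using he U le_rfl
  let e' : Γ(X, U) ≃ₗ[Γ(X, U)] Γ(L, U) :=
    LinearEquiv.ofBijective (LinearMap.toSpanSingleton _ _ e) h
  exact Module.Finite.equiv e'

theorem exists_vanAt [IsNoetherian X] (L : X.Modules) (hL : PicF.IsInvertible L)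
    (h : ¬ Curv2.IsGloballyGenerated L) : ∃ w : X, IsClosed ({w} : Set X) ∧ VanAt L w := by
  let I : Type u := Γ(L, ⊤)
  let P : X.Modules := SheafOfModules.free I
  let p : P ⟶ L := (SheafOfModules.freeHomEquiv L).symm fun t => VarietyA.GlobGen.sectionsOf t
  have hgerm : ∀ (t : Γ(L, ⊤)) (x : X), ∃ m, stalkLin p x m = L.presheaf.germ ⊤ x trivial t := by
    intro t x
    have h1 : SheafOfModules.sectionsMap p (SheafOfModules.freeSection t) =
        VarietyA.GlobGen.sectionsOf t :=
      SheafOfModules.sectionsMap_freeHomEquiv_symm_freeSection _ _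
    have h2 : p.app ⊤ ((SheafOfModules.freeSection (R := X.ringCatSheaf) t).1 (op ⊤)) = t := by
      have h3 := congrArg (fun s : SheafOfModules.sections L => s.1 (op ⊤)) h1
      refine (h3.trans ?_ : _)
      change L.presheaf.map (𝟙 _) t = t
      rw [CategoryTheory.Functor.map_id]
      rfl
    refine ⟨P.presheaf.germ ⊤ x trivial
      ((SheafOfModules.freeSection (R := X.ringCatSheaf) t).1 (op ⊤)), ?_⟩
    refine (stalkLin_germ p x (U := ⊤) trivial _).trans ?_
    exact congrArg _ h2
  have hne : (CohB1.support (cokernel p)).Nonempty := by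
    by_contra hem
    apply h
    refine ⟨I, p, ?_⟩
    refine epi_of_stalks p fun x => ?_
    rw [← subsingleton_cokernel_stalk_iff]
    by_contra hx
    exact hem ⟨x, hx⟩
  have hFT : CohB1.IsFT (cokernel p) :=
    CohqB.LocalQC.isFT_of_epi (cokernel.π p) (isCoh_of_isInvertible hL).2
  obtain ⟨w, hw, hwc⟩ := (VarietyA.GlobGen.isClosed_support _ hFT).exists_closed_singleton hne
  refine ⟨w, hwc, fun s => ?_⟩
  obtain ⟨t, ht⟩ := CycB.ModStalk.exists_isGen hL w
  have hr : LinearMap.range (stalkLin p w) ≠ ⊤ := by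
    intro hr
    exact hw ((subsingleton_cokernel_stalk_iff p w).mpr (LinearMap.range_eq_top.mp hr))
  obtain ⟨m, hm⟩ := hgerm s w
  exact le_maximalIdeal_smul ht _ hr ⟨m, hm⟩

section Algebra

/-- If `R → S` is surjective and `1 ⊗ m = 0` in `S ⊗ M` then `m` lies in `ker (R → S) • M`. -/
theorem mem_ker_smul_of_tmul {R S M : Type*} [CommRing R] [CommRing S] [Algebra R S] [AddCommGroup M]
    [Module R M] (hs : Function.Surjective (algebraMap R S)) (m : M)
    (h : (1 : S) ⊗ₜ[R] m = 0) : m ∈ RingHom.ker (algebraMap R S) • (⊤ : Submodule R M) := by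
  let I : Ideal R := RingHom.ker (algebraMap R S)
  have hex : Function.Exact (Submodule.subtype I) (Algebra.linearMap R S) := by
    intro a
    constructor
    · intro ha
      exact ⟨⟨a, ha⟩, rfl⟩
    · rintro ⟨b, rfl⟩
      exact b.2
  have h1 := rTensor_exact M hex hs
  have h2 : (Algebra.linearMap R S).rTensor M ((1 : R) ⊗ₜ[R] m) = 0 := by
    rw [LinearMap.rTensor_tmul]
    simpa using h
  obtain ⟨z, hz⟩ := (h1 _).mp h2
  have h3 : ∀ z : I ⊗[R] M, TensorProduct.lid R M ((Submodule.subtype I).rTensor M z) ∈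
      I • (⊤ : Submodule R M) := by
    intro z
    induction z using TensorProduct.induction_on with
    | zero => simp
    | tmul a n => simpa using Submodule.smul_mem_smul a.2 (show n ∈ (⊤ : Submodule R M) from trivial)
    | add a b ha hb => rw [map_add, map_add]; exact Submodule.add_mem _ ha hb
  have h4 := h3 z
  rw [hz] at h4
  simpa using h4

end Algebra

section Quotient

open Groth.Agent.Fdesc Groth.Agent.Fdesc.PullbackStalk Groth.Agent.Ega1.ClosedUnit

theorem stalkLin_unit_mem (i : Y ⟶ X) [IsClosedImmersion i] (L : X.Modules) (y : Y)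
    (t : L.presheaf.stalk (i y))
    (ht : stalkLin (SubClosed.unitι i L) (i y) t = 0) :
    t ∈ IsLocalRing.maximalIdeal (X.presheaf.stalk (i y)) •
      (⊤ : Submodule (X.presheaf.stalk (i y)) (L.presheaf.stalk (i y))) := by
  have h1 : canAdd i L y t = 0 := by
    have h2 := SubClosed.stalkLin_eq_stalkMap (SubClosed.unitι i L) (i y) t
    have h3 : canAdd i L y t = pushAdd i _ y (Skyscraper.stalkMap (SubClosed.unitι i L) (i y) t) := rfl
    rw [h3, ← h2, ht, map_zero]
  let _ := stalkAlg i y
  have h4 := stalkPullbackEquiv_tmul i L y 1 t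
  have h5 : (1 : Y.presheaf.stalk y) ⊗ₜ[X.presheaf.stalk (i.base y)] t = 0 := by
    apply (stalkPullbackEquiv i L y).injective
    rw [h4, h1, smul_zero, map_zero]
  have h6 := mem_ker_smul_of_tmul (i.stalkMap_surjective y) t h5
  refine Submodule.smul_mono_left ?_ h6
  apply IsLocalRing.le_maximalIdeal
  intro htop
  have h7 : (1 : X.presheaf.stalk (i y)) ∈ RingHom.ker (algebraMap (X.presheaf.stalk (i.base y))
      (Y.presheaf.stalk y)) := by rw [htop]; trivial
  rw [RingHom.mem_ker, map_one] at h7
  exact one_ne_zero h7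

/-- The maximal ideal of `O_{X, i y}` kills `(i_* G)_{i y}` if `O_{Y,y}` is a field. -/
theorem smul_stalk_push_eq_zero (i : Y ⟶ X) [IsClosedImmersion i] (G : Y.Modules) (y : Y)
    (hy : IsField (Y.presheaf.stalk y)) (a : X.presheaf.stalk (i y))
    (ha : a ∈ IsLocalRing.maximalIdeal (X.presheaf.stalk (i y)))
    (t : ((Scheme.Modules.pushforward i).obj G).presheaf.stalk (i y)) : a • t = 0 := by
  apply pushAdd_injective i i.isClosedEmbedding.isInducing G y
  have h1 := pushAdd_smul i G y a t
  have h2 : i.stalkMap y a = 0 := by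
    have h3 : (i.stalkMap y).hom a ∈ IsLocalRing.maximalIdeal (Y.presheaf.stalk y) := by
      rw [IsLocalRing.mem_maximalIdeal] at ha ⊢
      intro hu
      exact ha ((isUnit_map_iff (i.stalkMap y).hom a).mp hu)
    rw [IsLocalRing.isField_iff_maximalIdeal_eq.mp hy] at h3
    exact h3
  rw [h2, zero_smul] at h1
  exact h1.trans (map_zero _).symm

/-- `i_* i^* L` is coherent for a closed immersion `i`. -/
theorem isCoh_push_pull (i : Y ⟶ X) [IsClosedImmersion i] {L : X.Modules} (hL : Coh.IsCoh L) :
    Coh.IsCoh ((Scheme.Modules.pushforward i).obj ((Scheme.Modules.pullback i).obj L)) :=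
  CycB.CohProp.isCoh_of_epi (SubClosed.unitι i L) hL
    (Ega1.QcqsPush.isQCoh_pushforward i _ (FormalA.PullbackQC.isQCoh_pullback i L hL.1))

theorem nontrivial_stalk_push_pull (i : Y ⟶ X) [IsClosedImmersion i] {L : X.Modules}
    (hL : Coh.IsCoh L) (y : Y) (hne : ¬ Subsingleton (L.presheaf.stalk (i y))) :
    Nontrivial (((Scheme.Modules.pushforward i).obj
      ((Scheme.Modules.pullback i).obj L)).presheaf.stalk (i y)) := by
  by_contra hS
  rw [not_nontrivial_iff_subsingleton] at hS
  apply hne
  have hfin := CycB.StalkLoc.finite_stalk L hL (i y)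
  have h1 : (⊤ : Submodule (X.presheaf.stalk (i y)) (L.presheaf.stalk (i y))) ≤
      IsLocalRing.maximalIdeal (X.presheaf.stalk (i y)) • ⊤ := fun t _ =>
    stalkLin_unit_mem i L y t (Subsingleton.elim _ _)
  have h2 := Submodule.eq_bot_of_le_smul_of_le_jacobson_bot _ _ hfin.fg_top h1
    (IsLocalRing.maximalIdeal_le_jacobson _)
  exact (Submodule.subsingleton_iff _).mp (subsingleton_of_bot_eq_top h2.symm)

theorem point_quotient [IsReduced Y] (i : Y ⟶ X) [IsClosedImmersion i] (w : X)
    (hr : Set.range i = {w}) {L : X.Modules} (hL : Coh.IsCoh L)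
    (hne : ¬ Subsingleton (L.presheaf.stalk w)) :
    let S := (Scheme.Modules.pushforward i).obj ((Scheme.Modules.pullback i).obj L)
    let π : L ⟶ S := SubClosed.unitι i L
    Epi π ∧ Coh.IsCoh S ∧
      (∀ x, x ≠ w → Subsingleton (S.presheaf.stalk x)) ∧
      (∀ t : L.presheaf.stalk w, stalkLin π w t = 0 →
        t ∈ IsLocalRing.maximalIdeal (X.presheaf.stalk w) •
          (⊤ : Submodule (X.presheaf.stalk w) (L.presheaf.stalk w))) ∧
      (∀ a ∈ IsLocalRing.maximalIdeal (X.presheaf.stalk w), ∀ t : S.presheaf.stalk w, a • t = 0) ∧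
      Nontrivial (S.presheaf.stalk w) := by
  obtain ⟨y, rfl⟩ : w ∈ Set.range i := by rw [hr]; rfl
  have hall : ∀ y' : Y, i y' = i y := fun y' => by
    have : i y' ∈ ({i y} : Set X) := by rw [← hr]; exact ⟨y', rfl⟩
    exact this
  have hgen : IsGen y := fun y' _ => i.isClosedEmbedding.injective (hall y')
  have hf := GenStalk.isField_stalk y hgen
  exact ⟨inferInstance, isCoh_push_pull i hL,
    fun x hx => SubClosed.subsingleton_stalk_push i _ x (by rw [hr]; exact hx),
    fun t ht => stalkLin_unit_mem i L y t ht,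
    fun a ha t => smul_stalk_push_eq_zero i _ y hf a ha t,
    nontrivial_stalk_push_pull i hL y hne⟩

/-- The skyscraper quotient of a coherent module at a closed point. -/
theorem exists_point_quotient (w : X) (hw : IsClosed ({w} : Set X))
    (L : X.Modules) (hL : Coh.IsCoh L) (hne : ¬ Subsingleton (L.presheaf.stalk w)) :
    ∃ (S : X.Modules) (π : L ⟶ S), Epi π ∧ Coh.IsCoh S ∧
      (∀ x, x ≠ w → Subsingleton (S.presheaf.stalk x)) ∧
      (∀ t : L.presheaf.stalk w, stalkLin π w t = 0 →
        t ∈ IsLocalRing.maximalIdeal (X.presheaf.stalk w) •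
          (⊤ : Submodule (X.presheaf.stalk w) (L.presheaf.stalk w))) ∧
      (∀ a ∈ IsLocalRing.maximalIdeal (X.presheaf.stalk w), ∀ t : S.presheaf.stalk w, a • t = 0) ∧
      Nontrivial (S.presheaf.stalk w) := by
  let J : X.IdealSheafData := Scheme.IdealSheafData.vanishingIdeal ⟨{w}, hw⟩
  have hr : Set.range J.subschemeι = {w} := by
    erw [Scheme.IdealSheafData.range_subschemeι]
    rw [Scheme.IdealSheafData.coe_support_vanishingIdeal]
    rfl
  have hred : IsReduced J.subscheme := Ega1.ReducedSub.isReduced_subscheme_vanishingIdeal _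
  exact ⟨_, _, point_quotient J.subschemeι w hr hL hne⟩

/-- `pushAdd` maps `m_{i y} (i_* G)_{i y}` into `m_y G_y`. -/
theorem pushAdd_mem (i : Y ⟶ X) (G : Y.Modules) (y : Y)
    (t : ((Scheme.Modules.pushforward i).obj G).presheaf.stalk (i y))
    (ht : t ∈ IsLocalRing.maximalIdeal (X.presheaf.stalk (i y)) •
      (⊤ : Submodule (X.presheaf.stalk (i y))
        (((Scheme.Modules.pushforward i).obj G).presheaf.stalk (i y)))) :
    pushAdd i G y t ∈ IsLocalRing.maximalIdeal (Y.presheaf.stalk y) •
      (⊤ : Submodule (Y.presheaf.stalk y) (G.presheaf.stalk y)) := by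
  refine Submodule.smul_induction_on ht (fun a ha t _ => ?_) fun a b ha hb => ?_
  · have h1 := pushAdd_smul i G y a t
    rw [h1]
    refine Submodule.smul_mem_smul ?_ trivial
    have h3 : (i.stalkMap y).hom a ∈ IsLocalRing.maximalIdeal (Y.presheaf.stalk y) := by
      rw [IsLocalRing.mem_maximalIdeal] at ha ⊢
      intro hu
      exact ha ((isUnit_map_iff (i.stalkMap y).hom a).mp hu)
    exact h3
  · rw [map_add]
    exact Submodule.add_mem _ ha hb

/-- If a section of `i_* G` vanishes at `i y` then it vanishes at `y` as a section of `G`. -/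
theorem germ_mem_of_push (i : Y ⟶ X) (G : Y.Modules) (y : Y) (s : Γ(G, ⊤))
    (hs : ((Scheme.Modules.pushforward i).obj G).presheaf.germ ⊤ (i y) trivial s ∈
      IsLocalRing.maximalIdeal (X.presheaf.stalk (i y)) •
      (⊤ : Submodule (X.presheaf.stalk (i y))
        (((Scheme.Modules.pushforward i).obj G).presheaf.stalk (i y)))) :
    G.presheaf.germ ⊤ y trivial s ∈ IsLocalRing.maximalIdeal (Y.presheaf.stalk y) •
      (⊤ : Submodule (Y.presheaf.stalk y) (G.presheaf.stalk y)) := by
  have h := pushAdd_mem i G y _ hs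
  have h2 := pushAdd_germ i G y ⊤ trivial s
  rw [h2] at h
  exact h

/-- If every section of `i_* G` vanishes at `i y` then every section of `G` vanishes at `y`. -/
theorem vanAt_of_push (i : Y ⟶ X) (G : Y.Modules) (y : Y)
    (h : VanAt ((Scheme.Modules.pushforward i).obj G) (i y)) : VanAt G y :=
  fun s => germ_mem_of_push i G y s (h s)

/-- Vanishing at a point is preserved by morphisms. -/
theorem stalkLin_mem_smul {L M : X.Modules} (f : L ⟶ M) (w : X) (t : L.presheaf.stalk w)
    (ht : t ∈ IsLocalRing.maximalIdeal (X.presheaf.stalk w) •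
      (⊤ : Submodule (X.presheaf.stalk w) (L.presheaf.stalk w))) :
    stalkLin f w t ∈ IsLocalRing.maximalIdeal (X.presheaf.stalk w) •
      (⊤ : Submodule (X.presheaf.stalk w) (M.presheaf.stalk w)) := by
  have h1 := Submodule.mem_map_of_mem (f := stalkLin f w) ht
  rw [Submodule.map_smul''] at h1
  exact Submodule.smul_mono le_rfl le_top h1

/-- If `f : L ⟶ M` is surjective on global sections and all sections of `L` vanish at `w`, then all sections
of `M` vanish at `w`. -/
theorem VanAt.of_surjective {L M : X.Modules} (f : L ⟶ M) (w : X) (h : VanAt L w)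
    (hf : Function.Surjective (f.app ⊤)) : VanAt M w := by
  intro s
  obtain ⟨t, rfl⟩ := hf s
  rw [← stalkLin_germ f (U := ⊤) w trivial t]
  exact stalkLin_mem_smul f w _ (h t)

end Quotient

section Point

theorem isSmall_of_point {S : X.Modules} {w : X} (hw : ¬ IsGen w)
    (h0 : ∀ x, x ≠ w → Subsingleton (S.presheaf.stalk x)) : IsSmall S :=
  fun ξ hξ => h0 ξ fun h => hw (h ▸ hξ)

/-- A closed point `w` which is a generization of nothing else but is not open. -/
theorem not_isGen_of_specializes {w ξ : X} (h : ξ ⤳ w) (hne : ξ ≠ w) : ¬ IsGen w :=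
  fun hg => hne (hg ξ h)

theorem app_eq_zero_of_vanAt {L S : X.Modules} (π : L ⟶ S) {w : X}
    (h0 : ∀ x, x ≠ w → Subsingleton (S.presheaf.stalk x))
    (hk : ∀ a ∈ IsLocalRing.maximalIdeal (X.presheaf.stalk w), ∀ t : S.presheaf.stalk w, a • t = 0)
    (hv : VanAt L w) (s : Γ(L, ⊤)) : π.app ⊤ s = 0 := by
  refine VarietyA.FiniteSupport.section_eq S _ _ fun x hx => ?_
  by_cases hxw : x = w
  · subst hxw
    rw [← stalkLin_germ π (U := ⊤) x trivial s, map_zero]
    have h1 := Submodule.mem_map_of_mem (f := stalkLin π x) (hv s)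
    rw [Submodule.map_smul''] at h1
    have h2 : IsLocalRing.maximalIdeal (X.presheaf.stalk x) •
        (⊤ : Submodule (X.presheaf.stalk x) (S.presheaf.stalk x)) ≤ ⊥ := by
      rw [Submodule.smul_le]
      intro a ha t _
      rw [hk a ha t]
      exact Submodule.zero_mem _
    exact (Submodule.mem_bot _).mp (h2 (Submodule.smul_mono le_rfl le_top h1))
  · exact (h0 x hxw).elim _ _

theorem hmap_eq_zero_of_vanAt {L S : X.Modules} (π : L ⟶ S) {w : X}
    (h0 : ∀ x, x ≠ w → Subsingleton (S.presheaf.stalk x))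
    (hk : ∀ a ∈ IsLocalRing.maximalIdeal (X.presheaf.stalk w), ∀ t : S.presheaf.stalk w, a • t = 0)
    (hv : VanAt L w) (x : Coh.HH X L 0) : CohqB.HSeqMod.hmap π 0 x = 0 := by
  apply (HZero.equivAdd S).injective
  rw [map_zero]
  exact (HZero.equivAdd_map π x).trans (app_eq_zero_of_vanAt π h0 hk hv _)

theorem nontrivial_sections {S : X.Modules} {w : X} (hw : IsClosed ({w} : Set X))
    (h0 : ∀ x, x ≠ w → Subsingleton (S.presheaf.stalk x)) [Nontrivial (S.presheaf.stalk w)] :
    Nontrivial Γ(S, ⊤) := by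
  obtain ⟨t, ht⟩ := exists_ne (0 : S.presheaf.stalk w)
  obtain ⟨s, hs, -⟩ := VarietyA.FiniteSupport.exists_section_germ S (Z := {w}) (Set.finite_singleton w)
    (fun x hx => by rw [Set.mem_singleton_iff.mp hx]; exact hw) (fun x hx => h0 x hx) w t
  refine ⟨⟨s, 0, fun h => ht ?_⟩⟩
  rw [← hs, h, map_zero]

theorem nontrivial_HH {S : X.Modules} {w : X} (hw : IsClosed ({w} : Set X))
    (h0 : ∀ x, x ≠ w → Subsingleton (S.presheaf.stalk x)) [Nontrivial (S.presheaf.stalk w)] :
    Nontrivial (Coh.HH X S 0) :=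
  have := nontrivial_sections hw h0
  (HZero.equivAdd S).toEquiv.nontrivial

end Point

end Groth.Agent.CurvesB.SubPoint
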