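import Groth.Agent.CurvesB.CurveRR
import Groth.Agent.CurvesB.InvEmb
import Groth.Agent.VarietyB.DegCartier
import Groth.Agent.Fga.TwistCoh
import Groth.Agent.S1526
import Groth.Agent.S1558

/-!
# Twisting the ideal of a zero-dimensional subscheme of a curve by an invertible module

For a proper curve `X` over a field, an invertible module `L`, and a closed subscheme `Z` of
dimension zero with ideal `I`:
* `finrank_twist`: `h^0(I ⊗ L) + dim H^0(O_Z) + h^1(L) = h^0(L) + h^1(I ⊗ L)`;
* `deg_twist`: `deg L = h^0(I ⊗ L) - h^1(I ⊗ L) + dim H^0(O_Z) - h^0(O_X) + g`.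
-/

set_option autoImplicit false
universe u
open CategoryTheory CategoryTheory.Limits AlgebraicGeometry Opposite TopologicalSpace

namespace Groth.Agent.CurvesB.TwistIdeal

open Groth.Agent.CurvesB.CurveRR Groth.Agent.CurvesB.RankOne Groth.Agent.CurvesB.InvEmb
open Groth.Agent.VarietyA.EulerLES

variable (k : Type u) [Field k] {X : Scheme.{u}} [X.Over (Spec (CommRingCat.of k))]
  [IsProper (X ↘ (Spec (CommRingCat.of k)))]

theorem dim_support_quotMod (Z : X.IdealSheafData)
    (hZ : topologicalKrullDim (Z.support : Set X) ≤ 0) :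
    topologicalKrullDim (CohB1.support (ClSub.quotMod Z)) ≤ 0 := by
  refine le_trans ?_ hZ
  exact (Topology.IsInducing.subtypeVal.of_comp_iff
    (f := Set.inclusion (VarietyB.DegCartier.support_quotMod_subset Z))
    |>.mp Topology.IsInducing.subtypeVal).topologicalKrullDim_le

/-- The twisted sequence `0 → L ⊗ I → L ⊗ O → L ⊗ O_Z → 0`. -/
noncomputable def seq (L : X.Modules) (Z : X.IdealSheafData) : ShortComplex X.Modules :=
  (VarietyB.DegCartier.idealSeq Z).map (DCoh.tensorBi.obj L)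

theorem seq_shortExact {L : X.Modules} (hL : PicF.IsInvertible L) (Z : X.IdealSheafData) :
    (seq L Z).ShortExact :=
  Fga.TwistCoh.shortExact_tensorBi hL _ (VarietyB.DegCartier.idealSeq_shortExact Z)

/-- `I ⊗ L ≅ L ⊗ I`. -/
noncomputable def iso₁ (L : X.Modules) (Z : X.IdealSheafData) :
    CohB1.tensorMod (ClSub.idealMod Z) L ≅ (seq L Z).X₁ := Ega2.Tens.swap _ _

/-- `L ⊗ O ≅ L`. -/
noncomputable def iso₂ (L : X.Modules) (Z : X.IdealSheafData) : (seq L Z).X₂ ≅ L := Ega2.Tens.runit L

/-- `L ⊗ O_Z ≅ O_Z ⊗ L`. -/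
noncomputable def iso₃ (L : X.Modules) (Z : X.IdealSheafData) :
    (seq L Z).X₃ ≅ CohB1.tensorMod (ClSub.quotMod Z) L := Ega2.Tens.swap _ _

theorem isCoh_X₃ {L : X.Modules} (hL : PicF.IsInvertible L) (Z : X.IdealSheafData) :
    Coh.IsCoh (seq L Z).X₃ :=
  VarietyA.EulerFinite.isCoh_of_iso (iso₃ L Z).symm
    (Fga.TwistCoh.isCoh_tensor (VarietyB.DegCartier.isCoh_quotMod Z) hL)

theorem dim_support_X₃ {L : X.Modules} (hL : PicF.IsInvertible L) (Z : X.IdealSheafData)
    (hZ : topologicalKrullDim (Z.support : Set X) ≤ 0) :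
    topologicalKrullDim (CohB1.support (CohB1.tensorMod (ClSub.quotMod Z) L)) ≤ 0 := by
  refine le_trans ?_ (dim_support_quotMod Z hZ)
  exact (Topology.IsInducing.subtypeVal.of_comp_iff
    (f := Set.inclusion (Fga.TwistCoh.support_tensor_subset hL (F := ClSub.quotMod Z)))
    |>.mp Topology.IsInducing.subtypeVal).topologicalKrullDim_le

include k in
theorem subsingleton_tensor {L : X.Modules} (hL : PicF.IsInvertible L) (Z : X.IdealSheafData)
    (hZ : topologicalKrullDim (Z.support : Set X) ≤ 0) (i : ℕ) (hi : 1 ≤ i) :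
    Subsingleton (Coh.HH X (CohB1.tensorMod (ClSub.quotMod Z) L) i) :=
  S1526.result k X _ (Fga.TwistCoh.isCoh_tensor (VarietyB.DegCartier.isCoh_quotMod Z) hL)
    (dim_support_X₃ hL Z hZ) i hi

include k in
theorem subsingleton_quotMod (Z : X.IdealSheafData)
    (hZ : topologicalKrullDim (Z.support : Set X) ≤ 0) (i : ℕ) (hi : 1 ≤ i) :
    Subsingleton (Coh.HH X (ClSub.quotMod Z) i) :=
  S1526.result k X _ (VarietyB.DegCartier.isCoh_quotMod Z) (dim_support_quotMod Z hZ) i hi

/-- `dim H^0(O_Z ⊗ L) = dim H^0(O_Z)`. -/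
theorem finrank_tensor {L : X.Modules} (hL : PicF.IsInvertible L) (Z : X.IdealSheafData)
    (hZ : topologicalKrullDim (Z.support : Set X) ≤ 0) :
    Module.finrank k (Coh.HH X (CohB1.tensorMod (ClSub.quotMod Z) L) 0) =
      Module.finrank k (Coh.HH X (ClSub.quotMod Z) 0) := by
  have h := S1558.result k X (ClSub.quotMod Z) (VarietyB.DegCartier.isCoh_quotMod Z)
    (dim_support_quotMod Z hZ) 1 L (VarietyB.DegCartier.isFinLocFreeOfRank_one hL)
  rw [VarietyA.EulerFinite.euler_eq_of_vanish k X _ fun i hi => subsingleton_tensor k hL Z hZ i hi,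
    VarietyA.EulerFinite.euler_eq_of_vanish k X _ fun i hi => subsingleton_quotMod k Z hZ i hi] at h
  push_cast at h
  rw [one_mul] at h
  exact_mod_cast h

theorem finrank_twist {L : X.Modules} (hL : PicF.IsInvertible L) (Z : X.IdealSheafData)
    (hZ : topologicalKrullDim (Z.support : Set X) ≤ 0)
    [Module.Finite k (Coh.HH X L 0)]
    [Module.Finite k (Coh.HH X (CohB1.tensorMod (ClSub.quotMod Z) L) 0)]
    [Module.Finite k (Coh.HH X (CohB1.tensorMod (ClSub.idealMod Z) L) 1)] :
    Module.finrank k (Coh.HH X (CohB1.tensorMod (ClSub.idealMod Z) L) 0) +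
        Module.finrank k (Coh.HH X (ClSub.quotMod Z) 0) + Module.finrank k (Coh.HH X L 1) =
      Module.finrank k (Coh.HH X L 0) +
        Module.finrank k (Coh.HH X (CohB1.tensorMod (ClSub.idealMod Z) L) 1) := by
  have f1 : Module.Finite k (Coh.HH X (seq L Z).X₂ 0) := Module.Finite.equiv (equivA k (iso₂ L Z) 0).symm
  have f2 : Module.Finite k (Coh.HH X (seq L Z).X₃ 0) := Module.Finite.equiv (equivA k (iso₃ L Z) 0).symm
  have f3 : Module.Finite k (Coh.HH X (seq L Z).X₁ 1) := Module.Finite.equiv (equivA k (iso₁ L Z) 1)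
  have hT : Subsingleton (Coh.HH X (seq L Z).X₃ 1) := by
    have := subsingleton_tensor k hL Z hZ 1 le_rfl
    exact (equivA k (iso₃ L Z) 1).toEquiv.subsingleton
  have h := finrank_of_shortExact k (seq L Z) (seq_shortExact hL Z) hT
  rw [(equivA k (iso₂ L Z) 0).finrank_eq, (equivA k (iso₂ L Z) 1).finrank_eq,
    (equivA k (iso₃ L Z) 0).finrank_eq, ← (equivA k (iso₁ L Z) 0).finrank_eq,
    ← (equivA k (iso₁ L Z) 1).finrank_eq, finrank_tensor k hL Z hZ] at h
  exact h

theorem deg_twist (hd : topologicalKrullDim X ≤ 1) {L : X.Modules} (hL : PicF.IsInvertible L)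
    (Z : X.IdealSheafData) (hZ : topologicalKrullDim (Z.support : Set X) ≤ 0)
    [Module.Finite k (Coh.HH X L 0)]
    [Module.Finite k (Coh.HH X (CohB1.tensorMod (ClSub.quotMod Z) L) 0)]
    [Module.Finite k (Coh.HH X (CohB1.tensorMod (ClSub.idealMod Z) L) 1)] :
    Curv2.deg k X L 1 =
      (Module.finrank k (Coh.HH X (CohB1.tensorMod (ClSub.idealMod Z) L) 0) : ℤ) -
        Module.finrank k (Coh.HH X (CohB1.tensorMod (ClSub.idealMod Z) L) 1) +
        Module.finrank k (Coh.HH X (ClSub.quotMod Z) 0) -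
        ((Module.finrank k (Coh.HH X (Coh.structureModule X) 0) : ℤ) - (Curv2.genus k X : ℤ)) := by
  have := isNoetherian_of_proper k X
  rw [deg_eq k X hd]
  have h := finrank_twist k hL Z hZ
  omega

/-- Twists of ideals by invertible modules are locally embedded in `O_X`. -/
theorem locEmb_idealMod_tensor [IsIntegral X] {L : X.Modules} (hL : PicF.IsInvertible L)
    (Z : X.IdealSheafData) : LocEmb (CohB1.tensorMod (ClSub.idealMod Z) L) := by
  have := CohqA.IdealMod.mono_idealModι Z
  exact locEmb_tensor (LocEmb.of_mono (ClSub.idealModι Z)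
    (locEmb_of_isInvertible (Fdesc.LocGen.isInvertible_structureModule))) hL

end Groth.Agent.CurvesB.TwistIdeal
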