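import Groth.Agent.CurvesB.PairLemma
import Groth.Agent.CurvesB.SubClosed
import Groth.Agent.CurvesB.TwistIdeal
import Groth.Agent.CycB.C1Pull
import Groth.Agent.CycB.ModStalk
import Groth.Agent.PerfB.FlatPull
import Groth.Agent.Ega1.ClosedUnit

/-!
# Generic rank of twisted ideals and their restrictions to closed subschemes

* `rankOne_of_isInvertible`;
* `twι L Z : I_Z ⊗ L ⟶ L`, bijective on stalks off the support of `Z`;
* restriction to a closed subscheme of modules and maps at generic points;
* `not_mem_support_of_isGen`: on a connected Noetherian scheme of dimension one a closed subset of dimension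
  zero contains no generic point.
-/

set_option autoImplicit false
universe u
open CategoryTheory CategoryTheory.Limits AlgebraicGeometry TopologicalSpace Opposite

namespace Groth.Agent.CurvesB.SubRank

open Groth.Agent.CycB.StalkExact Groth.Agent.VarietyA.FiniteSupport Groth.Agent.VarietyA.StalkCrit
open SubH1 SubLemma GenStalk PairLemma Groth.Agent.Fdesc.PullbackStalk

variable {X : Scheme.{u}}

/-- (R1) Invertible modules have generic rank one. -/
theorem nonempty_stalk_equiv {L : X.Modules} (hL : PicF.IsInvertible L) (x : X) :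
    Nonempty (L.presheaf.stalk x ≃ₗ[X.presheaf.stalk x] X.presheaf.stalk x) := by
  obtain ⟨t, ht⟩ := CycB.ModStalk.exists_isGen hL x
  exact ⟨(LinearEquiv.ofBijective (LinearMap.toSpanSingleton _ _ t) ht).symm⟩

theorem rankOne_of_isInvertible {L : X.Modules} (hL : PicF.IsInvertible L) : RankOne L :=
  fun ξ _ => nonempty_stalk_equiv hL ξ

/-- `I_Z ⊗ L ⟶ L`. -/
noncomputable def twι (L : X.Modules) (Z : X.IdealSheafData) :
    CohB1.tensorMod (ClSub.idealMod Z) L ⟶ L :=
  (TwistIdeal.iso₁ L Z).hom ≫ (TwistIdeal.seq L Z).f ≫ (TwistIdeal.iso₂ L Z).hom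

theorem mono_twι {L : X.Modules} (hL : PicF.IsInvertible L) (Z : X.IdealSheafData) : Mono (twι L Z) := by
  have := (TwistIdeal.seq_shortExact hL Z).mono_f
  unfold twι
  infer_instance

theorem subsingleton_stalk_X₃ {L : X.Modules} (hL : PicF.IsInvertible L) (Z : X.IdealSheafData) (ξ : X)
    (hξ : ξ ∉ Z.support) : Subsingleton ((TwistIdeal.seq L Z).X₃.presheaf.stalk ξ) := by
  have h1 : ξ ∉ CohB1.support (CohB1.tensorMod (ClSub.quotMod Z) L) := fun h =>
    hξ (VarietyB.DegCartier.support_quotMod_subset Z (Fga.TwistCoh.support_tensor_subset hL h))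
  rw [CohqB.DevSupport.not_mem_support_iff] at h1
  exact (stalkLin_injective (TwistIdeal.iso₃ L Z).hom ξ).subsingleton

/-- (R2) `I_Z ⊗ L ⟶ L` is bijective on stalks off the support of `Z`. -/
theorem stalkLin_twι_bijective {L : X.Modules} (hL : PicF.IsInvertible L) (Z : X.IdealSheafData) (ξ : X)
    (hξ : ξ ∉ Z.support) : Function.Bijective (stalkLin (twι L Z) ξ) := by
  have := mono_twι hL Z
  refine ⟨stalkLin_injective _ ξ, ?_⟩
  have hex := stalkLin_exact (TwistIdeal.seq L Z) (TwistIdeal.seq_shortExact hL Z).exact ξ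
  have hs := subsingleton_stalk_X₃ hL Z ξ hξ
  intro t
  obtain ⟨t', rfl⟩ := stalkLin_surjective (TwistIdeal.iso₂ L Z).hom ξ t
  obtain ⟨m, rfl⟩ := (hex t').mp (Subsingleton.elim _ _)
  obtain ⟨m', rfl⟩ := stalkLin_surjective (TwistIdeal.iso₁ L Z).hom ξ m
  refine ⟨m', ?_⟩
  unfold twι
  rw [stalkLin_comp, stalkLin_comp]
  rfl

theorem isCoh_tw [IsLocallyNoetherian X] {L : X.Modules} (hL : PicF.IsInvertible L) (Z : X.IdealSheafData) :
    Coh.IsCoh (CohB1.tensorMod (ClSub.idealMod Z) L) :=
  Fga.TwistCoh.isCoh_tensor (VarietyB.DegCartier.isCoh_idealMod Z) hL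

theorem rankOne_tw {L : X.Modules} (hL : PicF.IsInvertible L) (Z : X.IdealSheafData)
    (hZ : ∀ ξ : X, IsGen ξ → ξ ∉ Z.support) : RankOne (CohB1.tensorMod (ClSub.idealMod Z) L) := by
  intro ξ hξ
  obtain ⟨e⟩ := nonempty_stalk_equiv hL ξ
  exact ⟨(LinearEquiv.ofBijective _ (stalkLin_twι_bijective hL Z ξ (hZ ξ hξ))).trans e⟩

theorem isSmall_kernel_of_injective {M N : X.Modules} (φ : M ⟶ N)
    (h : ∀ ξ : X, IsGen ξ → Function.Injective (stalkLin φ ξ)) : IsSmall (kernel φ) :=
  fun ξ hξ => (subsingleton_kernel_stalk_iff φ ξ).mpr (h ξ hξ)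

theorem isSmall_cokernel_of_surjective {M N : X.Modules} (φ : M ⟶ N)
    (h : ∀ ξ : X, IsGen ξ → Function.Surjective (stalkLin φ ξ)) : IsSmall (cokernel φ) :=
  fun ξ hξ => (subsingleton_cokernel_stalk_iff φ ξ).mpr (h ξ hξ)

theorem isSmall_kernel_twι {L : X.Modules} (hL : PicF.IsInvertible L) (Z : X.IdealSheafData)
    (hZ : ∀ ξ : X, IsGen ξ → ξ ∉ Z.support) : IsSmall (kernel (twι L Z)) :=
  isSmall_kernel_of_injective _ fun ξ hξ => (stalkLin_twι_bijective hL Z ξ (hZ ξ hξ)).1

theorem isSmall_cokernel_twι {L : X.Modules} (hL : PicF.IsInvertible L) (Z : X.IdealSheafData)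
    (hZ : ∀ ξ : X, IsGen ξ → ξ ∉ Z.support) : IsSmall (cokernel (twι L Z)) :=
  isSmall_cokernel_of_surjective _ fun ξ hξ => (stalkLin_twι_bijective hL Z ξ (hZ ξ hξ)).2

section Pullback

variable {W : Scheme.{u}} (g : W ⟶ X)

/-- The stalk map of a closed immersion at a point mapping to a generic point of a reduced scheme. -/
theorem stalkMap_bijective [IsReduced X] [IsClosedImmersion g] (w : W) (hw : IsGen (g w)) :
    Function.Bijective (g.stalkMap w) := by
  refine ⟨?_, g.stalkMap_surjective w⟩
  letI := (isField_stalk (g w) hw).toField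
  exact (g.stalkMap w).hom.injective

theorem canAdd_bijective [IsReduced X] [IsClosedImmersion g] (M : X.Modules) (w : W) (hw : IsGen (g w)) :
    Function.Bijective (canAdd g M w) := by
  have h := stalkMap_bijective g w hw
  refine ⟨Ega1.ClosedUnit.canAdd_injective g M w h.2 fun a ha t => ?_,
    Ega1.ClosedUnit.canAdd_surjective g M w h.2⟩
  have : a = 0 := h.1 (ha.trans (map_zero _).symm)
  rw [this, zero_smul]

/-- (R3) Pullback along a closed immersion preserves bijectivity on stalks at generic points. -/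
theorem stalkLin_pullback_bijective [IsReduced X] [IsClosedImmersion g] {M N : X.Modules} (φ : M ⟶ N) (w : W)
    (hw : IsGen (g w)) (h : Function.Bijective (stalkLin φ (g w))) :
    Function.Bijective (stalkLin ((Scheme.Modules.pullback g).map φ) w) := by
  have h1 := canAdd_bijective g M w hw
  have h2 := canAdd_bijective g N w hw
  have key : (stalkLin ((Scheme.Modules.pullback g).map φ) w) ∘ (canAdd g M w) =
      (canAdd g N w) ∘ (stalkLin φ (g w)) := by
    funext t
    exact PerfB.FlatPull.stalkLin_pullback_canAdd g φ w t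
  have h3 : Function.Bijective ((stalkLin ((Scheme.Modules.pullback g).map φ) w) ∘ (canAdd g M w)) := by
    rw [key]
    exact h2.comp h
  exact (Function.Bijective.of_comp_iff _ h1).mp h3

theorem rankOne_pullback [IsReduced X] [IsClosedImmersion g] {M : X.Modules}
    (hg : ∀ w : W, IsGen w → IsGen (g w)) (hM : RankOne M) :
    RankOne ((Scheme.Modules.pullback g).obj M) := by
  intro w hw
  obtain ⟨e⟩ := hM (g w) (hg w hw)
  have hσ := stalkMap_bijective g w (hg w hw)
  let c := AddEquiv.ofBijective (canAdd g M w) (canAdd_bijective g M w (hg w hw))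
  let σ := RingEquiv.ofBijective (g.stalkMap w).hom hσ
  have hc : ∀ (r : X.presheaf.stalk (g w)) (t : M.presheaf.stalk (g w)), c (r • t) = σ r • c t :=
    fun r t => canAdd_smul g M w r t
  refine ⟨{ (c.symm.trans (e.toAddEquiv.trans σ.toAddEquiv)) with map_smul' := ?_ }⟩
  intro a m
  obtain ⟨r, rfl⟩ := σ.surjective a
  obtain ⟨t, rfl⟩ := c.surjective m
  change σ (e (c.symm (σ r • c t))) = σ r * σ (e (c.symm (c t)))
  rw [← hc, AddEquiv.symm_apply_apply, AddEquiv.symm_apply_apply, map_smul, smul_eq_mul, map_mul]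

/-- The kernel of the map onto the image is small as soon as the map is injective at the generic points. -/
theorem isSmall_kernel_factorThruImage {M N : X.Modules} (φ : M ⟶ N)
    (h : ∀ ξ : X, IsGen ξ → Function.Injective (stalkLin φ ξ)) :
    IsSmall (kernel (Abelian.factorThruImage φ)) := by
  refine isSmall_kernel_of_injective _ fun ξ hξ => ?_
  have h1 := h ξ hξ
  rw [← Abelian.image.fac φ, stalkLin_comp] at h1
  exact Function.Injective.of_comp (f := stalkLin (Abelian.image.ι φ) ξ) (by simpa using h1)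

theorem torsionFree_image [IsReduced X] {M N : X.Modules} (φ : M ⟶ N) (hN : PicF.IsInvertible N) :
    TorsionFree (Abelian.image φ) :=
  TorsionFree.of_mono (Abelian.image.ι φ) (torsionFree_of_isInvertible hN)

theorem isSmall_kernel_pullback_tw [IsReduced X] [IsClosedImmersion g] {L : X.Modules}
    (hL : PicF.IsInvertible L) (Z : X.IdealSheafData) (hg : ∀ w : W, IsGen w → IsGen (g w))
    (hZ : ∀ ξ : X, IsGen ξ → ξ ∉ Z.support) :
    IsSmall (kernel (Abelian.factorThruImage ((Scheme.Modules.pullback g).map (twι L Z)))) :=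
  isSmall_kernel_factorThruImage _ fun w hw =>
    (stalkLin_pullback_bijective g _ w (hg w hw) (stalkLin_twι_bijective hL Z _ (hZ _ (hg w hw)))).1

theorem torsionFree_image_pullback_tw [IsReduced W] {L : X.Modules} (hL : PicF.IsInvertible L)
    (Z : X.IdealSheafData) :
    TorsionFree (Abelian.image ((Scheme.Modules.pullback g).map (twι L Z))) :=
  torsionFree_image _ (CycB.C1Pull.isInvertible_pullback g hL)

end Pullback

section Dim

/-- On a connected Noetherian scheme of dimension one no generic point is closed. -/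
theorem exists_specializes_ne [NoetherianSpace X] [ConnectedSpace X] (hdim : topologicalKrullDim X = 1) (ξ : X)
    (hξ : IsGen ξ) : ∃ y : X, ξ ⤳ y ∧ y ≠ ξ := by
  by_contra hcon
  push Not at hcon
  have hcl : closure {ξ} = {ξ} := by
    refine Set.Subset.antisymm (fun y hy => ?_) subset_closure
    exact hcon y (specializes_iff_mem_closure.mpr hy)
  have hclosed : IsClosed ({ξ} : Set X) := hcl ▸ isClosed_closure
  -- the complement is the closure of the other generic points
  have hopen : IsOpen ({ξ} : Set X) := by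
    have hfin : ({η : X | IsGen η ∧ η ≠ ξ}).Finite := (SubClosed.finite_isGen X).subset fun η h => h.1
    have h1 : ({ξ} : Set X)ᶜ = closure {η : X | IsGen η ∧ η ≠ ξ} := by
      ext x
      rw [SubClosed.mem_closure_iff_of_finite hfin]
      constructor
      · intro hx
        obtain ⟨η, hη, hηx⟩ := SubClosed.exists_isGen_specializes x
        refine ⟨η, ⟨hη, ?_⟩, hηx⟩
        rintro rfl
        exact hx (hcon x hηx)
      · rintro ⟨η, ⟨hη, hne⟩, hηx⟩ (rfl : x = ξ)
        exact hne (hξ η hηx)
    rw [← isClosed_compl_iff, h1]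
    exact isClosed_closure
  have huniv : ({ξ} : Set X) = Set.univ :=
    (isClopen_iff.mp ⟨hclosed, hopen⟩).resolve_left (Set.singleton_ne_empty ξ)
  have h0 : topologicalKrullDim X ≤ 0 := by
    rw [dim_nonpos_iff]
    intro x y _
    have hx : x ∈ ({ξ} : Set X) := huniv ▸ Set.mem_univ x
    have hy : y ∈ ({ξ} : Set X) := huniv ▸ Set.mem_univ y
    rw [Set.mem_singleton_iff] at hx hy
    rw [hx, hy]
  rw [hdim] at h0
  exact absurd h0 (by decide)

/-- (R4) On a connected Noetherian scheme of dimension one a closed subset of dimension zero contains no generic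
point. -/
theorem not_mem_of_isGen [NoetherianSpace X] [ConnectedSpace X] (hdim : topologicalKrullDim X = 1)
    (T : Set X) (hT : IsClosed T) (hT0 : topologicalKrullDim T ≤ 0) (ξ : X) (hξ : IsGen ξ) : ξ ∉ T := by
  intro hmem
  obtain ⟨y, hy, hne⟩ := exists_specializes_ne hdim ξ hξ
  have hq : QuasiSober T := hT.isClosedEmbedding_subtypeVal.quasiSober
  rw [dim_nonpos_iff] at hT0
  have hyT : y ∈ T := hy.mem_closed hT hmem
  have := hT0 ⟨ξ, hmem⟩ ⟨y, hyT⟩ ((subtype_specializes_iff _ _).mpr hy)
  exact hne (congrArg Subtype.val this)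

theorem not_mem_support_of_isGen [NoetherianSpace X] [ConnectedSpace X] (hdim : topologicalKrullDim X = 1)
    (Z : X.IdealSheafData) (hZ : topologicalKrullDim (Z.support : Set X) ≤ 0) (ξ : X) (hξ : IsGen ξ) :
    ξ ∉ Z.support :=
  not_mem_of_isGen hdim (Z.support : Set X) Z.support.isClosed hZ ξ hξ

end Dim

end Groth.Agent.CurvesB.SubRank
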