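import Groth.Agent.CurvesB.SubClosed
import Groth.Agent.VarietyB.HHPush
import Groth.Agent.VarietyB.PullSec
import Groth.Agent.PerfB.TensUnit
import Groth.Agent.Fga.EulerIso
import Groth.Agent.Fdesc.StructMod

/-!
# Transfer of numerical invariants to the closed subscheme of an ideal sheaf

For a closed immersion `g : W ⟶ X` over `k` and `J = g.ker`, the closed subscheme `J.subscheme ⟶ X` is isomorphic to
`W` over `X`, hence has the same invariants.
-/

set_option autoImplicit false
universe u
open CategoryTheory CategoryTheory.Limits AlgebraicGeometry TopologicalSpace Opposite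

namespace Groth.Agent.CurvesB.SubEuler

open SubH1 SubClosed

/-! ### Invariance under isomorphisms -/

section Iso

variable {X Y : Scheme.{u}} (e : X ⟶ Y) [IsIso e]

theorem isIso_unit (M : Y.Modules) : IsIso (unitι e M) := by
  refine Ega1.ClosedUnit.isIso_unit e M (fun x hx => ?_) (fun y a ha t => ?_)
  · exact absurd (e.surjective x) hx
  · have : Function.Injective (e.stalkMap y) :=
      ((ConcreteCategory.bijective_of_isIso (e.stalkMap y))).1
    have h0 : a = 0 := this (ha.trans (map_zero (e.stalkMap y).hom).symm)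
    rw [h0, zero_smul]

variable (k : Type u) [Field k] [X.Over (Spec (CommRingCat.of k))] [Y.Over (Spec (CommRingCat.of k))]
  (he : e ≫ (Y ↘ Spec (CommRingCat.of k)) = X ↘ Spec (CommRingCat.of k))

include he in
theorem nonempty_equiv_pullback (M : Y.Modules) (hM : Coh.IsQCoh M) (n : ℕ) :
    Nonempty (Coh.HH X ((Scheme.Modules.pullback e).obj M) n ≃ₗ[k] Coh.HH Y M n) := by
  obtain ⟨f⟩ := VarietyB.HHPush.exists_linearEquiv e k he _ (VarietyB.PullSec.isQCoh_pullback e M hM) n
  have := isIso_unit e M
  exact ⟨f.symm.trans (Fga.EulerIso.HHequiv k (asIso (unitι e M)) n).symm⟩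

include he in
theorem euler_pullback (M : Y.Modules) (hM : Coh.IsQCoh M) :
    Curv2.euler k X ((Scheme.Modules.pullback e).obj M) = Curv2.euler k Y M := by
  unfold Curv2.euler
  refine finsum_congr fun i => ?_
  obtain ⟨f⟩ := nonempty_equiv_pullback e k he M hM i
  rw [f.finrank_eq]

end Iso

section EulerCongr

variable {X : Scheme.{u}} (k : Type u) [Field k] [X.Over (Spec (CommRingCat.of k))]

theorem euler_congr {M N : X.Modules} (e : M ≅ N) : Curv2.euler k X M = Curv2.euler k X N := by
  unfold Curv2.euler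
  exact finsum_congr fun i => by rw [(Fga.EulerIso.HHequiv k e i).finrank_eq]

theorem deg_congr {M N : X.Modules} (e : M ≅ N) (n : ℕ) : Curv2.deg k X M n = Curv2.deg k X N n := by
  unfold Curv2.deg
  rw [euler_congr k e]

end EulerCongr

section Iso2

variable {X Y : Scheme.{u}} (e : X ⟶ Y) [IsIso e]
variable (k : Type u) [Field k] [X.Over (Spec (CommRingCat.of k))] [Y.Over (Spec (CommRingCat.of k))]
  (he : e ≫ (Y ↘ Spec (CommRingCat.of k)) = X ↘ Spec (CommRingCat.of k))

include he in
theorem nonempty_equiv_unit (n : ℕ) :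
    Nonempty (Coh.HH X (Coh.structureModule X) n ≃ₗ[k] Coh.HH Y (Coh.structureModule Y) n) := by
  obtain ⟨f⟩ := nonempty_equiv_pullback e k he (Coh.structureModule Y) (Fdesc.StructMod.isCoh_structureModule Y).1 n
  exact ⟨(Fga.EulerIso.HHequiv k (PerfB.TensUnit.pullbackUnit e) n).symm.trans f⟩

include e he in
theorem euler_unit : Curv2.euler k X (Coh.structureModule X) = Curv2.euler k Y (Coh.structureModule Y) := by
  unfold Curv2.euler
  refine finsum_congr fun i => ?_
  obtain ⟨f⟩ := nonempty_equiv_unit e k he i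
  rw [f.finrank_eq]

include e he in
theorem genus_eq : Curv2.genus k X = Curv2.genus k Y := by
  unfold Curv2.genus
  obtain ⟨f⟩ := nonempty_equiv_unit e k he 1
  rw [f.finrank_eq]

include he in
theorem deg_pullback (M : Y.Modules) (hM : Coh.IsQCoh M) (n : ℕ) :
    Curv2.deg k X ((Scheme.Modules.pullback e).obj M) n = Curv2.deg k Y M n := by
  unfold Curv2.deg
  rw [euler_pullback e k he M hM, euler_unit e k he]

end Iso2

/-! ### The ideal of a closed immersion -/

section Ker

variable {W X : Scheme.{u}} (g : W ⟶ X) [IsClosedImmersion g]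

/-- The isomorphism of `W` with the closed subscheme of the ideal of `g`. -/
noncomputable abbrev toKer : W ⟶ g.ker.subscheme := g.toImage

omit [IsClosedImmersion g] in
theorem toKer_subschemeι : toKer g ≫ g.ker.subschemeι = g := g.toImage_imageι

instance isIso_toKer : IsIso (toKer g) := inferInstanceAs (IsIso g.toImage)

theorem isReduced_ker [IsReduced W] : IsReduced g.ker.subscheme :=
  isReduced_of_isOpenImmersion (inv (toKer g))

theorem connectedSpace_ker [ConnectedSpace W] : ConnectedSpace g.ker.subscheme :=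
  (toKer g).surjective.connectedSpace (toKer g).continuous

theorem topologicalKrullDim_ker : topologicalKrullDim g.ker.subscheme = topologicalKrullDim W :=
  (IsHomeomorph.topologicalKrullDim_eq _ (toKer g).homeomorph.isHomeomorph).symm

variable (k : Type u) [Field k] [X.Over (Spec (CommRingCat.of k))] [W.Over (Spec (CommRingCat.of k))]
  (hg : g ≫ (X ↘ Spec (CommRingCat.of k)) = W ↘ Spec (CommRingCat.of k))

include hg in
theorem deg_ker (L : X.Modules) (hL : Coh.IsQCoh L) (n : ℕ) :
    @Curv2.deg k _ g.ker.subscheme ⟨g.ker.subschemeι ≫ (X ↘ (Spec (CommRingCat.of k)))⟩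
      ((Scheme.Modules.pullback g.ker.subschemeι).obj L) n =
      Curv2.deg k W ((Scheme.Modules.pullback g).obj L) n := by
  let : g.ker.subscheme.Over (Spec (CommRingCat.of k)) := ⟨g.ker.subschemeι ≫ (X ↘ (Spec (CommRingCat.of k)))⟩
  have he : toKer g ≫ (g.ker.subscheme ↘ Spec (CommRingCat.of k)) = W ↘ Spec (CommRingCat.of k) := by
    change toKer g ≫ g.ker.subschemeι ≫ (X ↘ (Spec (CommRingCat.of k))) = _
    rw [← Category.assoc, toKer_subschemeι, hg]
  rw [← deg_pullback (toKer g) k he _ (VarietyB.PullSec.isQCoh_pullback _ L hL) n]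
  refine deg_congr k ?_ n
  exact (Scheme.Modules.pullbackComp (toKer g) g.ker.subschemeι).app L ≪≫
    (Scheme.Modules.pullbackCongr (toKer_subschemeι g)).app L

include hg in
theorem euler_ker : @Curv2.euler k _ g.ker.subscheme ⟨g.ker.subschemeι ≫ (X ↘ (Spec (CommRingCat.of k)))⟩
      (Coh.structureModule g.ker.subscheme) = Curv2.euler k W (Coh.structureModule W) := by
  let : g.ker.subscheme.Over (Spec (CommRingCat.of k)) := ⟨g.ker.subschemeι ≫ (X ↘ (Spec (CommRingCat.of k)))⟩
  have he : toKer g ≫ (g.ker.subscheme ↘ Spec (CommRingCat.of k)) = W ↘ Spec (CommRingCat.of k) := by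
    change toKer g ≫ g.ker.subschemeι ≫ (X ↘ (Spec (CommRingCat.of k))) = _
    rw [← Category.assoc, toKer_subschemeι, hg]
  exact (euler_unit (toKer g) k he).symm

include hg in
theorem genus_ker : @Curv2.genus k _ g.ker.subscheme ⟨g.ker.subschemeι ≫ (X ↘ (Spec (CommRingCat.of k)))⟩ =
      Curv2.genus k W := by
  let : g.ker.subscheme.Over (Spec (CommRingCat.of k)) := ⟨g.ker.subschemeι ≫ (X ↘ (Spec (CommRingCat.of k)))⟩
  have he : toKer g ≫ (g.ker.subscheme ↘ Spec (CommRingCat.of k)) = W ↘ Spec (CommRingCat.of k) := by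
    change toKer g ≫ g.ker.subschemeι ≫ (X ↘ (Spec (CommRingCat.of k))) = _
    rw [← Category.assoc, toKer_subschemeι, hg]
  exact (genus_eq (toKer g) k he).symm

end Ker

end Groth.Agent.CurvesB.SubEuler
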