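import Groth.Agent.CurvesB.SubH1
import Groth.Agent.Sga67.CohBasic

/-!
# `H^1` of quotients depends only on the generic stalks

`F` coherent with generic stalks having only trivial submodules; for quotients `p : F ⟶ Q`, `p' : F ⟶ Q'` such
that `Q` vanishes at all generic points where `Q'` vanishes, the kernel of `H^1(F) → H^1(Q')` is contained in the
kernel of `H^1(F) → H^1(Q)`.
-/

set_option autoImplicit false
universe u
open CategoryTheory CategoryTheory.Limits AlgebraicGeometry TopologicalSpace Opposite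

namespace Groth.Agent.CurvesB.SubLemma

open Groth.Agent.CycB.StalkExact Groth.Agent.VarietyA.FiniteSupport Groth.Agent.VarietyA.StalkCrit
open Groth.Agent.CohqB.HSeqMod SubH1

variable {X : Scheme.{u}}

/-- General comparison: `a : K ⟶ F`, `p' : F ⟶ Q'` the cokernel of `a`, `p : F ⟶ Q` epi such that `a ≫ p` is zero on
generic stalks. -/
theorem hmap_eq_zero [IsNoetherian X] (hdim : topologicalKrullDim X ≤ 1) {F Q Q' : X.Modules}
    (hF : Coh.IsCoh F) (hQ' : Coh.IsQCoh Q') (p : F ⟶ Q) (p' : F ⟶ Q') [Epi p] [Epi p']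
    (h : ∀ ξ : X, IsGen ξ → stalkLin (kernel.ι p' ≫ p) ξ = 0)
    (c : Coh.HH X F 1) (hc : hmap p' 1 c = 0) : hmap p 1 c = 0 := by
  let g : kernel p' ⟶ Q := kernel.ι p' ≫ p
  have hK : CohB1.IsFT (kernel p') := (Sga67.CohBasic.isCoh_kernel p' hF hQ').2
  -- the projection `Q ⟶ coker g` has small kernel of finite type
  have hft : CohB1.IsFT (kernel (cokernel.π g)) :=
    CohqB.LocalQC.isFT_of_epi (Abelian.factorThruImage g) hK
  have hsm : IsSmall (kernel (cokernel.π g)) := by
    intro ξ hξ
    refine subsingleton_of_forall_eq 0 fun t => ?_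
    obtain ⟨s, rfl⟩ := stalkLin_surjective (Abelian.factorThruImage g) ξ t
    apply stalkLin_injective (Abelian.image.ι g) ξ
    rw [map_zero, ← LinearMap.comp_apply, ← stalkLin_comp, Abelian.image.fac, h ξ hξ]
    rfl
  apply hmap_one_injective_of_kernel hdim (cokernel.π g) hft hsm
  rw [map_zero, ← hmap_comp_apply]
  have hz : kernel.ι p' ≫ (p ≫ cokernel.π g) = 0 := by
    rw [← Category.assoc]; exact cokernel.condition g
  have hfac : p ≫ cokernel.π g = p' ≫ Abelian.epiDesc p' _ hz := (Abelian.comp_epiDesc p' _ hz).symm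
  rw [hfac, hmap_comp_apply, hc, map_zero]

/-- All submodules of the generic stalks are trivial. -/
def GenSimple (F : X.Modules) : Prop :=
  ∀ ξ : X, IsGen ξ → ∀ W : Submodule (X.presheaf.stalk ξ) (F.presheaf.stalk ξ), W = ⊥ ∨ W = ⊤

theorem GenSimple.of_epi {F G : X.Modules} (hF : GenSimple F) (p : F ⟶ G) [Epi p] : GenSimple G := by
  intro ξ hξ W
  have hs := stalkLin_surjective p ξ
  rcases hF ξ hξ (W.comap (stalkLin p ξ)) with h | h
  · left
    rw [← Submodule.map_comap_eq_of_surjective hs W, h, Submodule.map_bot]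
  · right
    rw [← Submodule.map_comap_eq_of_surjective hs W, h, Submodule.map_top, LinearMap.range_eq_top.mpr hs]

/-- If the stalk of the quotient `Q'` at the generic point `ξ` does not vanish, the kernel has stalk zero. -/
theorem stalkLin_kernel_eq_zero {F Q' : X.Modules} (hF : GenSimple F) (p' : F ⟶ Q') [Epi p'] (ξ : X)
    (hξ : IsGen ξ) (h : ¬ Subsingleton (Q'.presheaf.stalk ξ)) : stalkLin (kernel.ι p') ξ = 0 := by
  have hex : Function.Exact (stalkLin (kernel.ι p') ξ) (stalkLin p' ξ) :=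
    stalkLin_exact (ShortComplex.mk _ _ (kernel.condition p')) (shortExact_kernel p').exact ξ
  rcases hF ξ hξ (LinearMap.range (stalkLin (kernel.ι p') ξ)) with h1 | h1
  · exact LinearMap.range_eq_bot.mp h1
  · exfalso
    apply h
    refine subsingleton_of_forall_eq 0 fun t => ?_
    obtain ⟨s, rfl⟩ := stalkLin_surjective p' ξ t
    rw [hex s]
    rw [LinearMap.range_eq_top] at h1
    exact h1 s

/-- The main comparison lemma. -/
theorem hmap_eq_zero_of_quotients [IsNoetherian X] (hdim : topologicalKrullDim X ≤ 1) {F Q Q' : X.Modules}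
    (hF : Coh.IsCoh F) (hFs : GenSimple F) (hQ' : Coh.IsQCoh Q') (p : F ⟶ Q) (p' : F ⟶ Q') [Epi p] [Epi p']
    (h : ∀ ξ : X, IsGen ξ → Subsingleton (Q'.presheaf.stalk ξ) → Subsingleton (Q.presheaf.stalk ξ))
    (c : Coh.HH X F 1) (hc : hmap p' 1 c = 0) : hmap p 1 c = 0 := by
  refine hmap_eq_zero hdim hF hQ' p p' (fun ξ hξ => ?_) c hc
  by_cases h1 : Subsingleton (Q'.presheaf.stalk ξ)
  · have := h ξ hξ h1
    exact LinearMap.ext fun _ => Subsingleton.elim _ _
  · rw [stalkLin_comp, stalkLin_kernel_eq_zero hFs p' ξ hξ h1, LinearMap.comp_zero]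

end Groth.Agent.CurvesB.SubLemma
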