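import Groth.Prelude.Def_ega3
import Mathlib.Algebra.Category.ModuleCat.ChangeOfRings
import Mathlib.Algebra.Homology.ShortComplex.PreservesHomology
import Mathlib.Algebra.Homology.ShortComplex.HomologicalComplex

/-!
# The functors `T_p` of a base changed complex

For `φ : A → B` and a complex `P` of `A`-modules, `T_p(B ⊗_A P)(M) = T_p(P)(M|_A)`, naturally in the
`B`-module `M`.
-/

set_option autoImplicit false
universe u

open CategoryTheory CategoryTheory.Limits MonoidalCategory TensorProduct

namespace Groth.Agent.CurvesB.TBaseChange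

variable {A B : Type u} [CommRing A] [CommRing B] (φ : A →+* B)

section Mod

/-- plain form: `N ⊗_A M → (B ⊗_A N) ⊗_B M`. -/
noncomputable def toFunAux [Algebra A B] (N : Type u) [AddCommGroup N] [Module A N] (M : Type u)
    [AddCommGroup M] [Module B M] [Module A M] [IsScalarTower A B M] :
    N ⊗[A] M ≃+ (B ⊗[A] N) ⊗[B] M :=
  (TensorProduct.comm A N M).toAddEquiv.trans
    ((AlgebraTensorModule.cancelBaseChange A B B M N).symm.toAddEquiv.trans
      (TensorProduct.comm B M (B ⊗[A] N)).toAddEquiv)

theorem toFunAux_tmul [Algebra A B] (N : Type u) [AddCommGroup N] [Module A N] (M : Type u)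
    [AddCommGroup M] [Module B M] [Module A M] [IsScalarTower A B M] (n : N) (m : M) :
    toFunAux (A := A) (B := B) N M (n ⊗ₜ m) = ((1 : B) ⊗ₜ[A] n) ⊗ₜ[B] m := by
  change TensorProduct.comm B M (B ⊗[A] N) ((AlgebraTensorModule.cancelBaseChange A B B M N).symm
    (TensorProduct.comm A N M (n ⊗ₜ m))) = _
  rw [TensorProduct.comm_tmul]
  have h : (AlgebraTensorModule.cancelBaseChange A B B M N).symm (m ⊗ₜ[A] n) =
      m ⊗ₜ[B] ((1 : B) ⊗ₜ[A] n) := by
    rw [LinearEquiv.symm_apply_eq]
    simp
  rw [h, TensorProduct.comm_tmul]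

theorem toFunAux_smul [Algebra A B] (N : Type u) [AddCommGroup N] [Module A N] (M : Type u)
    [AddCommGroup M] [Module B M] [Module A M] [IsScalarTower A B M] (a : A) (x : N ⊗[A] M) :
    toFunAux (A := A) (B := B) N M (a • x) =
      algebraMap A B a • toFunAux (A := A) (B := B) N M x := by
  induction x using TensorProduct.induction_on with
  | zero => rw [smul_zero, map_zero, smul_zero]
  | tmul n m =>
    rw [TensorProduct.smul_tmul', toFunAux_tmul, toFunAux_tmul, TensorProduct.smul_tmul',
      TensorProduct.smul_tmul', smul_eq_mul, mul_one, TensorProduct.tmul_smul,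
      TensorProduct.smul_tmul', Algebra.smul_def, mul_one]
  | add x y hx hy => rw [smul_add, map_add, map_add, hx, hy, smul_add]

set_option backward.isDefEq.respectTransparency false in
/-- The `A`-linear map `N ⊗_A M ⟶ (B ⊗_A N) ⊗_B M`. -/
noncomputable def cancelHom (N : ModuleCat.{u} A) (M : ModuleCat.{u} B) :
    N ⊗ (ModuleCat.restrictScalars φ).obj M ⟶
      (ModuleCat.restrictScalars φ).obj ((ModuleCat.extendScalars φ).obj N ⊗ M) :=
  letI := φ.toAlgebra
  letI : Module A M := Module.compHom M φ
  haveI : IsScalarTower A B M := ⟨fun a b m => by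
    change (φ a * b) • m = φ a • (b • m)
    rw [mul_smul]⟩
  ModuleCat.ofHom (X := (N ⊗ (ModuleCat.restrictScalars φ).obj M : ModuleCat.{u} A))
    (Y := (ModuleCat.restrictScalars φ).obj ((ModuleCat.extendScalars φ).obj N ⊗ M))
    { toFun := fun x => toFunAux (A := A) (B := B) N M x
      map_add' := fun x y => map_add (toFunAux (A := A) (B := B) N M) x y
      map_smul' := fun a x => toFunAux_smul (A := A) (B := B) N M a x }

instance isIso_cancelHom (N : ModuleCat.{u} A) (M : ModuleCat.{u} B) : IsIso (cancelHom φ N M) := by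
  rw [ConcreteCategory.isIso_iff_bijective]
  let _ := φ.toAlgebra
  let _ : Module A M := Module.compHom M φ
  have : IsScalarTower A B M := ⟨fun a b m => by
    change (φ a * b) • m = φ a • (b • m)
    rw [mul_smul]⟩
  exact (toFunAux (A := A) (B := B) N M).bijective

set_option backward.isDefEq.respectTransparency false in
theorem cancelHom_tmul (N : ModuleCat.{u} A) (M : ModuleCat.{u} B) (n : N) (m : M) :
    (cancelHom φ N M).hom (n ⊗ₜ[A] (show (ModuleCat.restrictScalars φ).obj M from m)) =
      (((1 : B) ⊗ₜ[A] n : (ModuleCat.extendScalars φ).obj N) ⊗ₜ[B] m) := by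
  let _ := φ.toAlgebra
  let _ : Module A M := Module.compHom M φ
  have : IsScalarTower A B M := ⟨fun a b m => by
    change (φ a * b) • m = φ a • (b • m)
    rw [mul_smul]⟩
  exact toFunAux_tmul (A := A) (B := B) N M n m

set_option backward.isDefEq.respectTransparency false in
theorem cancelHom_naturality_left {N N' : ModuleCat.{u} A} (g : N ⟶ N') (M : ModuleCat.{u} B) :
    g ▷ (ModuleCat.restrictScalars φ).obj M ≫ cancelHom φ N' M =
      cancelHom φ N M ≫
        (ModuleCat.restrictScalars φ).map ((ModuleCat.extendScalars φ).map g ▷ M) := by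
  apply ModuleCat.hom_ext
  apply TensorProduct.ext'
  intro n m
  exact (cancelHom_tmul φ N' M (g.hom n) m).trans
    (congrArg ((ModuleCat.extendScalars φ).map g ▷ M).hom (cancelHom_tmul φ N M n m)).symm

set_option backward.isDefEq.respectTransparency false in
theorem cancelHom_naturality_right (N : ModuleCat.{u} A) {M M' : ModuleCat.{u} B} (g : M ⟶ M') :
    N ◁ (ModuleCat.restrictScalars φ).map g ≫ cancelHom φ N M' =
      cancelHom φ N M ≫
        (ModuleCat.restrictScalars φ).map ((ModuleCat.extendScalars φ).obj N ◁ g) := by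
  apply ModuleCat.hom_ext
  apply TensorProduct.ext'
  intro n m
  exact (cancelHom_tmul φ N M' n (g.hom m)).trans
    (congrArg ((ModuleCat.extendScalars φ).obj N ◁ g).hom (cancelHom_tmul φ N M n m)).symm

end Mod

section Complex

variable {ι : Type} {c : ComplexShape ι} (P : HomologicalComplex (ModuleCat.{u} A) c)

/-- The iso of complexes `P ⊗_A M ≅ (B ⊗_A P) ⊗_B M`. -/
noncomputable def cxIso (M : ModuleCat.{u} B) :
    CohIII.tensorObj P ((ModuleCat.restrictScalars φ).obj M) ≅
      ((ModuleCat.restrictScalars φ).mapHomologicalComplex c).obj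
        (CohIII.tensorObj (CohIII.bcCx φ P) M) :=
  HomologicalComplex.Hom.isoOfComponents (fun i =>
      @asIso _ _ _ _ (cancelHom φ (P.X i) M) (isIso_cancelHom φ (P.X i) M))
    (fun i j _ => (cancelHom_naturality_left φ (P.d i j) M).symm)

theorem cxIso_naturality {M M' : ModuleCat.{u} B} (g : M ⟶ M') :
    CohIII.tensorMap P ((ModuleCat.restrictScalars φ).map g) ≫ (cxIso φ P M').hom =
      (cxIso φ P M).hom ≫ ((ModuleCat.restrictScalars φ).mapHomologicalComplex c).map
        (CohIII.tensorMap (CohIII.bcCx φ P) g) := by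
  ext i : 1
  exact cancelHom_naturality_right φ (P.X i) g

/-- restriction of scalars commutes with homology -/
noncomputable def resHomologyIso (Q : HomologicalComplex (ModuleCat.{u} B) c) (i : ι) :
    (((ModuleCat.restrictScalars φ).mapHomologicalComplex c).obj Q).homology i ≅
      (ModuleCat.restrictScalars φ).obj (Q.homology i) :=
  (Q.sc i).mapHomologyIso (ModuleCat.restrictScalars φ)

lemma resHomologyIso_naturality {Q Q' : HomologicalComplex (ModuleCat.{u} B) c} (g : Q ⟶ Q') (i : ι) :
    HomologicalComplex.homologyMap (((ModuleCat.restrictScalars φ).mapHomologicalComplex c).map g) i ≫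
      (resHomologyIso φ Q' i).hom =
    (resHomologyIso φ Q i).hom ≫
      (ModuleCat.restrictScalars φ).map (HomologicalComplex.homologyMap g i) :=
  ShortComplex.mapHomologyIso_hom_naturality
    (φ := (HomologicalComplex.shortComplexFunctor _ c i).map g) (F := ModuleCat.restrictScalars φ)

/-- `T_p` of the base changed complex. -/
noncomputable def tFunIso (i : ι) :
    ModuleCat.restrictScalars φ ⋙ CohIII.TFun P i ≅
      CohIII.TFun (CohIII.bcCx φ P) i ⋙ ModuleCat.restrictScalars φ :=
  NatIso.ofComponents (fun M => HomologicalComplex.homologyMapIso (cxIso φ P M) i ≪≫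
      resHomologyIso φ _ i) (fun {M M'} g => by
    change HomologicalComplex.homologyMap (CohIII.tensorMap P ((ModuleCat.restrictScalars φ).map g)) i ≫
      (HomologicalComplex.homologyMap (cxIso φ P M').hom i ≫ (resHomologyIso φ _ i).hom) =
      (HomologicalComplex.homologyMap (cxIso φ P M).hom i ≫ (resHomologyIso φ _ i).hom) ≫
      (ModuleCat.restrictScalars φ).map (HomologicalComplex.homologyMap
        (CohIII.tensorMap (CohIII.bcCx φ P) g) i)
    rw [← HomologicalComplex.homologyMap_comp_assoc, cxIso_naturality,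
      HomologicalComplex.homologyMap_comp_assoc, resHomologyIso_naturality, Category.assoc])

/-- forgetful version of `tFunIso`. -/
noncomputable def tFunForgetIso (i : ι) :
    ModuleCat.restrictScalars φ ⋙ (CohIII.TFun P i ⋙ forget₂ (ModuleCat.{u} A) AddCommGrpCat.{u}) ≅
      CohIII.TFun (CohIII.bcCx φ P) i ⋙ forget₂ (ModuleCat.{u} B) AddCommGrpCat.{u} :=
  Functor.isoWhiskerRight (tFunIso φ P i) (forget₂ (ModuleCat.{u} A) AddCommGrpCat.{u}) ≪≫
    NatIso.ofComponents (fun _ => Iso.refl _) (fun _ => rfl)

end Complex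

end Groth.Agent.CurvesB.TBaseChange
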