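import Groth.Agent.CurvesB.FinTrace
import Mathlib.RingTheory.Kaehler.Basic
import Mathlib.LinearAlgebra.Projection

/-!
# Tate's residue functional in the one-point-at-infinity form

`K` is a commutative `k`-algebra and `P : K →ₗ[k] K` is such that `[P, g]` has finite rank for all
`g : K` (`Adm P`).  Then `f dg ↦ Tr (f ∘ [P, g])` is a `k`-linear functional `lam hP` on `Ω[K⁄k]`,
unchanged if `P` is modified by a finite rank operator, and zero on `D dD` if `P` is a projection
onto the subalgebra `D`.  If `C`, `R ≤ K` are subspaces with `C ⊓ R` and `K ⧸ (C ⊔ R)`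
finite-dimensional, `f C ≤ C + (finite)` and `f R ≤ R + (finite)` for all `f`, then such a `P` exists.
-/

set_option autoImplicit false
set_option linter.style.haveILetI false

namespace Groth.Agent.CurvesB.TateLam

open LinearMap Module Groth.Agent.CurvesB.FinTrace

variable {k K : Type*} [Field k] [CommRing K] [Algebra k K]

/-- The commutator `[P, g]`. -/
def brk (P : K →ₗ[k] K) (g : K) : K →ₗ[k] K :=
  P ∘ₗ LinearMap.mulLeft k g - LinearMap.mulLeft k g ∘ₗ P

theorem brk_apply (P : K →ₗ[k] K) (g x : K) : brk P g x = P (g * x) - g * P x := rfl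

/-- All commutators `[P, g]` have finite rank. -/
def Adm (P : K →ₗ[k] K) : Prop := ∀ g, FR (brk P g)

/-- The bilinear form `(f, g) ↦ Tr (f ∘ [P, g])`. -/
noncomputable def bf (P : K →ₗ[k] K) (f g : K) : k := ftr (LinearMap.mulLeft k f ∘ₗ brk P g)

theorem brk_add (P : K →ₗ[k] K) (g g' : K) : brk P (g + g') = brk P g + brk P g' := by
  ext x
  simp only [brk_apply, LinearMap.add_apply, add_mul, map_add]
  ring

theorem brk_smul (P : K →ₗ[k] K) (c : k) (g : K) : brk P (c • g) = c • brk P g := by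
  ext x
  simp only [brk_apply, LinearMap.smul_apply, smul_mul_assoc, map_smul, smul_sub]

theorem brk_mul (P : K →ₗ[k] K) (g h : K) :
    brk P (g * h) = brk P g ∘ₗ LinearMap.mulLeft k h + LinearMap.mulLeft k g ∘ₗ brk P h := by
  ext x
  simp only [brk_apply, LinearMap.add_apply, LinearMap.comp_apply, LinearMap.mulLeft_apply,
    mul_assoc, mul_sub]
  ring

theorem bf_add_left {P : K →ₗ[k] K} (hP : Adm P) (f f' g : K) :
    bf P (f + f') g = bf P f g + bf P f' g := by
  rw [bf, bf, bf, ← ftr_add ((hP g).comp_right _) ((hP g).comp_right _)]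
  congr 1
  ext x
  simp [add_mul]

theorem bf_add_right {P : K →ₗ[k] K} (hP : Adm P) (f g g' : K) :
    bf P f (g + g') = bf P f g + bf P f g' := by
  rw [bf, bf, bf, ← ftr_add ((hP g).comp_right _) ((hP g').comp_right _), brk_add,
    LinearMap.comp_add]

theorem bf_smul_left {P : K →ₗ[k] K} (hP : Adm P) (c : k) (f g : K) :
    bf P (c • f) g = c * bf P f g := by
  rw [bf, bf, ← ftr_smul c ((hP g).comp_right _)]
  congr 1
  ext x
  simp

theorem bf_smul_right {P : K →ₗ[k] K} (hP : Adm P) (c : k) (f g : K) :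
    bf P f (c • g) = c * bf P f g := by
  rw [bf, bf, ← ftr_smul c ((hP g).comp_right _), brk_smul, LinearMap.comp_smul]

theorem bf_mul_right {P : K →ₗ[k] K} (hP : Adm P) (f g h : K) :
    bf P f (g * h) = bf P (f * g) h + bf P (f * h) g := by
  have e1 : LinearMap.mulLeft k f ∘ₗ brk P (g * h) =
      (LinearMap.mulLeft k f ∘ₗ brk P g) ∘ₗ LinearMap.mulLeft k h +
        LinearMap.mulLeft k (f * g) ∘ₗ brk P h := by
    rw [brk_mul, LinearMap.comp_add, LinearMap.mulLeft_mul]
    rfl
  rw [bf, e1, ftr_add (((hP g).comp_right _).comp_left _) ((hP h).comp_right _),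
    ftr_comm' (LinearMap.mulLeft k h) ((hP g).comp_right _), add_comm, bf, bf]
  congr 2
  rw [mul_comm f h, LinearMap.mulLeft_mul]
  rfl

/-- The form does not change if `P` is modified by a finite rank operator. -/
theorem bf_congr {P P' : K →ₗ[k] K} (hP : Adm P) (hP' : Adm P') (h : FR (P - P')) (f g : K) :
    bf P f g = bf P' f g := by
  have e : LinearMap.mulLeft k f ∘ₗ brk P g - LinearMap.mulLeft k f ∘ₗ brk P' g =
      (LinearMap.mulLeft k f ∘ₗ (P - P')) ∘ₗ LinearMap.mulLeft k g -
        LinearMap.mulLeft k (f * g) ∘ₗ (P - P') := by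
    ext x
    simp only [brk_apply, LinearMap.sub_apply, LinearMap.comp_apply, LinearMap.mulLeft_apply,
      mul_sub]
    ring
  have h0 : bf P f g - bf P' f g = 0 := by
    rw [bf, bf, ← ftr_sub ((hP g).comp_right _) ((hP' g).comp_right _), e,
      ftr_sub ((h.comp_right _).comp_left _) (h.comp_right _),
      ftr_comm' (LinearMap.mulLeft k g) (h.comp_right _), mul_comm f g, LinearMap.mulLeft_mul,
      LinearMap.comp_assoc, sub_self]
  exact sub_eq_zero.mp h0

theorem brk_neg (P : K →ₗ[k] K) (g : K) : brk (-P) g = - brk P g := by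
  ext x
  simp only [brk_apply, LinearMap.neg_apply]
  ring

theorem brk_one_sub (P : K →ₗ[k] K) (g : K) : brk (LinearMap.id - P) g = - brk P g := by
  ext x
  simp only [brk_apply, LinearMap.neg_apply, LinearMap.sub_apply, LinearMap.id_apply]
  ring

theorem Adm.neg {P : K →ₗ[k] K} (hP : Adm P) : Adm (-P) := fun g => by
  rw [brk_neg]
  exact (hP g).neg

theorem Adm.one_sub {P : K →ₗ[k] K} (hP : Adm P) : Adm (LinearMap.id - P) := fun g => by
  rw [brk_one_sub]
  exact (hP g).neg

theorem bf_one_sub {P : K →ₗ[k] K} (hP : Adm P) (f g : K) :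
    bf (LinearMap.id - P) f g = - bf P f g := by
  rw [bf, brk_one_sub, LinearMap.comp_neg, ftr_neg ((hP g).comp_right _)]
  rfl

/-- If `P` is a projection onto `D` and `D` is stable under `f` and `g` then `bf P f g = 0`. -/
theorem bf_eq_zero {P : K →ₗ[k] K} (hP : Adm P) (D : Submodule k K) (h1 : ∀ x, P x ∈ D)
    (h2 : ∀ x ∈ D, P x = x) {f g : K} (hf : ∀ x ∈ D, f * x ∈ D) (hg : ∀ x ∈ D, g * x ∈ D) :
    bf P f g = 0 := by
  let T := LinearMap.mulLeft k f ∘ₗ brk P g
  have hT : ∀ x, T x ∈ D := fun x => hf _ (D.sub_mem (h1 _) (hg _ (h1 x)))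
  have hT0 : ∀ x ∈ D, T x = 0 := fun x hx => by
    change f * (P (g * x) - g * P x) = 0
    rw [h2 _ (hg x hx), h2 x hx, sub_self, mul_zero]
  let T' : K →ₗ[k] D := T.codRestrict D hT
  have hTF : FR T := (hP g).comp_right _
  have e1 : T = D.subtype ∘ₗ T' := by
    ext x
    rfl
  have e2 : T' ∘ₗ D.subtype = 0 := by
    refine LinearMap.ext fun x => Subtype.ext ?_
    exact hT0 _ x.2
  have hT'F : FR T' := by
    refine FR.of_comp_injective (S := D.subtype) ?_ D.injective_subtype
    rw [← e1]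
    exact hTF
  change ftr T = 0
  rw [e1, ftr_comm hT'F, e2, ftr_zero]

section KD

/-- The space of `k`-linear functionals on `K`, with `K` acting by `(c • φ) f = φ (f * c)`. -/
def KD (k K : Type*) [Field k] [CommRing K] [Algebra k K] := K →ₗ[k] k

noncomputable instance : AddCommGroup (KD k K) := inferInstanceAs (AddCommGroup (K →ₗ[k] k))

noncomputable instance : Module k (KD k K) := inferInstanceAs (Module k (K →ₗ[k] k))

noncomputable instance : Module K (KD k K) where
  smul c φ := (show K →ₗ[k] k from φ) ∘ₗ LinearMap.mulRight k c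
  one_smul φ := by
    refine LinearMap.ext (fun (x : K) => ?_)
    change (show K →ₗ[k] k from φ) (x * 1) = _
    rw [mul_one]
  mul_smul c d φ := by
    refine LinearMap.ext (fun (x : K) => ?_)
    change (show K →ₗ[k] k from φ) (x * (c * d)) = (show K →ₗ[k] k from φ) (x * c * d)
    rw [mul_assoc]
  smul_zero c := rfl
  smul_add c φ ψ := rfl
  add_smul c d φ := by
    refine LinearMap.ext (fun (x : K) => ?_)
    change (show K →ₗ[k] k from φ) (x * (c + d)) =
      (show K →ₗ[k] k from φ) (x * c) + (show K →ₗ[k] k from φ) (x * d)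
    rw [mul_add, map_add]
  zero_smul φ := by
    refine LinearMap.ext (fun (x : K) => ?_)
    change (show K →ₗ[k] k from φ) (x * 0) = 0
    rw [mul_zero, map_zero]

theorem KD.smul_apply (c : K) (φ : KD k K) (x : K) :
    (show K →ₗ[k] k from c • φ) x = (show K →ₗ[k] k from φ) (x * c) := rfl

instance : IsScalarTower k K (KD k K) where
  smul_assoc c d φ := by
    refine LinearMap.ext (fun (x : K) => ?_)
    change (show K →ₗ[k] k from φ) (x * (c • d)) = c • (show K →ₗ[k] k from φ) (x * d)
    rw [mul_smul_comm, map_smul]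

/-- The bilinear form `bf` as a derivation with values in `KD k K`. -/
noncomputable def der {P : K →ₗ[k] K} (hP : Adm P) : Derivation k K (KD k K) :=
  Derivation.mk'
    ({ toFun := fun g =>
        ({ toFun := fun f => bf P f g
           map_add' := fun f f' => bf_add_left hP f f' g
           map_smul' := fun c f => bf_smul_left hP c f g } : K →ₗ[k] k)
       map_add' := fun g g' => by
        refine LinearMap.ext (fun (x : K) => ?_)
        exact bf_add_right hP x g g'
       map_smul' := fun c g => by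
        refine LinearMap.ext (fun (x : K) => ?_)
        exact bf_smul_right hP c x g } : K →ₗ[k] KD k K)
    (fun a b => by
      refine LinearMap.ext (fun (x : K) => ?_)
      change bf P x (a * b) = bf P (x * a) b + bf P (x * b) a
      exact bf_mul_right hP x a b)

/-- Tate's residue functional on Kähler differentials, `f dg ↦ Tr (f ∘ [P, g])`. -/
noncomputable def lam {P : K →ₗ[k] K} (hP : Adm P) : Ω[K⁄k] →ₗ[k] k where
  toFun ω := (show K →ₗ[k] k from (der hP).liftKaehlerDifferential ω) 1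
  map_add' ω ω' := by
    rw [map_add]
    rfl
  map_smul' c ω := by
    rw [LinearMap.map_smul_of_tower]
    rfl

theorem lam_smul_D {P : K →ₗ[k] K} (hP : Adm P) (f g : K) :
    lam hP (f • KaehlerDifferential.D k K g) = bf P f g := by
  change (show K →ₗ[k] k from (der hP).liftKaehlerDifferential
    (f • KaehlerDifferential.D k K g)) 1 = bf P f g
  rw [map_smul, KD.smul_apply, one_mul, Derivation.liftKaehlerDifferential_comp_D]
  rfl

theorem smul_D_induction {p : Ω[K⁄k] → Prop} (h0 : p 0)
    (hadd : ∀ x y, p x → p y → p (x + y))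
    (hs : ∀ f g : K, p (f • KaehlerDifferential.D k K g)) (ω : Ω[K⁄k]) : p ω := by
  have hω : ω ∈ Submodule.span K (Set.range (KaehlerDifferential.D k K)) := by
    rw [KaehlerDifferential.span_range_derivation]
    trivial
  obtain ⟨c, rfl⟩ := (Finsupp.mem_span_range_iff_exists_finsupp).mp hω
  classical
  rw [Finsupp.sum]
  induction c.support using Finset.induction_on with
  | empty => simpa using h0
  | insert a s ha ih =>
    rw [Finset.sum_insert ha]
    exact hadd _ _ (hs _ _) ih

theorem lam_congr {P P' : K →ₗ[k] K} (hP : Adm P) (hP' : Adm P') (h : FR (P - P')) :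
    lam hP = lam hP' := by
  refine LinearMap.ext fun ω => ?_
  induction ω using smul_D_induction with
  | h0 => simp
  | hadd x y hx hy => rw [map_add, map_add, hx, hy]
  | hs f g => rw [lam_smul_D, lam_smul_D, bf_congr hP hP' h]

theorem lam_one_sub {P : K →ₗ[k] K} (hP : Adm P) : lam hP.one_sub = - lam hP := by
  refine LinearMap.ext fun ω => ?_
  induction ω using smul_D_induction with
  | h0 => simp
  | hadd x y hx hy => rw [map_add, map_add, hx, hy]
  | hs f g => rw [lam_smul_D, LinearMap.neg_apply, lam_smul_D, bf_one_sub hP]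

/-- If `P` is a projection onto the subalgebra `D` then `lam` kills the image of `Ω[D⁄k]`. -/
theorem lam_map_eq_zero {P : K →ₗ[k] K} (hP : Adm P) {D : Type*} [CommRing D] [Algebra k D]
    [Algebra D K] [IsScalarTower k D K]
    (h1 : ∀ x, P x ∈ LinearMap.range (IsScalarTower.toAlgHom k D K).toLinearMap)
    (h2 : ∀ d : D, P (algebraMap D K d) = algebraMap D K d) (ω : Ω[D⁄k]) :
    lam hP (KaehlerDifferential.map k k D K ω) = 0 := by
  induction ω using smul_D_induction with
  | h0 => simp
  | hadd x y hx hy => rw [map_add, map_add, hx, hy, add_zero]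
  | hs f g =>
    rw [map_smul, KaehlerDifferential.map_D, ← algebraMap_smul K f, lam_smul_D]
    refine bf_eq_zero hP _ h1 ?_ ?_ ?_
    · rintro _ ⟨d, rfl⟩
      exact h2 d
    · rintro _ ⟨d, rfl⟩
      exact ⟨f * d, by simp⟩
    · rintro _ ⟨d, rfl⟩
      exact ⟨g * d, by simp⟩

end KD

section Existence

/-- Finite rank can be checked on two subspaces spanning up to finite dimension. -/
theorem FR_of_cover {V W : Type*} [AddCommGroup V] [Module k V] [AddCommGroup W] [Module k W]
    (C R : Submodule k V) [FiniteDimensional k (V ⧸ (C ⊔ R))] (T : V →ₗ[k] W)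
    (hC : FR (T ∘ₗ C.subtype)) (hR : FR (T ∘ₗ R.subtype)) : FR T := by
  obtain ⟨E, hE⟩ := Submodule.exists_isCompl (C ⊔ R)
  haveI : FiniteDimensional k E := Module.Finite.equiv (Submodule.quotientEquivOfIsCompl _ _ hE)
  haveI h1 : FiniteDimensional k (LinearMap.range (T ∘ₗ C.subtype)) := hC
  haveI h2 : FiniteDimensional k (LinearMap.range (T ∘ₗ R.subtype)) := hR
  refine FR.of_forall_mem ((LinearMap.range (T ∘ₗ C.subtype) ⊔ LinearMap.range (T ∘ₗ R.subtype)) ⊔
    E.map T) fun x => ?_
  have hx : x ∈ (C ⊔ R) ⊔ E := by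
    rw [hE.sup_eq_top]
    trivial
  obtain ⟨y, hy, e, he, rfl⟩ := Submodule.mem_sup.mp hx
  obtain ⟨c, hc, r, hr, rfl⟩ := Submodule.mem_sup.mp hy
  rw [map_add, map_add]
  refine Submodule.add_mem_sup (Submodule.add_mem_sup ?_ ?_) ⟨e, he, rfl⟩
  · exact ⟨⟨c, hc⟩, rfl⟩
  · exact ⟨⟨r, hr⟩, rfl⟩

/-- A projection onto `R` which has finite rank on `C`. -/
theorem exists_proj {V : Type*} [AddCommGroup V] [Module k V] (C R : Submodule k V)
    [FiniteDimensional k (C ⊓ R : Submodule k V)] :
    ∃ P : V →ₗ[k] V, (∀ x, P x ∈ R) ∧ (∀ x ∈ R, P x = x) ∧ FR (P ∘ₗ C.subtype) := by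
  obtain ⟨q, hq⟩ := Submodule.exists_isCompl ((C ⊓ R).submoduleOf C)
  let C' : Submodule k V := q.map C.subtype
  have hC'C : C' ≤ C := by
    rintro _ ⟨x, -, rfl⟩
    exact x.2
  have hdis : Disjoint R C' := by
    rw [Submodule.disjoint_def]
    rintro _ hxR ⟨x, hx, rfl⟩
    have hx0 : x ∈ (C ⊓ R).submoduleOf C ⊓ q := ⟨⟨x.2, hxR⟩, hx⟩
    rw [hq.inf_eq_bot, Submodule.mem_bot] at hx0
    rw [hx0]
    rfl
  obtain ⟨C'', hle, hc'⟩ := hdis.symm.exists_isCompl
  have hc : IsCompl R C'' := hc'.symm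
  refine ⟨R.projection C'' hc, fun x => Submodule.projection_apply_mem _ x,
    fun x hx => Submodule.projection_apply_of_mem_left _ hx, ?_⟩
  refine FR.of_forall_mem (C ⊓ R) fun x => ?_
  have hx : x ∈ (C ⊓ R).submoduleOf C ⊔ q := by
    rw [hq.sup_eq_top]
    trivial
  obtain ⟨y, hy, z, hz, rfl⟩ := Submodule.mem_sup.mp hx
  have hz0 : R.projection C'' hc (z : V) = 0 :=
    (Submodule.projection_apply_eq_zero_iff hc).mpr (hle ⟨z, hz, rfl⟩)
  have hy1 : R.projection C'' hc (y : V) = y := Submodule.projection_apply_of_mem_left _ hy.2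
  change R.projection C'' hc ((y : V) + (z : V)) ∈ _
  rw [map_add, hz0, hy1, add_zero]
  exact hy

/-- `D` is stable under multiplication by every element of `K`, up to finite dimension. -/
def AlmostStable (D : Submodule k K) : Prop :=
  ∀ f : K, ∃ F : Submodule k K, FiniteDimensional k F ∧ ∀ x ∈ D, f * x ∈ D ⊔ F

theorem adm_of {C R : Submodule k K} [FiniteDimensional k (K ⧸ (C ⊔ R))] (hC : AlmostStable C)
    (hR : AlmostStable R) {P : K →ₗ[k] K} (h1 : ∀ x ∈ R, P x = x) (h2 : FR (P ∘ₗ C.subtype)) :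
    Adm P := by
  intro g
  refine FR_of_cover C R _ ?_ ?_
  · obtain ⟨F, hF, hgF⟩ := hC g
    haveI h2' : FiniteDimensional k (LinearMap.range (P ∘ₗ C.subtype)) := h2
    refine FR.of_forall_mem ((LinearMap.range (P ∘ₗ C.subtype) ⊔ F.map P) ⊔
      (LinearMap.range (P ∘ₗ C.subtype)).map (LinearMap.mulLeft k g)) fun x => ?_
    change P (g * x) - g * P x ∈ _
    refine Submodule.sub_mem _ (Submodule.mem_sup_left ?_) (Submodule.mem_sup_right
      ⟨P x, ⟨x, rfl⟩, rfl⟩)
    obtain ⟨y, hy, z, hz, hyz⟩ := Submodule.mem_sup.mp (hgF x x.2)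
    rw [← hyz, map_add]
    exact Submodule.add_mem_sup ⟨⟨y, hy⟩, rfl⟩ ⟨z, hz, rfl⟩
  · obtain ⟨F, hF, hgF⟩ := hR g
    refine FR.of_forall_mem (F.map (P - LinearMap.id)) fun x => ?_
    change P (g * x) - g * P x ∈ _
    rw [h1 x x.2]
    obtain ⟨y, hy, z, hz, hyz⟩ := Submodule.mem_sup.mp (hgF x x.2)
    rw [← hyz, map_add, h1 y hy]
    refine ⟨z, hz, ?_⟩
    simp only [LinearMap.sub_apply, LinearMap.id_apply]
    ring

/-- Existence of the operators `P` (projection onto `R`) and `Q` (projection onto `C`) with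
`P + Q - 1` of finite rank. -/
theorem exists_PQ {C R : Submodule k K} [FiniteDimensional k (C ⊓ R : Submodule k K)]
    [FiniteDimensional k (K ⧸ (C ⊔ R))] (hC : AlmostStable C) (hR : AlmostStable R) :
    ∃ (P Q : K →ₗ[k] K), Adm P ∧ Adm Q ∧ (∀ x, P x ∈ R) ∧ (∀ x ∈ R, P x = x) ∧
      (∀ x, Q x ∈ C) ∧ (∀ x ∈ C, Q x = x) ∧ FR (P - (LinearMap.id - Q)) := by
  obtain ⟨P, hP1, hP2, hP3⟩ := exists_proj C R
  haveI : FiniteDimensional k (R ⊓ C : Submodule k K) := by
    rw [inf_comm]
    infer_instance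
  haveI : FiniteDimensional k (K ⧸ (R ⊔ C)) := by
    rw [sup_comm]
    infer_instance
  obtain ⟨Q, hQ1, hQ2, hQ3⟩ := exists_proj R C
  refine ⟨P, Q, adm_of hC hR hP2 hP3, adm_of hR hC hQ2 hQ3, hP1, hP2, hQ1, hQ2, ?_⟩
  refine FR_of_cover C R _ ?_ ?_
  · have : (P - (LinearMap.id - Q)) ∘ₗ C.subtype = P ∘ₗ C.subtype := by
      ext x
      simp [hQ2 x x.2]
    rw [this]
    exact hP3
  · have : (P - (LinearMap.id - Q)) ∘ₗ R.subtype = Q ∘ₗ R.subtype := by
      ext x
      simp [hP2 x x.2]
    rw [this]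
    exact hQ3

end Existence

end Groth.Agent.CurvesB.TateLam
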