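import Groth.Agent.CurvesB.TateLam
import Mathlib.RingTheory.Trace.Basic
import Mathlib.RingTheory.AlgebraTower
import Mathlib.RingTheory.Unramified.LocalRing
import Mathlib.RingTheory.Etale.Kaehler

/-!
# Local nondegeneracy of Tate's residue functional (no separability assumption)
-/

set_option autoImplicit false
set_option linter.style.haveILetI false

namespace Groth.Agent.CurvesB.TateLocal

open LinearMap Module Groth.Agent.CurvesB.FinTrace Groth.Agent.CurvesB.TateLam Polynomial
open scoped IntermediateField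

section LinAlg

variable {k D κ : Type*} [Field k] [CommRing D] [Algebra k D] [Field κ] [Algebra k κ]
  [FiniteDimensional k κ]

/-- Linear algebra core: the trace pairing of the "derivation" `δ` attached to a `k`-linear
splitting `ρ` with the residue field is nonzero. -/
theorem exists_trace_ne_zero (π : D →ₐ[k] κ) (hπ : Function.Surjective π) (y : D)
    (hsep : Algebra.IsSeparable (k⟮π y⟯) κ)
    (ρ : D →ₗ[k] κ) (hρ : ∀ x a, π x = 0 → ρ (a * x) = π a * ρ x)
    (hs : ρ (aeval y (minpoly k (π y))) ≠ 0)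
    (δ : κ →ₗ[k] κ) (hδ : ∀ x, δ (π x) = ρ (y * x) - π y * ρ x) :
    ∃ c : κ, LinearMap.trace k κ (LinearMap.mulLeft k c ∘ₗ δ) ≠ 0 := by
  classical
  have hint : IsIntegral k (π y) := IsIntegral.of_finite k (π y)
  let L := k⟮π y⟯
  let pb : PowerBasis k L := IntermediateField.adjoin.powerBasis hint
  let n := pb.dim
  have hn0 : 0 < n := pb.dim_pos
  have hn : n = (minpoly k (π y)).natDegree := rfl
  have hgen : ∀ (i : Fin n) (x : κ), (pb.basis i) • x = (π y) ^ (i : ℕ) * x := by
    intro i x
    rw [pb.basis_eq_pow]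
    rfl
  haveI : FiniteDimensional L κ := FiniteDimensional.right k L κ
  let b := Module.finBasis L κ
  let B := pb.basis.smulTower b
  have hB : ∀ i j, B (i, j) = (π y) ^ (i : ℕ) * b j := by
    intro i j
    rw [Basis.smulTower_apply]
    exact hgen i (b j)
  choose e he using fun j => hπ (b j)
  let σ : κ →ₗ[k] D := B.constr k (fun ij => y ^ (ij.1 : ℕ) * e ij.2)
  have hσ : ∀ i j, σ (B (i, j)) = y ^ (i : ℕ) * e j := fun i j => by
    rw [Basis.constr_basis]
  -- polynomials of small degree
  have hσp : ∀ (q : k[X]) (j), q.natDegree < n → σ (aeval (π y) q * b j) = aeval y q * e j := by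
    intro q j hq
    rw [aeval_eq_sum_range' hq, aeval_eq_sum_range' hq, Finset.sum_mul, Finset.sum_mul, map_sum]
    refine Finset.sum_congr rfl fun i hi => ?_
    have hi' : i < n := Finset.mem_range.mp hi
    rw [smul_mul_assoc, map_smul, smul_mul_assoc]
    congr 1
    rw [← hσ ⟨i, hi'⟩ j, hB ⟨i, hi'⟩ j]
  have hπσ : ∀ x, π (σ x) = x := by
    intro x
    have : π.toLinearMap ∘ₗ σ = LinearMap.id := by
      refine B.ext ?_
      rintro ⟨i, j⟩
      change π (σ (B (i, j))) = B (i, j)
      rw [hσ, hB, map_mul, map_pow, he]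
    exact LinearMap.congr_fun this x
  let t0 := minpoly k (π y)
  have ht0 : t0.Monic := minpoly.monic hint
  let s := ρ (aeval y t0)
  let E : κ →ₗ[k] κ := B.constr k (fun ij => if (ij.1 : ℕ) + 1 = n then b ij.2 else 0)
  have hE : ∀ i j, E (B (i, j)) = if (i : ℕ) + 1 = n then b j else 0 := fun i j => by
    rw [Basis.constr_basis]
  let R : κ →ₗ[k] κ := ρ ∘ₗ σ
  have hδ' : δ = LinearMap.mulLeft k s ∘ₗ E +
      (R ∘ₗ LinearMap.mulLeft k (π y) - LinearMap.mulLeft k (π y) ∘ₗ R) := by
    refine B.ext ?_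
    rintro ⟨i, j⟩
    have h1 : δ (B (i, j)) = ρ (y * (y ^ (i : ℕ) * e j)) - π y * ρ (y ^ (i : ℕ) * e j) := by
      rw [← hδ, map_mul, map_pow, he, hB]
    have h2 : R (B (i, j)) = ρ (y ^ (i : ℕ) * e j) := by
      change ρ (σ (B (i, j))) = _
      rw [hσ]
    have h3 : ρ (y * (y ^ (i : ℕ) * e j)) = s * E (B (i, j)) + R (π y * B (i, j)) := by
      rw [hE]
      change _ = _ + ρ (σ (π y * B (i, j)))
      have e1 : π y * B (i, j) = aeval (π y) (X ^ ((i : ℕ) + 1) : k[X]) * b j := by
        rw [hB, aeval_X_pow]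
        ring
      have e2 : y * (y ^ (i : ℕ) * e j) = aeval y (X ^ ((i : ℕ) + 1) : k[X]) * e j := by
        rw [aeval_X_pow]
        ring
      split_ifs with hi
      · have e3 : aeval (π y) (X ^ ((i : ℕ) + 1) : k[X]) =
            aeval (π y) (X ^ ((i : ℕ) + 1) - t0 : k[X]) := by
          rw [map_sub, minpoly.aeval, sub_zero]
        have hdeg : (X ^ ((i : ℕ) + 1) - t0 : k[X]).natDegree < n := by
          rw [hi]
          by_cases hz : (X ^ n - t0 : k[X]) = 0
          · rw [hz]
            simpa using hn0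
          · rw [natDegree_lt_iff_degree_lt hz]
            have hd : (X ^ n : k[X]).degree = t0.degree := by
              rw [degree_X_pow, degree_eq_natDegree ht0.ne_zero, hn]
            calc (X ^ n - t0 : k[X]).degree < (X ^ n : k[X]).degree :=
                  degree_sub_lt_left hd (monic_X_pow n).ne_zero (by
                    rw [(monic_X_pow n).leadingCoeff, ht0.leadingCoeff])
              _ = n := degree_X_pow n
        rw [e1, e3, hσp _ j hdeg, e2, map_sub, sub_mul, map_sub]
        have e4 : ρ (aeval y t0 * e j) = s * b j := by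
          rw [mul_comm, hρ _ _ (by rw [← aeval_algHom_apply]; exact minpoly.aeval k (π y)), he,
            mul_comm]
        rw [e4]
        ring
      · have hdeg : (X ^ ((i : ℕ) + 1) : k[X]).natDegree < n := by
          rw [natDegree_X_pow]
          have := i.2
          omega
        rw [e1, hσp _ j hdeg, e2, mul_zero, zero_add]
    have h4 : (LinearMap.mulLeft k s ∘ₗ E +
        (R ∘ₗ LinearMap.mulLeft k (π y) - LinearMap.mulLeft k (π y) ∘ₗ R)) (B (i, j)) =
        s * E (B (i, j)) + (R (π y * B (i, j)) - π y * R (B (i, j))) := rfl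
    rw [h4, h1, h3, h2]
    ring
  -- choose `a` with trace to `L` equal to the last power
  let last : Fin n := ⟨n - 1, by omega⟩
  obtain ⟨a, ha⟩ := Algebra.trace_surjective L κ (pb.basis last)
  have htrE : LinearMap.trace k κ (LinearMap.mulLeft k a ∘ₗ E) = 1 := by
    rw [LinearMap.trace_eq_matrix_trace k B, Matrix.trace, Fintype.sum_prod_type_right]
    have h1 : ∀ j i, (LinearMap.toMatrix B B (LinearMap.mulLeft k a ∘ₗ E)).diag (i, j) =
        if i = last then pb.basis.repr (b.repr (a * b j) j) last else 0 := by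
      intro j i
      rw [Matrix.diag_apply, LinearMap.toMatrix_apply, LinearMap.comp_apply, hE,
        LinearMap.mulLeft_apply]
      have hil : i = last ↔ (i : ℕ) + 1 = n := by
        rw [Fin.ext_iff]
        change (i : ℕ) = n - 1 ↔ _
        omega
      by_cases hi : i = last
      · rw [if_pos (hil.mp hi), if_pos hi, Basis.smulTower_repr, hi]
      · rw [if_neg (fun h => hi (hil.mpr h)), if_neg hi, mul_zero, map_zero]
        rfl
    simp_rw [h1]
    simp only [Finset.sum_ite_eq', Finset.mem_univ, if_true]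
    have h2 : ∑ j, pb.basis.repr (b.repr (a * b j) j) last =
        pb.basis.repr (Algebra.trace L κ a) last := by
      rw [Algebra.trace_eq_matrix_trace b, Matrix.trace, map_sum, Finsupp.finsetSum_apply]
      refine Finset.sum_congr rfl fun j _ => ?_
      rw [Matrix.diag_apply, Algebra.leftMulMatrix_eq_repr_mul]
    rw [h2, ha, Basis.repr_self, Finsupp.single_eq_same]
  have hs' : s ≠ 0 := hs
  refine ⟨a / s, ?_⟩
  have hmain : LinearMap.mulLeft k (a / s) ∘ₗ δ = LinearMap.mulLeft k a ∘ₗ E +
      ((LinearMap.mulLeft k (a / s) ∘ₗ R) ∘ₗ LinearMap.mulLeft k (π y) -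
        LinearMap.mulLeft k (π y) ∘ₗ (LinearMap.mulLeft k (a / s) ∘ₗ R)) := by
    rw [hδ']
    ext x
    simp only [LinearMap.comp_apply, LinearMap.add_apply, LinearMap.sub_apply,
      LinearMap.mulLeft_apply]
    have h5 : a / s * (s * E x) = a * E x := by
      rw [← mul_assoc, div_mul_cancel₀ _ hs']
    rw [mul_add, h5]
    ring
  rw [hmain, map_add, map_sub,
    LinearMap.trace_comp_comm' (LinearMap.mulLeft k (π y)) (LinearMap.mulLeft k (a / s) ∘ₗ R),
    sub_self, add_zero, htrE]
  exact one_ne_zero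

end LinAlg

section Lam

variable {k D K κ : Type*} [Field k] [CommRing D] [Algebra k D] [CommRing K] [Algebra k K]
  [Algebra D K] [IsScalarTower k D K] [Field κ] [Algebra k κ] [FiniteDimensional k κ]

/-- Reduction of the nonvanishing of `lam` to the linear algebra lemma. -/
theorem exists_bf_ne_zero {P : K →ₗ[k] K} (hP : Adm P)
    (hinj : Function.Injective (algebraMap D K))
    (h1 : ∀ x, ∃ d : D, P x = algebraMap D K d)
    (h2 : ∀ d : D, P (algebraMap D K d) = algebraMap D K d)
    (π : D →ₐ[k] κ) (hπ : Function.Surjective π) (y : D)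
    (hsep : Algebra.IsSeparable (k⟮π y⟯) κ)
    (u : K) (hu : ∀ x, π x = 0 → ∃ d : D, u * algebraMap D K x = algebraMap D K d)
    (s : D) (hs : π s ≠ 0)
    (hus : u * algebraMap D K (aeval y (minpoly k (π y))) = algebraMap D K s) :
    ∃ c : D, bf P (u * algebraMap D K c) (algebraMap D K y) ≠ 0 := by
  classical
  -- the corestriction of `P`
  let i : D →ₗ[k] K := (IsScalarTower.toAlgHom k D K).toLinearMap
  have hi : ∀ d, i d = algebraMap D K d := fun _ => rfl
  have hiinj : Function.Injective i := hinj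
  choose pd hpd using h1
  let Pd : K →ₗ[k] D :=
    { toFun := pd
      map_add' := fun x x' => hinj (by
        rw [map_add (algebraMap D K), ← hpd, ← hpd, ← hpd, map_add])
      map_smul' := fun c x => hiinj (by
        rw [RingHom.id_apply, map_smul, hi, hi, ← hpd, ← hpd, map_smul]) }
  have hPd : ∀ x, algebraMap D K (Pd x) = P x := fun x => (hpd x).symm
  have hPdD : ∀ d, Pd (algebraMap D K d) = d := fun d => hinj (by rw [hPd, h2])
  let m : D →ₗ[k] K := LinearMap.mulLeft k u ∘ₗ i
  have hm : ∀ d, m d = u * algebraMap D K d := fun _ => rfl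
  let ρ : D →ₗ[k] κ := π.toLinearMap ∘ₗ Pd ∘ₗ m
  have hρ0 : ∀ d, ρ d = π (Pd (u * algebraMap D K d)) := fun _ => rfl
  have hρ : ∀ x a, π x = 0 → ρ (a * x) = π a * ρ x := by
    intro x a hx
    obtain ⟨d, hd⟩ := hu x hx
    rw [hρ0, hρ0, hd, map_mul (algebraMap D K), mul_left_comm, hd, ← map_mul (algebraMap D K),
      hPdD, hPdD, map_mul]
  have hρs : ρ (aeval y (minpoly k (π y))) ≠ 0 := by
    rw [hρ0, hus, hPdD]
    exact hs
  -- a linear section of `π`
  obtain ⟨σ, hσ⟩ := LinearMap.exists_rightInverse_of_surjective π.toLinearMap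
    (LinearMap.range_eq_top.mpr hπ)
  have hσ' : ∀ x, π (σ x) = x := fun x => LinearMap.congr_fun hσ x
  let β : K →ₗ[k] D := Pd ∘ₗ LinearMap.mulLeft k (algebraMap D K y) - LinearMap.mulLeft k y ∘ₗ Pd
  have hβ : ∀ x, β x = Pd (algebraMap D K y * x) - y * Pd x := fun _ => rfl
  have hβi : ∀ d, β (algebraMap D K d) = 0 := fun d => by
    rw [hβ, ← map_mul (algebraMap D K), hPdD, hPdD, sub_self]
  let g : D →ₗ[k] κ := π.toLinearMap ∘ₗ β ∘ₗ m
  have hg : ∀ x, g x = ρ (y * x) - π y * ρ x := by
    intro x
    change π (β (u * algebraMap D K x)) = _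
    rw [hβ, map_sub, map_mul π, hρ0, hρ0, map_mul (algebraMap D K), mul_left_comm]
  have hgker : ∀ x, π x = 0 → g x = 0 := by
    intro x hx
    rw [hg, hρ x y hx, sub_self]
  let δ : κ →ₗ[k] κ := g ∘ₗ σ
  have hδ0 : ∀ x, δ (π x) = g x := by
    intro x
    change g (σ (π x)) = g x
    have : g (σ (π x) - x) = 0 := hgker _ (by rw [map_sub, hσ', sub_self])
    rw [map_sub] at this
    exact sub_eq_zero.mp this
  obtain ⟨c, hc⟩ := exists_trace_ne_zero π hπ y hsep ρ hρ hρs δ (fun x => by rw [hδ0, hg])
  obtain ⟨c', rfl⟩ := hπ c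
  refine ⟨c', ?_⟩
  -- compute the trace
  let T' : K →ₗ[k] D := LinearMap.mulLeft k c' ∘ₗ β
  have hβFR : FR β := by
    refine FR.of_comp_injective (S := i) ?_ hiinj
    have : i ∘ₗ β = brk P (algebraMap D K y) := by
      ext x
      change algebraMap D K (β x) = _
      rw [hβ, map_sub, map_mul (algebraMap D K), hPd, hPd, brk_apply]
    rw [this]
    exact hP _
  have hT'FR : FR T' := hβFR.comp_right _
  have e1 : LinearMap.mulLeft k (u * algebraMap D K c') ∘ₗ brk P (algebraMap D K y) =
      m ∘ₗ T' := by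
    ext x
    change u * algebraMap D K c' * brk P (algebraMap D K y) x = u * algebraMap D K (c' * β x)
    rw [brk_apply, hβ, map_mul (algebraMap D K), map_sub (algebraMap D K),
      map_mul (algebraMap D K), hPd, hPd]
    ring
  let θ : κ →ₗ[k] D := T' ∘ₗ m ∘ₗ σ
  have e2 : T' ∘ₗ m = θ ∘ₗ π.toLinearMap := by
    ext x
    change T' (m x) = T' (m (σ (π x)))
    have hx : π (x - σ (π x)) = 0 := by rw [map_sub, hσ', sub_self]
    obtain ⟨d, hd⟩ := hu _ hx
    have : T' (m (x - σ (π x))) = 0 := by
      change c' * β (u * algebraMap D K (x - σ (π x))) = 0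
      rw [hd, hβi, mul_zero]
    rw [map_sub, map_sub] at this
    exact sub_eq_zero.mp this
  have e3 : π.toLinearMap ∘ₗ θ = LinearMap.mulLeft k (π c') ∘ₗ δ := by
    ext x
    change π (c' * β (m (σ x))) = π c' * g (σ x)
    rw [map_mul]
    rfl
  have e4 : bf P (u * algebraMap D K c') (algebraMap D K y) =
      LinearMap.trace k κ (LinearMap.mulLeft k (π c') ∘ₗ δ) := by
    rw [bf, e1, ftr_comm hT'FR, e2, ftr_comm (FR.of_target π.toLinearMap), e3, ftr_eq_trace]
  rw [e4]
  exact hc

end Lam

section Geometry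

variable {k D : Type*} [Field k] [CommRing D] [Algebra k D]

/-- If `Ω[D⁄k]` is cyclic at `p` then it is generated at `p` by some `dy`. -/
theorem exists_D_generates (p : Ideal D) [p.IsPrime]
    (hΩ : ∃ ω₀ : Ω[D⁄k], ∀ ω : Ω[D⁄k], ∃ s : D, s ∉ p ∧ ∃ a : D, s • ω = a • ω₀) :
    ∃ y : D, ∀ ω : Ω[D⁄k], ∃ s : D, s ∉ p ∧ ∃ a : D, s • ω = a • KaehlerDifferential.D k D y := by
  obtain ⟨ω₀, hω₀⟩ := hΩ
  have hmul : ∀ {a b : D}, a ∉ p → b ∉ p → a * b ∉ p := fun ha hb h =>
    ((Ideal.IsPrime.mem_or_mem ‹_› h).elim ha hb)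
  by_cases hex : ∃ y : D, ∃ s : D, s ∉ p ∧ ∃ a : D, a ∉ p ∧
      s • KaehlerDifferential.D k D y = a • ω₀
  · obtain ⟨y, s, hs, a, ha, hsa⟩ := hex
    refine ⟨y, fun ω => ?_⟩
    obtain ⟨s', hs', a', hsa'⟩ := hω₀ ω
    refine ⟨a * s', hmul ha hs', a' * s, ?_⟩
    rw [mul_smul, hsa', mul_smul, hsa, smul_smul, smul_smul, mul_comm]
  · push Not at hex
    -- every `dy` lies in `p Ω` locally, so `Ω_p = 0`
    have key : ∀ ω : Ω[D⁄k], ∃ s : D, s ∉ p ∧ ∃ a ∈ p, s • ω = a • ω₀ := by
      refine smul_D_induction ?_ ?_ ?_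
      · exact ⟨1, fun h => Ideal.IsPrime.ne_top ‹_› ((Ideal.eq_top_iff_one p).mpr h), 0,
          p.zero_mem, by simp⟩
      · rintro x y ⟨s, hs, a, ha, h⟩ ⟨s', hs', a', ha', h'⟩
        refine ⟨s * s', hmul hs hs', s' * a + s * a', p.add_mem (p.mul_mem_left _ ha)
          (p.mul_mem_left _ ha'), ?_⟩
        rw [smul_add, add_smul, mul_comm s s', mul_smul, h, mul_comm s' s, mul_smul, h',
          smul_smul, smul_smul]
      · intro f y
        obtain ⟨s, hs, a, hsa⟩ := hω₀ (KaehlerDifferential.D k D y)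
        have ha : a ∈ p := by
          by_contra ha
          exact hex y s hs a ha hsa
        exact ⟨s, hs, f * a, p.mul_mem_left _ ha, by rw [smul_comm, hsa, smul_smul]⟩
    obtain ⟨s, hs, a, ha, hsa⟩ := key ω₀
    have h0 : (s - a) • ω₀ = 0 := by rw [sub_smul, hsa, sub_self]
    have hsa' : s - a ∉ p := fun h => hs (by simpa using p.add_mem h ha)
    refine ⟨0, fun ω => ?_⟩
    obtain ⟨s', hs', a', hsa''⟩ := hω₀ ω
    refine ⟨(s - a) * s', hmul hsa' hs', 0, ?_⟩
    rw [mul_smul, hsa'', smul_comm, h0, smul_zero, zero_smul]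

/-- If `dy` generates `Ω[D⁄k]` at the maximal ideal `p` (with residue field finite over `k`) then the
residue field is separable over `k(ȳ)` and `t₀(y)` generates `p` locally at `p`. -/
theorem unramified_consequences [IsNoetherianRing D] [Algebra.EssFiniteType k D]
    (κ : Type*) [Field κ] [Algebra k κ] [Algebra D κ] [IsScalarTower k D κ]
    [FiniteDimensional k κ] (hsurj : Function.Surjective (algebraMap D κ))
    (p : Ideal D) [hpm : p.IsPrime] (hker : ∀ x, algebraMap D κ x = 0 ↔ x ∈ p) (y : D)
    (hy : ∀ ω : Ω[D⁄k], ∃ s : D, s ∉ p ∧ ∃ a : D, s • ω = a • KaehlerDifferential.D k D y) :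
    Algebra.IsSeparable (k⟮algebraMap D κ y⟯) κ ∧
      ∃ s : D, s ∉ p ∧ ∀ x ∈ p, ∃ d : D, s * x = d *
        aeval y (minpoly k (algebraMap D κ y)) := by
  classical
  let yb : κ := algebraMap D κ y
  let L := k⟮yb⟯
  refine ⟨?_, ?_⟩
  · -- separability
    haveI : FiniteDimensional L κ := FiniteDimensional.right k L κ
    have hsub : Subsingleton Ω[κ⁄L] := by
      have hz : ∀ x : D, KaehlerDifferential.D L κ (algebraMap D κ x) = 0 := by
        intro x
        obtain ⟨s, hs, a, ha⟩ := hy (KaehlerDifferential.D k D x)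
        have h1 := congrArg (KaehlerDifferential.map k L D κ) ha
        rw [map_smul, map_smul, KaehlerDifferential.map_D, KaehlerDifferential.map_D] at h1
        have h2 : KaehlerDifferential.D L κ (algebraMap D κ y) = 0 := by
          have : algebraMap D κ y = algebraMap L κ (IntermediateField.AdjoinSimple.gen k yb) := rfl
          rw [this, Derivation.map_algebraMap]
        rw [h2, smul_zero, ← algebraMap_smul κ s] at h1
        have hs0 : algebraMap D κ s ≠ 0 := fun h => hs ((hker s).mp h)
        exact (smul_eq_zero.mp h1).resolve_left hs0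
      refine subsingleton_of_forall_eq 0 fun ω => ?_
      have hω : ω ∈ Submodule.span κ (Set.range (KaehlerDifferential.D L κ)) := by
        rw [KaehlerDifferential.span_range_derivation]
        trivial
      induction hω using Submodule.span_induction with
      | mem x hx =>
        obtain ⟨g, rfl⟩ := hx
        obtain ⟨g, rfl⟩ := hsurj g
        exact hz g
      | zero => rfl
      | add x y _ _ hx hy => rw [hx, hy, add_zero]
      | smul a x _ hx => rw [hx, smul_zero]
    haveI : Algebra.FormallyUnramified L κ := ⟨hsub⟩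
    exact Algebra.FormallyUnramified.isSeparable L κ
  · -- the local generator
    letI : Algebra k[X] D := (aeval (R := k) y).toAlgebra
    haveI : IsScalarTower k k[X] D := IsScalarTower.of_algebraMap_eq' (by
      refine RingHom.ext fun c => ?_
      change algebraMap k D c = aeval y (C c)
      rw [aeval_C])
    haveI : Algebra.EssFiniteType k[X] D := Algebra.EssFiniteType.of_comp k k[X] D
    let S := Localization.AtPrime p
    have hsub : Subsingleton Ω[S⁄k[X]] := by
      have hz : ∀ x : D, KaehlerDifferential.D k[X] S (algebraMap D S x) = 0 := by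
        intro x
        obtain ⟨s, hs, a, ha⟩ := hy (KaehlerDifferential.D k D x)
        have h1 := congrArg (KaehlerDifferential.map k k[X] D S) ha
        rw [map_smul, map_smul, KaehlerDifferential.map_D, KaehlerDifferential.map_D] at h1
        have h2 : KaehlerDifferential.D k[X] S (algebraMap D S y) = 0 := by
          have : algebraMap D S y = algebraMap k[X] S X := by
            rw [IsScalarTower.algebraMap_apply k[X] D S]
            congr 1
            change y = aeval y X
            rw [aeval_X]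
          rw [this, Derivation.map_algebraMap]
        rw [h2, smul_zero, ← algebraMap_smul S s] at h1
        have hu : IsUnit (algebraMap D S s) := IsLocalization.map_units S (⟨s, hs⟩ : p.primeCompl)
        exact (IsUnit.smul_eq_zero hu).mp h1
      refine subsingleton_of_forall_eq 0 fun ω => ?_
      have hω : ω ∈ Submodule.span S (Set.range (KaehlerDifferential.map k[X] k[X] D S ∘
          KaehlerDifferential.D k[X] D)) := by
        rw [KaehlerDifferential.span_range_map_derivation_of_isLocalization k[X] D S p.primeCompl]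
        trivial
      induction hω using Submodule.span_induction with
      | mem x hx =>
        obtain ⟨g, rfl⟩ := hx
        change KaehlerDifferential.map k[X] k[X] D S (KaehlerDifferential.D k[X] D g) = 0
        rw [KaehlerDifferential.map_D]
        exact hz g
      | zero => rfl
      | add x y _ _ hx hy => rw [hx, hy, add_zero]
      | smul a x _ hx => rw [hx, smul_zero]
    haveI hunr : Algebra.IsUnramifiedAt k[X] p := ⟨hsub⟩
    let q : Ideal k[X] := p.under k[X]
    haveI : q.IsPrime := inferInstance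
    haveI : p.LiesOver q := ⟨rfl⟩
    letI := Localization.AtPrime.algebraOfLiesOver q p
    have hmap := ((Algebra.isUnramifiedAt_iff_map_eq k[X] q p).mp hunr).2
    have hq : q = Ideal.span {minpoly k yb} := by
      have : q = RingHom.ker (aeval (R := k) yb) := by
        ext f
        rw [RingHom.mem_ker]
        change algebraMap k[X] D f ∈ p ↔ _
        rw [← hker]
        have : algebraMap D κ (algebraMap k[X] D f) = aeval yb f := by
          change algebraMap D κ (aeval y f) = aeval yb f
          rw [← aeval_algebraMap_apply]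
        rw [this]
      rw [this, minpoly.ker_aeval_eq_span_minpoly]
    rw [hq, Ideal.map_span, Set.image_singleton] at hmap
    -- denominators
    have hx : ∀ x ∈ p, ∃ s : D, s ∉ p ∧ ∃ d : D, s * x = d * aeval y (minpoly k yb) := by
      intro x hx
      have hxm : algebraMap D S x ∈ IsLocalRing.maximalIdeal S := by
        rw [← Localization.AtPrime.map_eq_maximalIdeal]
        exact Ideal.mem_map_of_mem _ hx
      rw [← hmap, Ideal.mem_span_singleton'] at hxm
      obtain ⟨a, ha⟩ := hxm
      obtain ⟨d, s, rfl⟩ := IsLocalization.exists_mk'_eq p.primeCompl a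
      rw [IsScalarTower.algebraMap_apply k[X] D S] at ha
      have h3 : algebraMap D S (s * x) = algebraMap D S (d * algebraMap k[X] D (minpoly k yb)) := by
        rw [map_mul, ← ha, map_mul, ← mul_assoc, mul_comm (algebraMap D S s),
          IsLocalization.mk'_spec]
      obtain ⟨c, hc⟩ := (IsLocalization.eq_iff_exists p.primeCompl S).mp h3
      refine ⟨c * s, fun h => ?_, c * d, ?_⟩
      · exact (Ideal.IsPrime.mem_or_mem inferInstance h).elim c.2 s.2
      · rw [mul_assoc, hc, mul_assoc]
        rfl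
    -- a common denominator
    have hfg : p.FG := IsNoetherian.noetherian p
    obtain ⟨T, hT⟩ := hfg
    have hTp : ∀ x ∈ T, x ∈ p := fun x hx => hT ▸ Ideal.subset_span hx
    choose! σ hσ using hx
    refine ⟨∏ x ∈ T, σ x, ?_, ?_⟩
    · intro h
      obtain ⟨x, hxT, hx⟩ := (Ideal.IsPrime.prod_mem_iff (hp := inferInstance)).mp h
      exact (hσ x (hTp x hxT)).1 hx
    · intro x hx
      rw [← hT] at hx
      induction hx using Submodule.span_induction with
      | mem x hx =>
        have hxT : x ∈ T := hx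
        obtain ⟨d, hd⟩ := (hσ x (hTp x hxT)).2
        rw [← Finset.prod_erase_mul T σ hxT]
        exact ⟨(∏ x ∈ T.erase x, σ x) * d, by rw [mul_assoc, hd, mul_assoc]⟩
      | zero => exact ⟨0, by simp⟩
      | add x y _ _ hx hy =>
        obtain ⟨d, hd⟩ := hx
        obtain ⟨d', hd'⟩ := hy
        exact ⟨d + d', by rw [mul_add, hd, hd', add_mul]⟩
      | smul a x _ hx =>
        obtain ⟨d, hd⟩ := hx
        exact ⟨a * d, by rw [smul_eq_mul, mul_left_comm, hd, mul_assoc]⟩

/-- **Local nondegeneracy of the residue functional.** -/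
theorem exists_lam_ne_zero [IsDomain D] [IsNoetherianRing D] [Algebra.EssFiniteType k D]
    {K : Type*} [Field K] [Algebra k K] [Algebra D K] [IsScalarTower k D K]
    (hinj : Function.Injective (algebraMap D K))
    (p : Ideal D) [p.IsMaximal] (hp : p ≠ ⊥) [FiniteDimensional k (D ⧸ p)]
    (hΩ : ∃ ω₀ : Ω[D⁄k], ∀ ω : Ω[D⁄k], ∃ s : D, s ∉ p ∧ ∃ a : D, s • ω = a • ω₀)
    {P : K →ₗ[k] K} (hP : Adm P) (h1 : ∀ x, ∃ d : D, P x = algebraMap D K d)
    (h2 : ∀ d : D, P (algebraMap D K d) = algebraMap D K d) :
    ∃ (f : K) (y : D), (∀ x ∈ p, ∃ d : D, f * algebraMap D K x = algebraMap D K d) ∧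
      lam hP (f • KaehlerDifferential.D k K (algebraMap D K y)) ≠ 0 := by
  letI : Field (D ⧸ p) := Ideal.Quotient.field p
  obtain ⟨y, hy⟩ := exists_D_generates p hΩ
  have hker : ∀ x, algebraMap D (D ⧸ p) x = 0 ↔ x ∈ p := fun x =>
    Ideal.Quotient.eq_zero_iff_mem
  obtain ⟨hsep, s, hs, hsp⟩ := unramified_consequences (D ⧸ p) Ideal.Quotient.mk_surjective p
    hker y hy
  set t := aeval y (minpoly k (algebraMap D (D ⧸ p) y)) with ht
  have htp : t ∈ p := by
    rw [← hker, ht, ← aeval_algebraMap_apply, minpoly.aeval]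
  have ht0 : t ≠ 0 := by
    intro ht0
    apply hp
    rw [eq_bot_iff]
    intro x hx
    obtain ⟨d, hd⟩ := hsp x hx
    rw [ht0, mul_zero] at hd
    exact (mul_eq_zero.mp hd).resolve_left (fun h => hs (h ▸ p.zero_mem))
  have htK : algebraMap D K t ≠ 0 := by
    rw [Ne, map_eq_zero_iff _ hinj]
    exact ht0
  let u : K := algebraMap D K s / algebraMap D K t
  have hu : ∀ x ∈ p, ∃ d : D, u * algebraMap D K x = algebraMap D K d := by
    intro x hx
    obtain ⟨d, hd⟩ := hsp x hx
    refine ⟨d, ?_⟩
    rw [div_mul_eq_mul_div, div_eq_iff htK, ← map_mul, ← map_mul, hd]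
  obtain ⟨c, hc⟩ := exists_bf_ne_zero hP hinj h1 h2 (IsScalarTower.toAlgHom k D (D ⧸ p))
    Ideal.Quotient.mk_surjective y hsep u
    (fun x hx => hu x ((hker x).mp hx)) s
    (fun h => hs ((hker s).mp h)) (div_mul_cancel₀ _ htK)
  refine ⟨u * algebraMap D K c, y, fun x hx => ?_, ?_⟩
  · obtain ⟨d, hd⟩ := hu x hx
    exact ⟨c * d, by rw [mul_right_comm, hd, mul_comm, map_mul]⟩
  · rw [lam_smul_D]
    exact hc

end Geometry

end Groth.Agent.CurvesB.TateLocal
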