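import Groth.Agent.S0223
import Groth.Agent.Sga3C.DimTop
import Groth.Agent.Ega2.WeightPull
import Groth.Agent.Ega2.QCohLocal
import Groth.Agent.VarietyB.FlatH0
import Groth.Agent.CurvesB.HZero
import Groth.Agent.CurvesB.GaloisTransitive
import Mathlib.AlgebraicGeometry.Geometrically.Integral

/-!
# Base change of a proper curve to a field extension

Everything is stated for an arbitrary pullback square
```
X' --p--> X
|         |
Spec K -> Spec k
```
-/

set_option autoImplicit false

universe u

open CategoryTheory CategoryTheory.Limits AlgebraicGeometry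

namespace Groth.Agent.CurvesB.VABaseChange

variable {k : Type u} [Field k] {X : Scheme.{u}} [X.Over (Spec (CommRingCat.of k))]
  {K : Type u} [Field K] [Algebra k K] {X' : Scheme.{u}} [X'.Over (Spec (CommRingCat.of K))] {p : X' ⟶ X}

/-- The structure of a `K`-scheme on `Curv2.bc k X K` (a reducible definition). -/
noncomputable abbrev overBc (k : Type u) [Field k] (X : Scheme.{u}) [X.Over (Spec (CommRingCat.of k))]
    (K : Type u) [Field K] [Algebra k K] : (Curv2.bc k X K).Over (Spec (CommRingCat.of K)) :=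
  ⟨Curv2.bcSnd k X K⟩

/-- The pullback square of `Curv2.bc`. -/
theorem isPullback_bc (k : Type u) [Field k] (X : Scheme.{u}) [X.Over (Spec (CommRingCat.of k))]
    (K : Type u) [Field K] [Algebra k K] :
    letI := overBc k X K
    IsPullback (Curv2.bcFst k X K) ((Curv2.bc k X K) ↘ Spec (CommRingCat.of K))
      (X ↘ Spec (CommRingCat.of k)) (Spec.map (CommRingCat.ofHom (algebraMap k K))) :=
  IsPullback.of_hasPullback _ _

section Basic

variable (hpb : IsPullback p (X' ↘ Spec (CommRingCat.of K)) (X ↘ Spec (CommRingCat.of k))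
      (Spec.map (CommRingCat.ofHom (algebraMap k K))))

include hpb

theorem isProper [IsProper (X ↘ Spec (CommRingCat.of k))] : IsProper (X' ↘ Spec (CommRingCat.of K)) :=
  MorphismProperty.of_isPullback hpb inferInstance

theorem isIntegral [GeometricallyIntegral (X ↘ Spec (CommRingCat.of k))] : IsIntegral X' :=
  GeometricallyIntegral.geometrically_isIntegral (f := X ↘ Spec (CommRingCat.of k)) _ _ _ hpb

theorem isIntegralHom [Algebra.IsAlgebraic k K] : IsIntegralHom p := by
  have : IsIntegralHom (Spec.map (CommRingCat.ofHom (algebraMap k K))) := by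
    rw [IsIntegralHom.SpecMap_iff]
    exact algebraMap_isIntegral_iff.2 inferInstance
  exact MorphismProperty.of_isPullback hpb.flip this

theorem surjective : Surjective p := by
  have : Surjective (Spec.map (CommRingCat.ofHom (algebraMap k K))) := inferInstance
  exact MorphismProperty.of_isPullback hpb.flip this

theorem topologicalKrullDim_eq [Algebra.IsAlgebraic k K] :
    topologicalKrullDim X' = topologicalKrullDim X := by
  have := isIntegralHom hpb
  have := surjective hpb
  exact Sga3C.DimTop.topologicalKrullDim_eq_of_isIntegralHom p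

end Basic

section Coho

variable [IsProper (X ↘ Spec (CommRingCat.of k))]
  (hpb : IsPullback p (X' ↘ Spec (CommRingCat.of K)) (X ↘ Spec (CommRingCat.of k))
      (Spec.map (CommRingCat.ofHom (algebraMap k K))))

include hpb

/-- Dimensions of cohomology of a quasi-coherent module are invariant under base field extension. -/
theorem finrank_eq (M : X.Modules) (hM : Coh.IsQCoh M) (i : ℕ) :
    Module.finrank K (Coh.HH X' ((Scheme.Modules.pullback p).obj M) i) = Module.finrank k (Coh.HH X M i) := by
  have : CompactSpace X :=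
    (quasiCompact_iff_compactSpace (f := X ↘ Spec (CommRingCat.of k))).mp inferInstance
  have : QuasiSeparatedSpace X :=
    (quasiSeparated_iff_quasiSeparatedSpace (f := X ↘ Spec (CommRingCat.of k))).mp inferInstance
  obtain ⟨e⟩ := Groth.Agent.S0034.result k K X X' p hpb M i
  rw [← Module.finrank_baseChange (R := K) (M' := Coh.HH X M i)]
  exact e.finrank_eq.symm

theorem finrank_structure_eq (i : ℕ) :
    Module.finrank K (Coh.HH X' (Coh.structureModule X') i) =
      Module.finrank k (Coh.HH X (Coh.structureModule X) i) :=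
  S0223.finrank_eq k X K X' p hpb i

theorem euler_eq (M : X.Modules) (hM : Coh.IsQCoh M) :
    Curv2.euler K X' ((Scheme.Modules.pullback p).obj M) = Curv2.euler k X M := by
  unfold Curv2.euler
  simp only [finrank_eq hpb M hM]

theorem euler_structure_eq :
    Curv2.euler K X' (Coh.structureModule X') = Curv2.euler k X (Coh.structureModule X) := by
  unfold Curv2.euler
  simp only [finrank_structure_eq hpb]

theorem deg_eq (M : X.Modules) (hM : Coh.IsQCoh M) (n : ℕ) :
    Curv2.deg K X' ((Scheme.Modules.pullback p).obj M) n = Curv2.deg k X M n := by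
  unfold Curv2.deg
  rw [euler_eq hpb M hM, euler_structure_eq hpb]

theorem genus_eq : Curv2.genus K X' = Curv2.genus k X := by
  unfold Curv2.genus
  exact finrank_structure_eq hpb 1

end Coho

section Sections

open Fdesc.LocGen

variable [CompactSpace X] [QuasiSeparatedSpace X]
  (hpb : IsPullback p (X' ↘ Spec (CommRingCat.of K)) (X ↘ Spec (CommRingCat.of k))
      (Spec.map (CommRingCat.ofHom (algebraMap k K))))

include hpb

omit [CompactSpace X] [QuasiSeparatedSpace X] in
/-- Constants pull back to constants. -/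
theorem appTop_gl (a : k) : p.appLE ⊤ ⊤ le_top (HZero.gl k X a) = HZero.gl K X' (algebraMap k K a) := by
  have h := congrArg (fun f => f.appTop) hpb.w
  simp only [Scheme.Hom.comp_appTop] at h
  have h2 := congrArg (fun f => f.hom ((Scheme.ΓSpecIso (CommRingCat.of k)).inv a)) h
  have h3 : (Scheme.ΓSpecIso (CommRingCat.of K)).inv (algebraMap k K a) =
      (Spec.map (CommRingCat.ofHom (algebraMap k K))).appTop ((Scheme.ΓSpecIso (CommRingCat.of k)).inv a) :=
    congr($(Scheme.ΓSpecIso_inv_naturality (CommRingCat.ofHom (algebraMap k K))) a)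
  have h1 : p.appLE ⊤ ⊤ le_top = p.appTop := p.appLE_eq_app
  rw [h1]
  refine h2.trans ?_
  change (X' ↘ Spec (CommRingCat.of K)).appTop
    ((Spec.map (CommRingCat.ofHom (algebraMap k K))).appTop ((Scheme.ΓSpecIso (CommRingCat.of k)).inv a)) = _
  rw [← h3]
  rfl

/-- Pulled back global sections generate over the bigger field. -/
theorem exists_coeff (L : X.Modules) (hL : Coh.IsQCoh L) {ι : Type*} [Fintype ι] (e : ι → Γ(L, ⊤))
    (he : ∀ x : Γ(L, ⊤), ∃ a : ι → k, x = ∑ i, (HZero.gl k X (a i)) • e i)
    (y : Γ((Scheme.Modules.pullback p).obj L, ⊤)) :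
    ∃ c : ι → K, y = ∑ i, (HZero.gl K X' (c i)) •
      (VarietyB.PullSec.sec p L (U := ⊤) (V := ⊤) le_top (e i)) := by
  have hfl : Flat (Spec.map (CommRingCat.ofHom (algebraMap k K))) := by
    rw [HasRingHomProperty.Spec_iff (P := @Flat), CommRingCat.hom_ofHom, RingHom.flat_algebraMap_iff]
    infer_instance
  have h1 := (VarietyB.FlatH0.isBC_top hpb L hL).span_eq_top
  have htop : (⊤ : X'.Opens) ≤ (X' ↘ Spec (CommRingCat.of K)) ⁻¹ᵁ (⊤ : (Spec (CommRingCat.of K)).Opens) := le_top
  let _ := VarietyB.FlatH0.modOver (X' ↘ Spec (CommRingCat.of K)) ((Scheme.Modules.pullback p).obj L) htop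
  have h2 : y ∈ Submodule.span Γ(Spec (CommRingCat.of K), ⊤)
      (Set.range (VarietyB.PullSec.sec p L (U := ⊤) (V := ⊤) le_top)) := by
    rw [h1]; exact Submodule.mem_top
  induction h2 using Submodule.span_induction with
  | zero =>
    refine ⟨0, ?_⟩
    simp
  | add t t' _ _ ht ht' =>
    obtain ⟨c, hc⟩ := ht
    obtain ⟨c', hc'⟩ := ht'
    refine ⟨c + c', ?_⟩
    rw [hc, hc', ← Finset.sum_add_distrib]
    refine Finset.sum_congr rfl fun i _ => ?_
    rw [Pi.add_apply, map_add, add_smul]
  | mem y hy =>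
    obtain ⟨m, rfl⟩ := hy
    obtain ⟨a, ha⟩ := he m
    refine ⟨fun i => algebraMap k K (a i), ?_⟩
    rw [ha, map_sum]
    refine Finset.sum_congr rfl fun i _ => ?_
    rw [VarietyB.PullSec.sec_smul, appTop_gl hpb]
  | smul a y _ hy =>
    obtain ⟨c, hc⟩ := hy
    obtain ⟨b, rfl⟩ := (Scheme.ΓSpecIso (CommRingCat.of K)).symm.commRingCatIsoToRingEquiv.surjective a
    refine ⟨fun i => b * c i, ?_⟩
    have h3 : ((Scheme.ΓSpecIso (CommRingCat.of K)).symm.commRingCatIsoToRingEquiv b) • y =
        (HZero.gl K X' b) • y := by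
      have h4 : (X' ↘ Spec (CommRingCat.of K)).appLE ⊤ ⊤ htop = (X' ↘ Spec (CommRingCat.of K)).appTop :=
        (X' ↘ Spec (CommRingCat.of K)).appLE_eq_app
      change ((X' ↘ Spec (CommRingCat.of K)).appLE ⊤ ⊤ htop ((Scheme.ΓSpecIso (CommRingCat.of K)).inv b)) • y = _
      rw [h4]
      rfl
    rw [h3, hc, Finset.smul_sum]
    refine Finset.sum_congr rfl fun i _ => ?_
    rw [smul_smul, map_mul]

/-- Version of `exists_coeff` for morphisms `O ⟶ L` (section `(c • t) = homOf (gl c • sec t ⊤)`). -/
theorem exists_coeff_hom (L : X.Modules) (hL : Coh.IsQCoh L) {ι : Type*} [Fintype ι]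
    (s : ι → (Coh.structureModule X ⟶ L))
    (hs : ∀ x : Γ(L, ⊤), ∃ a : ι → k, x = ∑ i, (HZero.gl k X (a i)) • sec (s i) ⊤)
    (t : Coh.structureModule X' ⟶ (Scheme.Modules.pullback p).obj L) :
    ∃ c : ι → K, sec t ⊤ = ∑ i, (HZero.gl K X' (c i)) • sec (Ega2.Weight.pullHom p (s i)) ⊤ := by
  obtain ⟨c, hc⟩ := exists_coeff hpb L hL (fun i => sec (s i) ⊤) hs (sec t ⊤)
  refine ⟨c, hc.trans (Finset.sum_congr rfl fun i _ => ?_)⟩
  congr 1
  have h1 := Ega2.Weight.sec_pullHom p (s i) ⊤
  refine Eq.trans ?_ h1.symm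
  rw [VarietyB.PullSec.sec_apply]
  exact res_refl _ _

end Sections

end Groth.Agent.CurvesB.VABaseChange
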