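import Groth.Agent.CurvesB.GenStalk
import Groth.Agent.CurvesB.SubClosed
import Groth.Agent.CurvesB.TwistIdeal

/-!
# Torsion-free quotients attached to a set of generic points

`X` reduced, `S` a set of generic points, `J` the ideal of the closure of `S`, `L` invertible: sections of
`O/J ⊗ L` vanishing at all points of `S` vanish, `L → O/J ⊗ L` is injective at the points of `S`.
-/

set_option autoImplicit false
universe u
open CategoryTheory CategoryTheory.Limits AlgebraicGeometry TopologicalSpace Opposite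

namespace Groth.Agent.CurvesB.TriT208

open Groth.Agent.CycB.StalkExact Groth.Agent.VarietyA.StalkCrit
open Groth.Agent.Fdesc.LocGen (tmul res res_tmul res_res)
open SubH1 GenStalk SubClosed

variable {X : Scheme.{u}}

/-- The ideal of the closure of `S`. -/
noncomputable def J (S : Set X) : X.IdealSheafData :=
  Scheme.IdealSheafData.vanishingIdeal ⟨closure S, isClosed_closure⟩

theorem coe_support_J (S : Set X) : ((J S).support : Set X) = closure S :=
  Scheme.IdealSheafData.coe_support_vanishingIdeal _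

theorem mem_J_iff (S : Set X) (U : X.affineOpens) (f : Γ(X, U.1)) :
    f ∈ (J S).ideal U ↔ ∀ η ∈ S, η ∉ X.basicOpen f := by
  rw [J, Scheme.IdealSheafData.vanishingIdeal_ideal, PrimeSpectrum.mem_vanishingIdeal]
  constructor
  · intro h η hη hf
    have h1 := h (U.2.primeIdealOf ⟨η, X.basicOpen_le f hf⟩) (by
      rw [Set.mem_preimage]
      erw [U.2.fromSpec_primeIdealOf]
      exact subset_closure hη)
    have h2 : U.2.primeIdealOf ⟨η, X.basicOpen_le f hf⟩ ∈ U.2.fromSpec ⁻¹ᵁ X.basicOpen f := by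
      change U.2.fromSpec _ ∈ X.basicOpen f
      rw [U.2.fromSpec_primeIdealOf]
      exact hf
    rw [U.2.fromSpec_preimage_basicOpen] at h2
    exact h2 h1
  · intro h p hp
    by_contra hf
    have h1 : U.2.fromSpec p ∈ X.basicOpen f := by
      change p ∈ U.2.fromSpec ⁻¹ᵁ X.basicOpen f
      rw [U.2.fromSpec_preimage_basicOpen]
      exact hf
    obtain ⟨η, hη, hηS⟩ := mem_closure_iff.mp (show U.2.fromSpec p ∈ closure S from hp) _
      (X.basicOpen f).2 h1
    exact h η hηS hη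

theorem germ_eq_zero_iff [IsReduced X] {U : X.Opens} (f : Γ(X, U)) (η : X) (hη : IsGen η) (hU : η ∈ U) :
    X.presheaf.germ U η hU f = 0 ↔ η ∉ X.basicOpen f := by
  rw [X.mem_basicOpen f η hU]
  constructor
  · intro h h1
    rw [h] at h1
    exact not_isUnit_zero h1
  · intro h
    by_contra hne
    obtain ⟨b, hb⟩ := (isField_stalk η hη).mul_inv_cancel hne
    exact h (IsUnit.of_mul_eq_one b hb)

theorem mem_J_iff_germ [IsReduced X] {S : Set X} (hS : ∀ η ∈ S, IsGen η) (U : X.affineOpens)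
    (f : Γ(X, U.1)) :
    f ∈ (J S).ideal U ↔ ∀ (η : X) (hη : η ∈ U.1), η ∈ S → X.presheaf.germ U.1 η hη f = 0 := by
  rw [mem_J_iff]
  constructor
  · intro h η hU hη
    exact (germ_eq_zero_iff f η (hS η hη) hU).mpr (h η hη)
  · intro h η hη hf
    exact (germ_eq_zero_iff f η (hS η hη) (X.basicOpen_le f hf)).mp
      (h η (X.basicOpen_le f hf) hη) hf

/-- Sections of `F` vanishing at all points of `S` vanish. -/
def TFS (S : Set X) (F : X.Modules) : Prop :=
  ∀ (U : X.Opens) (s : Γ(F, U)),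
    (∀ (ξ : X) (hξ : ξ ∈ U), ξ ∈ S → F.presheaf.germ U ξ hξ s = 0) → s = 0

theorem tfs_of_local {S : Set X} {F : X.Modules}
    (h : ∀ x : X, ∃ V : X.Opens, x ∈ V ∧ ∀ (U : X.Opens), U ≤ V → IsAffineOpen U → ∀ (s : Γ(F, U)),
      (∀ (ξ : X) (hξ : ξ ∈ U), ξ ∈ S → F.presheaf.germ U ξ hξ s = 0) → s = 0) : TFS S F := by
  intro U s hs
  refine VarietyA.FiniteSupport.section_eq F s 0 fun x hx => ?_
  obtain ⟨V, hxV, hV⟩ := h x
  obtain ⟨_, ⟨W, hW, rfl⟩, hxW, hWUV⟩ :=
    X.isBasis_affineOpens.exists_subset_of_mem_open (show x ∈ ((U ⊓ V : X.Opens) : Set X) from ⟨hx, hxV⟩)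
      (U ⊓ V).2
  have hWU : W ≤ U := fun y hy => (hWUV hy).1
  have h1 : F.presheaf.map (homOfLE hWU).op s = 0 := by
    refine hV W (fun y hy => (hWUV hy).2) hW _ fun ξ hξ hg => ?_
    rw [TopCat.Presheaf.germ_res_apply]
    exact hs ξ (hWU hξ) hg
  rw [← TopCat.Presheaf.germ_res_apply F.presheaf (homOfLE hWU) x hxW s, h1, map_zero, map_zero]

/-- If the class of `f` in `O/J` vanishes at `η ∈ S`, then `f` vanishes at `η`. -/
theorem germ_eq_zero_of_toSubscheme [IsReduced X] {S : Set X} (hS : ∀ η ∈ S, IsGen η) {U : X.Opens}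
    (f : Γ(X, U)) (η : X) (hη : η ∈ S) (hU : η ∈ U)
    (h : (ClSub.quotMod (J S)).presheaf.germ U η hU ((ClSub.toSubscheme (J S)).app U f) = 0) :
    X.presheaf.germ U η hU f = 0 := by
  obtain ⟨V, hVU, hV, h1⟩ := VarietyB.ExactLoc.exists_res_eq_zero _ hU _ h
  obtain ⟨_, ⟨W, hW, rfl⟩, hηW, hWV⟩ := X.isBasis_affineOpens.exists_subset_of_mem_open hV V.2
  have hWU : W ≤ U := hWV.trans hVU
  have h2 : (ClSub.toSubscheme (J S)).app W (X.presheaf.map (homOfLE hWU).op f) = 0 := by
    have h3 : (ClSub.quotMod (J S)).presheaf.map (homOfLE hWU).op ((ClSub.toSubscheme (J S)).app U f) = 0 := by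
      have h4 : (ClSub.quotMod (J S)).presheaf.map (homOfLE (show W ≤ V from hWV)).op
          ((ClSub.quotMod (J S)).presheaf.map (homOfLE hVU).op ((ClSub.toSubscheme (J S)).app U f)) = 0 := by
        have h5 : (ClSub.quotMod (J S)).presheaf.map (homOfLE hVU).op ((ClSub.toSubscheme (J S)).app U f) = 0 := h1
        rw [h5, map_zero]
      rw [← h4]
      exact (congr($((ClSub.quotMod (J S)).presheaf.map_comp (homOfLE hVU).op
        (homOfLE (show W ≤ V from hWV)).op) _))
    rw [← h3]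
    exact congr($((ClSub.toSubscheme (J S)).mapPresheaf.naturality (homOfLE hWU).op) f)
  have h6 := (CohqA.IdealMod.toSubscheme_app_eq_zero_iff (J S) ⟨W, hW⟩ _).mp h2
  have h7 := (mem_J_iff_germ hS ⟨W, hW⟩ _).mp h6 η hηW hη
  rw [← h7]
  exact (TopCat.Presheaf.germ_res_apply X.presheaf (homOfLE hWU) η hηW f).symm

theorem tfs_quotMod [IsReduced X] {S : Set X} (hS : ∀ η ∈ S, IsGen η) : TFS S (ClSub.quotMod (J S)) := by
  refine tfs_of_local fun x => ⟨⊤, trivial, fun U _ hU s hs => ?_⟩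
  obtain ⟨f, rfl⟩ := CohqA.IdealMod.toSubscheme_app_surjective (J S) ⟨U, hU⟩ s
  refine (CohqA.IdealMod.toSubscheme_app_eq_zero_iff (J S) ⟨U, hU⟩ f).mpr ?_
  refine (mem_J_iff_germ hS ⟨U, hU⟩ _).mpr fun η hηU hη => ?_
  exact germ_eq_zero_of_toSubscheme hS f η hη hηU (hs η hηU hη)

theorem tfs_tensor {S : Set X} {F L : X.Modules} (hF : TFS S F) (hL : PicF.IsInvertible L) :
    TFS S (CohB1.tensorMod F L) := by
  refine tfs_of_local fun x => ?_
  obtain ⟨V, e, hxV, -, -, he⟩ := Ega2.TensGen.exists_affine_gen hL x (V := ⊤) trivial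
  refine ⟨V, hxV, fun U hU _ s hs => ?_⟩
  obtain ⟨t, rfl⟩ := Ega2.TensGen.exists_eq_tmul (he.res hU) s
  have ht : t = 0 := by
    refine hF U t fun ξ hξ hξS => ?_
    obtain ⟨W, hWU, hξW, h1⟩ := VarietyB.ExactLoc.exists_res_eq_zero _ hξ _ (hs ξ hξ hξS)
    have h2 : tmul (res F hWU t) (res L (hWU.trans hU) e) = 0 := by
      rw [← h1]
      refine Eq.trans ?_ (res_tmul hWU t (res L hU e)).symm
      rw [res_res]
    have h3 := Ega2.TensGen.tmul_gen_eq_zero (he.res (hWU.trans hU)) h2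
    rw [← VarietyB.ExactLoc.germ_res F hWU hξW t]
    exact (congrArg _ h3).trans (map_zero _)
  rw [ht, Ega2.TensGen.zero_tmul]

end Groth.Agent.CurvesB.TriT208
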