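import Groth.Agent.CurvesB.TriT208A

/-!
# The projection `L → O/J ⊗ L`
-/

set_option autoImplicit false
universe u
open CategoryTheory CategoryTheory.Limits AlgebraicGeometry TopologicalSpace Opposite

namespace Groth.Agent.CurvesB.TriT208

open Groth.Agent.CycB.StalkExact Groth.Agent.VarietyA.StalkCrit
open Groth.Agent.Fdesc.LocGen (tmul res res_tmul res_res)
open SubH1 GenStalk SubClosed

variable {X : Scheme.{u}}

/-- `L → O/I ⊗ L`. -/
noncomputable def pr (I : X.IdealSheafData) (L : X.Modules) : L ⟶ CohB1.tensorMod (ClSub.quotMod I) L :=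
  (TwistIdeal.iso₂ L I).inv ≫ (TwistIdeal.seq L I).g ≫ (TwistIdeal.iso₃ L I).hom

theorem epi_pr (I : X.IdealSheafData) {L : X.Modules} (hL : PicF.IsInvertible L) : Epi (pr I L) := by
  have := (TwistIdeal.seq_shortExact hL I).epi_g
  exact inferInstanceAs (Epi ((TwistIdeal.iso₂ L I).inv ≫ (TwistIdeal.seq L I).g ≫ (TwistIdeal.iso₃ L I).hom))

theorem pr_injective (I : X.IdealSheafData) {L : X.Modules} (hL : PicF.IsInvertible L) (x : X)
    (h : Subsingleton ((ClSub.idealMod I).presheaf.stalk x)) :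
    Function.Injective (stalkLin (pr I L) x) := by
  have h1 : Subsingleton ((CohB1.tensorMod (ClSub.idealMod I) L).presheaf.stalk x) := by
    rw [← not_mem_support_iff] at h ⊢
    exact fun h2 => h (Fga.TwistCoh.support_tensor_subset hL h2)
  have h2 : Subsingleton ((TwistIdeal.seq L I).X₁.presheaf.stalk x) :=
    (stalkLinEquiv (TwistIdeal.iso₁ L I) x).symm.injective.subsingleton
  have h3 : Function.Injective (stalkLin (TwistIdeal.seq L I).g x) := by
    have hex := (stalkLin_shortExact _ (TwistIdeal.seq_shortExact hL I) x).2.1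
    rw [injective_iff_map_eq_zero]
    intro m hm
    obtain ⟨c, rfl⟩ := (hex m).mp hm
    rw [Subsingleton.elim c 0, map_zero]
  rw [pr, stalkLin_comp, stalkLin_comp, LinearMap.coe_comp, LinearMap.coe_comp]
  exact ((stalkLin_bijective (TwistIdeal.iso₃ L I).hom x).1.comp h3).comp
    (stalkLin_bijective (TwistIdeal.iso₂ L I).inv x).1

theorem subsingleton_stalk_idealMod (I : X.IdealSheafData) (x : X)
    (h : ∀ (U : X.affineOpens) (hx : x ∈ U.1) (f : Γ(X, U.1)), f ∈ I.ideal U → X.presheaf.germ U.1 x hx f = 0) :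
    Subsingleton ((ClSub.idealMod I).presheaf.stalk x) := by
  refine subsingleton_of_forall_eq 0 fun t => ?_
  obtain ⟨V, hxV, s, rfl⟩ := (ClSub.idealMod I).presheaf.exists_germ_eq t
  obtain ⟨_, ⟨U, hU, rfl⟩, hxU, hUV⟩ := X.isBasis_affineOpens.exists_subset_of_mem_open hxV V.2
  have hUV' : U ≤ V := hUV
  rw [← VarietyB.ExactLoc.germ_res _ hUV' hxU]
  set s' : Γ(ClSub.idealMod I, U) := res (ClSub.idealMod I) hUV' s with hs'
  have h1 : (ClSub.idealModι I).app U s' ∈ I.ideal ⟨U, hU⟩ :=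
    (CohqA.IdealMod.exists_idealModι_app_iff I ⟨U, hU⟩ _).mp ⟨s', rfl⟩
  have h2 := h ⟨U, hU⟩ hxU _ h1
  obtain ⟨W, hxW, i, i', hW⟩ := X.presheaf.germ_eq x hxU hxU ((ClSub.idealModι I).app U s' : Γ(X, U)) 0
    (by rw [map_zero]; exact h2)
  have h3 : (ClSub.idealModι I).app W (res (ClSub.idealMod I) i.le s') = 0 := by
    refine ((congr($((ClSub.idealModι I).mapPresheaf.naturality (homOfLE i.le).op) s'))).trans ?_
    exact hW.trans (map_zero _)
  have h4 : res (ClSub.idealMod I) i.le s' = 0 :=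
    CohqA.IdealMod.idealModι_app_injective I W (h3.trans (map_zero _).symm)
  rw [← VarietyB.ExactLoc.germ_res _ i.le hxW]
  exact (congrArg _ h4).trans (map_zero _)

theorem subsingleton_stalk_idealMod_J [IsReduced X] {S : Set X} (hS : ∀ η ∈ S, IsGen η) (η : X) (hη : η ∈ S) :
    Subsingleton ((ClSub.idealMod (J S)).presheaf.stalk η) :=
  subsingleton_stalk_idealMod _ _ fun U hU f hf => (mem_J_iff_germ hS U f).mp hf η hU hη

theorem subsingleton_stalk_idealMod_J_all [IsReduced X] {S : Set X} (hS : ∀ η, η ∈ S ↔ IsGen η) (x : X) :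
    Subsingleton ((ClSub.idealMod (J S)).presheaf.stalk x) :=
  subsingleton_stalk_idealMod _ _ fun U hU f hf => by
    have h1 : f = 0 := eq_zero_of_germ_gen U.1 f fun η hη hg =>
      (mem_J_iff_germ (fun η h => (hS η).mp h) U f).mp hf η hη ((hS η).mpr hg)
    rw [h1, map_zero]

theorem pr_injective_of_mem [IsReduced X] {S : Set X} (hS : ∀ η ∈ S, IsGen η) {L : X.Modules}
    (hL : PicF.IsInvertible L) (η : X) (hη : η ∈ S) : Function.Injective (stalkLin (pr (J S) L) η) :=
  pr_injective _ hL η (subsingleton_stalk_idealMod_J hS η hη)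

theorem isIso_pr_of_all [IsReduced X] {S : Set X} (hS : ∀ η, η ∈ S ↔ IsGen η) {L : X.Modules}
    (hL : PicF.IsInvertible L) : IsIso (pr (J S) L) := by
  have := epi_pr (J S) hL
  exact isIso_of_stalks _ fun x =>
    ⟨pr_injective _ hL x (subsingleton_stalk_idealMod_J_all hS x), stalkLin_surjective _ x⟩

theorem notMem_closure [NoetherianSpace X] {S : Set X} (hS : ∀ η ∈ S, IsGen η) (η : X) (hη : IsGen η)
    (h : η ∉ S) : η ∉ closure S := by
  intro h1
  have hfin : S.Finite := (finite_isGen X).subset hS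
  obtain ⟨t, ht, h2⟩ := (mem_closure_iff_of_finite hfin η).mp h1
  exact h ((hη t h2) ▸ ht)

theorem subsingleton_stalk_quot_tensor {S : Set X} {L : X.Modules} (hL : PicF.IsInvertible L) (x : X)
    (hx : x ∉ closure S) : Subsingleton ((CohB1.tensorMod (ClSub.quotMod (J S)) L).presheaf.stalk x) := by
  rw [← not_mem_support_iff]
  intro h
  have h1 := VarietyB.DegCartier.support_quotMod_subset (J S) (Fga.TwistCoh.support_tensor_subset hL h)
  rw [coe_support_J] at h1
  exact hx h1

/-- `O/J` does not vanish at the points of the closure of `S`. -/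
theorem nontrivial_stalk_quot {S : Set X} (x : X) (hx : x ∈ closure S) (U : X.Opens) (hU : x ∈ U) :
    (ClSub.quotMod (J S)).presheaf.germ U x hU ((ClSub.toSubscheme (J S)).app U (1 : Γ(X, U))) ≠ 0 := by
  intro h
  obtain ⟨V, hVU, hV, h1⟩ := VarietyB.ExactLoc.exists_res_eq_zero _ hU _ h
  obtain ⟨_, ⟨W, hW, rfl⟩, hxW, hWV⟩ := X.isBasis_affineOpens.exists_subset_of_mem_open hV V.2
  have hWU : W ≤ U := hWV.trans hVU
  have h2 : (ClSub.toSubscheme (J S)).app W (1 : Γ(X, W)) = 0 := by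
    have h3 : (ClSub.quotMod (J S)).presheaf.map (homOfLE hWU).op
        ((ClSub.toSubscheme (J S)).app U (1 : Γ(X, U))) = 0 := by
      have h5 : (ClSub.quotMod (J S)).presheaf.map (homOfLE hVU).op
        ((ClSub.toSubscheme (J S)).app U (1 : Γ(X, U))) = 0 := h1
      have h4 : (ClSub.quotMod (J S)).presheaf.map (homOfLE (show W ≤ V from hWV)).op
          ((ClSub.quotMod (J S)).presheaf.map (homOfLE hVU).op
            ((ClSub.toSubscheme (J S)).app U (1 : Γ(X, U)))) = 0 := by
        rw [h5, map_zero]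
      rw [← h4]
      exact (congr($((ClSub.quotMod (J S)).presheaf.map_comp (homOfLE hVU).op
        (homOfLE (show W ≤ V from hWV)).op) _))
    rw [← h3]
    refine Eq.trans ?_ (congr($((ClSub.toSubscheme (J S)).mapPresheaf.naturality (homOfLE hWU).op)
      (1 : Γ(X, U))))
    refine congrArg ((ClSub.toSubscheme (J S)).app W) ?_
    exact (map_one (X.presheaf.map (homOfLE hWU).op).hom).symm
  have h6 := (mem_J_iff S ⟨W, hW⟩ _).mp
    ((CohqA.IdealMod.toSubscheme_app_eq_zero_iff (J S) ⟨W, hW⟩ _).mp h2)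
  obtain ⟨η, hη, hηS⟩ := mem_closure_iff.mp hx _ W.2 hxW
  refine h6 η hηS ?_
  rw [X.mem_basicOpen _ η hη, map_one]
  exact isUnit_one

theorem nontrivial_stalk_quot_tensor {S : Set X} {L : X.Modules} (hL : PicF.IsInvertible L) (x : X)
    (hx : x ∈ closure S) : ¬ Subsingleton ((CohB1.tensorMod (ClSub.quotMod (J S)) L).presheaf.stalk x) := by
  intro h
  obtain ⟨U, e, hxU, -, -, he⟩ := Ega2.TensGen.exists_affine_gen hL x (V := ⊤) trivial
  set q : Γ(ClSub.quotMod (J S), U) := (ClSub.toSubscheme (J S)).app U (1 : Γ(X, U)) with hq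
  have h1 : (CohB1.tensorMod (ClSub.quotMod (J S)) L).presheaf.germ U x hxU (tmul q e) = 0 :=
    Subsingleton.elim _ _
  obtain ⟨W, hWU, hxW, h2⟩ := VarietyB.ExactLoc.exists_res_eq_zero _ hxU _ h1
  have h2' : res (CohB1.tensorMod (ClSub.quotMod (J S)) L) hWU (tmul q e) = 0 := h2
  rw [res_tmul] at h2'
  have h3 := Ega2.TensGen.tmul_gen_eq_zero (he.res hWU) h2'
  apply nontrivial_stalk_quot x hx U hxU
  rw [← hq, ← VarietyB.ExactLoc.germ_res _ hWU hxW]
  exact (congrArg _ h3).trans (map_zero _)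

/-- The germ of a generator generates the stalk. -/
theorem exists_smul_germ {L : X.Modules} {U : X.Opens} {e : Γ(L, U)} (he : Fdesc.LocGen.IsGen e) (x : X) (hx : x ∈ U)
    (t : L.presheaf.stalk x) : ∃ a : X.presheaf.stalk x, t = a • L.presheaf.germ U x hx e := by
  obtain ⟨V, hxV, hVU, s, rfl⟩ := VarietyB.ExactLoc.exists_germ_le L hx t
  obtain ⟨a, rfl⟩ := (he V hVU).2 s
  refine ⟨X.presheaf.germ V x hxV a, ?_⟩
  simp only
  rw [germ_smul]
  exact congrArg _ (VarietyB.ExactLoc.germ_res L hVU hxV e)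

end Groth.Agent.CurvesB.TriT208
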