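import Groth.Agent.CurvesB.WeilTensor
import Mathlib.Algebra.BigOperators.Finprod
import Mathlib.FieldTheory.IntermediateField.Adjoin.Algebra

/-!
# Places, bi-derivations and the pairing with Weil differentials (pure algebra)

A bi-derivation `Γ : K → K ⊗ K` ("function with a pole along the diagonal") is paired with a family
`λ = (λ_y)` of functionals by `b λ Γ = - ∑ y, ε_y(λ_y, Γ)`.
-/

open TensorProduct

namespace Groth.Agent.CurvesB.Weil

universe u v w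

/-- A discrete place of `K/k` with a chosen uniformizer. -/
structure Place (k : Type u) (K : Type v) [Field k] [Field K] [Algebra k K] where
  O : Subalgebra k K
  π : K
  π_ne : π ≠ 0
  π_mem : π ∈ O
  π_inv : π⁻¹ ∉ O
  exists_pow : ∀ z : K, z ≠ 0 → ∃ n : ℤ, ∃ a ∈ O, a⁻¹ ∈ O ∧ z = π ^ n * a

variable {k : Type u} {K : Type v} [Field k] [Field K] [Algebra k K]

namespace Place

variable (v : Place k K)

/-- Membership in the maximal ideal. -/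
def InM (z : K) : Prop := v.π⁻¹ * z ∈ v.O

lemma InM.mem {v : Place k K} {z : K} (h : v.InM z) : z ∈ v.O := by
  have := v.O.mul_mem v.π_mem h
  rwa [mul_inv_cancel_left₀ v.π_ne] at this

lemma inM_mul {z w : K} (h : v.InM z) (hw : w ∈ v.O) : v.InM (z * w) := by
  have := v.O.mul_mem h hw
  rwa [mul_assoc] at this

lemma inM_π : v.InM v.π := by
  unfold InM
  rw [inv_mul_cancel₀ v.π_ne]
  exact v.O.one_mem

lemma not_inM_one : ¬ v.InM 1 := by
  unfold InM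
  rw [mul_one]
  exact v.π_inv

lemma zpow_mem {n : ℤ} (hn : 0 ≤ n) : v.π ^ n ∈ v.O := by
  lift n to ℕ using hn
  rw [zpow_natCast]
  exact v.O.pow_mem v.π_mem n

lemma mem_or_inv {z : K} (hz : z ≠ 0) : z ∈ v.O ∨ v.InM z⁻¹ := by
  obtain ⟨n, a, ha, ha', rfl⟩ := v.exists_pow z hz
  rcases le_or_gt 0 n with hn | hn
  · exact Or.inl (v.O.mul_mem (v.zpow_mem hn) ha)
  · right
    unfold InM
    rw [mul_inv, ← zpow_neg, ← mul_assoc, ← zpow_neg_one, ← zpow_add₀ v.π_ne]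
    exact v.O.mul_mem (v.zpow_mem (by omega)) ha'

lemma inM_inv_of_notMem {z : K} (hz : z ∉ v.O) : v.InM z⁻¹ := by
  have hz0 : z ≠ 0 := fun h => hz (h ▸ v.O.zero_mem)
  exact (v.mem_or_inv hz0).resolve_left hz

lemma inM_inv_π_inv : v.InM (v.π⁻¹)⁻¹ := by rw [inv_inv]; exact v.inM_π

lemma inM_of_not_inv_mem {z : K} (h' : z⁻¹ ∉ v.O) : v.InM z := by
  have := v.inM_inv_of_notMem h'
  rwa [inv_inv] at this

/-- powers of an element of the maximal ideal go to zero. -/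
lemma pow_mul_mem {h : K} (hh : v.InM h) (z w : K) (hw : w ≠ 0) :
    ∃ N : ℕ, ∀ n ≥ N, ∃ o ∈ v.O, h ^ n * z = w * o := by
  by_cases hz : z = 0
  · exact ⟨0, fun n _ => ⟨0, v.O.zero_mem, by rw [hz, mul_zero, mul_zero]⟩⟩
  obtain ⟨m, a, ha, _, hza⟩ := v.exists_pow (w⁻¹ * z) (mul_ne_zero (inv_ne_zero hw) hz)
  refine ⟨(-m).toNat, fun n hn => ⟨(v.π⁻¹ * h) ^ n * (v.π ^ ((n : ℤ) + m) * a), ?_, ?_⟩⟩
  · refine v.O.mul_mem (v.O.pow_mem hh n) (v.O.mul_mem (v.zpow_mem ?_) ha)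
    have : -m ≤ ((-m).toNat : ℤ) := Int.self_le_toNat _
    omega
  · have h1 : z = w * (v.π ^ m * a) := by rw [← hza, mul_inv_cancel_left₀ hw]
    have h2 : h ^ n = (v.π⁻¹ * h) ^ n * v.π ^ n := by
      rw [← mul_pow, mul_assoc, mul_comm h, inv_mul_cancel_left₀ v.π_ne]
    rw [zpow_add₀ v.π_ne, zpow_natCast, h2]
    nth_rewrite 1 [h1]
    ring

/-- The largest `O`-submodule of `K` killed by the functional `l`. -/
def Lmax (l : K →ₗ[k] k) : Submodule k K where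
  carrier := {z | ∀ o ∈ v.O, l (o * z) = 0}
  add_mem' := fun {a b} ha hb o ho => by rw [mul_add, map_add, ha o ho, hb o ho, add_zero]
  zero_mem' := fun o _ => by rw [mul_zero, map_zero]
  smul_mem' := fun c z hz o ho => by rw [mul_smul_comm, map_smul, hz o ho, smul_zero]

lemma mem_Lmax {l : K →ₗ[k] k} {z : K} : z ∈ v.Lmax l ↔ ∀ o ∈ v.O, l (o * z) = 0 := Iff.rfl

lemma apply_of_mem_Lmax {l : K →ₗ[k] k} {z : K} (hz : z ∈ v.Lmax l) : l z = 0 := by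
  simpa using hz 1 v.O.one_mem

lemma mul_mem_Lmax {l : K →ₗ[k] k} {z o : K} (ho : o ∈ v.O) (hz : z ∈ v.Lmax l) :
    o * z ∈ v.Lmax l := fun o' ho' => by
  rw [← mul_assoc]; exact hz _ (v.O.mul_mem ho' ho)

/-- `l` is bounded at `v`: it kills some lattice. -/
def Bdd (l : K →ₗ[k] k) : Prop := ∃ w : K, w ≠ 0 ∧ ∀ o ∈ v.O, l (w * o) = 0

lemma absorb {l : K →ₗ[k] k} (hl : v.Bdd l) {h : K} (hh : v.InM h) (z : K) :
    ∃ N : ℕ, ∀ n ≥ N, h ^ n * z ∈ v.Lmax l := by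
  obtain ⟨w, hw, hl⟩ := hl
  obtain ⟨N, hN⟩ := v.pow_mul_mem hh z w hw
  refine ⟨N, fun n hn o ho => ?_⟩
  obtain ⟨o', ho', he⟩ := hN n hn
  rw [he, mul_left_comm]
  exact hl _ (v.O.mul_mem ho ho')

lemma stable {l : K →ₗ[k] k} {h : K} (hh : v.InM h) (z : K) (hz : z ∈ v.Lmax l) :
    h * z ∈ v.Lmax l := v.mul_mem_Lmax hh.mem hz

end Place

/-- `a ⊗ 1 - 1 ⊗ c`. -/
noncomputable def dl {C : Type w} [CommRing C] [Algebra k C] (a : K) (c : C) : K ⊗[k] C :=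
  a ⊗ₜ 1 - 1 ⊗ₜ c

lemma one_sub_tmul {C : Type w} [CommRing C] [Algebra k C] {f : K} (hf : f ≠ 0) (c : C) :
    (1 - f⁻¹ ⊗ₜ[k] c : K ⊗[k] C) = (f⁻¹ ⊗ₜ 1) * dl f c := by
  rw [dl, mul_sub, Algebra.TensorProduct.tmul_mul_tmul, Algebra.TensorProduct.tmul_mul_tmul,
    inv_mul_cancel₀ hf, mul_one, mul_one, one_mul]
  rfl

/-- Bi-derivations `K → K ⊗ K`. -/
structure BiDer (k : Type u) (K : Type v) [Field k] [Field K] [Algebra k K] where
  Γ : K →ₗ[k] K ⊗[k] K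
  leib : ∀ a b, Γ (a * b) = (a ⊗ₜ 1) * Γ b + (1 ⊗ₜ b) * Γ a

namespace BiDer

variable (G : BiDer k K)

lemma comm (a b : K) : G.Γ a * dl b b = G.Γ b * dl a a := by
  have h1 := G.leib a b
  have h2 := G.leib b a
  rw [mul_comm b a, h1] at h2
  rw [dl, dl]
  linear_combination (-1 : K ⊗[k] K) * h2

lemma map_one : G.Γ 1 = 0 := by
  have h := G.leib 1 1
  rw [mul_one] at h
  have e : ((1 : K) ⊗ₜ[k] (1 : K)) = 1 := rfl
  rw [e, one_mul] at h
  simpa using h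

lemma inv_formula {h : K} (hh : h ≠ 0) :
    (h ⊗ₜ 1) * G.Γ h⁻¹ = - ((1 ⊗ₜ h⁻¹) * G.Γ h) := by
  have h1 := G.leib h h⁻¹
  rw [mul_inv_cancel₀ hh, G.map_one] at h1
  exact eq_neg_of_add_eq_zero_left h1.symm

/-- The inner bi-derivation. -/
noncomputable def inner (g : K ⊗[k] K) : BiDer k K where
  Γ := { toFun := fun f => g * dl f f
         map_add' := fun a b => by simp only [dl, add_tmul, tmul_add]; ring
         map_smul' := fun c a => by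
          simp only [dl, RingHom.id_apply, ← smul_tmul', tmul_smul, ← smul_sub, mul_smul_comm] }
  leib := fun a b => by
    simp only [LinearMap.coe_mk, AddHom.coe_mk, dl]
    have e1 : ((a * b) ⊗ₜ[k] (1 : K)) = (a ⊗ₜ 1) * (b ⊗ₜ 1) := by
      rw [Algebra.TensorProduct.tmul_mul_tmul, mul_one]
    have e2 : ((1 : K) ⊗ₜ[k] (a * b)) = (1 ⊗ₜ a) * (1 ⊗ₜ b) := by
      rw [Algebra.TensorProduct.tmul_mul_tmul, mul_one]
    rw [e1, e2]; ring

@[simp]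
lemma inner_apply (g : K ⊗[k] K) (f : K) : (inner g : BiDer k K).Γ f = g * dl f f := rfl

/-- Multiplication of a bi-derivation by an element of `K ⊗ K`. -/

noncomputable def smul (r : K ⊗[k] K) : BiDer k K where
  Γ := LinearMap.mulLeft k r ∘ₗ G.Γ
  leib := fun a b => by
    simp only [LinearMap.comp_apply, LinearMap.mulLeft_apply]
    rw [G.leib]; ring

@[simp]
lemma smul_apply (r : K ⊗[k] K) (f : K) : (G.smul r).Γ f = r * G.Γ f := rfl

/-- Sum of bi-derivations. -/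

noncomputable def add (G G' : BiDer k K) : BiDer k K where
  Γ := G.Γ + G'.Γ
  leib := fun a b => by
    simp only [LinearMap.add_apply]
    rw [G.leib, G'.leib]; ring

@[simp]
lemma add_apply (G G' : BiDer k K) (f : K) : (G.add G').Γ f = G.Γ f + G'.Γ f := rfl

/-- Construction of a bi-derivation as a fraction `a/τ`. -/
theorem exists_ofFrac (τ a : K ⊗[k] K) (hτ : ∀ z, τ * z = 0 → z = 0)
    (h : ∀ f : K, ∃ p, τ * p = a * dl f f) : ∃ G : BiDer k K, ∀ f, τ * G.Γ f = a * dl f f := by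
  choose p hp using h
  have inj : ∀ x y, τ * x = τ * y → x = y := fun x y hxy => by
    rw [← sub_eq_zero]; apply hτ; rw [mul_sub, hxy, sub_self]
  refine ⟨⟨⟨⟨p, fun x y => inj _ _ ?_⟩, fun c x => inj _ _ ?_⟩, fun x y => inj _ _ ?_⟩, hp⟩
  · rw [mul_add, hp, hp, hp]; simp only [dl, add_tmul, tmul_add]; ring
  · rw [mul_smul_comm, hp]
    simp only [RingHom.id_apply, hp, dl, ← smul_tmul', tmul_smul, ← smul_sub, mul_smul_comm]
  · simp only [LinearMap.coe_mk, AddHom.coe_mk]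
    have hin := (inner (k := k) a).leib x y
    simp only [inner_apply] at hin
    rw [mul_add, mul_left_comm τ, mul_left_comm τ, hp, hp, hp]
    exact hin

end BiDer

section Rep

variable (v : Place k K)

/-- `g` represents the polar part of `G` at `v`, modulo `Lmax l ⊗ K`. -/
def Rep (l : K →ₗ[k] k) (G : BiDer k K) (g : K ⊗[k] K) : Prop :=
  ∀ f : K, f ≠ 0 → v.InM f⁻¹ → (f⁻¹ ⊗ₜ 1) * G.Γ f - g * (1 - f⁻¹ ⊗ₜ f) ∈ W K (v.Lmax l)

variable {v}

lemma rep_of_one {l : K →ₗ[k] k} (hl : v.Bdd l) {G : BiDer k K} {g : K ⊗[k] K} {f₀ : K}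
    (hf₀ : f₀ ≠ 0) (hM : v.InM f₀⁻¹)
    (h : (f₀⁻¹ ⊗ₜ 1) * G.Γ f₀ - g * (1 - f₀⁻¹ ⊗ₜ f₀) ∈ W K (v.Lmax l)) : Rep v l G g := by
  intro f hf hfM
  refine mem_W_of_mul_mem (v.stable hM) (v.absorb hl hM) f₀ ?_
  have key : ((f⁻¹ ⊗ₜ 1) * G.Γ f - g * (1 - f⁻¹ ⊗ₜ f)) * (1 - f₀⁻¹ ⊗ₜ[k] f₀) =
      ((f₀⁻¹ ⊗ₜ 1) * G.Γ f₀ - g * (1 - f₀⁻¹ ⊗ₜ f₀)) * (1 - f⁻¹ ⊗ₜ f) := by
    rw [one_sub_tmul hf, one_sub_tmul hf₀]
    linear_combination ((f⁻¹ ⊗ₜ[k] (1:K)) * (f₀⁻¹ ⊗ₜ[k] (1:K))) * G.comm f f₀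
  rw [key, mul_sub, mul_one]
  refine sub_mem h ?_
  rw [mul_comm]
  exact mul_mem_W (v.stable hfM) f h

lemma exists_rep {l : K →ₗ[k] k} (hl : v.Bdd l) (G : BiDer k K) : ∃ g, Rep v l G g := by
  have hne : v.π⁻¹ ≠ 0 := inv_ne_zero v.π_ne
  obtain ⟨g, hg⟩ := exists_solve (v.absorb hl v.inM_inv_π_inv) v.π⁻¹
    (((v.π⁻¹)⁻¹ ⊗ₜ 1) * G.Γ v.π⁻¹)
  exact ⟨g, rep_of_one hl hne v.inM_inv_π_inv hg⟩

lemma Rep.unique {l : K →ₗ[k] k} (hl : v.Bdd l) {G : BiDer k K} {g g' : K ⊗[k] K}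
    (h : Rep v l G g) (h' : Rep v l G g') : extL K l g = extL K l g' := by
  have hne : v.π⁻¹ ≠ 0 := inv_ne_zero v.π_ne
  have h1 := h _ hne v.inM_inv_π_inv
  have h2 := h' _ hne v.inM_inv_π_inv
  have h3 := sub_mem h2 h1
  have h4 : (g - g') * (1 - (v.π⁻¹)⁻¹ ⊗ₜ[k] v.π⁻¹) ∈ W K (v.Lmax l) := by
    convert h3 using 1; ring
  have h5 := mem_W_of_mul_mem (v.stable v.inM_inv_π_inv) (v.absorb hl v.inM_inv_π_inv) _ h4
  have h6 := extL_of_mem_W (fun z hz => v.apply_of_mem_Lmax hz) h5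
  rwa [map_sub, sub_eq_zero] at h6

/-- The local pairing. -/
noncomputable def eps (v : Place k K) (l : K →ₗ[k] k) (G : BiDer k K) : K := by
  classical
  exact if h : ∃ g, Rep v l G g then extL K l h.choose else 0

lemma eps_eq {l : K →ₗ[k] k} (hl : v.Bdd l) {G : BiDer k K} {g : K ⊗[k] K} (h : Rep v l G g) :
    eps v l G = extL K l g := by
  have hex : ∃ g, Rep v l G g := ⟨g, h⟩
  rw [eps, dif_pos hex]
  exact Rep.unique hl hex.choose_spec h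

lemma rep_inner (l : K →ₗ[k] k) (g : K ⊗[k] K) : Rep v l (BiDer.inner g) g := by
  intro f hf _
  rw [one_sub_tmul hf, BiDer.inner_apply]
  have : (f⁻¹ ⊗ₜ[k] (1:K)) * (g * dl f f) - g * ((f⁻¹ ⊗ₜ 1) * dl f f) = 0 := by ring
  rw [this]; exact zero_mem _

lemma Rep.add {l : K →ₗ[k] k} {G G' : BiDer k K} {g g' : K ⊗[k] K} (h : Rep v l G g)
    (h' : Rep v l G' g') : Rep v l (G.add G') (g + g') := by
  intro f hf hM
  convert add_mem (h f hf hM) (h' f hf hM) using 1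
  rw [BiDer.add_apply]; ring

lemma Rep.smul_right {l : K →ₗ[k] k} {G : BiDer k K} {g : K ⊗[k] K} (h : Rep v l G g) (c : K) :
    Rep v l (G.smul (1 ⊗ₜ c)) ((1 ⊗ₜ c) * g) := by
  intro f hf hM
  have h1 := mul_mem_W (L' := v.Lmax l) (o := 1) (fun z hz => by rwa [one_mul]) c (h f hf hM)
  convert h1 using 1
  rw [BiDer.smul_apply]
  ring

lemma Rep.smul_left {l : K →ₗ[k] k} {G : BiDer k K} {g : K ⊗[k] K} {a : K}
    (h : Rep v (l ∘ₗ LinearMap.mulLeft k a) G g) :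
    Rep v l (G.smul (a ⊗ₜ 1)) ((a ⊗ₜ 1) * g) := by
  intro f hf hM
  have h1 := mul_mem_W (L := v.Lmax (l ∘ₗ LinearMap.mulLeft k a)) (L' := v.Lmax l) (o := a)
    (fun z hz o ho => by
      have := hz o ho
      simp only [LinearMap.comp_apply, LinearMap.mulLeft_apply] at this
      rwa [mul_left_comm] at this) (1 : K) (h f hf hM)
  convert h1 using 1
  rw [BiDer.smul_apply]
  ring

lemma Rep.mono {l l' : K →ₗ[k] k} (hll : v.Lmax l ≤ v.Lmax l') {G : BiDer k K} {g : K ⊗[k] K}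
    (h : Rep v l G g) : Rep v l' G g := fun f hf hM => W_mono hll (h f hf hM)

end Rep

end Groth.Agent.CurvesB.Weil
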