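import Groth.Agent.CurvesB.WeilRR
import Mathlib.RingTheory.Derivation.Basic

/-!
# The canonical lattice and the degree formula in pure function field language
-/

open TensorProduct

namespace Groth.Agent.CurvesB.Weil

universe u v w x

open ChiLin

variable {k : Type u} {K : Type v} [Field k] [Field K] [Algebra k K] {P : Type x}

section Der

variable {v : Place k K} (d : LocalData v)

/-- The derivation `μ ∘ Γ`. -/
noncomputable def LocalData.D : Derivation k K K where
  toLinearMap := (mu (k := k) (K := K)).toLinearMap ∘ₗ d.G.Γ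
  map_one_eq_zero' := by
    change mu (d.G.Γ 1) = 0
    rw [d.G.map_one, map_zero]
  leibniz' a b := by
    change mu (d.G.Γ (a * b)) = a • mu (d.G.Γ b) + b • mu (d.G.Γ a)
    rw [d.G.leib, map_add, map_mul, map_mul]
    simp

lemma LocalData.D_apply (f : K) : d.D f = mu (d.G.Γ f) := rfl

lemma LocalData.D_t : d.D d.t = 1 := d.lmul_G_t

lemma LocalData.D_mem {f : K} (hf : f ∈ v.O) : d.D f ∈ v.O := by
  obtain ⟨p, -, hp⟩ := d.exists_G_eq ⟨f, hf⟩
  rw [d.D_apply, show d.G.Γ f = _ from hp]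
  have h1 : mu (mp v v.O.val p) = ((Algebra.TensorProduct.lmul' k p : v.O) : K) :=
    LocalData.lmul_mp (v := v) p
  rw [h1]
  exact (Algebra.TensorProduct.lmul' k p : v.O).2

/-- Any derivation on `O` with values in a module is a multiple of `D`. -/
lemma LocalData.der_eq {M : Type*} [AddCommGroup M] [Module k M] [Module v.O M]
    [IsScalarTower k v.O M] (E : Derivation k v.O M) (f : v.O) :
    E f = (⟨d.D f, d.D_mem f.2⟩ : v.O) • E d.t := by
  -- ψ : O ⊗ O → M, x ⊗ y ↦ y • E x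
  let ψ : v.O ⊗[k] v.O →ₗ[k] M := TensorProduct.lift
    (LinearMap.mk₂ k (fun x y => y • E x) (fun x x' y => by rw [map_add, smul_add])
      (fun c x y => by rw [Derivation.map_smul, smul_comm])
      (fun x y y' => add_smul _ _ _) (fun c x y => smul_assoc _ _ _))
  have hψ : ∀ x y, ψ (x ⊗ₜ y) = y • E x := fun x y => rfl
  have hmul : ∀ r z : v.O ⊗[k] v.O, ψ (r * z) =
      Algebra.TensorProduct.lmul' k r • ψ z + Algebra.TensorProduct.lmul' k z • ψ r := by
    intro r z
    induction r with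
    | zero => simp
    | tmul a b =>
      induction z with
      | zero => simp
      | tmul x y =>
        rw [Algebra.TensorProduct.tmul_mul_tmul, hψ, hψ, hψ, Derivation.leibniz,
          Algebra.TensorProduct.lmul'_apply_tmul, Algebra.TensorProduct.lmul'_apply_tmul,
          smul_add, smul_smul, smul_smul, smul_smul, smul_smul]
        congr 2 <;> ring
      | add x y hx hy => rw [mul_add, map_add, map_add, hx, hy, map_add, smul_add, add_smul]; abel
    | add x y hx hy => rw [add_mul, map_add, map_add, hx, hy, map_add, smul_add, add_smul]; abel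
  have hδ : ∀ g : v.O, ψ (g ⊗ₜ 1 - 1 ⊗ₜ g) = E g := fun g => by
    rw [map_sub, hψ, hψ, one_smul, Derivation.map_one_eq_zero, smul_zero, sub_zero]
  have hμδ : ∀ g : v.O, Algebra.TensorProduct.lmul' k ((g ⊗ₜ 1 - 1 ⊗ₜ g : v.O ⊗[k] v.O)) = 0 := by
    intro g; simp
  obtain ⟨p, hp, hGp⟩ := d.exists_G_eq f
  have h1 := congrArg ψ hp
  rw [hmul, hmul, hμδ, hμδ, hδ, hδ, d.ha, zero_smul, zero_smul, zero_add, add_zero, one_smul] at h1
  rw [← h1]
  congr 1
  apply Subtype.ext
  change _ = d.D f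
  rw [d.D_apply, show d.G.Γ f = _ from hGp]
  exact (LocalData.lmul_mp (v := v) p).symm

/-- Any `k`-derivation of `K` is a multiple of `D`. -/
lemma LocalData.der_eq' (E : Derivation k K K) (f : K) : E f = d.D f * E d.t := by
  let ψ : K ⊗[k] K →ₗ[k] K := TensorProduct.lift
    (LinearMap.mk₂ k (fun x y => y • E x) (fun x x' y => by rw [map_add, smul_add])
      (fun c x y => by rw [Derivation.map_smul, smul_comm])
      (fun x y y' => add_smul _ _ _) (fun c x y => smul_assoc _ _ _))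
  have hψ : ∀ x y, ψ (x ⊗ₜ y) = y • E x := fun x y => rfl
  have hmul : ∀ r z : K ⊗[k] K, ψ (r * z) = mu r • ψ z + mu z • ψ r := by
    intro r z
    induction r with
    | zero => simp
    | tmul a b =>
      induction z with
      | zero => simp
      | tmul x y =>
        rw [Algebra.TensorProduct.tmul_mul_tmul, hψ, hψ, hψ, Derivation.leibniz,
          Algebra.TensorProduct.lmul'_apply_tmul, Algebra.TensorProduct.lmul'_apply_tmul,
          smul_add, smul_smul, smul_smul, smul_smul, smul_smul]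
        congr 2 <;> ring
      | add x y hx hy => rw [mul_add, map_add, map_add, hx, hy, map_add, smul_add, add_smul]; abel
    | add x y hx hy => rw [add_mul, map_add, map_add, hx, hy, map_add, smul_add, add_smul]; abel
  have hδ : ∀ g : K, ψ (dl g g) = E g := fun g => by
    rw [dl, map_sub, hψ, hψ, one_smul, Derivation.map_one_eq_zero, smul_zero, sub_zero]
  have hμδ : ∀ g : K, mu (dl g g : K ⊗[k] K) = 0 := by
    intro g; simp [dl]
  have h1 := congrArg ψ (d.G_spec f)
  have hμa : mu (mp v v.O.val d.a) = 1 := by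
    have := LocalData.lmul_mp (v := v) d.a
    rw [d.ha] at this
    exact this
  rw [hmul, hmul, hμδ, hμδ, hδ, hδ, hμa, zero_smul, zero_smul, zero_add, add_zero, one_smul,
    smul_eq_mul] at h1
  rw [← h1]
  rfl

end Der

variable (Pl : P → Place k K)

/-- The complete set of hypotheses: the function field of a smooth proper curve with `H⁰ = k`. -/
structure CurveData where
  ne : Nonempty P
  good : Good Pl
  d : ∀ x, LocalData (Pl x)
  resFin : ∀ x, Module.Finite k ((Pl x).O ⧸ (Pl x).m)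
  h0 : ∀ f : K, (∀ x, f ∈ (Pl x).O) → f ∈ Set.range (algebraMap k K)
  hloc : ∃ s : Finset K, {x | ¬ ((s : Set K) ⊆ (Pl x).O ∧ ∀ f ∈ (Pl x).O,
    ∃ r ∈ Algebra.adjoin k (s : Set K), ∃ q ∈ Algebra.adjoin k (s : Set K),
      q ≠ 0 ∧ q⁻¹ ∈ (Pl x).O ∧ f = r * q⁻¹)}.Finite

variable {Pl}

namespace CurveData

variable (c : CurveData Pl)

include c in
lemma resAlg (x : P) : (Pl x).ResAlg := by
  intro o ho
  have := c.resFin x
  have hi : IsAlgebraic k (Ideal.Quotient.mkₐ k (Pl x).m ⟨o, ho⟩) :=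
    (Algebra.IsIntegral.isIntegral _).isAlgebraic
  obtain ⟨p, hp, hp0⟩ := hi
  refine ⟨p, hp, ?_⟩
  rw [Polynomial.aeval_algHom_apply, Ideal.Quotient.mkₐ_eq_mk, Ideal.Quotient.eq_zero_iff_mem,
    Place.mem_m] at hp0
  convert hp0
  exact (Polynomial.aeval_algHom_apply (Pl x).O.val ⟨o, ho⟩ p)

include c in
/-- For almost all places a derivation preserves the local ring. -/
lemma finite_der (E : Derivation k K K) : {x | ¬ ∀ f ∈ (Pl x).O, E f ∈ (Pl x).O}.Finite := by
  obtain ⟨s, hs⟩ := c.hloc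
  have h2 : (⋃ b ∈ s, {y | E b ∉ (Pl y).O}).Finite :=
    s.finite_toSet.biUnion fun b _ => c.good.fin_char _
  refine (hs.union h2).subset fun x hx => ?_
  by_contra h
  simp only [Set.mem_union, Set.mem_iUnion, Set.mem_ofPred_eq, not_or, not_not, not_exists] at h
  obtain ⟨⟨hsO, hf⟩, hE⟩ := h
  apply hx
  have hadj : ∀ r ∈ Algebra.adjoin k (s : Set K), r ∈ (Pl x).O ∧ E r ∈ (Pl x).O := by
    let B : Subalgebra k K :=
      { carrier := {r | r ∈ (Pl x).O ∧ E r ∈ (Pl x).O}
        mul_mem' := fun {a b} ha hb => ⟨(Pl x).O.mul_mem ha.1 hb.1, by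
          rw [Derivation.leibniz, smul_eq_mul, smul_eq_mul]
          exact (Pl x).O.add_mem ((Pl x).O.mul_mem ha.1 hb.2) ((Pl x).O.mul_mem hb.1 ha.2)⟩
        one_mem' := ⟨(Pl x).O.one_mem, by
          rw [Derivation.map_one_eq_zero]; exact (Pl x).O.zero_mem⟩
        add_mem' := fun {a b} ha hb => ⟨(Pl x).O.add_mem ha.1 hb.1, by
          rw [map_add]; exact (Pl x).O.add_mem ha.2 hb.2⟩
        zero_mem' := ⟨(Pl x).O.zero_mem, by rw [map_zero]; exact (Pl x).O.zero_mem⟩
        algebraMap_mem' := fun c => ⟨(Pl x).O.algebraMap_mem c, by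
          rw [Derivation.map_algebraMap]; exact (Pl x).O.zero_mem⟩ }
    have hB : Algebra.adjoin k (s : Set K) ≤ B := Algebra.adjoin_le fun b hb => ⟨hsO hb, hE b hb⟩
    exact fun r hr => hB hr
  intro f hfO
  obtain ⟨r, hr, q, hq, hq0, hqi, rfl⟩ := hf f hfO
  rw [Derivation.leibniz, Derivation.leibniz_inv, smul_eq_mul, smul_eq_mul, smul_eq_mul]
  refine (Pl x).O.add_mem ((Pl x).O.mul_mem (hadj r hr).1 ?_)
    ((Pl x).O.mul_mem hqi (hadj r hr).2)
  rw [← neg_mul_eq_neg_mul]
  refine (Pl x).O.neg_mem ((Pl x).O.mul_mem ?_ (hadj q hq).2)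
  exact (Pl x).O.pow_mem hqi 2

section Canon

variable {v₀ : Place k K} (d₀ : LocalData v₀)

/-- `e x`: `dt₀ = e_x dt_x`. -/
noncomputable def e (x : P) : K := ord d₀ (c.d x)

lemma e_ne (x : P) : c.e d₀ x ≠ 0 := ord_ne_zero _ _

lemma D_eq (x : P) (f : K) : (c.d x).D f = c.e d₀ x * d₀.D f := mu_eq d₀ (c.d x).G f

lemma D₀_t (x : P) : d₀.D (c.d x).t = (c.e d₀ x)⁻¹ := by
  have := c.D_eq d₀ x (c.d x).t
  rw [LocalData.D_t] at this
  field_simp [c.e_ne d₀ x]
  rw [mul_comm]; exact this.symm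

lemma D₀_mem {x : P} {f : K} (hf : f ∈ (Pl x).O) : c.e d₀ x * d₀.D f ∈ (Pl x).O := by
  rw [← D_eq]; exact (c.d x).D_mem hf

lemma finite_e : {x | ¬ (c.e d₀ x ∈ (Pl x).O ∧ (c.e d₀ x)⁻¹ ∈ (Pl x).O)}.Finite := by
  refine ((c.good.fin_char d₀.t).union (c.finite_der d₀.D)).subset fun x hx => ?_
  by_contra h
  simp only [Set.mem_union, Set.mem_ofPred_eq, not_or, not_not] at h
  apply hx
  constructor
  · have := (c.d x).D_mem h.1
    rwa [D_eq c d₀ x, LocalData.D_t, mul_one] at this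
  · rw [← D₀_t]; exact h.2 _ (c.d x).t.2

/-- The dual lattice `g ↦ (g e)⁻¹`. -/
noncomputable def dual (L : Lat Pl) : Lat Pl where
  g x := (L.g x * c.e d₀ x)⁻¹
  ne x := inv_ne_zero (mul_ne_zero (L.ne x) (c.e_ne d₀ x))
  fin := by
    refine (L.fin.union (c.finite_e d₀)).subset fun x hx => ?_
    by_contra h
    simp only [Set.mem_union, Set.mem_ofPred_eq, not_or, not_not] at h
    apply hx
    rw [inv_inv]
    refine ⟨?_, (Pl x).O.mul_mem h.1.1 h.2.1⟩
    rw [mul_inv]
    exact (Pl x).O.mul_mem h.1.2 h.2.2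

lemma mem_dual {L : Lat Pl} {x : P} {z : K} :
    z ∈ (c.dual d₀ L).Λ x ↔ L.g x * c.e d₀ x * z ∈ (Pl x).O := by
  rw [Lat.mem_Λ]
  change ((L.g x * c.e d₀ x)⁻¹)⁻¹ * z ∈ _ ↔ _
  rw [inv_inv]

/-- `H⁰` of the dual lattice. -/
noncomputable def h0Equiv (L : Lat Pl) :
    M d₀ c.d L ≃ₗ[k] (Kd c.good ⊓ AL Pl (c.dual d₀ L).Λ : Submodule k (Adele Pl)) :=
  LinearEquiv.ofBijective
    { toFun := fun b => ⟨diag c.good b, ⟨b, rfl⟩, fun x => (c.mem_dual d₀).2 (b.2 x)⟩
      map_add' := fun _ _ => rfl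
      map_smul' := fun _ _ => rfl }
    ⟨fun b b' h => by
      apply Subtype.ext
      have h1 : diag c.good (b : K) = diag c.good (b' : K) := congrArg Subtype.val h
      obtain ⟨x⟩ := c.ne
      exact congrFun (congrArg Subtype.val h1) x, by
      rintro ⟨_, ⟨b, rfl⟩, hb⟩
      exact ⟨⟨b, fun x => (c.mem_dual d₀).1 (hb x)⟩, rfl⟩⟩

end Canon

end CurveData

end Groth.Agent.CurvesB.Weil
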