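import Groth.Agent.CurvesB.WeilCanon

/-!
# Euler characteristics of the structure lattice and the canonical lattice
-/

open TensorProduct

namespace Groth.Agent.CurvesB.Weil

universe u v w x

open ChiLin

variable {k : Type u} {K : Type v} [Field k] [Field K] [Algebra k K] {P : Type x}
variable {Pl : P → Place k K}

namespace CurveData

variable (c : CurveData Pl)

/-- Adelic `H¹`. -/
abbrev H1 (L : Lat Pl) : Type _ := Adele Pl ⧸ (Kd c.good ⊔ AL Pl L.Λ)

/-- Adelic `H⁰`. -/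
abbrev H0 (L : Lat Pl) : Submodule k (Adele Pl) := Kd c.good ⊓ AL Pl L.Λ

/-- The map `k → H⁰(O)`. -/
noncomputable def h0Map : k →ₗ[k] c.H0 (Lat.one Pl) where
  toFun a := ⟨diag c.good (algebraMap k K a), ⟨_, rfl⟩, fun x => by
    rw [Lat.mem_one]; exact (Pl x).O.algebraMap_mem a⟩
  map_add' a b := by
    apply Subtype.ext
    change diag c.good (algebraMap k K (a + b)) =
      diag c.good (algebraMap k K a) + diag c.good (algebraMap k K b)
    rw [map_add, map_add]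
  map_smul' a b := by
    apply Subtype.ext
    change diag c.good (algebraMap k K (a * b)) = a • diag c.good (algebraMap k K b)
    rw [map_mul, ← map_smul, Algebra.smul_def]

/-- `H⁰(O) = k`. -/
noncomputable def h0One : k ≃ₗ[k] c.H0 (Lat.one Pl) :=
  LinearEquiv.ofBijective c.h0Map
    ⟨fun a b h => by
      have h1 : diag c.good (algebraMap k K a) = diag c.good (algebraMap k K b) :=
        congrArg Subtype.val h
      obtain ⟨x⟩ := c.ne
      exact (algebraMap k K).injective (congrFun (congrArg Subtype.val h1) x), by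
      rintro ⟨_, ⟨f, rfl⟩, hf⟩
      obtain ⟨a, ha⟩ := c.h0 f fun x => Lat.mem_one.1 (hf x)
      refine ⟨a, ?_⟩
      apply Subtype.ext
      change diag c.good (algebraMap k K a) = diag c.good f
      rw [ha]⟩

lemma finrank_H0_one : Module.finrank k (c.H0 (Lat.one Pl)) = 1 := by
  rw [← c.h0One.finrank_eq, Module.finrank_self]

lemma fin_H0_one : FiniteDimensional k (c.H0 (Lat.one Pl)) := Module.Finite.equiv c.h0One

lemma exists_wdiff (h : Nontrivial (c.H1 (Lat.one Pl))) : ∃ l : WDiff Pl, ∃ x, l.val x ≠ 0 := by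
  have h2 : Nontrivial (Module.Dual k (c.H1 (Lat.one Pl))) := inferInstance
  obtain ⟨m, hm⟩ := exists_ne (0 : Module.Dual k (c.H1 (Lat.one Pl)))
  let l := (jDual c.good (Lat.one Pl)).symm m
  have hl : l ≠ 0 := fun h => hm (by
    have := (jDual c.good (Lat.one Pl)).apply_symm_apply m
    change (jDual c.good (Lat.one Pl)) l = m at this
    rw [← this, h, map_zero])
  refine ⟨toW c.good _ l, ?_⟩
  by_contra hcon
  simp only [not_exists, not_not] at hcon
  apply hl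
  apply Subtype.ext
  funext x
  exact hcon x

variable {v₀ : Place k K} (d₀ : LocalData v₀)

/-- Duality: `H⁰(L^*) = H¹(L)^∨`. -/
lemma duality (h : Nontrivial (c.H1 (Lat.one Pl))) (L : Lat Pl) :
    Nonempty (c.H0 (c.dual d₀ L) ≃ₗ[k] Module.Dual k (c.H1 L)) := by
  obtain ⟨e⟩ := exists_dual c.good d₀ c.d c.resAlg (c.exists_wdiff h) L
  exact ⟨(c.h0Equiv d₀ L).symm ≪≫ₗ e.symm ≪≫ₗ (jDual c.good L)⟩

/-- The canonical lattice. -/
noncomputable def Ω : Lat Pl := c.dual d₀ (Lat.one Pl)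

lemma mem_Ω {x : P} {z : K} : z ∈ (c.Ω d₀).Λ x ↔ c.e d₀ x * z ∈ (Pl x).O := by
  rw [Ω, mem_dual]
  change 1 * c.e d₀ x * z ∈ _ ↔ _
  rw [one_mul]

lemma dual_Ω : (c.dual d₀ (c.Ω d₀)).Λ = (Lat.one Pl).Λ := by
  funext x
  ext z
  rw [mem_dual, Lat.mem_one]
  have : (c.Ω d₀).g x * c.e d₀ x = 1 := by
    change (1 * c.e d₀ x)⁻¹ * c.e d₀ x = 1
    rw [one_mul]
    exact inv_mul_cancel₀ (c.e_ne d₀ x)
  rw [this, one_mul]

variable [hfin : FiniteDimensional k (c.H1 (Lat.one Pl))]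

lemma fred_one : Fred (Kd c.good) (AL Pl (Lat.one Pl).Λ) := ⟨c.fin_H0_one, hfin⟩

omit hfin in
lemma chi_one : chi (Kd c.good) (AL Pl (Lat.one Pl).Λ) =
    1 - Module.finrank k (c.H1 (Lat.one Pl)) := by
  have h := c.finrank_H0_one
  unfold chi
  have : (Module.finrank k (Kd c.good ⊓ AL Pl (Lat.one Pl).Λ : Submodule k (Adele Pl))) = 1 := h
  rw [this]
  push_cast
  rfl

lemma fin_H0_Ω (h : Nontrivial (c.H1 (Lat.one Pl))) : FiniteDimensional k (c.H0 (c.Ω d₀)) := by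
  obtain ⟨e⟩ := c.duality d₀ h (Lat.one Pl)
  exact Module.Finite.equiv e.symm

omit hfin in
lemma finrank_H0_Ω (h : Nontrivial (c.H1 (Lat.one Pl))) :
    Module.finrank k (c.H0 (c.Ω d₀)) = Module.finrank k (c.H1 (Lat.one Pl)) := by
  obtain ⟨e⟩ := c.duality d₀ h (Lat.one Pl)
  exact e.finrank_eq.trans Subspace.dual_finrank_eq

omit hfin in
lemma fin_H1_Ω (h : Nontrivial (c.H1 (Lat.one Pl))) : FiniteDimensional k (c.H1 (c.Ω d₀)) := by
  obtain ⟨e⟩ := c.duality d₀ h (c.Ω d₀)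
  have e' := e
  rw [H0, dual_Ω] at e'
  have := c.fin_H0_one
  have h2 : Module.Finite k (Module.Dual k (c.H1 (c.Ω d₀))) := Module.Finite.equiv e'
  exact Module.finite_dual_iff k |>.1 h2

omit hfin in
lemma finrank_H1_Ω (h : Nontrivial (c.H1 (Lat.one Pl))) :
    Module.finrank k (c.H1 (c.Ω d₀)) = 1 := by
  obtain ⟨e⟩ := c.duality d₀ h (c.Ω d₀)
  have e' := e
  rw [H0, dual_Ω] at e'
  have h2 := e'.finrank_eq
  rw [Subspace.dual_finrank_eq] at h2
  rw [← h2]
  exact c.finrank_H0_one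

lemma fred_Ω (h : Nontrivial (c.H1 (Lat.one Pl))) : Fred (Kd c.good) (AL Pl (c.Ω d₀).Λ) :=
  ⟨c.fin_H0_Ω d₀ h, c.fin_H1_Ω d₀ h⟩

omit hfin in
lemma chi_Ω (h : Nontrivial (c.H1 (Lat.one Pl))) : chi (Kd c.good) (AL Pl (c.Ω d₀).Λ) =
    (Module.finrank k (c.H1 (Lat.one Pl)) : ℤ) - 1 := by
  have h1 := c.finrank_H0_Ω d₀ h
  have h2 := c.finrank_H1_Ω d₀ h
  unfold chi
  have e1 : (Module.finrank k (Kd c.good ⊓ AL Pl (c.Ω d₀).Λ : Submodule k (Adele Pl))) =
    Module.finrank k (c.H1 (Lat.one Pl)) := h1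
  have e2 : Module.finrank k (Adele Pl ⧸ (Kd c.good ⊔ AL Pl (c.Ω d₀).Λ)) = 1 := h2
  rw [e1, e2]
  push_cast
  rfl

end CurveData

section Scale

/-- Multiplication by a nonzero function on adeles. -/
noncomputable def mulA (hP : Good Pl) (z : K) (hz : z ≠ 0) : Adele Pl ≃ₗ[k] Adele Pl where
  toFun f := ⟨fun x => z * f.1 x, (f.2.union (hP.fin_char z)).subset fun x hx => by
    by_contra h
    simp only [Set.mem_union, Set.mem_ofPred_eq, not_or, not_not] at h
    exact hx ((Pl x).O.mul_mem h.2 h.1)⟩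
  invFun f := ⟨fun x => z⁻¹ * f.1 x, (f.2.union (hP.fin_char z⁻¹)).subset fun x hx => by
    by_contra h
    simp only [Set.mem_union, Set.mem_ofPred_eq, not_or, not_not] at h
    exact hx ((Pl x).O.mul_mem h.2 h.1)⟩
  map_add' f g := by
    apply Subtype.ext; funext x
    exact mul_add _ _ _
  map_smul' a f := by
    apply Subtype.ext; funext x
    exact mul_smul_comm _ _ _
  left_inv f := by
    apply Subtype.ext; funext x
    exact inv_mul_cancel_left₀ hz _
  right_inv f := by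
    apply Subtype.ext; funext x
    exact mul_inv_cancel_left₀ hz _

lemma mulA_apply (hP : Good Pl) (z : K) (hz : z ≠ 0) (f : Adele Pl) (x : P) :
    (mulA hP z hz f).1 x = z * f.1 x := rfl

lemma map_Kd (hP : Good Pl) (z : K) (hz : z ≠ 0) :
    (Kd hP).map (mulA hP z hz : Adele Pl →ₗ[k] Adele Pl) = Kd hP := by
  ext f
  constructor
  · rintro ⟨_, ⟨a, rfl⟩, rfl⟩
    exact ⟨z * a, rfl⟩
  · rintro ⟨a, rfl⟩
    refine ⟨diag hP (z⁻¹ * a), ⟨_, rfl⟩, ?_⟩
    apply Subtype.ext; funext x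
    exact mul_inv_cancel_left₀ hz _

/-- scaling of a lattice -/
noncomputable def Lat.scale (hP : Good Pl) (z : K) (hz : z ≠ 0) (L : Lat Pl) : Lat Pl where
  g x := z * L.g x
  ne x := mul_ne_zero hz (L.ne x)
  fin := by
    refine (L.fin.union ((hP.fin_char z).union (hP.fin_char z⁻¹))).subset fun x hx => ?_
    by_contra h
    simp only [Set.mem_union, Set.mem_ofPred_eq, not_or, not_not] at h
    apply hx
    rw [mul_inv]
    exact ⟨(Pl x).O.mul_mem h.2.1 h.1.1, (Pl x).O.mul_mem h.2.2 h.1.2⟩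

lemma Lat.mem_scale {hP : Good Pl} {z : K} {hz : z ≠ 0} {L : Lat Pl} {x : P} {f : K} :
    f ∈ (L.scale hP z hz).Λ x ↔ z⁻¹ * f ∈ L.Λ x := by
  rw [Lat.mem_Λ, Lat.mem_Λ]
  change (z * L.g x)⁻¹ * f ∈ _ ↔ _
  rw [mul_inv, mul_comm z⁻¹, mul_assoc]

lemma map_AL (hP : Good Pl) (z : K) (hz : z ≠ 0) (L : Lat Pl) :
    (AL Pl L.Λ).map (mulA hP z hz : Adele Pl →ₗ[k] Adele Pl) = AL Pl (L.scale hP z hz).Λ := by
  ext f
  constructor
  · rintro ⟨a, ha, rfl⟩ x
    rw [Lat.mem_scale]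
    change z⁻¹ * (z * a.1 x) ∈ _
    rw [inv_mul_cancel_left₀ hz]; exact ha x
  · intro hf
    refine ⟨(mulA hP z hz).symm f, fun x => Lat.mem_scale.1 (hf x), ?_⟩
    exact (mulA hP z hz).apply_symm_apply f

lemma fred_scale (hP : Good Pl) (z : K) (hz : z ≠ 0) (L : Lat Pl)
    (h : Fred (Kd hP) (AL Pl L.Λ)) : Fred (Kd hP) (AL Pl (L.scale hP z hz).Λ) := by
  have := (chi_map (mulA hP z hz) h).1
  rwa [map_Kd, map_AL] at this

lemma chi_scale (hP : Good Pl) (z : K) (hz : z ≠ 0) (L : Lat Pl)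
    (h : Fred (Kd hP) (AL Pl L.Λ)) :
    chi (Kd hP) (AL Pl (L.scale hP z hz).Λ) = chi (Kd hP) (AL Pl L.Λ) := by
  have := (chi_map (mulA hP z hz) h).2
  rwa [map_Kd, map_AL] at this

end Scale

end Groth.Agent.CurvesB.Weil
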