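import Groth.Agent.CurvesB.WeilLocal

/-!
# Duality: Weil differentials versus Kähler differentials (pure algebra)
-/

open TensorProduct

namespace Groth.Agent.CurvesB.Weil

universe u v w x

variable {k : Type u} {K : Type v} [Field k] [Field K] [Algebra k K] {P : Type x}

lemma BiDer.ext' {G G' : BiDer k K} (h : ∀ f, G.Γ f = G'.Γ f) : G = G' := by
  cases G; cases G'
  simp only [BiDer.mk.injEq]
  exact LinearMap.ext h

/-- multiplication `K ⊗ K → K`. -/
noncomputable abbrev mu : K ⊗[k] K →ₐ[k] K := Algebra.TensorProduct.lmul' k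

lemma ideal_induction {p : K ⊗[k] K → Prop} (h0 : p 0) (hadd : ∀ a b, p a → p b → p (a + b))
    (hdl : ∀ r : K ⊗[k] K, ∀ f : K, p (r * dl f f)) {z : K ⊗[k] K} (hz : mu z = 0) : p z := by
  have hz' : z ∈ KaehlerDifferential.ideal k K := hz
  rw [← KaehlerDifferential.span_range_eq_ideal] at hz'
  refine Submodule.span_induction (p := fun z _ => ∀ r : K ⊗[k] K, p (r * z)) ?_ ?_ ?_ ?_ hz' 1 |> fun h => by
    simpa using h
  · rintro _ ⟨f, rfl⟩ r
    have : r * (1 ⊗ₜ f - f ⊗ₜ 1) = (-r) * dl f f := by rw [dl]; ring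
    simp only [this]
    exact hdl _ _
  · intro r; rw [mul_zero]; exact h0
  · intro a b _ _ ha hb r
    rw [mul_add]; exact hadd _ _ (ha r) (hb r)
  · intro s a _ ha r
    rw [smul_eq_mul, ← mul_assoc]; exact ha _

/-- If `G` kills `t` after multiplication then `G` is inner. -/
theorem exists_inner {v : Place k K} (d : LocalData v) (G : BiDer k K)
    (h : mu (G.Γ d.t) = 0) : ∃ g, G = BiDer.inner g := by
  set a0 : K ⊗[k] K := mp v v.O.val d.a with ha0
  have hμa : mu a0 = 1 := by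
    rw [ha0]
    have := LocalData.lmul_mp (v := v) d.a
    rw [d.ha] at this
    exact this
  have c1 : ∀ z : K ⊗[k] K, mu z = 0 → ∃ p, dl (d.t : K) (d.t : K) * p = a0 * z := by
    intro z hz
    refine ideal_induction (p := fun z => ∃ p, dl (d.t : K) (d.t : K) * p = a0 * z)
      ⟨0, by rw [mul_zero, mul_zero]⟩ ?_ ?_ hz
    · rintro a b ⟨p, hp⟩ ⟨q, hq⟩
      exact ⟨p + q, by rw [mul_add, mul_add, hp, hq]⟩
    · intro r f
      exact ⟨r * d.G.Γ f, by rw [mul_left_comm, d.G_spec]; ring⟩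
  have c2 : ∀ z : K ⊗[k] K, mu z = 0 → ∃ g, ∀ f, z * G.Γ f = g * dl f f := by
    intro z hz
    refine ideal_induction (p := fun z => ∃ g, ∀ f, z * G.Γ f = g * dl f f)
      ⟨0, fun f => by rw [zero_mul, zero_mul]⟩ ?_ ?_ hz
    · rintro a b ⟨p, hp⟩ ⟨q, hq⟩
      exact ⟨p + q, fun f => by rw [add_mul, add_mul, hp, hq]⟩
    · intro r s
      exact ⟨r * G.Γ s, fun f => by rw [mul_assoc, mul_comm (dl s s), G.comm f s]; ring⟩
  obtain ⟨g1, hg1⟩ := c1 _ h
  obtain ⟨g2, hg2⟩ := c2 (1 - a0) (by rw [map_sub, map_one, hμa, sub_self])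
  refine ⟨g1 + g2, BiDer.ext' fun f => ?_⟩
  have h3 : a0 * G.Γ f = g1 * dl f f := by
    apply regular_dl d.tr (d.t : K)
    calc dl (d.t : K) (d.t : K) * (a0 * G.Γ f) = a0 * (G.Γ f * dl (d.t : K) (d.t : K)) := by ring
      _ = a0 * (G.Γ d.t * dl f f) := by rw [G.comm f]
      _ = (dl (d.t : K) (d.t : K) * g1) * dl f f := by rw [hg1]; ring
      _ = _ := by ring
  rw [BiDer.inner_apply]
  have h4 := hg2 f
  linear_combination h3 + h4

variable {Pl : P → Place k K}

theorem sub_smul_inner {v : Place k K} (d : LocalData v) (G : BiDer k K) :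
    ∃ g, G.add (d.G.smul (1 ⊗ₜ (-(mu (G.Γ d.t))))) = BiDer.inner g := by
  apply exists_inner d
  rw [BiDer.add_apply, BiDer.smul_apply, map_add, map_mul, d.lmul_G_t]
  simp

theorem mu_eq {v : Place k K} (d : LocalData v) (G : BiDer k K) (f : K) :
    mu (G.Γ f) = mu (G.Γ d.t) * mu (d.G.Γ f) := by
  obtain ⟨g, hg⟩ := sub_smul_inner d G
  have h1 : (G.add (d.G.smul (1 ⊗ₜ (-(mu (G.Γ d.t)))))).Γ f = g * dl f f := by
    rw [hg, BiDer.inner_apply]
  rw [BiDer.add_apply, BiDer.smul_apply] at h1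
  have h2 := congrArg (mu (k := k) (K := K)) h1
  rw [map_add, map_mul, map_mul] at h2
  have e1 : mu ((1 : K) ⊗ₜ[k] (-(mu (G.Γ d.t)))) = -(mu (G.Γ d.t)) := by simp
  have e2 : mu (dl f f : K ⊗[k] K) = 0 := by simp [dl]
  rw [e1, e2, mul_zero] at h2
  linear_combination h2

theorem pair_eq (hP : Good Pl) (l : WDiff Pl) {v : Place k K} (d : LocalData v) (G : BiDer k K) :
    pair l G = mu (G.Γ d.t) * pair l d.G := by
  obtain ⟨g, hg⟩ := sub_smul_inner d G
  have h1 := pair_inner hP l g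
  rw [← hg, pair_add hP, pair_smul_right hP] at h1
  linear_combination h1

/-- The order factor of `d t₀` at a place. -/
noncomputable def ord {v₀ v : Place k K} (d₀ : LocalData v₀) (d : LocalData v) : K :=
  mu (d.G.Γ d₀.t)

lemma ord_mul_ord {v₀ v : Place k K} (d₀ : LocalData v₀) (d : LocalData v) :
    ord d₀ d * ord d d₀ = 1 := by
  have := mu_eq d₀ d.G d.t
  rw [d.lmul_G_t] at this
  exact this.symm

lemma ord_ne_zero {v₀ v : Place k K} (d₀ : LocalData v₀) (d : LocalData v) : ord d₀ d ≠ 0 :=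
  left_ne_zero_of_mul (a := ord d₀ d) (b := ord d d₀) (by rw [ord_mul_ord]; exact one_ne_zero)

namespace Place

variable (v : Place k K)

/-- The maximal ideal. -/
def m : Ideal v.O where
  carrier := {o | v.InM (o : K)}
  add_mem' := fun {a b} ha hb => by
    change v.π⁻¹ * ((a : K) + b) ∈ v.O
    rw [mul_add]; exact v.O.add_mem ha hb
  zero_mem' := by
    change v.π⁻¹ * ((0 : v.O) : K) ∈ v.O
    rw [ZeroMemClass.coe_zero, mul_zero]; exact v.O.zero_mem
  smul_mem' := fun c o ho => by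
    change v.π⁻¹ * ((c : K) * o) ∈ v.O
    rw [mul_left_comm]; exact v.O.mul_mem c.2 ho

lemma mem_m {o : v.O} : o ∈ v.m ↔ v.InM (o : K) := Iff.rfl

instance : v.m.IsMaximal := by
  refine Ideal.isMaximal_iff.2 ⟨fun h => v.not_inM_one h, fun J x hJ hx hxJ => ?_⟩
  have hx0 : (x : K) ≠ 0 := fun h => hx (by rw [mem_m, h]; unfold InM; rw [mul_zero]; exact v.O.zero_mem)
  have hinv : (x : K)⁻¹ ∈ v.O := by
    by_contra hcon
    exact hx (v.inM_of_not_inv_mem hcon)
  have : (⟨(x : K)⁻¹, hinv⟩ : v.O) * x = 1 := Subtype.ext (inv_mul_cancel₀ hx0)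
  rw [← this]
  exact J.mul_mem_left _ hxJ

/-- The residue field is algebraic over `k`, elementary form. -/
def ResAlg : Prop := ∀ o ∈ v.O, ∃ p : Polynomial k, p ≠ 0 ∧ v.InM (Polynomial.aeval o p)

end Place

/-- The pairing at a place: order statement. -/
theorem pair_local' (hP : Good Pl) (l : WDiff Pl) {x : P} (d : LocalData (Pl x))
    (hres : (Pl x).ResAlg) (hx : ∀ o ∈ (Pl x).O, l.val x o = 0) :
    pair l d.G ∈ (Pl x).O ∧
      ((Pl x).InM (pair l d.G) ↔ ∀ o ∈ (Pl x).O, l.val x ((Pl x).π⁻¹ * o) = 0) := by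
  let _ : Field ((Pl x).O ⧸ (Pl x).m) := Ideal.Quotient.field _
  refine pair_local hP l d (Ideal.Quotient.mkₐ k (Pl x).m) (fun o => ?_) ?_ hx
  · rw [Ideal.Quotient.mkₐ_eq_mk, Ideal.Quotient.eq_zero_iff_mem, Place.mem_m]
  · obtain ⟨p, hp, hpm⟩ := hres d.t d.t.2
    refine ⟨p, hp, ?_⟩
    rw [Polynomial.aeval_algHom_apply, Ideal.Quotient.mkₐ_eq_mk, Ideal.Quotient.eq_zero_iff_mem,
      Place.mem_m]
    convert hpm
    exact (Polynomial.aeval_algHom_apply (Pl x).O.val d.t p).symm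

/-- Orders of `φ(λ) = (pair l d₀.G) dt₀` at `x`. -/
theorem order_at (hP : Good Pl) (l : WDiff Pl) {v₀ : Place k K} (d₀ : LocalData v₀) {x : P}
    (d : LocalData (Pl x)) (hres : (Pl x).ResAlg) {a : K}
    (hx : ∀ o ∈ (Pl x).O, l.val x (a * o) = 0) :
    a * ord d₀ d * pair l d₀.G ∈ (Pl x).O ∧
      ((Pl x).InM (a * ord d₀ d * pair l d₀.G) ↔
        ∀ o ∈ (Pl x).O, l.val x (a * ((Pl x).π⁻¹ * o)) = 0) := by
  have h1 := pair_local' hP (l.smul hP a) d hres hx
  rw [pair_smul_left, pair_eq hP l d₀ d.G, ← mul_assoc] at h1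
  exact h1

/-- A Weil differential with zero pairing vanishes. -/
theorem val_eq_zero_of_pair (hP : Good Pl) (l : WDiff Pl) {v₀ : Place k K} (d₀ : LocalData v₀)
    {x : P} (d : LocalData (Pl x)) (hres : (Pl x).ResAlg) (h0 : pair l d₀.G = 0) :
    l.val x = 0 := by
  obtain ⟨w, hw, hl⟩ := l.bdd x
  have key : ∀ n : ℕ, ∀ o ∈ (Pl x).O, l.val x (w * ((Pl x).π⁻¹) ^ n * o) = 0 := by
    intro n
    induction n with
    | zero => intro o ho; rw [pow_zero, mul_one]; exact hl o ho
    | succ n ih =>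
      have h1 := (order_at hP l d₀ d hres ih).2.1 (by
        rw [h0, mul_zero]; unfold Place.InM; rw [mul_zero]; exact (Pl x).O.zero_mem)
      intro o ho
      rw [pow_succ, ← mul_assoc, mul_assoc]
      exact h1 o ho
  ext z
  rw [LinearMap.zero_apply]
  obtain ⟨N, hN⟩ := (Pl x).pow_mul_mem (Pl x).inM_π z w hw
  obtain ⟨o, ho, he⟩ := hN N le_rfl
  have h2 : z = w * ((Pl x).π⁻¹) ^ N * o := by
    have h3 : (Pl x).π ^ N ≠ 0 := pow_ne_zero _ (Pl x).π_ne
    rw [inv_pow]
    field_simp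
    linear_combination he
  rw [h2]
  exact key N o ho

/-- If the product with the pairing is integral, then the functional kills the lattice. -/
theorem val_kills_of_pair (hP : Good Pl) (l : WDiff Pl) {v₀ : Place k K} (d₀ : LocalData v₀)
    {x : P} (d : LocalData (Pl x)) (hres : (Pl x).ResAlg) {g : K} (hg : g ≠ 0)
    (h0 : g * ord d₀ d * pair l d₀.G ∈ (Pl x).O) :
    ∀ o ∈ (Pl x).O, l.val x (g * o) = 0 := by
  classical
  obtain ⟨w, hw, hl⟩ := l.bdd x
  have hex : ∃ n : ℕ, ∀ o ∈ (Pl x).O, l.val x (g * (Pl x).π ^ n * o) = 0 := by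
    obtain ⟨N, hN⟩ := (Pl x).pow_mul_mem (Pl x).inM_π g w hw
    obtain ⟨o', ho', he⟩ := hN N le_rfl
    refine ⟨N, fun o ho => ?_⟩
    rw [mul_comm g, he, mul_assoc]
    exact hl _ ((Pl x).O.mul_mem ho' ho)
  have hmin : Nat.find hex = 0 := by
    by_contra hcon
    obtain ⟨n, hn⟩ := Nat.exists_eq_succ_of_ne_zero hcon
    have h1 := Nat.find_spec hex
    rw [hn] at h1
    have h2 := (order_at hP l d₀ d hres h1).2.1 (by
      unfold Place.InM
      have : (Pl x).π⁻¹ * (g * (Pl x).π ^ n.succ * ord d₀ d * pair l d₀.G) =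
          (Pl x).π ^ n * (g * ord d₀ d * pair l d₀.G) := by
        have := (Pl x).π_ne
        rw [Nat.succ_eq_add_one, pow_succ]
        field_simp
      rw [this]
      exact (Pl x).O.mul_mem ((Pl x).O.pow_mem (Pl x).π_mem n) h0)
    refine Nat.find_min hex (m := n) (by omega) fun o ho => ?_
    have h3 := h2 o ho
    have : g * (Pl x).π ^ n.succ * ((Pl x).π⁻¹ * o) = g * (Pl x).π ^ n * o := by
      have := (Pl x).π_ne
      rw [Nat.succ_eq_add_one, pow_succ]
      field_simp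
    rwa [this] at h3
  have h1 := Nat.find_spec hex
  rw [hmin] at h1
  simpa using h1

section Duality

variable (Pl)

/-- A family of lattices `g_x O_x`, trivial almost everywhere. -/
structure Lat where
  g : P → K
  ne : ∀ x, g x ≠ 0
  fin : {x | ¬ (g x ∈ (Pl x).O ∧ (g x)⁻¹ ∈ (Pl x).O)}.Finite

variable {Pl}

lemma Lat.finite_notMem (hP : Good Pl) (L : Lat Pl) (f : K) :
    {x | ¬ ∃ o ∈ (Pl x).O, f = L.g x * o}.Finite := by
  refine (L.fin.union (hP.fin_char f)).subset fun y hy => ?_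
  by_contra h
  simp only [Set.mem_union, Set.mem_ofPred_eq, not_or, not_not] at h
  exact hy ⟨(L.g y)⁻¹ * f, (Pl y).O.mul_mem h.1.2 h.2, by rw [mul_inv_cancel_left₀ (L.ne y)]⟩

/-- The Weil differentials killing the lattice family `L`. -/
def J (hP : Good Pl) (L : Lat Pl) : Submodule k (P → (K →ₗ[k] k)) where
  carrier := {l | (∀ x, ∀ o ∈ (Pl x).O, l x (L.g x * o) = 0) ∧ ∀ f, ∑ᶠ x, l x f = 0}
  add_mem' := fun {a b} ha hb => by
    refine ⟨fun x o ho => by
      rw [Pi.add_apply, LinearMap.add_apply, ha.1 x o ho, hb.1 x o ho, add_zero], fun f => ?_⟩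
    have hfin : ∀ l : P → (K →ₗ[k] k), (∀ x, ∀ o ∈ (Pl x).O, l x (L.g x * o) = 0) →
        {x | l x f ≠ 0}.Finite := fun l hl =>
      (L.finite_notMem hP f).subset fun y hy => by
        rintro ⟨o, ho, he⟩
        exact hy (by rw [he]; exact hl y o ho)
    simp only [Pi.add_apply, LinearMap.add_apply]
    rw [finsum_add_distrib (hfin a ha.1) (hfin b hb.1), ha.2, hb.2, add_zero]
  zero_mem' := ⟨fun x o _ => rfl, fun f => by simp⟩
  smul_mem' := fun c l hl => by
    refine ⟨fun x o ho => by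
      rw [Pi.smul_apply, LinearMap.smul_apply, hl.1 x o ho, smul_zero], fun f => ?_⟩
    simp only [Pi.smul_apply, LinearMap.smul_apply]
    rw [← smul_finsum, hl.2, smul_zero]

/-- Elements of `J` as Weil differentials. -/
def toW (hP : Good Pl) (L : Lat Pl) (l : J hP L) : WDiff Pl where
  val := l.1
  fin := by
    refine L.fin.subset fun y hy => ?_
    by_contra h
    simp only [Set.mem_ofPred_eq, not_not] at h
    apply hy
    intro o ho
    have := l.2.1 y _ ((Pl y).O.mul_mem h.2 ho)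
    rwa [mul_inv_cancel_left₀ (L.ne y)] at this
  bdd y := ⟨L.g y, L.ne y, l.2.1 y⟩
  sum := l.2.2

/-- The functions `b` with `b dt₀` in the dual lattice. -/
def M {v₀ : Place k K} (d₀ : LocalData v₀) (d : ∀ x, LocalData (Pl x)) (L : Lat Pl) :
    Submodule k K where
  carrier := {b | ∀ x, L.g x * ord d₀ (d x) * b ∈ (Pl x).O}
  add_mem' := fun {a b} ha hb x => by rw [mul_add]; exact (Pl x).O.add_mem (ha x) (hb x)
  zero_mem' := fun x => by rw [mul_zero]; exact (Pl x).O.zero_mem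
  smul_mem' := fun c b hb x => by rw [mul_smul_comm]; exact (Pl x).O.smul_mem (hb x) c

/-- **Duality**: Weil differentials killing `L` are the differentials `b dt₀` in the dual lattice. -/
theorem exists_dual (hP : Good Pl) {v₀ : Place k K} (d₀ : LocalData v₀)
    (d : ∀ x, LocalData (Pl x)) (hres : ∀ x, (Pl x).ResAlg)
    (hne : ∃ l : WDiff Pl, ∃ x, l.val x ≠ 0) (L : Lat Pl) :
    Nonempty (J hP L ≃ₗ[k] M d₀ d L) := by
  let F : J hP L →ₗ[k] M d₀ d L :=
    { toFun := fun l => ⟨pair (toW hP L l) d₀.G, fun x =>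
        (order_at hP (toW hP L l) d₀ (d x) (hres x) (l.2.1 x)).1⟩
      map_add' := fun l l' => Subtype.ext (pair_add_left hP (toW hP L l) (toW hP L l') d₀.G)
      map_smul' := fun c l => by
        apply Subtype.ext
        have h1 : toW hP L (c • l) = (toW hP L l).smul hP (algebraMap k K c) := by
          have hval : (toW hP L (c • l)).val = ((toW hP L l).smul hP (algebraMap k K c)).val := by
            funext x
            ext z
            rw [WDiff.smul_val, LinearMap.comp_apply, LinearMap.mulLeft_apply,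
              ← Algebra.smul_def, map_smul]
            rfl
          cases h1 : toW hP L (c • l)
          cases h2 : (toW hP L l).smul hP (algebraMap k K c)
          rw [h1, h2] at hval
          simp only at hval
          subst hval
          rfl
        change pair (toW hP L (c • l)) d₀.G = c • pair (toW hP L l) d₀.G
        rw [h1, pair_smul_left, Algebra.smul_def] }
  refine ⟨LinearEquiv.ofBijective F ⟨?_, ?_⟩⟩
  · intro l₁ l₂ h12
    rw [← sub_eq_zero]
    have hl : F (l₁ - l₂) = 0 := by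
      have := LinearMap.map_sub F l₁ l₂
      rw [this, h12, sub_self]
    generalize l₁ - l₂ = l at hl ⊢
    have h0 : pair (toW hP L l) d₀.G = 0 := congrArg Subtype.val hl
    apply Subtype.ext
    funext x
    exact val_eq_zero_of_pair hP (toW hP L l) d₀ (d x) (hres x) h0
  · rintro ⟨b, hb⟩
    obtain ⟨l₁, x₁, hl₁⟩ := hne
    have hb₁ : pair l₁ d₀.G ≠ 0 := fun h =>
      hl₁ (val_eq_zero_of_pair hP l₁ d₀ (d x₁) (hres x₁) h)
    let l := l₁.smul hP (b / pair l₁ d₀.G)
    have hl : pair l d₀.G = b := by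
      rw [pair_smul_left, div_mul_cancel₀ _ hb₁]
    refine ⟨⟨l.val, fun x o ho => ?_, l.sum⟩, ?_⟩
    · exact val_kills_of_pair hP l d₀ (d x) (hres x) (L.ne x) (by rw [hl]; exact hb x) o ho
    · apply Subtype.ext
      exact hl

end Duality

end Groth.Agent.CurvesB.Weil
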