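import Groth.Agent.CurvesB.WeilThree
import Mathlib.RingTheory.IntegralClosure.Algebra.Basic
import Mathlib.RingTheory.IntegralClosure.IsIntegralClosure.Basic

/-!
# Ratios of global differentials are not all constants of the derivation, II
-/

open TensorProduct

namespace Groth.Agent.CurvesB.Weil

universe u v w x

open ChiLin

variable {k : Type u} {K : Type v} [Field k] [Field K] [Algebra k K] {P : Type x}
variable {Pl : P → Place k K}

namespace CurveData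

variable (c : CurveData Pl) {v₀ : Place k K} (d₀ : LocalData v₀)

section Sup

open Classical in
/-- A common upper bound of `O` and `Ω`. -/
noncomputable def Lsup : Lat Pl where
  g x := if c.e d₀ x ∈ (Pl x).O then (c.e d₀ x)⁻¹ else 1
  ne x := by
    split_ifs
    · exact inv_ne_zero (c.e_ne d₀ x)
    · exact one_ne_zero
  fin := by
    refine (c.finite_e d₀).subset fun x hx => ?_
    by_contra h
    simp only [Set.mem_ofPred_eq, not_not] at h
    apply hx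
    rw [if_pos h.1, inv_inv]
    exact ⟨h.2, h.1⟩

lemma one_le_Lsup (x : P) : (Lat.one Pl).Λ x ≤ (c.Lsup d₀).Λ x := by
  classical
  intro z hz
  rw [Lat.mem_one] at hz
  rw [Lat.mem_Λ]
  change (if c.e d₀ x ∈ (Pl x).O then (c.e d₀ x)⁻¹ else 1)⁻¹ * z ∈ _
  split_ifs with h
  · rw [inv_inv]; exact (Pl x).O.mul_mem h hz
  · rw [inv_one, one_mul]; exact hz

lemma Ω_le_Lsup (x : P) : (c.Ω d₀).Λ x ≤ (c.Lsup d₀).Λ x := by
  classical
  intro z hz
  rw [mem_Ω] at hz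
  rw [Lat.mem_Λ]
  change (if c.e d₀ x ∈ (Pl x).O then (c.e d₀ x)⁻¹ else 1)⁻¹ * z ∈ _
  split_ifs with h
  · rw [inv_inv]; exact hz
  · rw [inv_one, one_mul]
    have h1 := ((Pl x).inM_inv_of_notMem h).mem
    have : z = (c.e d₀ x)⁻¹ * (c.e d₀ x * z) := by rw [inv_mul_cancel_left₀ (c.e_ne d₀ x)]
    rw [this]
    exact (Pl x).O.mul_mem h1 hz

variable (h2 : (2 : K) = 0)

include h2 in
lemma const_Lsup (x : P) : d₀.D ((c.Lsup d₀).g x) = 0 := by
  classical
  change d₀.D (if c.e d₀ x ∈ (Pl x).O then (c.e d₀ x)⁻¹ else 1) = 0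
  split_ifs
  · exact d₀.D_inv_const (c.e_const d₀ h2 x)
  · exact d₀.D.map_one_eq_zero

include h2 in
lemma const_Ω (x : P) : d₀.D ((c.Ω d₀).g x) = 0 := by
  change d₀.D ((1 * c.e d₀ x)⁻¹) = 0
  rw [one_mul]
  exact d₀.D_inv_const (c.e_const d₀ h2 x)

include h2 in
theorem chi'_one [hfin : FiniteDimensional k (c.H1 (Lat.one Pl))]
    (h : Nontrivial (c.H1 (Lat.one Pl))) :
    chi (c.K'd d₀) (c.AL' d₀ (Lat.one Pl)) = 1 - Module.finrank k (c.H1 (Lat.one Pl)) := by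
  obtain ⟨f1, f2, hs⟩ := c.chi_split d₀ h2 h
  have hle1 : AL Pl (Lat.one Pl).Λ ≤ AL Pl (c.Lsup d₀).Λ := fun f hf x => c.one_le_Lsup d₀ x (hf x)
  have hle2 : AL Pl (c.Ω d₀).Λ ≤ AL Pl (c.Lsup d₀).Λ := fun f hf x => c.Ω_le_Lsup d₀ x (hf x)
  have A1 := (chi_rel hle1 c.fred_one (relFin_lat c.resFin (c.one_le_Lsup d₀))).2
  have A2 := (chi_rel hle2 (c.fred_Ω d₀ h) (relFin_lat c.resFin (c.Ω_le_Lsup d₀))).2
  obtain ⟨r1, D1⟩ := c.doubling d₀ h2 (c.one_le_Lsup d₀) (const_one d₀) (c.const_Lsup d₀ h2)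
  obtain ⟨r2, D2⟩ := c.doubling d₀ h2 (c.Ω_le_Lsup d₀) (c.const_Ω d₀ h2) (c.const_Lsup d₀ h2)
  have B1 := (chi_rel (c.AL'_mono d₀ (c.one_le_Lsup d₀)) f2 r1).2
  have B2 := (chi_rel (c.AL'_mono d₀ (c.Ω_le_Lsup d₀)) f1 r2).2
  have C1 := c.chi_one
  have C2 := c.chi_Ω d₀ h
  omega

end Sup

lemma finrank_inf_of {L : Lat Pl} (hL : ∀ f : K, (∀ x, f ∈ L.Λ x) → d₀.D f = 0) :
    Module.finrank k (c.K'd d₀ ⊓ c.AL' d₀ L : Submodule k (c.A' d₀)) =
      Module.finrank k (Kd c.good ⊓ AL Pl L.Λ : Submodule k (Adele Pl)) := by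
  let φ : (c.K'd d₀ ⊓ c.AL' d₀ L : Submodule k (c.A' d₀)) →ₗ[k]
      (Kd c.good ⊓ AL Pl L.Λ : Submodule k (Adele Pl)) :=
    { toFun := fun f => ⟨f.1.1, f.2.1, f.2.2⟩
      map_add' := fun _ _ => rfl
      map_smul' := fun _ _ => rfl }
  refine (LinearEquiv.ofBijective φ ⟨fun f g h => ?_, ?_⟩).finrank_eq
  · have := congrArg Subtype.val h
    exact Subtype.ext (Subtype.ext this)
  · rintro ⟨_, ⟨z, rfl⟩, hz⟩
    have h1 : diag c.good z ∈ c.A' d₀ := (c.mem_A' d₀).2 fun _ => hL z hz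
    exact ⟨⟨⟨diag c.good z, h1⟩, ⟨z, rfl⟩, hz⟩, rfl⟩

/-- Global sections of a lattice. -/
def G0 (L : Lat Pl) : Submodule k K where
  carrier := {f | ∀ x, f ∈ L.Λ x}
  add_mem' := fun ha hb x => add_mem (ha x) (hb x)
  zero_mem' := fun _ => zero_mem _
  smul_mem' := fun a _ hb x => Submodule.smul_mem _ a (hb x)

include c in
lemma finrank_G0 (L : Lat Pl) : Module.finrank k (G0 L) =
    Module.finrank k (Kd c.good ⊓ AL Pl L.Λ : Submodule k (Adele Pl)) := by
  let φ : G0 L →ₗ[k] (Kd c.good ⊓ AL Pl L.Λ : Submodule k (Adele Pl)) :=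
    { toFun := fun f => ⟨diag c.good f, ⟨f, rfl⟩, fun x => f.2 x⟩
      map_add' := fun _ _ => rfl
      map_smul' := fun _ _ => rfl }
  refine (LinearEquiv.ofBijective φ ⟨fun f g h => ?_, ?_⟩).finrank_eq
  · have h1 : diag c.good (f : K) = diag c.good (g : K) := congrArg Subtype.val h
    obtain ⟨x⟩ := c.ne
    exact Subtype.ext (congrFun (congrArg Subtype.val h1) x)
  · rintro ⟨_, ⟨z, rfl⟩, hz⟩
    exact ⟨⟨z, hz⟩, rfl⟩

/-- Multiplication by a constant on constant adeles. -/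
noncomputable def mulC (s : K) (hs : d₀.D s = 0) : c.A' d₀ →ₗ[k] c.A' d₀ where
  toFun f := ⟨⟨fun x => s * f.1.1 x, (f.1.2.union (c.good.fin_char s)).subset fun x hx => by
    by_contra h
    simp only [Set.mem_union, Set.mem_ofPred_eq, not_or, not_not] at h
    exact hx ((Pl x).O.mul_mem h.2 h.1)⟩, (c.mem_A' d₀).2 fun x => by
      change d₀.D (s * f.1.1 x) = 0
      rw [d₀.D_mul_const hs, (c.mem_A' d₀).1 f.2 x, mul_zero]⟩
  map_add' f g := by
    apply Subtype.ext; apply Subtype.ext; funext x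
    exact mul_add _ _ _
  map_smul' a f := by
    apply Subtype.ext; apply Subtype.ext; funext x
    exact mul_smul_comm _ _ _

lemma mulC_apply (s : K) (hs : d₀.D s = 0) (f : c.A' d₀) (x : P) :
    (c.mulC d₀ s hs f).1.1 x = s * f.1.1 x := rfl

section Final

variable [hfin : FiniteDimensional k (c.H1 (Lat.one Pl))]

omit hfin in
/-- The multiplication argument: `K'`-rational functions `V'` with `V' · (V' + A'_O)` small. -/
theorem final_contra {L : Lat Pl} (hL : ∀ f : K, (∀ x, f ∈ L.Λ x) → d₀.D f = 0)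
    (h1L : ∀ x, (Lat.one Pl).Λ x ≤ L.Λ x)
    (hsup : c.AL' d₀ L ≤ c.K'd d₀ ⊓ c.AL' d₀ L ⊔ c.AL' d₀ (Lat.one Pl))
    (hfin' : FiniteDimensional k (c.A' d₀ ⧸ (c.K'd d₀ ⊔ c.AL' d₀ (Lat.one Pl))))
    (hd : Module.finrank k (c.A' d₀ ⧸ (c.K'd d₀ ⊔ c.AL' d₀ (Lat.one Pl))) ≤
      Module.finrank k (G0 L)) (hd2 : 2 ≤ Module.finrank k (G0 L))
    (hne : Nontrivial (c.A' d₀ ⧸ (c.K'd d₀ ⊔ c.AL' d₀ (Lat.one Pl)))) : False := by
  set W := c.K'd d₀ ⊔ c.AL' d₀ (Lat.one Pl) with hW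
  have hone : (1 : K) ∈ G0 L := fun x => h1L x (Lat.mem_one.2 (Pl x).O.one_mem)
  -- choose v
  obtain ⟨v, hv, hvk⟩ : ∃ v ∈ G0 L, v ∉ Set.range (algebraMap k K) := by
    by_contra hcon
    simp only [not_exists, not_and, not_not] at hcon
    have hle : G0 L ≤ Submodule.span k {(1 : K)} := by
      intro f hf
      obtain ⟨a, rfl⟩ := hcon f hf
      rw [Submodule.mem_span_singleton]
      exact ⟨a, by rw [Algebra.smul_def, mul_one]⟩
    have h3 := Submodule.finrank_mono hle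
    have h4 := finrank_span_singleton (K := k) (one_ne_zero (α := K))
    omega
  have hDv : d₀.D v = 0 := hL v hv
  -- functional
  obtain ⟨lam, hlam⟩ := exists_ne (0 : Module.Dual k (c.A' d₀ ⧸ W))
  let l : c.A' d₀ →ₗ[k] k := lam ∘ₗ W.mkQ
  have hl0 : l ≠ 0 := by
    intro h
    apply hlam
    ext q
    exact LinearMap.congr_fun h q
  have hlW : ∀ f ∈ W, l f = 0 := by
    intro f hf
    change lam (Submodule.Quotient.mk f) = 0
    rw [(Submodule.Quotient.mk_eq_zero _).2 hf, map_zero]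
  -- the key kill statements
  have hKd : ∀ (s : K) (hs : d₀.D s = 0), ∀ f ∈ c.K'd d₀, c.mulC d₀ s hs f ∈ c.K'd d₀ := by
    rintro s hs f ⟨z, hz⟩
    refine ⟨s * z, ?_⟩
    apply Subtype.ext
    funext x
    have h1 : f.1.1 x = z := (congrFun (congrArg Subtype.val hz) x).symm
    change s * z = s * f.1.1 x
    rw [h1]
  have hmul : ∀ (s : K) (hs : s ∈ G0 L), ∀ f ∈ c.AL' d₀ (Lat.one Pl),
      c.mulC d₀ s (hL s hs) f ∈ c.AL' d₀ L := by
    intro s hs f hf x
    have h1 := hs x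
    have h2 := Lat.mem_one.1 (hf x)
    rw [Lat.mem_Λ] at h1 ⊢
    change (L.g x)⁻¹ * (s * f.1.1 x) ∈ _
    rw [← mul_assoc]
    exact (Pl x).O.mul_mem h1 h2
  have hALW : c.AL' d₀ L ≤ W := hsup.trans (sup_le_sup_right inf_le_left _)
  have hmulv : ∀ f ∈ c.AL' d₀ L, l (c.mulC d₀ v hDv f) = 0 := by
    intro f hf
    obtain ⟨a, ha, b, hb, rfl⟩ := Submodule.mem_sup.1 (hsup hf)
    rw [map_add, map_add, hlW _ (Submodule.mem_sup_left (hKd v hDv a ha.1)),
      hlW _ (hALW (hmul v hv b hb)), add_zero]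
  -- the space S = V' + v V'
  set S : Submodule k K := G0 L ⊔ (G0 L).map (LinearMap.mulLeft k v) with hS
  have hSD : ∀ s ∈ S, d₀.D s = 0 := by
    intro s hs
    obtain ⟨a, ha, _, ⟨b, hb, rfl⟩, rfl⟩ := Submodule.mem_sup.1 hs
    rw [map_add, hL a ha, LinearMap.mulLeft_apply, d₀.D_mul_const hDv, hL b hb, mul_zero, add_zero]
  have hSkill : ∀ s (hs : s ∈ S), ∀ f ∈ W, l (c.mulC d₀ s (hSD s hs) f) = 0 := by
    intro s hs f hf
    obtain ⟨f₁, hf₁, f₂, hf₂, rfl⟩ := Submodule.mem_sup.1 hf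
    rw [map_add, map_add, hlW _ (Submodule.mem_sup_left (hKd s _ f₁ hf₁)), zero_add]
    obtain ⟨a, ha, b', hb', hab⟩ := Submodule.mem_sup.1 hs
    obtain ⟨b, hb, rfl⟩ := hb'
    have e1 : c.mulC d₀ s (hSD s hs) f₂ = c.mulC d₀ a (hL a ha) f₂ +
        c.mulC d₀ v hDv (c.mulC d₀ b (hL b hb) f₂) := by
      apply Subtype.ext; apply Subtype.ext; funext x
      change s * f₂.1.1 x = a * f₂.1.1 x + v * (b * f₂.1.1 x)
      rw [← hab, LinearMap.mulLeft_apply]; ring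
    rw [e1, map_add, hlW _ (hALW (hmul a ha f₂ hf₂)), hmulv _ (hmul b hb f₂ hf₂), add_zero]
  let Θ₀ : S →ₗ[k] Module.Dual k (c.A' d₀) :=
    { toFun := fun s => l ∘ₗ c.mulC d₀ s.1 (hSD _ s.2)
      map_add' := fun s s' => by
        ext f
        change l _ = l _ + l _
        rw [← map_add]
        congr 1
        apply Subtype.ext; apply Subtype.ext; funext x
        exact add_mul _ _ _
      map_smul' := fun a s => by
        ext f
        change l _ = a • l _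
        rw [← map_smul]
        congr 1
        apply Subtype.ext; apply Subtype.ext; funext x
        exact smul_mul_assoc _ _ _ }
  let Θ : S →ₗ[k] W.dualAnnihilator := Θ₀.codRestrict _ fun s => by
    rw [Submodule.mem_dualAnnihilator]
    exact fun f hf => hSkill s.1 s.2 f hf
  have hΘ : Function.Injective Θ := by
    rw [injective_iff_map_eq_zero]
    intro s hs
    by_contra hs0
    have hs1 : (s : K) ≠ 0 := fun h => hs0 (Subtype.ext h)
    apply hl0
    ext f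
    have h3 : Θ₀ s = 0 := congrArg Subtype.val hs
    have h4 := LinearMap.congr_fun h3 (c.mulC d₀ (s : K)⁻¹ (d₀.D_inv_const (hSD _ s.2)) f)
    have h5 : c.mulC d₀ (s : K) (hSD _ s.2) (c.mulC d₀ (s : K)⁻¹ (d₀.D_inv_const (hSD _ s.2)) f) = f := by
      apply Subtype.ext; apply Subtype.ext; funext x
      change (s : K) * ((s : K)⁻¹ * f.1.1 x) = f.1.1 x
      exact mul_inv_cancel_left₀ hs1 _
    change l (c.mulC d₀ (s : K) (hSD _ s.2) _) = 0 at h4
    rw [h5] at h4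
    exact h4
  let Θ' : S →ₗ[k] Module.Dual k (c.A' d₀ ⧸ W) :=
    W.dualQuotEquivDualAnnihilator.symm.toLinearMap ∘ₗ Θ
  have hΘ' : Function.Injective Θ' :=
    W.dualQuotEquivDualAnnihilator.symm.injective.comp hΘ
  have hSfin : FiniteDimensional k S := FiniteDimensional.of_injective Θ' hΘ'
  have hSle : Module.finrank k S ≤ Module.finrank k (G0 L) := by
    refine (LinearMap.finrank_le_finrank_of_injective hΘ').trans ?_
    rw [Subspace.dual_finrank_eq]
    exact hd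
  have hSeq : G0 L = S := Submodule.eq_of_le_of_finrank_le le_sup_left hSle
  have hG0fin : FiniteDimensional k (G0 L) := by rw [hSeq]; exact hSfin
  have hint : IsIntegral k v := by
    refine isIntegral_of_smul_mem_submodule (G0 L) ?_ ?_ v ?_
    · intro h
      rw [h] at hone
      exact one_ne_zero ((Submodule.mem_bot k).1 hone)
    · exact (Submodule.fg_iff_finiteDimensional _).2 hG0fin
    · intro n hn
      rw [hSeq]
      exact Submodule.mem_sup_right ⟨n, hn, rfl⟩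
  apply hvk
  apply c.h0
  intro x
  by_contra hx
  exact hx (hint.mem_of_inv_mem ((Pl x).inM_inv_of_notMem hx).mem)

/-- Not all ratios of global differentials are constants of the derivation. -/
theorem caseIII (hg : 2 ≤ Module.finrank k (c.H1 (Lat.one Pl)))
    (h : Nontrivial (c.H1 (Lat.one Pl))) :
    ∃ b ∈ c.V d₀, ∃ b' ∈ c.V d₀, b' ≠ 0 ∧ d₀.D (b / b') ≠ 0 := by
  by_contra hcon
  simp only [not_exists, not_and, not_not] at hcon
  have hVfr := c.finrank_V d₀ h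
  have hVnt : Nontrivial (c.V d₀) := Module.nontrivial_of_finrank_pos (R := k) (by omega)
  obtain ⟨⟨b₀, hb₀⟩, hb₀'⟩ := exists_ne (0 : c.V d₀)
  have hb0 : b₀ ≠ 0 := fun h => hb₀' (Subtype.ext h)
  set N : Lat Pl := (c.Ω d₀).scale c.good b₀⁻¹ (inv_ne_zero hb0) with hN
  have memN : ∀ x (z : K), z ∈ N.Λ x ↔ c.e d₀ x * (b₀ * z) ∈ (Pl x).O := by
    intro x z
    rw [hN, Lat.mem_scale, inv_inv, mem_Ω]
  have hL : ∀ f : K, (∀ x, f ∈ N.Λ x) → d₀.D f = 0 := by
    intro f hf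
    have h1 : b₀ * f ∈ c.V d₀ := fun x => (memN x f).1 (hf x)
    have := hcon _ h1 b₀ hb₀ hb0
    rwa [mul_div_cancel_left₀ _ hb0] at this
  have h1L : ∀ x, (Lat.one Pl).Λ x ≤ N.Λ x := by
    intro x z hz
    rw [memN, ← mul_assoc]
    exact (Pl x).O.mul_mem (hb₀ x) (Lat.mem_one.1 hz)
  have hle : AL Pl (Lat.one Pl).Λ ≤ AL Pl N.Λ := fun f hf x => h1L x (hf x)
  have fN := fred_scale c.good b₀⁻¹ (inv_ne_zero hb0) (c.Ω d₀) (c.fred_Ω d₀ h)
  have cN := chi_scale c.good b₀⁻¹ (inv_ne_zero hb0) (c.Ω d₀) (c.fred_Ω d₀ h)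
  rw [← hN] at fN cN
  have hr := relFin_lat c.resFin h1L
  have hrel := (chi_rel hle c.fred_one hr).2
  have C1 := c.chi_one
  have C2 := c.chi_Ω d₀ h
  -- dimension of G0 N
  have hG0 : Module.finrank k (G0 N) = Module.finrank k (c.H1 (Lat.one Pl)) := by
    rw [← hVfr]
    let φ : c.V d₀ →ₗ[k] G0 N :=
      { toFun := fun b => ⟨b₀⁻¹ * b, fun x => by
          rw [memN, mul_inv_cancel_left₀ hb0]; exact b.2 x⟩
        map_add' := fun _ _ => Subtype.ext (mul_add _ _ _)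
        map_smul' := fun _ _ => Subtype.ext (mul_smul_comm _ _ _) }
    refine (LinearEquiv.ofBijective φ ⟨fun b b' hbb => ?_, fun f => ?_⟩).finrank_eq.symm
    · have h1 : b₀⁻¹ * (b : K) = b₀⁻¹ * b' := congrArg Subtype.val hbb
      exact Subtype.ext (mul_left_cancel₀ (inv_ne_zero hb0) h1)
    · exact ⟨⟨b₀ * f, fun x => (memN x f).1 (f.2 x)⟩,
        Subtype.ext (inv_mul_cancel_left₀ hb0 _)⟩
  have hfr : Module.finrank k (c.K'd d₀ ⊓ c.AL' d₀ N : Submodule k (c.A' d₀)) =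
      Module.finrank k (c.H1 (Lat.one Pl)) := by
    rw [c.finrank_inf_of d₀ hL, ← c.finrank_G0, hG0]
  have hfr1 : Module.finrank k (c.K'd d₀ ⊓ c.AL' d₀ (Lat.one Pl) : Submodule k (c.A' d₀)) = 1 := by
    rw [c.finrank_inf_of d₀ (fun f hf => ?_)]
    · exact c.finrank_H0_one
    · exact hL f fun x => h1L x (hf x)
  have hfin1 : FiniteDimensional k (c.K'd d₀ ⊓ c.AL' d₀ N : Submodule k (c.A' d₀)) :=
    c.fin_inf_of d₀ fN.inf
  have hle' := c.AL'_mono d₀ h1L
  by_cases h2 : (2 : K) = 0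
  · -- characteristic two
    have r2 := relFin_of_mul (c.Ψ d₀ 2) (fun i => c.Ψ_le d₀ 2 i N)
      (fun i => c.Ψ_le d₀ 2 i (Lat.one Pl)) two_pos hr
      (fun a ha i => c.inj2 d₀ (const_one d₀) _ ha i)
    have m2 := mul_rel_le (c.Ψ d₀ 2) (fun i => c.Ψ_le d₀ 2 i N)
      (fun i => c.Ψ_le d₀ 2 i (Lat.one Pl)) two_pos hr
      (fun a ha i => c.inj2 d₀ (const_one d₀) _ ha i)
    obtain ⟨i1, i2⟩ := finrank_inf_le (K := c.K'd d₀) hle' r2 hfin1
    rw [hfr, hfr1] at i1 i2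
    have hsup := i2 (by omega)
    obtain ⟨f1, f2, -⟩ := c.chi_split d₀ h2 h
    have hc := c.chi'_one d₀ h2 h
    unfold chi at hc
    rw [hfr1] at hc
    have hfr2 : Module.finrank k (c.A' d₀ ⧸ (c.K'd d₀ ⊔ c.AL' d₀ (Lat.one Pl))) =
        Module.finrank k (c.H1 (Lat.one Pl)) := by omega
    exact c.final_contra d₀ hL h1L hsup f2.sup (by rw [hfr2, hG0]) (by rw [hG0]; exact hg)
      (Module.nontrivial_of_finrank_pos (R := k) (by omega))
  · have r3 := relFin_of_mul (c.Ψ d₀ 3) (fun i => c.Ψ_le d₀ 3 i N)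
      (fun i => c.Ψ_le d₀ 3 i (Lat.one Pl)) three_pos hr
      (fun a ha i => c.inj3 d₀ h2 (const_one d₀) _ ha i)
    have m3 := mul_rel_le (c.Ψ d₀ 3) (fun i => c.Ψ_le d₀ 3 i N)
      (fun i => c.Ψ_le d₀ 3 i (Lat.one Pl)) three_pos hr
      (fun a ha i => c.inj3 d₀ h2 (const_one d₀) _ ha i)
    obtain ⟨i1, -⟩ := finrank_inf_le (K := c.K'd d₀) hle' r3 hfin1
    rw [hfr, hfr1] at i1
    omega

end Final

end CurveData

end Groth.Agent.CurvesB.Weil
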