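import Groth.Agent.CurvesB.WeilPairing
import Mathlib.RingTheory.Flat.Basic
import Mathlib.RingTheory.Algebraic.Basic

/-!
# Local computation of the pairing (pure algebra)
-/

open TensorProduct

namespace Groth.Agent.CurvesB.Weil

universe u v w x

variable {k : Type u} {K : Type v} [Field k] [Field K] [Algebra k K] {P : Type x}

/-- Local data at a place: a parameter `t` of the differentials and a "diagonal idempotent" `a`. -/
structure LocalData (v : Place k K) where
  t : v.O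
  tr : Transcendental k (t : K)
  a : v.O ⊗[k] v.O
  ha : Algebra.TensorProduct.lmul' k a = 1
  hδ : ∀ f : v.O, ∃ p : v.O ⊗[k] v.O, (t ⊗ₜ 1 - 1 ⊗ₜ t) * p = a * (f ⊗ₜ 1 - 1 ⊗ₜ f)

/-- The map `O ⊗ O → K ⊗ C` given by `ρ : O → C`. -/
noncomputable abbrev mp {C : Type w} [CommRing C] [Algebra k C] (v : Place k K)
    (ρ : v.O →ₐ[k] C) : v.O ⊗[k] v.O →ₐ[k] K ⊗[k] C :=
  Algebra.TensorProduct.map v.O.val ρ

lemma mp_dl {C : Type w} [CommRing C] [Algebra k C] (v : Place k K)
    (ρ : v.O →ₐ[k] C) (f : v.O) : mp v ρ (f ⊗ₜ 1 - 1 ⊗ₜ f) = dl (f : K) (ρ f) := by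
  simp [mp, dl]

lemma regular_dl {C : Type w} [CommRing C] [Algebra k C] {t : K} (ht : Transcendental k t) (c : C)
    {x y : K ⊗[k] C} (h : dl t c * x = dl t c * y) : x = y := by
  rw [← sub_eq_zero]
  apply eq_zero_of_delta_mul_eq_zero ht c
  rw [← dl, mul_sub, h, sub_self]

lemma mp_mem_W {C : Type w} [CommRing C] [Algebra k C] (v : Place k K)
    (ρ : v.O →ₐ[k] C) (p : v.O ⊗[k] v.O) : mp v ρ p ∈ W C (Subalgebra.toSubmodule v.O) := by
  induction p with
  | zero => rw [map_zero]; exact zero_mem _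
  | tmul a b =>
    rw [mp, Algebra.TensorProduct.map_tmul]
    exact tmul_mem_W (L := Subalgebra.toSubmodule v.O) a.2 _
  | add a b ha hb => rw [map_add]; exact add_mem ha hb

lemma dl_inv (f : K) (hf : f ≠ 0) :
    (dl f⁻¹ f⁻¹ : K ⊗[k] K) = - ((f⁻¹ ⊗ₜ f⁻¹) * dl f f) := by
  simp only [dl, mul_sub, Algebra.TensorProduct.tmul_mul_tmul, mul_one, inv_mul_cancel₀ hf]
  abel

namespace LocalData

variable {v : Place k K} (d : LocalData v)

lemma exists_G : ∃ G : BiDer k K, ∀ f, dl (d.t : K) (d.t : K) * G.Γ f = mp v v.O.val d.a * dl f f := by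
  refine BiDer.exists_ofFrac (dl (d.t : K) (d.t : K)) (mp v v.O.val d.a)
    (fun z hz => eq_zero_of_delta_mul_eq_zero d.tr (d.t : K) hz) fun f => ?_
  have hO : ∀ f ∈ v.O, ∃ p : K ⊗[k] K, dl (d.t : K) (d.t : K) * p = mp v v.O.val d.a * dl f f := by
    intro f hf
    obtain ⟨p, hp⟩ := d.hδ ⟨f, hf⟩
    refine ⟨mp v v.O.val p, ?_⟩
    have := congrArg (mp v v.O.val) hp
    rw [map_mul, map_mul, mp_dl, mp_dl] at this
    exact this
  by_cases hf : f ∈ v.O
  · exact hO f hf
  · have hf0 : f ≠ 0 := fun h => hf (h ▸ v.O.zero_mem)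
    have hi := v.inM_inv_of_notMem hf
    obtain ⟨p, hp⟩ := hO f⁻¹ hi.mem
    refine ⟨- ((f ⊗ₜ f) * p), ?_⟩
    have := dl_inv (k := k) f⁻¹ (inv_ne_zero hf0)
    rw [inv_inv] at this
    rw [this, mul_neg, mul_left_comm, hp]
    ring

/-- The bi-derivation attached to the local data. -/
noncomputable def G : BiDer k K := d.exists_G.choose

lemma G_spec (f : K) : dl (d.t : K) (d.t : K) * d.G.Γ f = mp v v.O.val d.a * dl f f :=
  d.exists_G.choose_spec f

/-- On `O`, the bi-derivation is integral. -/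
lemma exists_G_eq (f : v.O) : ∃ p : v.O ⊗[k] v.O,
    (d.t ⊗ₜ 1 - 1 ⊗ₜ d.t) * p = d.a * (f ⊗ₜ 1 - 1 ⊗ₜ f) ∧ d.G.Γ f = mp v v.O.val p := by
  obtain ⟨p, hp⟩ := d.hδ f
  refine ⟨p, hp, ?_⟩
  apply regular_dl d.tr (d.t : K)
  rw [d.G_spec]
  have := congrArg (mp v v.O.val) hp
  rw [map_mul, map_mul, mp_dl, mp_dl] at this
  exact this.symm

lemma G_t : d.G.Γ d.t = mp v v.O.val d.a := by
  apply regular_dl d.tr (d.t : K)
  rw [d.G_spec, mul_comm]

lemma lmul_mp (p : v.O ⊗[k] v.O) :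
    Algebra.TensorProduct.lmul' k (mp v v.O.val p) = (Algebra.TensorProduct.lmul' k p : v.O) := by
  induction p with
  | zero => simp
  | tmul a b => simp
  | add a b ha hb => rw [map_add, map_add, map_add, ha, hb]; rfl

lemma lmul_G_t : Algebra.TensorProduct.lmul' k (d.G.Γ d.t) = 1 := by
  rw [G_t, lmul_mp, d.ha]; rfl

/-- Existence of the specialised kernel. -/
lemma exists_g {κ : Type w} [Field κ] [Algebra k κ] (ρ : v.O →ₐ[k] κ)
    (hκ : IsAlgebraic k (ρ d.t)) :
    ∃ g : K ⊗[k] κ, dl (d.t : K) (ρ d.t) * g = mp v ρ d.a := by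
  obtain ⟨m, hm0, hm⟩ := hκ
  have h1 : (Polynomial.aeval (d.t : K) m) ≠ 0 := fun h => d.tr ⟨m, hm0, h⟩
  have h2 : dl (d.t : K) (ρ d.t) ∣ (Polynomial.aeval (d.t : K) m) ⊗ₜ[k] (1 : κ) := by
    have h3 := Polynomial.sub_dvd_eval_sub ((d.t : K) ⊗ₜ[k] (1:κ)) ((1:K) ⊗ₜ[k] (ρ d.t))
      (m.map (algebraMap k (K ⊗[k] κ)))
    rw [Polynomial.eval_map_algebraMap, Polynomial.eval_map_algebraMap] at h3
    have e1 : Polynomial.aeval ((d.t : K) ⊗ₜ[k] (1:κ)) m =
        (Polynomial.aeval (d.t : K) m) ⊗ₜ[k] (1 : κ) := by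
      have := Polynomial.aeval_algHom_apply
        (Algebra.TensorProduct.includeLeft : K →ₐ[k] K ⊗[k] κ) (d.t : K) m
      simpa using this
    have e2 : Polynomial.aeval ((1:K) ⊗ₜ[k] (ρ d.t)) m = 0 := by
      have := Polynomial.aeval_algHom_apply
        (Algebra.TensorProduct.includeRight : κ →ₐ[k] K ⊗[k] κ) (ρ d.t) m
      rw [hm, map_zero] at this
      simpa using this
    rw [e1, e2, sub_zero] at h3
    exact h3
  obtain ⟨q, hq⟩ := h2
  refine ⟨q * ((Polynomial.aeval (d.t : K) m)⁻¹ ⊗ₜ 1) * mp v ρ d.a, ?_⟩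
  rw [← mul_assoc, ← mul_assoc, ← hq, Algebra.TensorProduct.tmul_mul_tmul, mul_inv_cancel₀ h1,
    mul_one]
  exact one_mul _

end LocalData

variable {Pl : P → Place k K}

/-- The pairing with the bi-derivation at `x` is integral at `x`, and its residue is computed by the
component of the Weil differential at `x`. -/
lemma exists_b (hP : Good Pl) (l : WDiff Pl) {x : P} (d : LocalData (Pl x))
    (hx : ∀ o ∈ (Pl x).O, l.val x o = 0) :
    ∃ b : (Pl x).O, (b : K) = pair l d.G ∧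
      ∀ (κ : Type w) [Field κ] [Algebra k κ] (ρ : (Pl x).O →ₐ[k] κ) (g : K ⊗[k] κ),
        dl (d.t : K) (ρ d.t) * g = mp (Pl x) ρ d.a → ρ b = extL κ (l.val x) g := by
  classical
  -- the local terms
  have key : ∀ y, ∃ e : (Pl x).O, (e : K) = eps (Pl y) (l.val y) d.G ∧ (y ≠ x →
      ∀ (κ : Type w) [Field κ] [Algebra k κ] (ρ : (Pl x).O →ₐ[k] κ) (g : K ⊗[k] κ),
        dl (d.t : K) (ρ d.t) * g = mp (Pl x) ρ d.a → ρ e = extL κ (l.val y) g) := by
    intro y
    by_cases hyx : y = x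
    · subst hyx
      refine ⟨0, ?_, fun h => absurd rfl h⟩
      have hΓ : d.G.Γ (Pl y).π ∈ W K (Subalgebra.toSubmodule (Pl y).O) := by
        obtain ⟨p, -, hp⟩ := d.exists_G_eq ⟨(Pl y).π, (Pl y).π_mem⟩
        rw [hp]; exact mp_mem_W _ _ _
      rw [eps_eq (l.bdd y) (rep_zero hx (Pl y).π_ne (Pl y).inM_π hΓ), map_zero]
      rfl
    · obtain ⟨f, hf, hfy⟩ := hP.sep x y (Ne.symm hyx)
      have hf0 : f ≠ 0 := fun h => hfy (h ▸ (Pl y).O.zero_mem)
      have hM := (Pl y).inM_inv_of_notMem hfy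
      obtain ⟨p, hp, hGp⟩ := d.exists_G_eq ⟨f, hf⟩
      -- solve over C = O_x
      let p' : K ⊗[k] (Pl x).O := mp (Pl x) (AlgHom.id k _) p
      obtain ⟨g', hg'⟩ := exists_solve ((Pl y).absorb (l.bdd y) hM) (⟨f, hf⟩ : (Pl x).O)
        ((f⁻¹ ⊗ₜ 1) * p')
      refine ⟨extL (Pl x).O (l.val y) g', ?_, fun _ κ _ _ ρ g hg => ?_⟩
      · have h1 := map_mem_W (Pl x).O.val hg'
        rw [map_sub, map_mul, map_mul, map_sub, map_one] at h1
        have e1 : Algebra.TensorProduct.map (AlgHom.id k K) (Pl x).O.val p' = d.G.Γ f := by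
          change _ = d.G.Γ ((⟨f, hf⟩ : (Pl x).O) : K)
          rw [hGp]
          change (Algebra.TensorProduct.map (AlgHom.id k K) (Pl x).O.val)
            (Algebra.TensorProduct.map (Pl x).O.val (AlgHom.id k _) p) = _
          rw [← AlgHom.comp_apply, ← Algebra.TensorProduct.map_comp]
          rfl
        rw [e1] at h1
        simp only [Algebra.TensorProduct.map_tmul, AlgHom.coe_id, id_eq, map_one,
          Subalgebra.coe_val] at h1
        rw [eps_eq (l.bdd y) (rep_of_one (l.bdd y) hf0 hM h1)]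
        rw [extL_map (C := (Pl x).O) (C' := K) (Pl x).O.val (l.val y) g']
        rfl
      · have h1 := map_mem_W ρ hg'
        rw [map_sub, map_mul, map_mul, map_sub, map_one] at h1
        have e1 : Algebra.TensorProduct.map (AlgHom.id k K) ρ p' = g * dl f (ρ ⟨f, hf⟩) := by
          apply regular_dl d.tr (ρ d.t)
          have e2 : Algebra.TensorProduct.map (AlgHom.id k K) ρ p' = mp (Pl x) ρ p := by
            change (Algebra.TensorProduct.map (AlgHom.id k K) ρ)
              (Algebra.TensorProduct.map (Pl x).O.val (AlgHom.id k _) p) = _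
            rw [← AlgHom.comp_apply, ← Algebra.TensorProduct.map_comp]
            rfl
          have := congrArg (mp (Pl x) ρ) hp
          rw [map_mul, map_mul, mp_dl, mp_dl] at this
          rw [e2, this, ← mul_assoc, hg]
        rw [e1] at h1
        simp only [Algebra.TensorProduct.map_tmul, AlgHom.coe_id, id_eq, map_one] at h1
        rw [one_sub_tmul hf0] at h1
        have h2 : (g - Algebra.TensorProduct.map (AlgHom.id k K) ρ g') *
            (1 - f⁻¹ ⊗ₜ[k] ρ ⟨f, hf⟩) ∈ W κ ((Pl y).Lmax (l.val y)) := by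
          rw [one_sub_tmul hf0]
          convert h1 using 1
          ring
        have h3 := mem_W_of_mul_mem ((Pl y).stable hM) ((Pl y).absorb (l.bdd y) hM) _ h2
        have h4 := extL_of_mem_W (fun z hz => (Pl y).apply_of_mem_Lmax hz) h3
        rw [map_sub, sub_eq_zero, extL_map] at h4
        exact h4.symm
  choose e he he' using key
  have hfin : {y | e y ≠ 0}.Finite := by
    refine (finite_eps hP l d.G).subset fun y hy => ?_
    simp only [Set.mem_ofPred_eq] at hy ⊢
    rw [← he]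
    intro h
    exact hy (Subtype.ext h)
  have hfin' : (Function.support e).Finite := hfin
  have hx0 : e x = 0 := by
    apply Subtype.ext
    have hΓ : d.G.Γ (Pl x).π ∈ W K (Subalgebra.toSubmodule (Pl x).O) := by
      obtain ⟨p, -, hp⟩ := d.exists_G_eq ⟨(Pl x).π, (Pl x).π_mem⟩
      rw [hp]; exact mp_mem_W _ _ _
    rw [he, eps_eq (l.bdd x) (rep_zero hx (Pl x).π_ne (Pl x).inM_π hΓ), map_zero]
    rfl
  refine ⟨- ∑ᶠ y, e y, ?_, fun κ _ _ ρ g hg => ?_⟩
  · rw [pair, ← finsum_congr he]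
    have := (Pl x).O.val.toAddMonoidHom.map_finsum hfin'
    change - ((Pl x).O.val.toAddMonoidHom (∑ᶠ y, e y)) = _
    rw [this]
    rfl
  · have h1 := finsum_extL hP l κ g
    have h2 : ∑ᶠ y, extL κ (l.val y) g = extL κ (l.val x) g + ∑ᶠ y, ρ (e y) := by
      have h3 : ∀ y, extL κ (l.val y) g = (if y = x then extL κ (l.val x) g else 0) + ρ (e y) := by
        intro y
        split_ifs with h
        · subst h; rw [hx0, map_zero, add_zero]
        · rw [he' y h κ ρ g hg, zero_add]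
      rw [finsum_congr h3, finsum_add_distrib]
      · congr 1
        rw [finsum_eq_single _ x (fun y hy => if_neg hy), if_pos rfl]
      · refine (Set.finite_singleton x).subset fun y hy => ?_
        by_contra h
        exact hy (if_neg h)
      · refine hfin.subset fun y hy => ?_
        intro h
        apply hy
        change ρ (e y) = 0
        rw [h, map_zero]
    rw [h2] at h1
    have h4 := ρ.toAddMonoidHom.map_finsum hfin'
    have h5 : ρ (∑ᶠ y, e y) = ∑ᶠ y, ρ (e y) := h4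
    rw [map_neg, h5]
    exact neg_eq_of_add_eq_zero_left h1

section Coord

variable {κ : Type w} [Field κ] [Algebra k κ]

/-- Nonvanishing criterion. -/
lemma extL_eq_zero_iff {v : Place k K} (d : LocalData v) {l : K →ₗ[k] k}
    (hl : ∀ o ∈ v.O, l o = 0) (ρ : v.O →ₐ[k] κ) (hker : ∀ o : v.O, ρ o = 0 ↔ v.InM (o : K))
    {g : K ⊗[k] κ} (hg : dl (d.t : K) (ρ d.t) * g = mp v ρ d.a) :
    extL κ l g = 0 ↔ ∀ o ∈ v.O, l (v.π⁻¹ * o) = 0 := by
  -- (a') δ(o) g is integral
  have ha' : ∀ o : v.O, dl (o : K) (ρ o) * g ∈ W κ (Subalgebra.toSubmodule v.O) := by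
    intro o
    obtain ⟨p, hp⟩ := d.hδ o
    have h1 : mp v ρ p = dl (o : K) (ρ o) * g := by
      apply regular_dl d.tr (ρ d.t)
      have := congrArg (mp v ρ) hp
      rw [map_mul, map_mul, mp_dl, mp_dl] at this
      rw [this, mul_left_comm, hg, mul_comm]
    rw [← h1]
    exact mp_mem_W v ρ p
  -- (b') g itself is not integral
  have hb' : g ∉ W κ (Subalgebra.toSubmodule v.O) := by
    rintro ⟨g0, hg0⟩
    let ι : v.O ⊗[k] κ →ₐ[k] K ⊗[k] κ := Algebra.TensorProduct.map v.O.val (AlgHom.id k κ)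
    have hι : Function.Injective ι := by
      have := Module.Flat.rTensor_preserves_injective_linearMap (M := κ)
        (Subalgebra.toSubmodule v.O).subtype (Submodule.injective_subtype _)
      exact this
    let μ : v.O ⊗[k] κ →ₐ[k] κ := Algebra.TensorProduct.lift ρ (AlgHom.id k κ)
      (fun _ _ => Commute.all _ _)
    let g1 : v.O ⊗[k] κ := g0
    have hg1 : ι g1 = g := hg0
    have h1 : ((d.t ⊗ₜ 1 - 1 ⊗ₜ (ρ d.t)) * g1 : v.O ⊗[k] κ) =
        Algebra.TensorProduct.map (AlgHom.id k v.O) ρ d.a := by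
      apply hι
      rw [map_mul, hg1]
      have e1 : ι (d.t ⊗ₜ 1 - 1 ⊗ₜ (ρ d.t)) = dl (d.t : K) (ρ d.t) := by
        simp [ι, dl]
      rw [e1, hg]
      change _ = (Algebra.TensorProduct.map v.O.val (AlgHom.id k κ))
        (Algebra.TensorProduct.map (AlgHom.id k v.O) ρ d.a)
      rw [← AlgHom.comp_apply, ← Algebra.TensorProduct.map_comp]
      rfl
    have h2 := congrArg μ h1
    rw [map_mul] at h2
    have e2 : μ (d.t ⊗ₜ 1 - 1 ⊗ₜ (ρ d.t)) = 0 := by
      simp [μ]
    have e3 : ∀ a : v.O ⊗[k] v.O, μ (Algebra.TensorProduct.map (AlgHom.id k v.O) ρ a) =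
        ρ (Algebra.TensorProduct.lmul' k a) := by
      intro a
      induction a with
      | zero => simp
      | tmul a b => simp [μ]
      | add a b ha hb => rw [map_add, map_add, map_add, map_add, ha, hb]
    rw [e2, zero_mul, e3, d.ha, map_one] at h2
    exact zero_ne_one h2
  -- coordinates
  classical
  let b := Module.Basis.ofVectorSpace k κ
  let c : ∀ _, K ⊗[k] κ →ₗ[k] K := fun j =>
    (TensorProduct.rid k K).toLinearMap ∘ₗ LinearMap.lTensor K (b.coord j)
  have c_tmul : ∀ j z y, c j (z ⊗ₜ y) = (b.coord j y) • z := fun j z y => by simp [c]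
  have c_mul : ∀ j (z : K) (y : K ⊗[k] κ), c j ((z ⊗ₜ 1) * y) = z * c j y := by
    intro j z y
    induction y with
    | zero => simp
    | tmul p q => rw [Algebra.TensorProduct.tmul_mul_tmul, one_mul, c_tmul, c_tmul, mul_smul_comm]
    | add p q hp hq => rw [mul_add, map_add, map_add, hp, hq, mul_add]
  have c_W : ∀ (L : Submodule k K) (y : K ⊗[k] κ), y ∈ W κ L → ∀ j, c j y ∈ L := by
    intro L y hy j
    refine W_induction (p := fun y => c j y ∈ L) (by rw [map_zero]; exact zero_mem _)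
      (fun z hz y => by rw [c_tmul]; exact L.smul_mem _ hz)
      (fun p q hp hq => by rw [map_add]; exact add_mem hp hq) hy
  have c_sum : ∀ (y : K ⊗[k] κ), ∃ s : Finset _, y = ∑ j ∈ s, (c j y) ⊗ₜ (b j) := by
    intro y
    obtain ⟨f, hf⟩ := TensorProduct.eq_repr_basis_right b y
    refine ⟨f.support, ?_⟩
    have hc : ∀ j ∈ f.support, c j y = f j := by
      intro j hj
      rw [← hf, Finsupp.sum, map_sum, Finset.sum_eq_single j]
      · rw [c_tmul]; simp
      · intro i _ hij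
        rw [c_tmul]
        simp [hij]
      · intro h; exact absurd hj h
    conv_lhs => rw [← hf]
    rw [Finsupp.sum]
    exact Finset.sum_congr rfl fun j hj => by rw [hc j hj]
  have W_c : ∀ (L : Submodule k K) (y : K ⊗[k] κ), (∀ j, c j y ∈ L) → y ∈ W κ L := by
    intro L y hy
    obtain ⟨s, hs⟩ := c_sum y
    rw [hs]
    exact sum_mem fun j _ => tmul_mem_W (hy j) _
  have c_ext : ∀ (m : K →ₗ[k] k) (y : K ⊗[k] κ), extL κ m y = 0 → ∀ j, m (c j y) = 0 := by
    intro m y hy j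
    have h1 : ∀ y : K ⊗[k] κ, b.coord j (extL κ m y) = m (c j y) := by
      intro y
      induction y with
      | zero => simp
      | tmul p q => rw [extL_tmul, c_tmul, map_smul, map_smul, smul_eq_mul, smul_eq_mul, mul_comm]
      | add p q hp hq => rw [map_add, map_add, map_add, map_add, hp, hq]
    rw [← h1, hy, map_zero]
  -- π g is integral
  have hρπ : ρ ⟨v.π, v.π_mem⟩ = 0 := (hker _).2 v.inM_π
  have hπg : ∀ j, v.π * c j g ∈ v.O := by
    intro j
    have h1 := ha' ⟨v.π, v.π_mem⟩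
    rw [hρπ, dl, tmul_zero, sub_zero] at h1
    have h2 := c_W _ _ h1 j
    rw [c_mul] at h2
    exact h2
  constructor
  · intro h0
    -- some coordinate is not integral
    have hex : ∃ j, c j g ∉ v.O := by
      by_contra hcon
      simp only [not_exists, not_not] at hcon
      exact hb' (W_c _ _ hcon)
    obtain ⟨j, hj⟩ := hex
    -- l kills O * c j g
    have hkill : ∀ o ∈ v.O, l (o * c j g) = 0 := by
      intro o ho
      have h1 := ha' ⟨o, ho⟩
      have h2 := extL_of_mem_W (C := κ) (L := Subalgebra.toSubmodule v.O) (l := l)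
        (fun z hz => hl z hz) h1
      rw [dl, sub_mul, map_sub, extL_mul_right, h0, mul_zero, sub_zero, extL_mul_left] at h2
      have h3 := c_ext _ _ h2 j
      simpa using h3
    -- c j g = π⁻¹ * unit
    intro o ho
    have hne : c j g ≠ 0 := fun h => hj (h ▸ v.O.zero_mem)
    -- (c j g)⁻¹ * π⁻¹ ∈ O
    have hu : (c j g)⁻¹ * v.π⁻¹ ∈ v.O := by
      by_contra hcon
      have h1 := v.inM_inv_of_notMem hcon
      rw [mul_inv, inv_inv, inv_inv] at h1
      unfold Place.InM at h1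
      rw [mul_comm, mul_assoc, mul_inv_cancel₀ v.π_ne, mul_one] at h1
      exact hj h1
    have e : v.π⁻¹ * o = (o * ((c j g)⁻¹ * v.π⁻¹)) * c j g := by
      field_simp
    rw [e]
    exact hkill _ (v.O.mul_mem ho hu)
  · intro h0
    let L : Submodule k K := (Subalgebra.toSubmodule v.O).map (LinearMap.mulLeft k v.π⁻¹)
    have hgL : g ∈ W κ L := by
      apply W_c
      intro j
      exact ⟨v.π * c j g, hπg j, by simp [v.π_ne]⟩
    refine extL_of_mem_W (L := L) ?_ hgL
    rintro _ ⟨o, ho, rfl⟩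
    exact h0 o ho

end Coord

/-- The pairing at a place: order statement. -/
theorem pair_local (hP : Good Pl) (l : WDiff Pl) {x : P} (d : LocalData (Pl x))
    {κ : Type w} [Field κ] [Algebra k κ] (ρ : (Pl x).O →ₐ[k] κ)
    (hker : ∀ o : (Pl x).O, ρ o = 0 ↔ (Pl x).InM (o : K)) (hκ : IsAlgebraic k (ρ d.t))
    (hx : ∀ o ∈ (Pl x).O, l.val x o = 0) :
    pair l d.G ∈ (Pl x).O ∧
      ((Pl x).InM (pair l d.G) ↔ ∀ o ∈ (Pl x).O, l.val x ((Pl x).π⁻¹ * o) = 0) := by
  obtain ⟨b, hb, hb'⟩ := exists_b.{u, v, w, x} hP l d hx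
  obtain ⟨g, hg⟩ := d.exists_g ρ hκ
  refine ⟨hb ▸ b.2, ?_⟩
  rw [← hb, ← hker, hb' κ ρ g hg]
  exact extL_eq_zero_iff d hx ρ hker hg

end Groth.Agent.CurvesB.Weil
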