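import Groth.Agent.CurvesB.WeilSep
import Groth.Agent.CurvesB.WeilFour
import Mathlib.FieldTheory.Perfect

/-!
# Separable points of small degree: function field version
-/

open TensorProduct

namespace Groth.Agent.CurvesB.Weil

universe u v w x

variable {k : Type u} {K : Type v} [Field k] [Field K] [Algebra k K] {P : Type x}
variable {Pl : P → Place k K}

/-- **Separable places of degree at most `2g - 2`.** -/
theorem CurveData.exists_separable (c : CurveData Pl)
    [hfin : FiniteDimensional k (c.H1 (Lat.one Pl))]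
    (hg : 2 ≤ Module.finrank k (c.H1 (Lat.one Pl))) :
    ∃ x, Algebra.IsSeparable k ((Pl x).O ⧸ (Pl x).m) ∧
      (Module.finrank k ((Pl x).O ⧸ (Pl x).m) : ℤ) ≤
        2 * Module.finrank k (c.H1 (Lat.one Pl)) - 2 := by
  have h : Nontrivial (c.H1 (Lat.one Pl)) := Module.nontrivial_of_finrank_pos (R := k) (by omega)
  obtain ⟨x₀⟩ := c.ne
  let d₀ := c.d x₀
  obtain ⟨b, hb, b', hb', hb0', hD⟩ := c.caseIII d₀ hg h
  rcases finite_or_infinite k with hk | hk
  · have hb0 : b' ≠ 0 := hb0'
    obtain ⟨x, hx⟩ := c.exists_zero d₀ hg h hb' hb0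
    refine ⟨x, ?_, c.finrank_res_le d₀ h hb' hb0 hx⟩
    let _ : Field ((Pl x).O ⧸ (Pl x).m) := Ideal.Quotient.field _
    have := c.resFin x
    have : Algebra.IsAlgebraic k ((Pl x).O ⧸ (Pl x).m) := Algebra.IsAlgebraic.of_finite k _
    infer_instance
  · exact c.caseII d₀ h hb hb' hb0' hD

end Groth.Agent.CurvesB.Weil
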