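import Groth.Agent.CurvesB.SmoothCurveFacts
import Groth.Agent.CurvesC.Dim1Top
import Mathlib.AlgebraicGeometry.Morphisms.Separated
import Mathlib.AlgebraicGeometry.Stalk

/-!
# Comparison of local rings inside the function field; almost all points lie in an affine open

* `specializes_of_range_le` : on a separated integral scheme `O_x ⊆ O_y` implies `y ⤳ x`;
* `exists_sep` : distinct closed points are separated by their local rings;
* `exists_adjoin` : an affine open `U` with `X ∖ U` finite and `Γ(X, U)` generated by a finite set.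
-/

set_option autoImplicit false
universe u

open CategoryTheory CategoryTheory.Limits AlgebraicGeometry Opposite TopologicalSpace

namespace Groth.Agent.CurvesB.WeilModelSep

open Groth.Agent.CurvesB.OmegaStalkDict Groth.Agent.CurvesB.SmoothCurveFacts

theorem specializes_of_range_le {X : Scheme.{u}} [IsIntegral X] [X.IsSeparated] {x y : X}
    (h : ∀ c : X.functionField, c ∈ Set.range (algebraMap (X.presheaf.stalk x) X.functionField) →
      c ∈ Set.range (algebraMap (X.presheaf.stalk y) X.functionField)) : y ⤳ x := by
  have hinj : Function.Injective (algebraMap (X.presheaf.stalk y) X.functionField) :=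
    IsFractionRing.injective _ _
  choose φ hφ using fun r : X.presheaf.stalk x => h _ ⟨r, rfl⟩
  let Φ : X.presheaf.stalk x →+* X.presheaf.stalk y :=
    { toFun := φ
      map_one' := hinj (by rw [hφ, map_one, map_one])
      map_zero' := hinj (by rw [hφ, map_zero, map_zero])
      map_mul' := fun a b => hinj (by rw [hφ, map_mul, map_mul, hφ, hφ])
      map_add' := fun a b => hinj (by rw [hφ, map_add, map_add, hφ, hφ]) }
  have h1 : Spec.map (CommRingCat.ofHom Φ) ≫ X.fromSpecStalk x = X.fromSpecStalk y := by
    have hdom : IsDominant (Spec.map (X.presheaf.stalkSpecializes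
        (show genericPoint X ⤳ y from (genericPoint_spec X).specializes trivial))) := by
      refine ⟨?_⟩
      refine PrimeSpectrum.denseRange_comap_iff_ker_le_nilRadical _ |>.2 ?_
      change RingHom.ker (algebraMap (X.presheaf.stalk y) X.functionField) ≤ _
      rw [(RingHom.injective_iff_ker_eq_bot _).1 hinj]
      exact bot_le
    refine ext_of_isDominant (Spec.map (X.presheaf.stalkSpecializes
        (show genericPoint X ⤳ y from (genericPoint_spec X).specializes trivial))) ?_
    have h2 : CommRingCat.ofHom Φ ≫ X.presheaf.stalkSpecializes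
        (show genericPoint X ⤳ y from (genericPoint_spec X).specializes trivial) =
        X.presheaf.stalkSpecializes
          (show genericPoint X ⤳ x from (genericPoint_spec X).specializes trivial) := by
      ext r
      exact hφ r
    rw [Scheme.SpecMap_stalkSpecializes_fromSpecStalk, ← Category.assoc, ← Spec.map_comp, h2,
      Scheme.SpecMap_stalkSpecializes_fromSpecStalk]
  have h3 : y ∈ Set.range (X.fromSpecStalk x) := by
    refine ⟨Spec.map (CommRingCat.ofHom Φ) (IsLocalRing.closedPoint (X.presheaf.stalk y)), ?_⟩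
    rw [← Scheme.Hom.comp_apply, h1, Scheme.fromSpecStalk_closedPoint]
  rwa [Scheme.range_fromSpecStalk] at h3

theorem isSeparated_of_over {A : CommRingCat.{u}} {X : Scheme.{u}} (f : X ⟶ Spec A) [IsSeparated f] :
    X.IsSeparated := by
  refine ⟨?_⟩
  rw [← terminal.comp_from f]
  infer_instance

theorem exists_sep {X : Scheme.{u}} [IsIntegral X] [X.IsSeparated] {x y : X}
    (hy : IsClosed ({y} : Set X)) (hxy : x ≠ y) :
    ∃ c : X.functionField, c ∈ Set.range (algebraMap (X.presheaf.stalk x) X.functionField) ∧
      c ∉ Set.range (algebraMap (X.presheaf.stalk y) X.functionField) := by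
  by_contra hcon
  push Not at hcon
  have h1 := specializes_of_range_le hcon
  have h2 := h1.mem_closed hy rfl
  exact hxy h2

theorem nonempty_closed {X : Scheme.{u}} [IsIntegral X] (hdim : topologicalKrullDim X = 1) :
    ∃ x : X, x ≠ genericPoint X := by
  by_contra hcon
  push Not at hcon
  have h2 : Subsingleton (IrreducibleCloseds X) := by
    refine ⟨fun a b => ?_⟩
    have : ∀ c : IrreducibleCloseds X, (c : Set X) = {genericPoint X} := by
      intro c
      ext y
      obtain ⟨z, hz⟩ := c.isIrreducible.nonempty
      rw [hcon y]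
      rw [hcon z] at hz
      simp [hz]
    exact IrreducibleCloseds.ext ((this a).trans (this b).symm)
  have h3 : topologicalKrullDim X ≤ 0 := Order.krullDim_nonpos_of_subsingleton
  rw [hdim] at h3
  norm_cast at h3

section Loc

variable {k : Type u} [Field k] {X : Scheme.{u}} [IsIntegral X] (f : X ⟶ Spec (CommRingCat.of k))

theorem exists_adjoin_aux [LocallyOfFiniteType f] {U : X.Opens} (hU : IsAffineOpen U) [Nonempty U] :
    letI := stAlg f (genericPoint X)
    ∃ s : Finset X.functionField, ∀ x : U,
      (s : Set X.functionField) ⊆ Set.range (algebraMap (X.presheaf.stalk x.1) X.functionField) ∧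
      ∀ c ∈ Set.range (algebraMap (X.presheaf.stalk x.1) X.functionField),
        ∃ r ∈ Algebra.adjoin k (s : Set X.functionField), ∃ q ∈ Algebra.adjoin k (s : Set X.functionField),
          q ≠ 0 ∧ q⁻¹ ∈ Set.range (algebraMap (X.presheaf.stalk x.1) X.functionField) ∧ c = r * q⁻¹ := by
  classical
  let _ := secAlg f U
  let _ := stAlg f (genericPoint X)
  have htow := tower_sec f U
  obtain ⟨s, hs⟩ := (finiteType_secHom f hU : Algebra.FiniteType k Γ(X, U)).out
  have hmap : Algebra.adjoin k ((s.image (algebraMap Γ(X, U) X.functionField) : Finset _) :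
      Set X.functionField) = (IsScalarTower.toAlgHom k Γ(X, U) X.functionField).range := by
    rw [Finset.coe_image]
    have := (IsScalarTower.toAlgHom k Γ(X, U) X.functionField).map_adjoin (s : Set Γ(X, U))
    rw [hs, Algebra.map_top] at this
    exact this.symm
  refine ⟨s.image (algebraMap Γ(X, U) X.functionField), fun x => ?_⟩
  have hg : ∀ a : Γ(X, U), algebraMap Γ(X, U) X.functionField a =
      algebraMap (X.presheaf.stalk x.1) X.functionField (X.presheaf.germ U x.1 x.2 a) := fun a =>
    (Scheme.algebraMap_germ_eq_germToFunctionField X (U := U) (x := x.1) x.2 a).symm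
  refine ⟨?_, ?_⟩
  · rw [Finset.coe_image]
    rintro _ ⟨a, -, rfl⟩
    exact ⟨_, (hg a).symm⟩
  · rintro _ ⟨c, rfl⟩
    rw [hmap]
    have hloc := hU.isLocalization_stalk x
    obtain ⟨⟨a, q⟩, hq⟩ := IsLocalization.surj (hU.primeIdealOf x).asIdeal.primeCompl c
    dsimp only at hq
    have hunit : IsUnit (X.presheaf.germ U x.1 x.2 q) :=
      IsLocalization.map_units (X.presheaf.stalk x.1) q
    have hq' : c * X.presheaf.germ U x.1 x.2 q = X.presheaf.germ U x.1 x.2 a := hq
    have hne : algebraMap (X.presheaf.stalk x.1) X.functionField (X.presheaf.germ U x.1 x.2 q) ≠ 0 :=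
      (hunit.map _).ne_zero
    refine ⟨algebraMap Γ(X, U) X.functionField a, ⟨a, rfl⟩, algebraMap Γ(X, U) X.functionField q,
      ⟨q, rfl⟩, ?_, ?_, ?_⟩
    · rw [hg]; exact hne
    · rw [hg]
      obtain ⟨v, hv⟩ := hunit.exists_left_inv
      refine ⟨v, eq_inv_of_mul_eq_one_left ?_⟩
      rw [← map_mul, hv, map_one]
    · rw [hg, hg, ← hq', map_mul, mul_assoc, mul_inv_cancel₀ hne, mul_one]

theorem exists_adjoin [LocallyOfFiniteType f] [NoetherianSpace X] (hdim : topologicalKrullDim X ≤ 1) :
    letI := stAlg f (genericPoint X)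
    ∃ s : Finset X.functionField, {x : X | ¬
      ((s : Set X.functionField) ⊆ Set.range (algebraMap (X.presheaf.stalk x) X.functionField) ∧
      ∀ c ∈ Set.range (algebraMap (X.presheaf.stalk x) X.functionField),
        ∃ r ∈ Algebra.adjoin k (s : Set X.functionField), ∃ q ∈ Algebra.adjoin k (s : Set X.functionField),
          q ≠ 0 ∧ q⁻¹ ∈ Set.range (algebraMap (X.presheaf.stalk x) X.functionField) ∧
            c = r * q⁻¹)}.Finite := by
  let _ := stAlg f (genericPoint X)
  obtain ⟨_, ⟨U, hU, rfl⟩, hηU, -⟩ :=
    X.isBasis_affineOpens.exists_subset_of_mem_open (Set.mem_univ (genericPoint X)) isOpen_univ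
  have : Nonempty U := ⟨⟨_, hηU⟩⟩
  obtain ⟨s, hs⟩ := exists_adjoin_aux f hU
  refine ⟨s, (CurvesC.Dim1Top.finite_of_isClosed hdim U.2.isClosed_compl fun h => ?_).subset
    fun x hx hxU => hx (hs ⟨x, hxU⟩)⟩
  have : genericPoint X ∈ ((U : Set X)ᶜ) := h ▸ trivial
  exact this hηU

end Loc

end Groth.Agent.CurvesB.WeilModelSep
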