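import Groth.Agent.CurvesB.WeilModelAlg
import Groth.Agent.CurvesB.WeilModelSep
import Groth.Agent.CurvesB.OnePointFam
import Groth.Agent.CurvesB.OnePointSerre
import Groth.Agent.CurvesB.SmoothCurvePole
import Groth.Agent.CurvesB.TFLemmas

/-!
# The Weil model of a smooth proper curve

* `plc k X hdim : Pl X → Weil.Place k K(X)`;
* `good`, `nonempty_curveData`;
* `nonempty_H1_equiv` : `Dual H^1(O) ≃ Dual (c.H1 (Lat.one _))`, `finite_H1`, `finrank_H1`;
* `residueEquiv` : the residue fields.
-/

set_option autoImplicit false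
universe u
open CategoryTheory CategoryTheory.Limits AlgebraicGeometry Opposite TopologicalSpace Algebra

namespace Groth.Agent.CurvesB.WeilModel

open Groth.Agent.CurvesB.OmegaStalkDict Groth.Agent.CurvesB.SmoothCurveFacts
  Groth.Agent.CurvesB.SmoothCurveGood Groth.Agent.CurvesB.Weil Groth.Agent.CurvesB.WeilModelAlg
  Groth.Agent.CurvesB.WeilModelSep Groth.Agent.CurvesB.OnePointFam Groth.Agent.CurvesB.OnePointLin
  Groth.Agent.CurvesB.OnePointSerre Groth.Agent.CurvesB.GenStk Groth.Agent.CurvesB.TFLemmas
  Groth.Agent.CurvesB.WeilFam Groth.Agent.CurvesB.HZero Groth.Agent.Fdesc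

attribute [local instance] Groth.Agent.CurvesB.OmegaGeneric.stalkAlgebra

section

variable (k : Type u) [Field k] (X : Scheme.{u}) [X.Over (Spec (CommRingCat.of k))] [IsIntegral X]

theorem mem_rng_O_iff [QuasiCompact (pullback.diagonal (X ↘ Spec (CommRingCat.of k)))] (x : X)
    (c : X.functionField) :
    genEquivO k X c ∈ rng (Coh.structureModule X) x ↔
      c ∈ Set.range (algebraMap (X.presheaf.stalk x) X.functionField) := by
  let _ := modk k (Coh.structureModule X) (genericPoint X)
  have h1 := map_rng_O k X x
  rw [← mem_rngₗ k, ← h1]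
  constructor
  · rintro ⟨c', hc', he⟩
    have : c' = c := (genEquivO k X).injective he
    subst this
    obtain ⟨a, ha⟩ := WeilPair.mem_sp.mp hc'
    exact ⟨a, by rw [← ha, mul_one]⟩
  · rintro ⟨a, ha⟩
    exact ⟨c, WeilPair.mem_sp.mpr ⟨a, by rw [ha, mul_one]⟩, rfl⟩

theorem finite_notMem [IsLocallyNoetherian X] [CompactSpace X]
    [QuasiCompact (pullback.diagonal (X ↘ Spec (CommRingCat.of k)))]
    (hdim : topologicalKrullDim X ≤ 1) (c : X.functionField) :
    {x : X | c ∉ Set.range (algebraMap (X.presheaf.stalk x) X.functionField)}.Finite := by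
  have : IsNoetherian X := {}
  refine (finite_bad (dimLe_of_dim_le_one hdim) (genEquivO k X c)).subset fun x hx => ?_
  exact fun h => hx ((mem_rng_O_iff k X x c).1 h)

theorem mem_range_const [QuasiCompact (pullback.diagonal (X ↘ Spec (CommRingCat.of k)))]
    (h0 : Module.finrank k (Coh.HH X (Coh.structureModule X) 0) = 1) (c : X.functionField)
    (hc : ∀ x : X, x ≠ genericPoint X →
      c ∈ Set.range (algebraMap (X.presheaf.stalk x) X.functionField)) :
    c ∈ Set.range (algebraMap k X.functionField) := by
  have h1 : genEquivO k X c ∈ rngU (Coh.structureModule X) ⊤ trivial := by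
    rw [tf_structureModule.mem_rngU_iff]
    intro y _
    by_cases hy : y = genericPoint X
    · rw [hy]; exact mem_rng_genericPoint _
    · exact (mem_rng_O_iff k X y c).2 (hc y hy)
  obtain ⟨s, hs⟩ := h1
  obtain ⟨t, ht⟩ := Groth.Agent.CurvesB.HZero.exists_const k h0 (StructMod.sectionsEquiv ⊤ s)
  refine ⟨t, (StructMod.stalkEquiv (genericPoint X)).injective ?_⟩
  refine Eq.trans ?_ hs
  have h2 : algebraMap k X.functionField t = X.presheaf.germ ⊤ (genericPoint X) trivial (gl k X t) := rfl
  rw [h2, ht, StructMod.stalkEquiv_germ]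
  rfl

end

section Main

variable (k : Type u) [Field k] (X : Scheme.{u}) [X.Over (Spec (CommRingCat.of k))] [IsIntegral X]
  [Smooth (X ↘ Spec (CommRingCat.of k))]

include k in
theorem isDVR (hdim : topologicalKrullDim X = 1) (x : Pl X) :
    IsDiscreteValuationRing (X.presheaf.stalk x.1) :=
  isDiscreteValuationRing_stalk (X ↘ Spec (CommRingCat.of k)) hdim.le x.2

/-- The places of a smooth curve. -/
noncomputable def plc (hdim : topologicalKrullDim X = 1) (x : Pl X) : Place k X.functionField :=
  haveI := isDVR k X hdim x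
  place k (X.presheaf.stalk x.1) X.functionField

theorem mem_plc {hdim : topologicalKrullDim X = 1} {x : Pl X} {c : X.functionField} :
    c ∈ (plc k X hdim x).O ↔ c ∈ Set.range (algebraMap (X.presheaf.stalk x.1) X.functionField) :=
  Iff.rfl

theorem not_isAlgebraic (hdim : topologicalKrullDim X = 1) :
    ¬ Algebra.IsAlgebraic k X.functionField := by
  intro h
  have h1 := trdeg_functionField (X ↘ Spec (CommRingCat.of k)) hdim
  rw [trdeg_eq_zero] at h1
  exact zero_ne_one h1

omit [X.Over (Spec (CommRingCat.of k))] [Smooth (X ↘ Spec (CommRingCat.of k))] in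
theorem isClosed_pl (hdim : topologicalKrullDim X = 1) (x : Pl X) : IsClosed ({x.1} : Set X) :=
  Picfga.CurvePts.isClosed_singleton_of_dim_le_one hdim.le x.2

theorem nonempty_localData (hdim : topologicalKrullDim X = 1) (x : Pl X) :
    Nonempty (LocalData (plc k X hdim x)) := by
  have := isDVR k X hdim x
  have h1 : Algebra.EssFiniteType k (X.presheaf.stalk x.1) :=
    essFiniteType_stalk (X ↘ Spec (CommRingCat.of k)) x.1
  have h2 : Algebra.EssFiniteType k X.functionField :=
    essFiniteType_stalk (X ↘ Spec (CommRingCat.of k)) (genericPoint X)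
  exact exists_localData k (X.presheaf.stalk x.1) X.functionField (not_isAlgebraic k X hdim)
    (exists_generator_stalk (X ↘ Spec (CommRingCat.of k)) hdim x.1)

variable [IsProper (X ↘ Spec (CommRingCat.of k))]

theorem good (hdim : topologicalKrullDim X = 1) : Good (plc k X hdim) where
  fin_char c := by
    have : CompactSpace X := QuasiCompact.compactSpace_of_compactSpace (X ↘ Spec (CommRingCat.of k))
    have : IsLocallyNoetherian X :=
      LocallyOfFiniteType.isLocallyNoetherian (X ↘ Spec (CommRingCat.of k))
    exact (finite_notMem k X hdim.le c).preimage Subtype.val_injective.injOn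
  sep x y hxy := by
    have : X.IsSeparated := isSeparated_of_over (X ↘ Spec (CommRingCat.of k))
    exact exists_sep (isClosed_pl X hdim y) fun h => hxy (Subtype.ext h)
  fg := by
    have h2 : Algebra.EssFiniteType k X.functionField :=
      essFiniteType_stalk (X ↘ Spec (CommRingCat.of k)) (genericPoint X)
    exact IntermediateField.fg_top k X.functionField

theorem resFin (hdim : topologicalKrullDim X = 1) (x : Pl X) :
    Module.Finite k ((plc k X hdim x).O ⧸ (plc k X hdim x).m) := by
  have := isDVR k X hdim x
  have h1 := finite_residue_stalk (X ↘ Spec (CommRingCat.of k)) (isClosed_pl X hdim x)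
  exact Module.Finite.equiv (quotPlaceEquiv k (X.presheaf.stalk x.1) X.functionField).toLinearEquiv

theorem nonempty_curveData (hdim : topologicalKrullDim X = 1)
    (h0 : Module.finrank k (Coh.HH X (Coh.structureModule X) 0) = 1) :
    Nonempty (CurveData (plc k X hdim)) := by
  have : CompactSpace X := QuasiCompact.compactSpace_of_compactSpace (X ↘ Spec (CommRingCat.of k))
  have : IsLocallyNoetherian X :=
    LocallyOfFiniteType.isLocallyNoetherian (X ↘ Spec (CommRingCat.of k))
  have : IsNoetherian X := {}
  refine ⟨⟨?_, good k X hdim, fun x => (nonempty_localData k X hdim x).some, resFin k X hdim, ?_, ?_⟩⟩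
  · obtain ⟨x, hx⟩ := nonempty_closed hdim
    exact ⟨⟨x, hx⟩⟩
  · intro c hc
    exact mem_range_const k X h0 c fun x hx => hc ⟨x, hx⟩
  · obtain ⟨s, hs⟩ := exists_adjoin (X ↘ Spec (CommRingCat.of k)) hdim.le
    exact ⟨s, hs.preimage Subtype.val_injective.injOn⟩

/-- The dual of adelic `H¹(O)` is the dual of `H¹(X, O_X)`. -/
theorem nonempty_dual_equiv [FiniteDimensional k (Coh.HH X (Coh.structureModule X) 1)]
    (hdim : topologicalKrullDim X = 1) (c : CurveData (plc k X hdim)) :
    Nonempty (Module.Dual k (c.H1 (Lat.one (plc k X hdim))) ≃ₗ[k]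
      Module.Dual k (Coh.HH X (Coh.structureModule X) 1)) := by
  have : CompactSpace X := QuasiCompact.compactSpace_of_compactSpace (X ↘ Spec (CommRingCat.of k))
  have : IsLocallyNoetherian X :=
    LocallyOfFiniteType.isLocallyNoetherian (X ↘ Spec (CommRingCat.of k))
  have : IsNoetherian X := {}
  let _ := modk k (Coh.structureModule X) (genericPoint X)
  obtain ⟨x, hx⟩ := nonempty_closed hdim
  have hxc := isClosed_pl X hdim ⟨x, hx⟩
  have hU := SmoothCurvePole.isAffineOpen_compl_singleton (k := k) hdim hxc
  have hd := dimLe_of_dim_le_one (X := X) hdim.le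
  obtain ⟨e1⟩ := nonempty_dual_H1 k (StructMod.isQCoh_structureModule X) tf_structureModule hd hx hU
    (fun y => Iff.rfl)
  have hL : ∀ y : Pl X, (Subalgebra.toSubmodule (plc k X hdim y).O).map (genEquivO k X).toLinearMap =
      OnePointFam.Lat k (Coh.structureModule X) y := by
    intro y
    ext z
    obtain ⟨w, rfl⟩ := (genEquivO k X).surjective z
    have h1 : genEquivO k X w ∈ OnePointFam.Lat k (Coh.structureModule X) y ↔
        w ∈ Set.range (algebraMap (X.presheaf.stalk y.1) X.functionField) := mem_rng_O_iff k X y.1 w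
    rw [h1]
    constructor
    · rintro ⟨w', hw', he⟩
      have : w' = w := (genEquivO k X).injective he
      subst this
      exact hw'
    · intro hw
      exact ⟨w, hw, rfl⟩
  obtain ⟨e2⟩ := nonempty_fam_equiv (genEquivO k X) hL c.good.fin_char
    (finite_bad_pl k (Coh.structureModule X) hd)
  exact ⟨((jDual c.good (Lat.one (plc k X hdim))).symm.trans
    (LinearEquiv.ofEq _ _ (J_one_eq c.good))).trans (e2.trans e1)⟩

theorem finite_H1 [FiniteDimensional k (Coh.HH X (Coh.structureModule X) 1)]
    (hdim : topologicalKrullDim X = 1) (c : CurveData (plc k X hdim)) :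
    FiniteDimensional k (c.H1 (Lat.one (plc k X hdim))) := by
  obtain ⟨e⟩ := nonempty_dual_equiv k X hdim c
  have h1 : FiniteDimensional k (Module.Dual k (c.H1 (Lat.one (plc k X hdim)))) :=
    Module.Finite.equiv e.symm
  exact (Module.finite_dual_iff k).1 h1

theorem finrank_H1 [FiniteDimensional k (Coh.HH X (Coh.structureModule X) 1)]
    (hdim : topologicalKrullDim X = 1) (c : CurveData (plc k X hdim)) :
    Module.finrank k (c.H1 (Lat.one (plc k X hdim))) = Curv2.genus k X := by
  have := finite_H1 k X hdim c
  obtain ⟨e⟩ := nonempty_dual_equiv k X hdim c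
  have h1 := e.finrank_eq
  rwa [Subspace.dual_finrank_eq, Subspace.dual_finrank_eq] at h1

end Main

section Residue

variable (k : Type u) [Field k] (X : Scheme.{u}) [X.Over (Spec (CommRingCat.of k))] [IsIntegral X]
  [Smooth (X ↘ Spec (CommRingCat.of k))]

attribute [local instance] Curv2.resAlgebra

/-- The residue fields. -/
noncomputable def residueEquiv (hdim : topologicalKrullDim X = 1) (x : Pl X) :
    X.residueField x.1 ≃ₐ[k] ((plc k X hdim x).O ⧸ (plc k X hdim x).m) :=
  haveI := isDVR k X hdim x
  AlgEquiv.trans (A₂ := X.presheaf.stalk x.1 ⧸ IsLocalRing.maximalIdeal (X.presheaf.stalk x.1))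
    (AlgEquiv.ofRingEquiv (f := RingEquiv.refl _) fun _ => rfl)
    (quotPlaceEquiv k (X.presheaf.stalk x.1) X.functionField)

end Residue

end Groth.Agent.CurvesB.WeilModel
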