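import Groth.Agent.CurvesB.WeilChi
import Groth.Agent.CurvesB.WeilFam
import Mathlib.RingTheory.DiscreteValuationRing.Basic
import Mathlib.RingTheory.Kaehler.Basic
import Mathlib.RingTheory.Unramified.Field
import Mathlib.RingTheory.Unramified.Finite
import Mathlib.RingTheory.Nakayama
import Mathlib.RingTheory.AlgebraicIndependent.Transcendental

/-!
# The pure algebra behind the Weil model of a curve

* `place k R K` : the place of a DVR `R` over `k` with fraction field `K`;
* `exists_localData` : the local data at this place;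
* `J_one_eq` : `J (Lat.one)` as a module of families.
-/

open TensorProduct

namespace Groth.Agent.CurvesB.WeilModelAlg

open Weil

universe u v w x

section Place

variable (k : Type u) (R : Type w) (K : Type v) [Field k] [CommRing R] [IsDomain R]
  [IsDiscreteValuationRing R] [Field K] [Algebra k R] [Algebra k K] [Algebra R K]
  [IsScalarTower k R K] [IsFractionRing R K]

/-- The place attached to a discrete valuation ring. -/
noncomputable def place : Place k K where
  O := (IsScalarTower.toAlgHom k R K).range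
  π := algebraMap R K (IsDiscreteValuationRing.exists_irreducible R).choose
  π_ne := by
    rw [Ne, IsFractionRing.to_map_eq_zero_iff (K := K)]
    exact (IsDiscreteValuationRing.exists_irreducible R).choose_spec.ne_zero
  π_mem := ⟨_, rfl⟩
  π_inv := by
    rintro ⟨r, hr⟩
    change algebraMap R K r = _ at hr
    have hirr := (IsDiscreteValuationRing.exists_irreducible R).choose_spec
    apply hirr.not_isUnit
    have h0 : algebraMap R K (IsDiscreteValuationRing.exists_irreducible R).choose ≠ 0 := by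
      rw [Ne, IsFractionRing.to_map_eq_zero_iff (K := K)]
      exact hirr.ne_zero
    refine IsUnit.of_mul_eq_one r (IsFractionRing.injective R K ?_)
    rw [map_mul, map_one, hr, mul_inv_cancel₀ h0]
  exists_pow := by
    intro z hz
    have hirr := (IsDiscreteValuationRing.exists_irreducible R).choose_spec
    set ϖ := (IsDiscreteValuationRing.exists_irreducible R).choose with hϖ
    have h0 : algebraMap R K ϖ ≠ 0 := by
      rw [Ne, IsFractionRing.to_map_eq_zero_iff (K := K)]
      exact hirr.ne_zero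
    obtain ⟨a, b, hb, rfl⟩ := IsFractionRing.div_surjective (A := R) z
    have hb0 : b ≠ 0 := nonZeroDivisors.ne_zero hb
    have ha0 : a ≠ 0 := by
      rintro rfl
      rw [map_zero, zero_div] at hz
      exact hz rfl
    obtain ⟨n, u, rfl⟩ := IsDiscreteValuationRing.eq_unit_mul_pow_irreducible ha0 hirr
    obtain ⟨m, w, rfl⟩ := IsDiscreteValuationRing.eq_unit_mul_pow_irreducible hb0 hirr
    refine ⟨(n : ℤ) - m, algebraMap R K (u * ↑w⁻¹), ⟨_, rfl⟩, ⟨(w : R) * ↑u⁻¹, ?_⟩, ?_⟩
    · change algebraMap R K _ = _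
      refine eq_inv_of_mul_eq_one_left ?_
      rw [← map_mul]
      have : (w : R) * ↑u⁻¹ * (↑u * ↑w⁻¹) = 1 := by
        have h1 : (↑u⁻¹ : R) * u = 1 := u.inv_mul
        have h2 : (w : R) * ↑w⁻¹ = 1 := w.mul_inv
        calc (w : R) * ↑u⁻¹ * (↑u * ↑w⁻¹) = (w * ↑w⁻¹) * (↑u⁻¹ * u) := by ring
          _ = 1 := by rw [h1, h2, one_mul]
      rw [this, map_one]
    · rw [zpow_sub₀ h0, zpow_natCast, zpow_natCast, map_mul, map_mul, map_mul, map_pow, map_pow]
      have hw : algebraMap R K (w : R) * algebraMap R K (↑w⁻¹ : R) = 1 := by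
        rw [← map_mul, w.mul_inv, map_one]
      have hw0 : algebraMap R K (w : R) ≠ 0 := left_ne_zero_of_mul_eq_one hw
      have hw' : algebraMap R K (↑w⁻¹ : R) = (algebraMap R K (w : R))⁻¹ :=
        eq_inv_of_mul_eq_one_right hw
      rw [hw']
      field_simp

theorem mem_place {z : K} : z ∈ (place k R K).O ↔ z ∈ Set.range (algebraMap R K) := Iff.rfl

/-- The valuation ring is `R`. -/
noncomputable def placeEquiv : R ≃ₐ[k] (place k R K).O :=
  AlgEquiv.ofInjective (IsScalarTower.toAlgHom k R K) (IsFractionRing.injective R K)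

theorem placeEquiv_coe (r : R) : ((placeEquiv k R K r : (place k R K).O) : K) = algebraMap R K r := rfl

theorem inM_place_iff (r : R) :
    (place k R K).InM (algebraMap R K r) ↔ r ∈ IsLocalRing.maximalIdeal R := by
  have hirr := (IsDiscreteValuationRing.exists_irreducible R).choose_spec
  set ϖ := (IsDiscreteValuationRing.exists_irreducible R).choose with hϖ
  have h0 : algebraMap R K ϖ ≠ 0 := by
    rw [Ne, IsFractionRing.to_map_eq_zero_iff (K := K)]
    exact hirr.ne_zero
  rw [hirr.maximalIdeal_eq, Ideal.mem_span_singleton]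
  constructor
  · rintro ⟨s, hs⟩
    change algebraMap R K s = (algebraMap R K ϖ)⁻¹ * algebraMap R K r at hs
    refine ⟨s, IsFractionRing.injective R K ?_⟩
    rw [map_mul, hs, mul_inv_cancel_left₀ h0]
  · rintro ⟨s, rfl⟩
    refine ⟨s, ?_⟩
    change algebraMap R K s = (algebraMap R K ϖ)⁻¹ * algebraMap R K (ϖ * s)
    rw [map_mul, inv_mul_cancel_left₀ h0]

theorem map_maximalIdeal : (IsLocalRing.maximalIdeal R).map (placeEquiv k R K) = (place k R K).m := by
  apply le_antisymm
  · rw [Ideal.map_le_iff_le_comap]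
    intro r hr
    exact (inM_place_iff k R K r).2 hr
  · intro o ho
    obtain ⟨r, rfl⟩ := (placeEquiv k R K).surjective o
    exact Ideal.mem_map_of_mem _ ((inM_place_iff k R K r).1 ho)

/-- The residue field. -/
noncomputable def quotPlaceEquiv :
    (R ⧸ IsLocalRing.maximalIdeal R) ≃ₐ[k] ((place k R K).O ⧸ (place k R K).m) :=
  Ideal.quotientEquivAlg _ _ (placeEquiv k R K) (map_maximalIdeal k R K).symm

end Place

section Diag

variable {k R : Type*} [CommRing k] [CommRing R] [Algebra k R]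

theorem exists_diag [Algebra.EssFiniteType k R] (t : R)
    (ht : ∀ ω : Ω[R⁄k], ∃ a : R, a • KaehlerDifferential.D k R t = ω) :
    ∃ a : R ⊗[k] R, Algebra.TensorProduct.lmul' k a = 1 ∧ ∀ f : R, ∃ p : R ⊗[k] R,
      (t ⊗ₜ 1 - 1 ⊗ₜ t) * p = a * (f ⊗ₜ 1 - 1 ⊗ₜ f) := by
  let I : Ideal (R ⊗[k] R) := KaehlerDifferential.ideal k R
  have hI : ∀ f : R, (1 ⊗ₜ f - f ⊗ₜ 1 : R ⊗[k] R) ∈ I :=
    KaehlerDifferential.one_smul_sub_smul_one_mem_ideal k
  let τ : R ⊗[k] R := 1 ⊗ₜ t - t ⊗ₜ 1
  have hle : I ≤ Ideal.span {τ} ⊔ I • I := by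
    intro x hx
    obtain ⟨a, ha⟩ := ht (I.toCotangent ⟨x, hx⟩)
    have h1 : (a • KaehlerDifferential.D k R t : Ω[R⁄k]) =
        KaehlerDifferential.fromIdeal k R ((a ⊗ₜ[k] (1 : R)) • ⟨τ, hI t⟩) := by
      rw [map_smul, ← algebraMap_smul (R ⊗[k] R) a]
      rfl
    have ha : KaehlerDifferential.fromIdeal k R ⟨x, hx⟩ =
      KaehlerDifferential.fromIdeal k R ((a ⊗ₜ[k] (1 : R)) • ⟨τ, hI t⟩) := ha.symm.trans h1
    have ha := I.toCotangent_eq.1 ha
    have h2 : x = (a ⊗ₜ[k] (1 : R)) * τ + (x - (a ⊗ₜ[k] (1 : R)) * τ) := by ring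
    rw [h2]
    refine Submodule.add_mem_sup (Ideal.mul_mem_left _ _ (Ideal.mem_span_singleton_self τ)) ?_
    rw [smul_eq_mul, ← pow_two]
    exact ha
  obtain ⟨r, hr1, hr⟩ := Submodule.exists_sub_one_mem_and_smul_le_of_fg_of_le_sup
    (KaehlerDifferential.ideal_fg k R) le_rfl hle
  refine ⟨r, ?_, fun f => ?_⟩
  · have h : Algebra.TensorProduct.lmul' k (r - 1) = 0 := hr1
    rwa [map_sub, map_one, sub_eq_zero] at h
  · have h : r • (1 ⊗ₜ f - f ⊗ₜ 1 : R ⊗[k] R) ∈ Ideal.span {τ} :=
      hr (Submodule.smul_mem_pointwise_smul _ _ _ (hI f))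
    obtain ⟨q, hq⟩ := Ideal.mem_span_singleton'.mp h
    refine ⟨q, ?_⟩
    rw [smul_eq_mul] at hq
    have h3 : (f ⊗ₜ 1 - 1 ⊗ₜ f : R ⊗[k] R) = - (1 ⊗ₜ f - f ⊗ₜ 1) := by abel
    have h4 : (t ⊗ₜ 1 - 1 ⊗ₜ t : R ⊗[k] R) = - τ := by simp only [τ]; abel
    rw [h3, h4, mul_neg, ← hq]
    ring

/-- In a local ring with cyclic differentials, some `dt` is a generator. -/
theorem exists_D_generator [IsLocalRing R] [Module.Finite R Ω[R⁄k]]
    (h : ∃ ω₀ : Ω[R⁄k], ∀ ω : Ω[R⁄k], ∃ a : R, a • ω₀ = ω) :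
    ∃ t : R, ∀ ω : Ω[R⁄k], ∃ a : R, a • KaehlerDifferential.D k R t = ω := by
  obtain ⟨ω₀, h⟩ := h
  by_cases hu : ∃ t c : R, IsUnit c ∧ c • ω₀ = KaehlerDifferential.D k R t
  · obtain ⟨t, c, hc, ht⟩ := hu
    refine ⟨t, fun ω => ?_⟩
    obtain ⟨a, rfl⟩ := h ω
    obtain ⟨u, rfl⟩ := hc
    refine ⟨a * ↑u⁻¹, ?_⟩
    rw [← ht, smul_smul, mul_assoc, u.inv_mul, mul_one]
  · push Not at hu
    have htop : (⊤ : Submodule R Ω[R⁄k]) ≤ IsLocalRing.maximalIdeal R • ⊤ := by
      rw [← KaehlerDifferential.span_range_derivation, Submodule.span_le]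
      rintro _ ⟨t, rfl⟩
      obtain ⟨c, hc⟩ := h (KaehlerDifferential.D k R t)
      rw [← hc]
      refine Submodule.smul_mem_smul ?_ (by rw [KaehlerDifferential.span_range_derivation]; trivial)
      rw [IsLocalRing.mem_maximalIdeal, mem_nonunits_iff]
      exact fun hcu => hu t c hcu hc
    have hbot : (⊤ : Submodule R Ω[R⁄k]) = ⊥ :=
      Submodule.eq_bot_of_le_smul_of_le_jacobson_bot _ _ Module.Finite.fg_top htop
        (IsLocalRing.maximalIdeal_le_jacobson ⊥)
    refine ⟨0, fun ω => ⟨0, ?_⟩⟩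
    have h1 : ω ∈ (⊥ : Submodule R Ω[R⁄k]) := hbot ▸ Submodule.mem_top
    rw [(Submodule.mem_bot R).1 h1, zero_smul]

end Diag

section Transc

variable {k K : Type*} [Field k] [Field K] [Algebra k K]

/-- If `dt` generates the differentials then `t` is transcendental. -/
theorem transcendental_of_generator [Algebra.EssFiniteType k K] (hK : ¬ Algebra.IsAlgebraic k K) (t : K)
    (ht : ∀ ω : Ω[K⁄k], ∃ a : K, a • KaehlerDifferential.D k K t = ω) : Transcendental k t := by
  intro halg
  apply hK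
  let F := IntermediateField.adjoin k {t}
  have hF : Algebra.IsAlgebraic k F := by
    have : FiniteDimensional k F := IntermediateField.adjoin.finiteDimensional halg.isIntegral
    infer_instance
  have hsub : Subsingleton Ω[K⁄F] := by
    have hz : ∀ ω : Ω[K⁄k], KaehlerDifferential.map k F K K ω = 0 := by
      intro ω
      obtain ⟨a, rfl⟩ := ht ω
      rw [map_smul, KaehlerDifferential.map_D]
      have : KaehlerDifferential.D F K (algebraMap K K t) =
          KaehlerDifferential.D F K (algebraMap F K ⟨t, IntermediateField.mem_adjoin_simple_self k t⟩) := rfl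
      rw [this, Derivation.map_algebraMap, smul_zero]
    refine subsingleton_of_forall_eq 0 fun ω => ?_
    obtain ⟨ω', rfl⟩ := KaehlerDifferential.map_surjective k F K ω
    exact hz ω'
  have hess : Algebra.EssFiniteType F K := Algebra.EssFiniteType.of_comp k F K
  have hunr : Algebra.FormallyUnramified F K := ⟨hsub⟩
  have hfin : Module.Finite F K := Algebra.FormallyUnramified.finite_of_free F K
  exact Algebra.IsAlgebraic.trans k F K

/-- The differentials of a localization are generated by the image of a generator. -/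
theorem generator_of_isFractionRing {R : Type*} [CommRing R] [IsDomain R] [Algebra k R] [Algebra R K]
    [IsScalarTower k R K] [IsFractionRing R K] {t : R}
    (ht : ∀ ω : Ω[R⁄k], ∃ a : R, a • KaehlerDifferential.D k R t = ω) (ω : Ω[K⁄k]) :
    ∃ a : K, a • KaehlerDifferential.D k K (algebraMap R K t) = ω := by
  have : IsLocalizedModule (nonZeroDivisors R) (KaehlerDifferential.map k k R K) :=
    KaehlerDifferential.isLocalizedModule_map _ _ _ (nonZeroDivisors R)
  obtain ⟨⟨ω', s⟩, hs⟩ := IsLocalizedModule.surj (nonZeroDivisors R) (KaehlerDifferential.map k k R K) ω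
  obtain ⟨a, rfl⟩ := ht ω'
  have hs0 : algebraMap R K s ≠ 0 := by
    rw [Ne, IsFractionRing.to_map_eq_zero_iff (K := K)]
    exact nonZeroDivisors.ne_zero s.2
  refine ⟨(algebraMap R K s)⁻¹ * algebraMap R K a, ?_⟩
  dsimp only at hs
  rw [map_smul, KaehlerDifferential.map_D] at hs
  rw [mul_smul, algebraMap_smul, ← hs, Submonoid.smul_def, ← algebraMap_smul K (s : R) ω, smul_smul,
    inv_mul_cancel₀ hs0, one_smul]

end Transc

section LocalData

variable (k : Type u) (R : Type w) (K : Type v) [Field k] [CommRing R] [IsDomain R]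
  [IsDiscreteValuationRing R] [Field K] [Algebra k R] [Algebra k K] [Algebra R K]
  [IsScalarTower k R K] [IsFractionRing R K]

theorem exists_localData [Algebra.EssFiniteType k R] [Algebra.EssFiniteType k K]
    (hK : ¬ Algebra.IsAlgebraic k K) (h : ∃ ω₀ : Ω[R⁄k], ∀ ω : Ω[R⁄k], ∃ a : R, a • ω₀ = ω) :
    Nonempty (LocalData (place k R K)) := by
  obtain ⟨t, ht⟩ := exists_D_generator h
  obtain ⟨a, ha, hδ⟩ := exists_diag t ht
  let e := placeEquiv k R K
  let E : R ⊗[k] R →ₐ[k] (place k R K).O ⊗[k] (place k R K).O :=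
    Algebra.TensorProduct.map e.toAlgHom e.toAlgHom
  have hE : ∀ x y : R, E (x ⊗ₜ y) = e x ⊗ₜ e y := fun x y => Algebra.TensorProduct.map_tmul _ _ _ _
  have hEδ : ∀ f : R, E (f ⊗ₜ 1 - 1 ⊗ₜ f) = e f ⊗ₜ 1 - 1 ⊗ₜ e f := fun f => by
    rw [map_sub, hE, hE, map_one]
  refine ⟨⟨e t, ?_, E a, ?_, fun f => ?_⟩⟩
  · exact transcendental_of_generator hK _ (generator_of_isFractionRing ht)
  · have h1 : (Algebra.TensorProduct.lmul' k).comp E =
        e.toAlgHom.comp (Algebra.TensorProduct.lmul' k : R ⊗[k] R →ₐ[k] R) := by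
      ext x <;> simp [E]
    have h2 := congrArg (fun φ : R ⊗[k] R →ₐ[k] (place k R K).O => φ a) h1
    simp only [AlgHom.comp_apply] at h2
    rw [h2, ha]
    exact map_one e
  · obtain ⟨f, rfl⟩ := e.surjective f
    obtain ⟨p, hp⟩ := hδ f
    refine ⟨E p, ?_⟩
    rw [← hEδ, ← hEδ, ← map_mul, hp, map_mul]

end LocalData

section Fam

open WeilFam

variable {k : Type u} {K : Type v} [Field k] [Field K] [Algebra k K] {P : Type x} {Pl : P → Place k K}

theorem J_one_eq (hP : Good Pl) :
    J hP (Lat.one Pl) = Fam (fun x => Subalgebra.toSubmodule (Pl x).O) hP.fin_char := by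
  ext l
  constructor
  · rintro ⟨h1, h2⟩
    refine ⟨fun x f hf => ?_, h2⟩
    have := h1 x f hf
    rwa [show (Lat.one Pl).g x = 1 from rfl, one_mul] at this
  · rintro ⟨h1, h2⟩
    refine ⟨fun x o ho => ?_, h2⟩
    rw [show (Lat.one Pl).g x = 1 from rfl, one_mul]
    exact h1 x o ho

/-- Transport of `Fam` along a linear equivalence. -/
theorem nonempty_fam_equiv {V W : Type*} [AddCommGroup V] [Module k V] [AddCommGroup W] [Module k W]
    {P : Type*} (e : V ≃ₗ[k] W) {L : P → Submodule k V} {L' : P → Submodule k W}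
    (hL : ∀ y, (L y).map e.toLinearMap = L' y) (h : ∀ f, {y | f ∉ L y}.Finite)
    (h' : ∀ f, {y | f ∉ L' y}.Finite) : Nonempty (Fam L h ≃ₗ[k] Fam L' h') := by
  have hmem : ∀ y v, v ∈ L y ↔ e v ∈ L' y := by
    intro y v
    rw [← hL y]
    constructor
    · intro hv; exact ⟨v, hv, rfl⟩
    · rintro ⟨v', hv', he⟩; rwa [← e.injective he]
  refine ⟨LinearEquiv.ofLinearMap
    (LinearMap.codRestrict _ ((LinearMap.pi fun y =>
      (LinearMap.lcomp k k e.symm.toLinearMap) ∘ₗ LinearMap.proj y) ∘ₗ (Fam L h).subtype) ?_)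
    (LinearMap.codRestrict _ ((LinearMap.pi fun y =>
      (LinearMap.lcomp k k e.toLinearMap) ∘ₗ LinearMap.proj y) ∘ₗ (Fam L' h').subtype) ?_) ?_ ?_⟩
  · rintro ⟨l, h1, h2⟩
    refine ⟨fun y f hf => ?_, fun f => ?_⟩
    · refine h1 y _ ((hmem y _).2 ?_)
      change e (e.symm f) ∈ L' y
      rw [e.apply_symm_apply]; exact hf
    · exact h2 (e.symm f)
  · rintro ⟨l, h1, h2⟩
    refine ⟨fun y f hf => ?_, fun f => ?_⟩
    · exact h1 y _ ((hmem y _).1 hf)
    · exact h2 (e f)
  · ext l y f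
    change l.1 y (e (e.symm f)) = l.1 y f
    rw [e.apply_symm_apply]
  · ext l y f
    change l.1 y (e.symm (e f)) = l.1 y f
    rw [e.symm_apply_apply]

end Fam

end Groth.Agent.CurvesB.WeilModelAlg
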