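import Groth.Agent.CurvesB.WeilChi
import Groth.Agent.CurvesB.RelMul

/-!
# Finiteness of relative dimension of nested lattices
-/

open TensorProduct

namespace Groth.Agent.CurvesB.Weil

universe u v w x

open ChiLin

variable {k : Type u} {K : Type v} [Field k] [Field K] [Algebra k K] {P : Type x}
variable {Pl : P → Place k K}

lemma relFin_of_pi {E : Type*} [AddCommGroup E] [Module k E] {ι : Type*} [Finite ι]
    {N : ι → Type*} [∀ i, AddCommGroup (N i)] [∀ i, Module k (N i)] {U U' : Submodule k E}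
    (φ : ∀ i, U' →ₗ[k] N i) (hN : ∀ i, FiniteDimensional k (N i))
    (h : ∀ f : U', (∀ i, φ i f = 0) → (f : E) ∈ U) : RelFin U U' :=
  relFin_of_ker (LinearMap.pi φ) fun f hf => h f fun i => congrFun hf i

/-- The local lattice. -/
def Place.sc (v : Place k K) (g : K) : Submodule k K where
  carrier := {z | g⁻¹ * z ∈ v.O}
  add_mem' := fun {a b} ha hb => by
    change g⁻¹ * (a + b) ∈ v.O
    rw [mul_add]; exact v.O.add_mem ha hb
  zero_mem' := by
    change g⁻¹ * 0 ∈ v.O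
    rw [mul_zero]; exact v.O.zero_mem
  smul_mem' := fun c z hz => by
    change g⁻¹ * (c • z) ∈ v.O
    rw [mul_smul_comm]; exact v.O.smul_mem hz c

lemma Place.mem_sc {v : Place k K} {g z : K} : z ∈ v.sc g ↔ g⁻¹ * z ∈ v.O := Iff.rfl

lemma Lat.Λ_eq (L : Lat Pl) (x : P) : L.Λ x = (Pl x).sc (L.g x) := rfl

variable (v : Place k K)

lemma relFin_sc_pi (hv : Module.Finite k (v.O ⧸ v.m)) {g : K} (hg : g ≠ 0) :
    RelFin (v.sc (g * v.π)) (v.sc g) := by
  let φ : v.O →ₗ[k] (v.sc g ⧸ (v.sc (g * v.π)).submoduleOf (v.sc g)) :=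
    ((v.sc (g * v.π)).submoduleOf (v.sc g)).mkQ ∘ₗ
      { toFun := fun o => ⟨g * o, by rw [Place.mem_sc, inv_mul_cancel_left₀ hg]; exact o.2⟩
        map_add' := fun a b => Subtype.ext (mul_add _ _ _)
        map_smul' := fun a b => Subtype.ext (mul_smul_comm _ _ _) }
  have hφ : Function.Surjective φ := by
    intro q
    obtain ⟨⟨z, hz⟩, rfl⟩ := Submodule.Quotient.mk_surjective _ q
    refine ⟨⟨g⁻¹ * z, hz⟩, ?_⟩
    change Submodule.Quotient.mk _ = _
    congr 1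
    exact Subtype.ext (mul_inv_cancel_left₀ hg z)
  have hker : v.m.restrictScalars k ≤ LinearMap.ker φ := by
    intro o ho
    have ho' : v.InM (o : K) := ho
    rw [LinearMap.mem_ker]
    change Submodule.Quotient.mk _ = 0
    rw [Submodule.Quotient.mk_eq_zero]
    change g * (o : K) ∈ v.sc (g * v.π)
    rw [Place.mem_sc, mul_inv, mul_comm g⁻¹, mul_assoc, inv_mul_cancel_left₀ hg]
    exact ho'
  have h2 : Module.Finite k (v.O ⧸ v.m.restrictScalars k) := hv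
  refine relFin_of_surj ((v.m.restrictScalars k).liftQ φ hker) fun q => ?_
  obtain ⟨o, rfl⟩ := hφ q
  exact ⟨Submodule.Quotient.mk o, rfl⟩

lemma relFin_sc_pow (hv : Module.Finite k (v.O ⧸ v.m)) {g : K} (hg : g ≠ 0) (n : ℕ) :
    RelFin (v.sc (g * v.π ^ n)) (v.sc g) := by
  induction n with
  | zero =>
    rw [pow_zero, mul_one]
    unfold RelFin
    have : (v.sc g).submoduleOf (v.sc g) = ⊤ := by
      rw [eq_top_iff]; intro f _; exact f.2
    rw [this]
    infer_instance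
  | succ n ih =>
    have h1 : v.sc (g * v.π ^ n) ≤ v.sc g := by
      intro z hz
      rw [Place.mem_sc] at hz ⊢
      have : g⁻¹ * z = v.π ^ n * ((g * v.π ^ n)⁻¹ * z) := by
        have := v.π_ne
        field_simp
      rw [this]; exact v.O.mul_mem (v.O.pow_mem v.π_mem n) hz
    refine relFin_trans h1 ?_ ih
    have := relFin_sc_pi v hv (mul_ne_zero hg (pow_ne_zero n v.π_ne))
    rwa [mul_assoc, ← pow_succ] at this

lemma relFin_sc (hv : Module.Finite k (v.O ⧸ v.m)) {g g' : K} (hg : g ≠ 0) (hg' : g' ≠ 0)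
    (hle : v.sc g' ≤ v.sc g) : RelFin (v.sc g') (v.sc g) := by
  obtain ⟨n, a, ha, hai, hz⟩ := v.exists_pow (g⁻¹ * g') (mul_ne_zero (inv_ne_zero hg) hg')
  have ha0 : a ≠ 0 := by
    rintro rfl
    rw [mul_zero] at hz
    exact mul_ne_zero (inv_ne_zero hg) hg' hz
  have h1 : v.sc (g * v.π ^ n.toNat) ≤ v.sc g' := by
    intro z hz'
    rw [Place.mem_sc] at hz' ⊢
    have h2 : g' = g * (v.π ^ n * a) := by rw [← hz, mul_inv_cancel_left₀ hg]
    have h3 : v.π ^ ((n.toNat : ℤ) - n) ∈ v.O := v.zpow_mem (by have := Int.self_le_toNat n; omega)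
    have : g'⁻¹ * z = v.π ^ ((n.toNat : ℤ) - n) * a⁻¹ * ((g * v.π ^ n.toNat)⁻¹ * z) := by
      rw [h2, zpow_sub₀ v.π_ne, zpow_natCast]
      have := v.π_ne
      field_simp
    rw [this]
    exact v.O.mul_mem (v.O.mul_mem h3 hai) hz'
  exact (rel_add h1 hle (relFin_sc_pow v hv hg _)).1

theorem relFin_lat (hres : ∀ x, Module.Finite k ((Pl x).O ⧸ (Pl x).m)) {L₁ L₂ : Lat Pl}
    (hle : ∀ x, L₁.Λ x ≤ L₂.Λ x) : RelFin (AL Pl L₁.Λ) (AL Pl L₂.Λ) := by
  classical
  have hS := L₁.fin.union L₂.fin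
  set S := hS.toFinset with hSdef
  have hloc : ∀ x, RelFin (L₁.Λ x) (L₂.Λ x) := fun x =>
    relFin_sc (Pl x) (hres x) (L₂.ne x) (L₁.ne x) (hle x)
  have hnot : ∀ x ∉ S, L₂.Λ x ≤ L₁.Λ x := by
    intro x hx
    rw [hSdef, Set.Finite.mem_toFinset] at hx
    simp only [Set.mem_union, Set.mem_ofPred_eq, not_or, not_not] at hx
    intro z hz
    rw [Lat.mem_Λ] at hz ⊢
    have : (L₁.g x)⁻¹ * z = (L₁.g x)⁻¹ * (L₂.g x * ((L₂.g x)⁻¹ * z)) := by
      rw [mul_inv_cancel_left₀ (L₂.ne x)]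
    rw [this]
    exact (Pl x).O.mul_mem hx.1.2 ((Pl x).O.mul_mem hx.2.1 hz)
  have hfin : ∀ x : S, FiniteDimensional k (L₂.Λ x ⧸ (L₁.Λ x).submoduleOf (L₂.Λ x)) :=
    fun x => hloc x
  refine relFin_of_pi (fun x : S => ((L₁.Λ x).submoduleOf (L₂.Λ x)).mkQ ∘ₗ
      { toFun := fun f => ⟨f.1.1 x, f.2 x⟩
        map_add' := fun _ _ => rfl
        map_smul' := fun _ _ => rfl }) hfin fun f hf x => ?_
  by_cases hx : x ∈ S
  · exact (Submodule.Quotient.mk_eq_zero ((L₁.Λ x).submoduleOf (L₂.Λ x))).1 (hf ⟨x, hx⟩)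
  · exact hnot x hx (f.2 x)

end Groth.Agent.CurvesB.Weil
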