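import Groth.Agent.CurvesB.WeilBiDer

/-!
# The global pairing between Weil differentials and bi-derivations (pure algebra)
-/

open TensorProduct

namespace Groth.Agent.CurvesB.Weil

universe u v w x

variable {k : Type u} {K : Type v} [Field k] [Field K] [Algebra k K] {P : Type x}

/-- Weil differentials (all poles allowed) for a family of places. -/
structure WDiff (Pl : P → Place k K) where
  val : P → (K →ₗ[k] k)
  fin : {y | ¬ ∀ o ∈ (Pl y).O, val y o = 0}.Finite
  bdd : ∀ y, (Pl y).Bdd (val y)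
  sum : ∀ f : K, ∑ᶠ y, val y f = 0

/-- The hypotheses on the family of places. -/
structure Good (Pl : P → Place k K) : Prop where
  fin_char : ∀ f : K, {y | f ∉ (Pl y).O}.Finite
  sep : ∀ x y, x ≠ y → ∃ f ∈ (Pl x).O, f ∉ (Pl y).O
  fg : (⊤ : IntermediateField k K).FG

variable {Pl : P → Place k K}

lemma finite_val (hP : Good Pl) (l : WDiff Pl) (f : K) : {y | l.val y f ≠ 0}.Finite := by
  refine ((l.fin).union (hP.fin_char f)).subset fun y hy => ?_
  by_contra h
  simp only [Set.mem_union, Set.mem_ofPred_eq, not_or, not_not] at h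
  exact hy (h.1 f h.2)

lemma finite_extL (hP : Good Pl) (l : WDiff Pl) (C : Type w) [CommRing C] [Algebra k C]
    (g : K ⊗[k] C) : {y | extL C (l.val y) g ≠ 0}.Finite := by
  induction g with
  | zero => simp
  | tmul a c =>
    refine (finite_val hP l a).subset fun y hy => ?_
    simp only [Set.mem_ofPred_eq, extL_tmul] at hy ⊢
    intro h; exact hy (by rw [h, zero_smul])
  | add a b ha hb =>
    refine (ha.union hb).subset fun y hy => ?_
    by_contra h
    simp only [Set.mem_union, Set.mem_ofPred_eq, not_or, not_not] at h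
    exact hy (by simp only [map_add, h.1, h.2, add_zero])

lemma finsum_extL (hP : Good Pl) (l : WDiff Pl) (C : Type w) [CommRing C] [Algebra k C]
    (g : K ⊗[k] C) : ∑ᶠ y, extL C (l.val y) g = 0 := by
  induction g with
  | zero => simp
  | tmul a c =>
    simp only [extL_tmul]
    rw [← finsum_smul' (finite_val hP l a), l.sum, zero_smul]
  | add a b ha hb =>
    simp only [map_add]
    rw [finsum_add_distrib (finite_extL hP l C a) (finite_extL hP l C b), ha, hb, add_zero]

/-- Rep by zero at places where everything is regular. -/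
lemma rep_zero {v : Place k K} {l : K →ₗ[k] k} (hl : ∀ o ∈ v.O, l o = 0) {G : BiDer k K} {h : K}
    (hh0 : h ≠ 0) (hh : v.InM h) (hG : G.Γ h ∈ W K (Subalgebra.toSubmodule v.O)) :
    Rep v l G 0 := by
  have hle : Subalgebra.toSubmodule v.O ≤ v.Lmax l := fun z hz o ho => hl _ (v.O.mul_mem ho hz)
  have hb : v.Bdd l := ⟨1, one_ne_zero, fun o ho => by rw [one_mul]; exact hl o ho⟩
  refine rep_of_one hb (f₀ := h⁻¹) (inv_ne_zero hh0) (by rwa [inv_inv]) ?_
  rw [zero_mul, sub_zero, inv_inv, G.inv_formula hh0]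
  refine neg_mem ?_
  exact mul_mem_W (L := Subalgebra.toSubmodule v.O) (o := 1)
    (fun z hz => by rw [one_mul]; exact hle hz) _ hG

/-- For almost all places a bi-derivation is regular. -/
lemma finite_not_regular (hP : Good Pl) (G : BiDer k K) :
    {y | ¬ ∃ h : K, h ≠ 0 ∧ (Pl y).InM h ∧ G.Γ h ∈ W K (Subalgebra.toSubmodule (Pl y).O)}.Finite := by
  classical
  obtain ⟨s, hs⟩ := hP.fg
  -- for each generator, almost all places are fine
  have h1 : ∀ z : K ⊗[k] K, {y | z ∉ W K (Subalgebra.toSubmodule (Pl y).O)}.Finite := by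
    intro z
    induction z with
    | zero => simp [zero_mem]
    | tmul a c =>
      refine (hP.fin_char a).subset fun y hy => ?_
      by_contra h
      simp only [Set.mem_ofPred_eq, not_not] at h
      exact hy (tmul_mem_W (L := Subalgebra.toSubmodule (Pl y).O) h c)
    | add a b ha hb =>
      refine (ha.union hb).subset fun y hy => ?_
      by_contra h
      simp only [Set.mem_union, Set.mem_ofPred_eq, not_or, not_not] at h
      exact hy (add_mem h.1 h.2)
  have h2 : (⋃ b ∈ s, ({y | b ∉ (Pl y).O} ∪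
      {y | G.Γ b ∉ W K (Subalgebra.toSubmodule (Pl y).O)})).Finite :=
    s.finite_toSet.biUnion fun b _ => (hP.fin_char b).union (h1 _)
  refine h2.subset fun y hy => ?_
  by_contra hcon
  apply hy
  simp only [Set.mem_iUnion, Set.mem_union, Set.mem_ofPred_eq, not_exists, not_or, not_not] at hcon
  -- the subalgebra of elements regular with regular Γ
  let B : Subalgebra k K :=
    { carrier := {f | f ∈ (Pl y).O ∧ G.Γ f ∈ W K (Subalgebra.toSubmodule (Pl y).O)}
      mul_mem' := fun {a b} ha hb => ⟨(Pl y).O.mul_mem ha.1 hb.1, by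
        rw [G.leib]
        refine add_mem ?_ ?_
        · exact mul_mem_W (fun z hz => (Pl y).O.mul_mem ha.1 hz) _ hb.2
        · exact mul_mem_W (fun z hz => by rwa [one_mul]) _ ha.2⟩
      one_mem' := ⟨(Pl y).O.one_mem, by rw [G.map_one]; exact zero_mem _⟩
      add_mem' := fun {a b} ha hb => ⟨(Pl y).O.add_mem ha.1 hb.1, by
        rw [map_add]; exact add_mem ha.2 hb.2⟩
      zero_mem' := ⟨(Pl y).O.zero_mem, by rw [map_zero]; exact zero_mem _⟩
      algebraMap_mem' := fun c => ⟨(Pl y).O.algebraMap_mem c, by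
        rw [Algebra.algebraMap_eq_smul_one, map_smul, G.map_one, smul_zero]; exact zero_mem _⟩ }
  have hB : Algebra.adjoin k (s : Set K) ≤ B := Algebra.adjoin_le fun b hb => hcon b hb
  have hπ : (Pl y).π ∈ IntermediateField.adjoin k (s : Set K) := by
    rw [hs]; exact IntermediateField.mem_top
  rw [IntermediateField.mem_adjoin_iff_div] at hπ
  obtain ⟨r, hr, q, hq, hrq⟩ := hπ
  have hr' := hB hr
  have hq' := hB hq
  have hq0 : q ≠ 0 := by
    rintro rfl
    rw [div_zero] at hrq
    exact (Pl y).π_ne hrq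
  have hr0 : r ≠ 0 := by
    rintro rfl
    rw [zero_div] at hrq
    exact (Pl y).π_ne hrq
  -- r = π q
  have hrM : (Pl y).InM r := by
    have : r = (Pl y).π * q := by rw [hrq, div_mul_cancel₀ _ hq0]
    rw [this]
    exact (Pl y).inM_mul (Pl y).inM_π hq'.1
  exact ⟨r, hr0, hrM, hr'.2⟩

lemma finite_eps (hP : Good Pl) (l : WDiff Pl) (G : BiDer k K) :
    {y | eps (Pl y) (l.val y) G ≠ 0}.Finite := by
  refine (l.fin.union (finite_not_regular hP G)).subset fun y hy => ?_
  by_contra h
  simp only [Set.mem_union, Set.mem_ofPred_eq, not_or, not_not] at h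
  obtain ⟨h1, g, hg0, hgM, hg⟩ := h
  apply hy
  rw [eps_eq (l.bdd y) (rep_zero h1 hg0 hgM hg), map_zero]

/-- The pairing of a Weil differential with a bi-derivation. -/
noncomputable def pair (l : WDiff Pl) (G : BiDer k K) : K := - ∑ᶠ y, eps (Pl y) (l.val y) G

lemma pair_inner (hP : Good Pl) (l : WDiff Pl) (g : K ⊗[k] K) :
    pair l (BiDer.inner g) = 0 := by
  rw [pair, neg_eq_zero]
  rw [finsum_congr fun y => eps_eq (l.bdd y) (rep_inner (v := Pl y) (l.val y) g)]
  exact finsum_extL hP l K g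

lemma pair_add (hP : Good Pl) (l : WDiff Pl) (G G' : BiDer k K) :
    pair l (G.add G') = pair l G + pair l G' := by
  rw [pair, pair, pair, ← neg_add, ← finsum_add_distrib (finite_eps hP l G) (finite_eps hP l G')]
  congr 1
  refine finsum_congr fun y => ?_
  obtain ⟨g, hg⟩ := exists_rep (l.bdd y) G
  obtain ⟨g', hg'⟩ := exists_rep (l.bdd y) G'
  rw [eps_eq (l.bdd y) hg, eps_eq (l.bdd y) hg', eps_eq (l.bdd y) (hg.add hg'), map_add]

lemma pair_smul_right (hP : Good Pl) (l : WDiff Pl) (G : BiDer k K) (c : K) :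
    pair l (G.smul (1 ⊗ₜ c)) = c * pair l G := by
  rw [pair, pair, mul_neg, mul_finsum' _ _ (finite_eps hP l G)]
  congr 1
  refine finsum_congr fun y => ?_
  obtain ⟨g, hg⟩ := exists_rep (l.bdd y) G
  rw [eps_eq (l.bdd y) hg, eps_eq (l.bdd y) (hg.smul_right c), extL_mul_right]

/-- Scaling a Weil differential. -/
@[simps]
noncomputable def WDiff.smul (hP : Good Pl) (a : K) (l : WDiff Pl) : WDiff Pl where
  val y := l.val y ∘ₗ LinearMap.mulLeft k a
  fin := by
    refine (l.fin.union (hP.fin_char a)).subset fun y hy => ?_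
    by_contra h
    simp only [Set.mem_union, Set.mem_ofPred_eq, not_or, not_not] at h
    apply hy
    intro o ho
    simp only [LinearMap.comp_apply, LinearMap.mulLeft_apply]
    exact h.1 _ ((Pl y).O.mul_mem h.2 ho)
  bdd y := by
    by_cases ha : a = 0
    · exact ⟨1, one_ne_zero, fun o _ => by simp [ha]⟩
    obtain ⟨w, hw, hl⟩ := l.bdd y
    refine ⟨a⁻¹ * w, mul_ne_zero (inv_ne_zero ha) hw, fun o ho => ?_⟩
    simp only [LinearMap.comp_apply, LinearMap.mulLeft_apply]
    rw [mul_assoc, mul_inv_cancel_left₀ ha]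
    exact hl o ho
  sum f := by
    simp only [LinearMap.comp_apply, LinearMap.mulLeft_apply]
    exact l.sum _

/-- Adding Weil differentials. -/
@[simps]
noncomputable def WDiff.add (hP : Good Pl) (l l' : WDiff Pl) : WDiff Pl where
  val y := l.val y + l'.val y
  fin := by
    refine (l.fin.union l'.fin).subset fun y hy => ?_
    by_contra h
    simp only [Set.mem_union, Set.mem_ofPred_eq, not_or, not_not] at h
    apply hy
    intro o ho
    rw [LinearMap.add_apply, h.1 o ho, h.2 o ho, add_zero]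
  bdd y := by
    obtain ⟨w, hw, hl⟩ := l.bdd y
    obtain ⟨w', hw', hl'⟩ := l'.bdd y
    -- the smaller of the two lattices
    rcases (Pl y).mem_or_inv (mul_ne_zero (inv_ne_zero hw) hw') with h | h
    · refine ⟨w', hw', fun o ho => ?_⟩
      rw [LinearMap.add_apply, hl' o ho, add_zero]
      have : w' * o = w * ((w⁻¹ * w') * o) := by
        rw [← mul_assoc, mul_inv_cancel_left₀ hw]
      rw [this]
      exact hl _ ((Pl y).O.mul_mem h ho)
    · refine ⟨w, hw, fun o ho => ?_⟩
      rw [LinearMap.add_apply, hl o ho, zero_add]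
      have : w * o = w' * ((w⁻¹ * w')⁻¹ * o) := by
        field_simp
      rw [this]
      exact hl' _ ((Pl y).O.mul_mem h.mem ho)
  sum f := by
    simp only [LinearMap.add_apply]
    rw [finsum_add_distrib (finite_val hP l f) (finite_val hP l' f), l.sum, l'.sum, add_zero]

lemma pair_smul_left (hP : Good Pl) (l : WDiff Pl) (G : BiDer k K) (a : K) :
    pair (l.smul hP a) G = a * pair l G := by
  have e1 : pair (l.smul hP a) G = pair l (G.smul (a ⊗ₜ 1)) := by
    rw [pair, pair]
    congr 1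
    refine finsum_congr fun y => ?_
    obtain ⟨g, hg⟩ := exists_rep ((l.smul hP a).bdd y) G
    rw [eps_eq ((l.smul hP a).bdd y) hg, eps_eq (l.bdd y) (Rep.smul_left hg)]
    rw [extL_mul_left]
    rfl
  have e2 : G.smul (a ⊗ₜ 1) = (G.smul (1 ⊗ₜ a)).add (BiDer.inner (G.Γ a)) := by
    have : (G.smul (a ⊗ₜ 1)).Γ = ((G.smul (1 ⊗ₜ a)).add (BiDer.inner (G.Γ a))).Γ := by
      ext f
      rw [BiDer.add_apply, BiDer.smul_apply, BiDer.smul_apply, BiDer.inner_apply]
      have := G.comm a f
      rw [this]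
      simp only [dl]; ring
    cases h1 : G.smul (a ⊗ₜ 1)
    cases h2 : (G.smul (1 ⊗ₜ a)).add (BiDer.inner (G.Γ a))
    rw [h1, h2] at this
    simp only at this
    subst this
    rfl
  rw [e1, e2, pair_add hP, pair_inner hP, add_zero, pair_smul_right hP]

lemma pair_add_left (hP : Good Pl) (l l' : WDiff Pl) (G : BiDer k K) :
    pair (l.add hP l') G = pair l G + pair l' G := by
  rw [pair, pair, pair, ← neg_add, ← finsum_add_distrib (finite_eps hP l G) (finite_eps hP l' G)]
  congr 1
  refine finsum_congr fun y => ?_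
  -- common refinement: the functional pair, use a lattice killed by both
  obtain ⟨w, hw, hl⟩ := (l.add hP l').bdd y
  obtain ⟨g, hg⟩ := exists_rep (l.bdd y) G
  obtain ⟨g', hg'⟩ := exists_rep (l'.bdd y) G
  -- solve modulo the intersection lattice
  let L : Submodule k K := (Pl y).Lmax (l.val y) ⊓ (Pl y).Lmax (l'.val y)
  have habs : ∀ z : K, ∃ N : ℕ, ∀ n ≥ N, ((Pl y).π⁻¹)⁻¹ ^ n * z ∈ L := by
    intro z
    obtain ⟨N, hN⟩ := (Pl y).absorb (l.bdd y) (Pl y).inM_inv_π_inv z
    obtain ⟨M, hM⟩ := (Pl y).absorb (l'.bdd y) (Pl y).inM_inv_π_inv z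
    exact ⟨max N M, fun n hn => ⟨hN n (le_trans (le_max_left _ _) hn),
      hM n (le_trans (le_max_right _ _) hn)⟩⟩
  obtain ⟨g₀, hg₀⟩ := exists_solve habs (Pl y).π⁻¹ (((Pl y).π⁻¹)⁻¹ ⊗ₜ 1 * G.Γ (Pl y).π⁻¹)
  have hne : (Pl y).π⁻¹ ≠ 0 := inv_ne_zero (Pl y).π_ne
  have r1 : Rep (Pl y) (l.val y) G g₀ := rep_of_one (l.bdd y) hne (Pl y).inM_inv_π_inv
    (W_mono inf_le_left hg₀)
  have r2 : Rep (Pl y) (l'.val y) G g₀ := rep_of_one (l'.bdd y) hne (Pl y).inM_inv_π_inv
    (W_mono inf_le_right hg₀)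
  have r3 : Rep (Pl y) ((l.add hP l').val y) G g₀ := by
    have hle : L ≤ (Pl y).Lmax ((l.add hP l').val y) := fun z hz o ho => by
      rw [WDiff.add_val, LinearMap.add_apply, hz.1 o ho, hz.2 o ho, add_zero]
    exact rep_of_one ((l.add hP l').bdd y) hne (Pl y).inM_inv_π_inv (W_mono hle hg₀)
  rw [eps_eq (l.bdd y) r1, eps_eq (l'.bdd y) r2, eps_eq ((l.add hP l').bdd y) r3]
  exact extL_add K _ _ _

end Groth.Agent.CurvesB.Weil
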