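import Groth.Agent.CurvesB.WeilDual
import Groth.Agent.CurvesB.ChiLin
import Mathlib.LinearAlgebra.Dual.Lemmas

/-!
# Adeles and Riemann-Roch in pure function field language
-/

open TensorProduct

namespace Groth.Agent.CurvesB.Weil

universe u v w x

open ChiLin

variable {k : Type u} {K : Type v} [Field k] [Field K] [Algebra k K] {P : Type x}
variable (Pl : P → Place k K)

/-- The adeles. -/
def Adele : Submodule k (P → K) where
  carrier := {f | {x | f x ∉ (Pl x).O}.Finite}
  add_mem' := fun {a b} ha hb => (ha.union hb).subset fun x hx => by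
    by_contra h
    simp only [Set.mem_union, Set.mem_ofPred_eq, not_or, not_not] at h
    exact hx ((Pl x).O.add_mem h.1 h.2)
  zero_mem' := by
    refine Set.finite_empty.subset fun x hx => ?_
    exact hx (Pl x).O.zero_mem
  smul_mem' := fun c a ha => ha.subset fun x hx => by
    by_contra h
    simp only [Set.mem_ofPred_eq, not_not] at h
    exact hx ((Pl x).O.smul_mem h c)

variable {Pl}

/-- The diagonal embedding. -/
def diag (hP : Good Pl) : K →ₗ[k] Adele Pl where
  toFun f := ⟨fun _ => f, hP.fin_char f⟩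
  map_add' _ _ := rfl
  map_smul' _ _ := rfl

lemma diag_apply (hP : Good Pl) (f : K) (x : P) : (diag hP f).1 x = f := rfl

/-- The diagonal. -/
def Kd (hP : Good Pl) : Submodule k (Adele Pl) := LinearMap.range (diag hP)

variable (Pl)

/-- The adeles in a family of subspaces. -/
def AL (Λ : P → Submodule k K) : Submodule k (Adele Pl) where
  carrier := {f | ∀ x, f.1 x ∈ Λ x}
  add_mem' := fun ha hb x => add_mem (ha x) (hb x)
  zero_mem' := fun _ => zero_mem _
  smul_mem' := fun c _ ha x => Submodule.smul_mem _ c (ha x)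

variable {Pl}

lemma mem_AL {Λ : P → Submodule k K} {f : Adele Pl} : f ∈ AL Pl Λ ↔ ∀ x, f.1 x ∈ Λ x := Iff.rfl

/-- The local lattice. -/
def Lat.Λ (L : Lat Pl) (x : P) : Submodule k K where
  carrier := {z | (L.g x)⁻¹ * z ∈ (Pl x).O}
  add_mem' := fun {a b} ha hb => by
    change (L.g x)⁻¹ * (a + b) ∈ (Pl x).O
    rw [mul_add]; exact (Pl x).O.add_mem ha hb
  zero_mem' := by
    change (L.g x)⁻¹ * 0 ∈ (Pl x).O
    rw [mul_zero]; exact (Pl x).O.zero_mem
  smul_mem' := fun c z hz => by
    change (L.g x)⁻¹ * (c • z) ∈ (Pl x).O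
    rw [mul_smul_comm]; exact (Pl x).O.smul_mem hz c

lemma Lat.mem_Λ {L : Lat Pl} {x : P} {z : K} : z ∈ L.Λ x ↔ (L.g x)⁻¹ * z ∈ (Pl x).O := Iff.rfl

lemma Lat.mul_mem_Λ {L : Lat Pl} {x : P} {o : K} (ho : o ∈ (Pl x).O) : L.g x * o ∈ L.Λ x := by
  rw [Lat.mem_Λ, inv_mul_cancel_left₀ (L.ne x)]; exact ho

lemma Lat.exists_of_mem_Λ {L : Lat Pl} {x : P} {z : K} (hz : z ∈ L.Λ x) :
    ∃ o ∈ (Pl x).O, z = L.g x * o :=
  ⟨(L.g x)⁻¹ * z, hz, by rw [mul_inv_cancel_left₀ (L.ne x)]⟩

lemma Lat.finite_adele (L : Lat Pl) (f : Adele Pl) : {x | f.1 x ∉ L.Λ x}.Finite := by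
  refine (L.fin.union f.2).subset fun y hy => ?_
  by_contra h
  simp only [Set.mem_union, Set.mem_ofPred_eq, not_or, not_not] at h
  exact hy ((Pl y).O.mul_mem h.1.2 h.2)

/-- The trivial lattice. -/
def Lat.one (Pl : P → Place k K) : Lat Pl where
  g _ := 1
  ne _ := one_ne_zero
  fin := by
    refine Set.finite_empty.subset fun x hx => ?_
    apply hx
    rw [inv_one]
    exact ⟨(Pl x).O.one_mem, (Pl x).O.one_mem⟩

lemma Lat.mem_one {x : P} {z : K} : z ∈ (Lat.one Pl).Λ x ↔ z ∈ (Pl x).O := by
  rw [Lat.mem_Λ]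
  change (1 : K)⁻¹ * z ∈ _ ↔ _
  rw [inv_one, one_mul]

section JDual

variable (hP : Good Pl) (L : Lat Pl)

lemma J_apply_of_mem {l : J hP L} {x : P} {z : K} (hz : z ∈ L.Λ x) : l.1 x z = 0 := by
  obtain ⟨o, ho, rfl⟩ := Lat.exists_of_mem_Λ hz
  exact l.2.1 x o ho

lemma J_finite (l : J hP L) (f : Adele Pl) : (Function.support fun x => l.1 x (f.1 x)).Finite := by
  refine (L.finite_adele f).subset fun x hx => ?_
  intro h
  exact hx (J_apply_of_mem hP L h)

/-- The functional on adeles attached to a family. -/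
noncomputable def jFun (l : J hP L) : Adele Pl →ₗ[k] k where
  toFun f := ∑ᶠ x, l.1 x (f.1 x)
  map_add' f g := by
    have h1 := finsum_add_distrib (J_finite hP L l f) (J_finite hP L l g)
    rw [← h1]
    exact finsum_congr fun x => (l.1 x).map_add _ _
  map_smul' c f := by
    rw [RingHom.id_apply, smul_finsum]
    exact finsum_congr fun x => (l.1 x).map_smul _ _

lemma jFun_kills (l : J hP L) : Kd hP ⊔ AL Pl L.Λ ≤ LinearMap.ker (jFun hP L l) := by
  refine sup_le ?_ ?_
  · rintro _ ⟨f, rfl⟩
    exact l.2.2 f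
  · intro f hf
    change ∑ᶠ x, l.1 x (f.1 x) = 0
    rw [finsum_congr fun x => J_apply_of_mem hP L (hf x), finsum_zero]

open Classical in
/-- The adele with one component. -/
noncomputable def single (x : P) : K →ₗ[k] Adele Pl where
  toFun z := ⟨fun y => if y = x then z else 0, (Set.finite_singleton x).subset fun y hy => by
    by_contra h
    apply hy
    have h' : y ≠ x := h
    simp only [if_neg h']
    exact (Pl y).O.zero_mem⟩
  map_add' a b := by
    apply Subtype.ext
    funext y
    change (if y = x then a + b else 0) = (if y = x then a else 0) + (if y = x then b else 0)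
    split_ifs
    · rfl
    · rw [add_zero]
  map_smul' c a := by
    apply Subtype.ext
    funext y
    change (if y = x then c • a else 0) = c • (if y = x then a else 0)
    split_ifs
    · rfl
    · rw [smul_zero]

lemma single_same (x : P) (z : K) : (single (Pl := Pl) x z).1 x = z := by
  classical
  exact if_pos rfl

lemma single_ne {x y : P} (h : y ≠ x) (z : K) : (single (Pl := Pl) x z).1 y = 0 := by
  classical
  exact if_neg h

/-- `J` is the dual of `H¹`. -/
noncomputable def jDual : J hP L ≃ₗ[k] Module.Dual k (Adele Pl ⧸ (Kd hP ⊔ AL Pl L.Λ)) := by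
  let F : J hP L →ₗ[k] Module.Dual k (Adele Pl ⧸ (Kd hP ⊔ AL Pl L.Λ)) :=
    { toFun := fun l => (Kd hP ⊔ AL Pl L.Λ).liftQ (jFun hP L l) (jFun_kills hP L l)
      map_add' := fun l l' => by
        ext f
        change ∑ᶠ x, (l + l').1 x (f.1 x) = ∑ᶠ x, l.1 x (f.1 x) + ∑ᶠ x, l'.1 x (f.1 x)
        rw [← finsum_add_distrib (J_finite hP L l f) (J_finite hP L l' f)]
        rfl
      map_smul' := fun c l => by
        ext f
        change ∑ᶠ x, (c • l).1 x (f.1 x) = c • ∑ᶠ x, l.1 x (f.1 x)
        rw [smul_finsum]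
        rfl }
  refine LinearEquiv.ofBijective F ⟨?_, ?_⟩
  · intro l l' h
    apply Subtype.ext
    funext x
    ext z
    have h1 : ∀ l : J hP L, F l (Submodule.Quotient.mk (single x z)) = l.1 x z := by
      intro l
      change ∑ᶠ y, l.1 y ((single x z).1 y) = l.1 x z
      rw [finsum_eq_single _ x (fun y hy => by rw [single_ne hy, map_zero]), single_same]
    rw [← h1 l, ← h1 l', h]
  · intro m
    let m' : Adele Pl →ₗ[k] k := m ∘ₗ (Kd hP ⊔ AL Pl L.Λ).mkQ
    have hm' : ∀ f ∈ Kd hP ⊔ AL Pl L.Λ, m' f = 0 := by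
      intro f hf
      change m (Submodule.Quotient.mk f) = 0
      rw [(Submodule.Quotient.mk_eq_zero _).2 hf, map_zero]
    have hs : ∀ x, ∀ z ∈ L.Λ x, m' (single x z) = 0 := by
      intro x z hz
      apply hm'
      refine Submodule.mem_sup_right fun y => ?_
      by_cases hy : y = x
      · subst hy; rw [single_same]; exact hz
      · rw [single_ne hy]; exact zero_mem _
    have hsum : ∀ f : Adele Pl, ∑ᶠ x, m' (single x (f.1 x)) = m' f := by
      intro f
      classical
      have hfin := L.finite_adele f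
      set S := hfin.toFinset with hS
      have hsupp : (Function.support fun x => m' (single x (f.1 x))) ⊆ (S : Set P) := by
        intro x hx
        rw [hS, Set.Finite.coe_toFinset]
        intro h
        exact hx (hs x _ h)
      rw [finsum_eq_sum_of_support_subset _ hsupp, ← map_sum, ← sub_eq_zero, ← map_sub]
      apply hm'
      refine Submodule.mem_sup_right fun y => ?_
      have hcoe : (∑ i ∈ S, single i (f.1 i) - f : Adele Pl).1 y =
          (∑ i ∈ S, (single (Pl := Pl) i (f.1 i)).1 y) - f.1 y := by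
        change ((∑ i ∈ S, single i (f.1 i) : Adele Pl).1 - f.1) y = _
        rw [Pi.sub_apply]
        congr 1
        have := congrFun (map_sum (Adele Pl).subtype (fun i => single (Pl := Pl) i (f.1 i)) S) y
        rw [Finset.sum_apply] at this
        exact this
      rw [hcoe]
      by_cases hy : y ∈ S
      · rw [Finset.sum_eq_single y (fun i _ hi => single_ne (Ne.symm hi) _)
          (fun h => absurd hy h), single_same, sub_self]
        exact zero_mem _
      · rw [Finset.sum_eq_zero (fun i hi => single_ne (fun h : y = i => hy (by rw [h]; exact hi)) _),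
          zero_sub]
        refine neg_mem ?_
        rw [hS, Set.Finite.mem_toFinset] at hy
        exact not_not.1 hy
    refine ⟨⟨fun x => m' ∘ₗ single x, fun x o ho => hs x _ (Lat.mul_mem_Λ ho), fun f => ?_⟩, ?_⟩
    · have := hsum (diag hP f)
      rw [hm' _ (Submodule.mem_sup_left ⟨f, rfl⟩)] at this
      exact this
    · ext f
      exact hsum f

end JDual

end Groth.Agent.CurvesB.Weil
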