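import Groth.Agent.CurvesB.WeilZero
import Mathlib.RingTheory.Unramified.Field

/-!
# Separable zeros of differentials (case II of S1565)
-/

open TensorProduct

namespace Groth.Agent.CurvesB.Weil

universe u v w x

variable {k : Type u} {K : Type v} [Field k] [Field K] [Algebra k K] {P : Type x}

namespace Place

variable {v : Place k K}

lemma inv_mem_of_not_inM {z : K} (h : ¬ v.InM z) : z⁻¹ ∈ v.O := by
  by_contra h'
  exact h (v.inM_of_not_inv_mem h')

lemma not_inM_of_inv_mem {z : K} (hz : z ≠ 0) (h : z⁻¹ ∈ v.O) : ¬ v.InM z := fun h' => by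
  have := inM_mul v h' h
  rw [mul_inv_cancel₀ hz] at this
  exact v.not_inM_one this

lemma inM_add {z w : K} (hz : v.InM z) (hw : v.InM w) : v.InM (z + w) := by
  unfold InM at *
  rw [mul_add]; exact v.O.add_mem hz hw

lemma inM_neg {z : K} (hz : v.InM z) : v.InM (-z) := by
  unfold InM at *
  rw [mul_neg]; exact v.O.neg_mem hz

/-- constants with the same residue are equal. -/
lemma eq_of_inM_sub {z : K} {a a' : k} (h : v.InM (z - algebraMap k K a))
    (h' : v.InM (z - algebraMap k K a')) : a = a' := by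
  by_contra hne
  have h1 : v.InM (algebraMap k K (a' - a)) := by
    have := inM_add h (inM_neg h')
    rw [map_sub]
    convert this using 1
    ring
  refine not_inM_of_inv_mem (z := algebraMap k K (a' - a)) ?_ ?_ h1
  · rw [Ne, map_eq_zero, sub_eq_zero]; exact fun h => hne h.symm
  · rw [← map_inv₀]; exact v.O.algebraMap_mem _

end Place

variable {Pl : P → Place k K}

namespace CurveData

/-- If `f` vanishes at `x` and `df` does not, then the residue field is separable. -/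
theorem separable_of_der (c : CurveData Pl) {x : P} {f : K} (hf : (Pl x).InM f)
    (hD : ¬ (Pl x).InM ((c.d x).D f)) : Algebra.IsSeparable k ((Pl x).O ⧸ (Pl x).m) := by
  let _ : Field ((Pl x).O ⧸ (Pl x).m) := Ideal.Quotient.field _
  have := c.resFin x
  rw [← Algebra.FormallyUnramified.iff_isSeparable]
  have hO : f ∈ (Pl x).O := hf.mem
  let E : Derivation k (Pl x).O (Ω[((Pl x).O ⧸ (Pl x).m)⁄k]) :=
    (KaehlerDifferential.D k ((Pl x).O ⧸ (Pl x).m)).compAlgebraMap (Pl x).O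
  have hE : ∀ o : (Pl x).O, E o = KaehlerDifferential.D k ((Pl x).O ⧸ (Pl x).m)
    (Ideal.Quotient.mk _ o) := fun o => rfl
  have h1 := (c.d x).der_eq E ⟨f, hO⟩
  have h0 : E ⟨f, hO⟩ = 0 := by
    rw [hE, (Ideal.Quotient.eq_zero_iff_mem).2 (show (⟨f, hO⟩ : (Pl x).O) ∈ (Pl x).m from hf), map_zero]
  rw [h0] at h1
  have h2 : E (c.d x).t = 0 := by
    have h3 : (Ideal.Quotient.mk (Pl x).m ⟨(c.d x).D f, (c.d x).D_mem hO⟩) • E (c.d x).t = 0 := h1.symm
    have h4 : Ideal.Quotient.mk (Pl x).m ⟨(c.d x).D f, (c.d x).D_mem hO⟩ ≠ 0 := by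
      rw [Ne, Ideal.Quotient.eq_zero_iff_mem, Place.mem_m]
      exact hD
    have h5 := congrArg
      (fun m => (Ideal.Quotient.mk (Pl x).m ⟨(c.d x).D f, (c.d x).D_mem hO⟩)⁻¹ • m) h3
    simp only [smul_smul, smul_zero] at h5
    rwa [inv_mul_cancel₀ h4, one_smul] at h5
  have h3 : ∀ y : (Pl x).O ⧸ (Pl x).m, KaehlerDifferential.D k ((Pl x).O ⧸ (Pl x).m) y = 0 := by
    intro y
    obtain ⟨o, rfl⟩ := Ideal.Quotient.mk_surjective y
    rw [← hE, (c.d x).der_eq E o, h2, smul_zero]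
  refine ⟨?_⟩
  refine subsingleton_of_forall_eq 0 fun m => ?_
  have hm : m ∈ Submodule.span ((Pl x).O ⧸ (Pl x).m)
      (Set.range (KaehlerDifferential.D k ((Pl x).O ⧸ (Pl x).m))) := by
    rw [KaehlerDifferential.span_range_derivation]; trivial
  refine Submodule.span_induction ?_ rfl (fun a b _ _ ha hb => by rw [ha, hb, add_zero])
    (fun a b _ hb => by rw [hb, smul_zero]) hm
  rintro _ ⟨y, rfl⟩
  exact h3 y

variable (c : CurveData Pl) {v₀ : Place k K} (d₀ : LocalData v₀)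

include c in
lemma finite_unit (z : K) : {x | ¬ (z ∈ (Pl x).O ∧ z⁻¹ ∈ (Pl x).O)}.Finite := by
  refine ((c.good.fin_char z).union (c.good.fin_char z⁻¹)).subset fun x hx => ?_
  by_contra h
  simp only [Set.mem_union, Set.mem_ofPred_eq, not_or, not_not] at h
  exact hx h

/-- Key step of case II. -/
theorem exists_separable_zero [Infinite k] {b b' : K}
    (hb' : ∀ x, c.e d₀ x * b' ∈ (Pl x).O) (hb0' : b' ≠ 0) (hD : d₀.D (b / b') ≠ 0) :
    ∃ x, ∃ a : k, (Pl x).InM (c.e d₀ x * (b - a • b')) ∧ b - a • b' ≠ 0 ∧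
      Algebra.IsSeparable k ((Pl x).O ⧸ (Pl x).m) := by
  set φ : K := b / b' with hφ
  set Z : Set P := {x | ¬ ((c.d x).D φ ∈ (Pl x).O ∧ ((c.d x).D φ)⁻¹ ∈ (Pl x).O)} with hZ
  have hZfin : Z.Finite := by
    refine ((c.finite_e d₀).union (c.finite_unit (d₀.D φ))).subset fun x hx => ?_
    by_contra h
    simp only [Set.mem_union, Set.mem_ofPred_eq, not_or, not_not] at h
    apply hx
    rw [c.D_eq d₀, mul_inv]
    exact ⟨(Pl x).O.mul_mem h.1.1 h.2.1, (Pl x).O.mul_mem h.1.2 h.2.2⟩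
  have hT : {a : k | ∃ x ∈ Z, (Pl x).InM (φ - algebraMap k K a)}.Finite := by
    have : {a : k | ∃ x ∈ Z, (Pl x).InM (φ - algebraMap k K a)} =
        ⋃ x ∈ Z, {a : k | (Pl x).InM (φ - algebraMap k K a)} := by
      ext a; simp
    rw [this]
    refine hZfin.biUnion fun x _ => ?_
    exact Set.Subsingleton.finite fun a ha a' ha' => Place.eq_of_inM_sub ha ha'
  obtain ⟨a, ha⟩ := hT.exists_notMem
  have hne : ∀ a : k, φ ≠ algebraMap k K a := fun a h => hD (by rw [h, Derivation.map_algebraMap])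
  have hex : ∃ x, (Pl x).InM (φ - algebraMap k K a) := by
    by_contra hcon
    simp only [not_exists] at hcon
    obtain ⟨r, hr⟩ := c.h0 (φ - algebraMap k K a)⁻¹ fun x => Place.inv_mem_of_not_inM (hcon x)
    apply hne (a + r⁻¹)
    rw [map_add, map_inv₀, hr, inv_inv]; ring
  obtain ⟨x, hx⟩ := hex
  have hxZ : x ∉ Z := fun h => ha ⟨x, h, hx⟩
  have hbb : b - a • b' = b' * (φ - algebraMap k K a) := by
    rw [hφ, Algebra.smul_def]; field_simp
  refine ⟨x, a, ?_, ?_, ?_⟩
  · rw [hbb, ← mul_assoc, mul_comm]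
    exact Place.inM_mul _ hx (hb' x)
  · rw [hbb]
    exact mul_ne_zero hb0' (sub_ne_zero.2 (hne a))
  · refine c.separable_of_der hx ?_
    rw [map_sub, Derivation.map_algebraMap, sub_zero]
    rw [hZ, Set.mem_ofPred_eq, not_not] at hxZ
    refine Place.not_inM_of_inv_mem ?_ hxZ.2
    rw [c.D_eq d₀]
    exact mul_ne_zero (c.e_ne d₀ x) hD

/-- Case II: the ratio of two global differentials is not killed by `d`. -/
theorem caseII [Infinite k] [FiniteDimensional k (c.H1 (Lat.one Pl))]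
    (h : Nontrivial (c.H1 (Lat.one Pl))) {b b' : K} (hb : b ∈ c.V d₀) (hb' : b' ∈ c.V d₀)
    (hb0' : b' ≠ 0) (hD : d₀.D (b / b') ≠ 0) :
    ∃ x, Algebra.IsSeparable k ((Pl x).O ⧸ (Pl x).m) ∧
      (Module.finrank k ((Pl x).O ⧸ (Pl x).m) : ℤ) ≤
        2 * Module.finrank k (c.H1 (Lat.one Pl)) - 2 := by
  obtain ⟨x, a, hx, h0, hs⟩ := c.exists_separable_zero d₀ hb' hb0' hD
  exact ⟨x, hs, c.finrank_res_le d₀ h ((c.V d₀).sub_mem hb ((c.V d₀).smul_mem a hb')) h0 hx⟩

end CurveData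

end Groth.Agent.CurvesB.Weil
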