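import Mathlib.RingTheory.TensorProduct.Basic
import Mathlib.RingTheory.Kaehler.Basic
import Mathlib.RingTheory.IntegralClosure.Algebra.Basic
import Mathlib.LinearAlgebra.TensorProduct.Basis
import Mathlib.LinearAlgebra.TensorProduct.Finiteness
import Mathlib.LinearAlgebra.Dual.Basis
import Mathlib.RingTheory.Algebraic.Integral

/-!
# Tensor lemmas for the Cauchy-kernel proof of duality on curves (pure algebra)

`extL C l : K ⊗[k] C → C` is the `C`-linear extension of a `k`-linear functional `l : K → k`;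
`W C L ⊆ K ⊗[k] C` is the image of `L ⊗ C` for a subspace `L ⊆ K`.
-/

open TensorProduct

namespace Groth.Agent.CurvesB.Weil

universe u v w

variable {k : Type u} {K : Type v} [Field k] [Field K] [Algebra k K]

section Ext

variable (C : Type w) [CommRing C] [Algebra k C]

/-- The `C`-linear extension of a functional `l : K → k`, as a `k`-linear map `K ⊗ C → C`. -/
noncomputable def extL (l : K →ₗ[k] k) : K ⊗[k] C →ₗ[k] C :=
  (TensorProduct.lid k C).toLinearMap ∘ₗ LinearMap.rTensor C l

@[simp]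
lemma extL_tmul (l : K →ₗ[k] k) (z : K) (c : C) : extL C l (z ⊗ₜ c) = l z • c := by
  simp [extL]

lemma extL_mul_right (l : K →ₗ[k] k) (c : C) (z : K ⊗[k] C) :
    extL C l ((1 ⊗ₜ c) * z) = c * extL C l z := by
  induction z with
  | zero => simp
  | tmul x y => simp [Algebra.TensorProduct.tmul_mul_tmul]
  | add x y hx hy => rw [mul_add, map_add, map_add, hx, hy, mul_add]

lemma extL_mul_left (l : K →ₗ[k] k) (f : K) (z : K ⊗[k] C) :
    extL C l ((f ⊗ₜ 1) * z) = extL C (l ∘ₗ LinearMap.mulLeft k f) z := by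
  induction z with
  | zero => simp
  | tmul x y => simp [Algebra.TensorProduct.tmul_mul_tmul]
  | add x y hx hy => rw [mul_add, map_add, map_add, hx, hy]

lemma extL_add (l l' : K →ₗ[k] k) (z : K ⊗[k] C) :
    extL C (l + l') z = extL C l z + extL C l' z := by
  induction z with
  | zero => simp
  | tmul x y => simp [add_smul]
  | add x y hx hy => rw [map_add, map_add, map_add, hx, hy]; abel

lemma extL_map {C' : Type*} [CommRing C'] [Algebra k C'] (ρ : C →ₐ[k] C') (l : K →ₗ[k] k)
    (z : K ⊗[k] C) :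
    extL C' l (Algebra.TensorProduct.map (AlgHom.id k K) ρ z) = ρ (extL C l z) := by
  induction z with
  | zero => simp
  | tmul x y => simp
  | add x y hx hy => rw [map_add, map_add, map_add, map_add, hx, hy]

/-- The image of `L ⊗ C` in `K ⊗ C`. -/
noncomputable def W (L : Submodule k K) : Submodule k (K ⊗[k] C) :=
  LinearMap.range (LinearMap.rTensor C L.subtype)

variable {C}

lemma tmul_mem_W {L : Submodule k K} {z : K} (hz : z ∈ L) (c : C) : z ⊗ₜ[k] c ∈ W C L :=
  ⟨(⟨z, hz⟩ : L) ⊗ₜ c, by simp⟩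

lemma W_induction {L : Submodule k K} {p : K ⊗[k] C → Prop} (h0 : p 0)
    (ht : ∀ z ∈ L, ∀ c : C, p (z ⊗ₜ c)) (hadd : ∀ a b, p a → p b → p (a + b))
    {w : K ⊗[k] C} (hw : w ∈ W C L) : p w := by
  obtain ⟨w, rfl⟩ := hw
  induction w with
  | zero => simpa using h0
  | tmul x y => simpa using ht x x.2 y
  | add x y hx hy => rw [map_add]; exact hadd _ _ hx hy

lemma extL_of_mem_W {L : Submodule k K} {l : K →ₗ[k] k} (hl : ∀ z ∈ L, l z = 0)
    {w : K ⊗[k] C} (hw : w ∈ W C L) : extL C l w = 0 := by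
  refine W_induction (p := fun w => extL C l w = 0) (map_zero _) (fun z hz c => ?_)
    (fun a b ha hb => by rw [map_add, ha, hb, add_zero]) hw
  rw [extL_tmul, hl z hz, zero_smul]

lemma W_mono {L L' : Submodule k K} (h : L ≤ L') : W C L ≤ W C L' := fun _ hw =>
  W_induction (p := fun w => w ∈ W C L') (zero_mem _) (fun _ hz c => tmul_mem_W (h hz) c)
    (fun _ _ ha hb => add_mem ha hb) hw

lemma mul_mem_W {L L' : Submodule k K} {o : K} (ho : ∀ z ∈ L, o * z ∈ L') (c : C)
    {w : K ⊗[k] C} (hw : w ∈ W C L) : (o ⊗ₜ c) * w ∈ W C L' := by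
  refine W_induction (p := fun w => (o ⊗ₜ c) * w ∈ W C L') (by rw [mul_zero]; exact zero_mem _)
    (fun z hz c' => ?_) (fun a b ha hb => by rw [mul_add]; exact add_mem ha hb) hw
  rw [Algebra.TensorProduct.tmul_mul_tmul]
  exact tmul_mem_W (ho z hz) _

lemma map_mem_W {C' : Type*} [CommRing C'] [Algebra k C'] (ρ : C →ₐ[k] C') {L : Submodule k K}
    {w : K ⊗[k] C} (hw : w ∈ W C L) :
    Algebra.TensorProduct.map (AlgHom.id k K) ρ w ∈ W C' L := by
  refine W_induction (p := fun w => Algebra.TensorProduct.map (AlgHom.id k K) ρ w ∈ W C' L)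
    (by rw [map_zero]; exact zero_mem _) (fun z hz c => ?_)
    (fun a b ha hb => by rw [map_add]; exact add_mem ha hb) hw
  simpa using tmul_mem_W hz (ρ c)

/-- Elements of `K ⊗ C` are absorbed by high powers of a "topologically nilpotent" element. -/
lemma pow_absorb {L : Submodule k K} {h : K} (habs : ∀ z : K, ∃ N : ℕ, ∀ n ≥ N, h ^ n * z ∈ L)
    (c : C) (w : K ⊗[k] C) : ∃ N : ℕ, ∀ n ≥ N, (h ⊗ₜ c) ^ n * w ∈ W C L := by
  induction w with
  | zero => exact ⟨0, fun n _ => by rw [mul_zero]; exact zero_mem _⟩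
  | tmul x y =>
    obtain ⟨N, hN⟩ := habs x
    refine ⟨N, fun n hn => ?_⟩
    rw [Algebra.TensorProduct.tmul_pow, Algebra.TensorProduct.tmul_mul_tmul]
    exact tmul_mem_W (hN n hn) _
  | add x y hx hy =>
    obtain ⟨N, hN⟩ := hx
    obtain ⟨M, hM⟩ := hy
    refine ⟨max N M, fun n hn => ?_⟩
    rw [mul_add]
    exact add_mem (hN n (le_trans (le_max_left _ _) hn)) (hM n (le_trans (le_max_right _ _) hn))

/-- Solving `z ≡ g (1 - h ⊗ c)` modulo `L ⊗ C`. -/
lemma exists_solve {L : Submodule k K} {h : K} (habs : ∀ z : K, ∃ N : ℕ, ∀ n ≥ N, h ^ n * z ∈ L)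
    (c : C) (z : K ⊗[k] C) : ∃ g : K ⊗[k] C, z - g * (1 - h ⊗ₜ c) ∈ W C L := by
  obtain ⟨N, hN⟩ := pow_absorb habs c z
  refine ⟨(∑ i ∈ Finset.range N, (h ⊗ₜ c) ^ i) * z, ?_⟩
  have h1 : (∑ i ∈ Finset.range N, (h ⊗ₜ c) ^ i) * z * (1 - h ⊗ₜ c) =
      z - (h ⊗ₜ[k] c) ^ N * z := by
    have := mul_neg_geom_sum (h ⊗ₜ[k] c) N
    calc (∑ i ∈ Finset.range N, (h ⊗ₜ c) ^ i) * z * (1 - h ⊗ₜ c)
        = ((1 - h ⊗ₜ c) * ∑ i ∈ Finset.range N, (h ⊗ₜ c) ^ i) * z := by ring
      _ = _ := by rw [this]; ring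
  rw [h1, sub_sub_cancel]
  exact hN N le_rfl

/-- Uniqueness modulo `L ⊗ C` of the solution. -/
lemma mem_W_of_mul_mem {L : Submodule k K} {h : K} (hL : ∀ z ∈ L, h * z ∈ L)
    (habs : ∀ z : K, ∃ N : ℕ, ∀ n ≥ N, h ^ n * z ∈ L)
    (c : C) {g : K ⊗[k] C} (hg : g * (1 - h ⊗ₜ c) ∈ W C L) : g ∈ W C L := by
  obtain ⟨N, hN⟩ := pow_absorb habs c g
  have key : ∀ n : ℕ, g - (h ⊗ₜ[k] c) ^ n * g ∈ W C L := by
    intro n
    induction n with
    | zero => simp
    | succ n ih =>
      have h2 : (h ⊗ₜ[k] c) * (g - (h ⊗ₜ[k] c) ^ n * g) ∈ W C L := mul_mem_W hL c ih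
      have h3 : g - (h ⊗ₜ[k] c) ^ (n + 1) * g =
          g * (1 - h ⊗ₜ c) + (h ⊗ₜ[k] c) * (g - (h ⊗ₜ[k] c) ^ n * g) := by ring
      rw [h3]
      exact add_mem hg h2
  have := add_mem (key N) (hN N le_rfl)
  simpa using this

end Ext

section Regular

/-- `t ⊗ 1 - 1 ⊗ c` is a nonzerodivisor on `K ⊗ C` when `t` is transcendental over `k`. -/
lemma eq_zero_of_delta_mul_eq_zero {C : Type w} [CommRing C] [Algebra k C] {t : K}
    (ht : Transcendental k t) (c : C) {z : K ⊗[k] C}
    (hz : (t ⊗ₜ 1 - 1 ⊗ₜ c) * z = 0) : z = 0 := by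
  by_contra hne
  -- the support of `z` in `K`
  let ev : (C →ₗ[k] k) →ₗ[k] K :=
    { toFun := fun φ => (TensorProduct.rid k K) (LinearMap.lTensor K φ z)
      map_add' := fun φ ψ => by rw [LinearMap.lTensor_add, LinearMap.add_apply, map_add]
      map_smul' := fun a φ => by
        rw [LinearMap.lTensor_smul, LinearMap.smul_apply, map_smul, RingHom.id_apply] }
  have hfg : (LinearMap.range ev).FG := by
    -- the range is contained in the span of the left components
    classical
    obtain ⟨s, hs⟩ := TensorProduct.exists_finset z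
    have hle : LinearMap.range ev ≤ Submodule.span k ((s.image Prod.fst : Finset K) : Set K) := by
      rintro _ ⟨φ, rfl⟩
      change (TensorProduct.rid k K) (LinearMap.lTensor K φ z) ∈ _
      rw [hs, map_sum, map_sum]
      refine Submodule.sum_mem _ fun i hi => ?_
      rw [LinearMap.lTensor_tmul, TensorProduct.rid_tmul]
      refine Submodule.smul_mem _ _ (Submodule.subset_span ?_)
      simpa using ⟨i.2, hi⟩
    have : FiniteDimensional k (Submodule.span k ((s.image Prod.fst : Finset K) : Set K)) :=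
      FiniteDimensional.span_finset _ _
    exact (Submodule.fg_iff_finiteDimensional _).2 (Submodule.finiteDimensional_of_le hle)
  have hbot : LinearMap.range ev ≠ ⊥ := by
    intro hb
    apply hne
    -- use a basis of C
    classical
    let b := Module.Basis.ofVectorSpace k C
    have hall : ∀ i, ev (b.coord i) = 0 := fun i => by
      have : ev (b.coord i) ∈ LinearMap.range ev := ⟨_, rfl⟩
      rw [hb] at this
      simpa using this
    apply (TensorProduct.equivFinsuppOfBasisRight (M := K) b).injective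
    rw [map_zero]
    ext i
    rw [Finsupp.zero_apply, ← hall i]
    change _ = (TensorProduct.rid k K) (LinearMap.lTensor K (b.coord i) z)
    generalize z = z'
    induction z' with
    | zero => simp
    | tmul x y => simp
    | add x y hx hy => rw [map_add, Finsupp.add_apply, hx, hy, map_add, map_add]
  have hstab : ∀ n ∈ LinearMap.range ev, t • n ∈ LinearMap.range ev := by
    rintro _ ⟨φ, rfl⟩
    refine ⟨φ ∘ₗ LinearMap.mulLeft k c, ?_⟩
    change (TensorProduct.rid k K) (LinearMap.lTensor K (φ ∘ₗ LinearMap.mulLeft k c) z) =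
      t * (TensorProduct.rid k K) (LinearMap.lTensor K φ z)
    have e1 : ∀ z : K ⊗[k] C, (TensorProduct.rid k K)
        (LinearMap.lTensor K (φ ∘ₗ LinearMap.mulLeft k c) z) =
        (TensorProduct.rid k K) (LinearMap.lTensor K φ ((1 ⊗ₜ c) * z)) := by
      intro z
      induction z with
      | zero => simp
      | tmul x y => simp
      | add x y hx hy => rw [map_add, map_add, hx, hy, mul_add, map_add, map_add]
    have e2 : ∀ z : K ⊗[k] C, t * (TensorProduct.rid k K) (LinearMap.lTensor K φ z) =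
        (TensorProduct.rid k K) (LinearMap.lTensor K φ ((t ⊗ₜ 1) * z)) := by
      intro z
      induction z with
      | zero => simp
      | tmul x y => simp
      | add x y hx hy => rw [map_add, map_add, mul_add, hx, hy, mul_add, map_add, map_add]
    rw [e1, e2, sub_mul, sub_eq_zero] at *
    rw [hz]
  have hint := isIntegral_of_smul_mem_submodule (R := k) (A := K) (M := K) (LinearMap.range ev)
    hbot hfg t hstab
  exact ht hint.isAlgebraic

end Regular

end Groth.Agent.CurvesB.Weil
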