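import Groth.Agent.CurvesB.WeilZero
import Groth.Agent.CurvesB.WeilNest

/-!
# Ratios of global differentials are not all constants of the derivation
-/

open TensorProduct

namespace Groth.Agent.CurvesB.Weil

universe u v w x

open ChiLin

variable {k : Type u} {K : Type v} [Field k] [Field K] [Algebra k K] {P : Type x}
variable {Pl : P → Place k K}

/-- Shortcut instance. -/
noncomputable instance instAddCommGroupSubAdele (W : Submodule k (Adele Pl)) : AddCommGroup W :=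
  @Submodule.addCommGroup k (Adele Pl) _ (Submodule.addCommGroup _) _ W

section LocalFacts

variable {v : Place k K} (d : LocalData v)

lemma LocalData.D_mul (a b : K) : d.D (a * b) = a * d.D b + b * d.D a := by
  rw [Derivation.leibniz, smul_eq_mul, smul_eq_mul]

lemma LocalData.D_mul_const {a b : K} (ha : d.D a = 0) : d.D (a * b) = a * d.D b := by
  rw [d.D_mul, ha, mul_zero, add_zero]

lemma LocalData.D_inv_const {a : K} (ha : d.D a = 0) : d.D a⁻¹ = 0 := by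
  rw [Derivation.leibniz_inv, ha, smul_zero]

lemma LocalData.loc2 {α β : K} (hα : d.D α = 0) (hβ : d.D β = 0) (h : α + β * d.t ∈ v.O) :
    α ∈ v.O ∧ β ∈ v.O := by
  have h1 := d.D_mem h
  rw [map_add, hα, d.D_mul_const hβ, d.D_t, zero_add, mul_one] at h1
  refine ⟨?_, h1⟩
  have h2 := v.O.sub_mem h (v.O.mul_mem h1 d.t.2)
  rwa [add_sub_cancel_right] at h2

lemma LocalData.loc3 (h2 : (2 : K) ≠ 0) {α β γ : K} (hα : d.D α = 0) (hβ : d.D β = 0)
    (hγ : d.D γ = 0) (h : α + β * d.t + γ * (d.t : K) ^ 2 ∈ v.O) :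
    α ∈ v.O ∧ β ∈ v.O ∧ γ ∈ v.O := by
  have h1 := d.D_mem h
  have e1 : d.D ((d.t : K) ^ 2) = 2 * d.t := by
    rw [pow_two, d.D_mul, d.D_t]; ring
  rw [map_add, map_add, hα, d.D_mul_const hβ, d.D_mul_const hγ, e1, d.D_t, zero_add, mul_one] at h1
  have h3 := d.D_mem h1
  have e2 : d.D (2 * (d.t : K)) = 2 := by
    rw [two_mul, map_add, d.D_t]; norm_num
  rw [map_add, hβ, d.D_mul_const hγ, e2, zero_add] at h3
  have hγO : γ ∈ v.O := by
    have h4 : (2 : K)⁻¹ ∈ v.O := by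
      have := v.O.algebraMap_mem (2 : k)⁻¹
      rwa [map_inv₀, map_ofNat] at this
    have := v.O.mul_mem h3 h4
    rwa [mul_assoc, mul_inv_cancel₀ h2, mul_one] at this
  have htO : (d.t : K) ∈ v.O := d.t.2
  have hβO : β ∈ v.O := by
    have h4 : (2 : K) ∈ v.O := by
      have := v.O.algebraMap_mem (2 : k)
      rwa [map_ofNat] at this
    have := v.O.sub_mem h1 (v.O.mul_mem hγO (v.O.mul_mem h4 htO))
    rwa [add_sub_cancel_right] at this
  refine ⟨?_, hβO, hγO⟩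
  have := v.O.sub_mem (v.O.sub_mem h (v.O.mul_mem hγO (v.O.pow_mem htO 2)))
    (v.O.mul_mem hβO htO)
  rwa [add_sub_cancel_right, add_sub_cancel_right] at this

/-- In characteristic two `D² = 0`. -/
lemma LocalData.D_sq (h2 : (2 : K) = 0) (f : K) : d.D (d.D f) = 0 := by
  let E : Derivation k K K :=
    { toLinearMap := d.D.toLinearMap ∘ₗ d.D.toLinearMap
      map_one_eq_zero' := by
        change d.D (d.D 1) = 0
        rw [Derivation.map_one_eq_zero, map_zero]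
      leibniz' := fun a b => by
        change d.D (d.D (a * b)) = a • d.D (d.D b) + b • d.D (d.D a)
        rw [d.D_mul, map_add, d.D_mul, d.D_mul, smul_eq_mul, smul_eq_mul]
        linear_combination (d.D a * d.D b) * h2 }
  have h := d.der_eq' E f
  have h1 : E d.t = 0 := by
    change d.D (d.D d.t) = 0
    rw [d.D_t, Derivation.map_one_eq_zero]
  rw [h1, mul_zero] at h
  exact h

end LocalFacts

namespace CurveData

variable (c : CurveData Pl) {v₀ : Place k K} (d₀ : LocalData v₀)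

lemma D_zero_of {x : P} {f : K} (hf : d₀.D f = 0) : (c.d x).D f = 0 := by
  rw [c.D_eq d₀, hf, mul_zero]

lemma D₀_zero_of {x : P} {f : K} (hf : (c.d x).D f = 0) : d₀.D f = 0 := by
  rw [c.D_eq d₀] at hf
  exact (mul_eq_zero.1 hf).resolve_left (c.e_ne d₀ x)

/-- Componentwise derivation on adeles. -/
noncomputable def derA : Adele Pl →ₗ[k] Adele Pl where
  toFun f := ⟨fun x => d₀.D (f.1 x), (f.2.union (c.finite_der d₀.D)).subset fun x hx => by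
    by_contra h
    simp only [Set.mem_union, Set.mem_ofPred_eq, not_or, not_not] at h
    exact hx (h.2 _ h.1)⟩
  map_add' f g := by apply Subtype.ext; funext x; exact map_add _ _ _
  map_smul' a f := by apply Subtype.ext; funext x; exact d₀.D.map_smul _ _

lemma derA_apply (f : Adele Pl) (x : P) : (c.derA d₀ f).1 x = d₀.D (f.1 x) := rfl

/-- Adeles of constants. -/
noncomputable def A' : Submodule k (Adele Pl) := LinearMap.ker (c.derA d₀)

lemma mem_A' {f : Adele Pl} : f ∈ c.A' d₀ ↔ ∀ x, d₀.D (f.1 x) = 0 := by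
  constructor
  · intro h x
    exact congrFun (congrArg Subtype.val h) x
  · intro h
    rw [A', LinearMap.mem_ker]
    apply Subtype.ext
    funext x
    exact h x

/-- The diagonal in the constant adeles. -/
noncomputable def K'd : Submodule k (c.A' d₀) := (Kd c.good).comap (c.A' d₀).subtype

/-- A lattice in the constant adeles. -/
noncomputable def AL' (L : Lat Pl) : Submodule k (c.A' d₀) := (AL Pl L.Λ).comap (c.A' d₀).subtype

lemma mem_AL' {L : Lat Pl} {f : c.A' d₀} : f ∈ c.AL' d₀ L ↔ ∀ x, f.1.1 x ∈ L.Λ x := Iff.rfl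

lemma AL'_mono {L₁ L₂ : Lat Pl} (h : ∀ x, L₁.Λ x ≤ L₂.Λ x) : c.AL' d₀ L₁ ≤ c.AL' d₀ L₂ :=
  fun _ hf x => h x (hf x)

/-- Multiplication by powers of the local parameters. -/
noncomputable def mulT (i : ℕ) : Adele Pl →ₗ[k] Adele Pl where
  toFun f := ⟨fun x => f.1 x * ((c.d x).t : K) ^ i, f.2.subset fun x hx h =>
    hx ((Pl x).O.mul_mem h ((Pl x).O.pow_mem (c.d x).t.2 i))⟩
  map_add' f g := by apply Subtype.ext; funext x; exact add_mul _ _ _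
  map_smul' a f := by apply Subtype.ext; funext x; exact smul_mul_assoc _ _ _

lemma mulT_mem {L : Lat Pl} {f : Adele Pl} (hf : f ∈ AL Pl L.Λ) (i : ℕ) :
    c.mulT i f ∈ AL Pl L.Λ := by
  intro x
  have h1 := hf x
  rw [Lat.mem_Λ] at h1 ⊢
  change (L.g x)⁻¹ * (f.1 x * ((c.d x).t : K) ^ i) ∈ _
  rw [← mul_assoc]
  exact (Pl x).O.mul_mem h1 ((Pl x).O.pow_mem (c.d x).t.2 i)

/-- the maps `f ↦ f tⁱ` -/
noncomputable def Ψ (n : ℕ) (i : Fin n) : c.A' d₀ →ₗ[k] Adele Pl :=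
  c.mulT i ∘ₗ (c.A' d₀).subtype

lemma Ψ_le (n : ℕ) (i : Fin n) (L : Lat Pl) : c.AL' d₀ L ≤ (AL Pl L.Λ).comap (c.Ψ d₀ n i) :=
  fun _ hf => c.mulT_mem hf i

lemma Ψ_sum (n : ℕ) (a : Fin n → c.A' d₀) (x : P) :
    (∑ i, c.Ψ d₀ n i (a i)).1 x = ∑ i, (a i).1.1 x * ((c.d x).t : K) ^ (i : ℕ) := by
  have := congrFun (map_sum (Adele Pl).subtype (fun i => c.Ψ d₀ n i (a i)) Finset.univ) x
  rw [Finset.sum_apply] at this
  exact this

lemma const_smul {L : Lat Pl} (hL : ∀ x, d₀.D (L.g x) = 0) {x : P} {f : K} (hf : d₀.D f = 0) :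
    (c.d x).D ((L.g x)⁻¹ * f) = 0 := by
  apply c.D_zero_of d₀
  rw [d₀.D_mul_const (d₀.D_inv_const (hL x)), hf, mul_zero]

lemma inj3 (h2 : (2 : K) ≠ 0) {L₁ : Lat Pl} (hL : ∀ x, d₀.D (L₁.g x) = 0) (a : Fin 3 → c.A' d₀)
    (ha : ∑ i, c.Ψ d₀ 3 i (a i) ∈ AL Pl L₁.Λ) (i : Fin 3) : a i ∈ c.AL' d₀ L₁ := by
  have key : ∀ x, (L₁.g x)⁻¹ * (a 0).1.1 x ∈ (Pl x).O ∧ (L₁.g x)⁻¹ * (a 1).1.1 x ∈ (Pl x).O ∧
      (L₁.g x)⁻¹ * (a 2).1.1 x ∈ (Pl x).O := by
    intro x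
    apply (c.d x).loc3 h2 (c.const_smul d₀ hL ((c.mem_A' d₀).1 (a 0).2 x))
      (c.const_smul d₀ hL ((c.mem_A' d₀).1 (a 1).2 x))
      (c.const_smul d₀ hL ((c.mem_A' d₀).1 (a 2).2 x))
    have h1 := ha x
    rw [Lat.mem_Λ, Ψ_sum, Fin.sum_univ_three] at h1
    simp only [Fin.val_zero, pow_zero, mul_one, Fin.val_one, pow_one, Fin.val_two] at h1
    convert h1 using 1
    ring
  intro x
  fin_cases i
  · exact (key x).1
  · exact (key x).2.1
  · exact (key x).2.2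

lemma inj2 {L₁ : Lat Pl} (hL : ∀ x, d₀.D (L₁.g x) = 0) (a : Fin 2 → c.A' d₀)
    (ha : ∑ i, c.Ψ d₀ 2 i (a i) ∈ AL Pl L₁.Λ) (i : Fin 2) : a i ∈ c.AL' d₀ L₁ := by
  have key : ∀ x, (L₁.g x)⁻¹ * (a 0).1.1 x ∈ (Pl x).O ∧ (L₁.g x)⁻¹ * (a 1).1.1 x ∈ (Pl x).O := by
    intro x
    apply (c.d x).loc2 (c.const_smul d₀ hL ((c.mem_A' d₀).1 (a 0).2 x))
      (c.const_smul d₀ hL ((c.mem_A' d₀).1 (a 1).2 x))
    have h1 := ha x
    rw [Lat.mem_Λ, Ψ_sum, Fin.sum_univ_two] at h1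
    simp only [Fin.val_zero, pow_zero, mul_one, Fin.val_one, pow_one] at h1
    convert h1 using 1
    ring
  intro x
  fin_cases i
  · exact (key x).1
  · exact (key x).2

lemma const_one (x : P) : d₀.D ((Lat.one Pl).g x) = 0 := d₀.D.map_one_eq_zero

section Char2

variable (h2 : (2 : K) = 0)

include h2 in
lemma e_const (x : P) : d₀.D (c.e d₀ x) = 0 := by
  apply c.D₀_zero_of d₀ (x := x)
  have h1 : c.e d₀ x = (c.d x).D d₀.t := by rw [c.D_eq d₀, d₀.D_t, mul_one]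
  rw [h1]
  exact (c.d x).D_sq h2 _

include h2 in
lemma surj2 {L : Lat Pl} (hL : ∀ x, d₀.D (L.g x) = 0) (f : Adele Pl) (hf : f ∈ AL Pl L.Λ) :
    ∃ a : Fin 2 → c.AL' d₀ L, ∑ i, c.Ψ d₀ 2 i (a i) = f := by
  let β : Adele Pl := ⟨fun x => (c.d x).D (f.1 x), f.2.subset fun x hx h =>
    hx ((c.d x).D_mem h)⟩
  have hβ : β ∈ c.A' d₀ := (c.mem_A' d₀).2 fun x => c.D₀_zero_of d₀ (x := x)
    ((c.d x).D_sq h2 (f.1 x))
  have hβL : β ∈ AL Pl L.Λ := by
    intro x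
    have h1 := (c.d x).D_mem (hf x)
    rw [(c.d x).D_mul_const (c.D_zero_of d₀ (d₀.D_inv_const (hL x)))] at h1
    exact h1
  let α : Adele Pl := f - c.mulT 1 β
  have hα : α ∈ c.A' d₀ := (c.mem_A' d₀).2 fun x => c.D₀_zero_of d₀ (x := x) (by
    change (c.d x).D (f.1 x - (c.d x).D (f.1 x) * ((c.d x).t : K) ^ 1) = 0
    rw [map_sub, (c.d x).D_mul_const ((c.d x).D_sq h2 (f.1 x)), pow_one, (c.d x).D_t, mul_one,
      sub_self])
  have hαL : α ∈ AL Pl L.Λ := sub_mem hf (c.mulT_mem hβL 1)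
  refine ⟨![⟨⟨α, hα⟩, hαL⟩, ⟨⟨β, hβ⟩, hβL⟩], ?_⟩
  rw [Fin.sum_univ_two]
  apply Subtype.ext
  funext x
  change α.1 x * ((c.d x).t : K) ^ 0 + β.1 x * ((c.d x).t : K) ^ 1 = f.1 x
  change (f.1 x - β.1 x * ((c.d x).t : K) ^ 1) * ((c.d x).t : K) ^ 0 +
    β.1 x * ((c.d x).t : K) ^ 1 = f.1 x
  ring

include h2 in
theorem doubling {L₁ L₂ : Lat Pl} (hle : ∀ x, L₁.Λ x ≤ L₂.Λ x)
    (hL₁ : ∀ x, d₀.D (L₁.g x) = 0) (hL₂ : ∀ x, d₀.D (L₂.g x) = 0) :
    RelFin (c.AL' d₀ L₁) (c.AL' d₀ L₂) ∧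
    2 * rel (c.AL' d₀ L₁) (c.AL' d₀ L₂) = rel (AL Pl L₁.Λ) (AL Pl L₂.Λ) := by
  have hr := relFin_lat (Pl := Pl) c.resFin hle
  exact ⟨relFin_of_mul (c.Ψ d₀ 2) (fun i => c.Ψ_le d₀ 2 i L₂) (fun i => c.Ψ_le d₀ 2 i L₁)
      two_pos hr (fun a ha i => c.inj2 d₀ hL₁ _ ha i),
    mul_rel_eq (c.Ψ d₀ 2) (fun i => c.Ψ_le d₀ 2 i L₂) (fun i => c.Ψ_le d₀ 2 i L₁)
      two_pos hr (fun a ha i => c.inj2 d₀ hL₁ _ ha i)
      (fun w hw => c.surj2 d₀ h2 hL₂ w hw)⟩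

/-- `D : 𝔸 → 𝔸'`. -/
noncomputable def derA' : Adele Pl →ₗ[k] c.A' d₀ :=
  (c.derA d₀).codRestrict (c.A' d₀) fun f => (c.mem_A' d₀).2 fun x => d₀.D_sq h2 (f.1 x)

lemma derA'_apply (f : Adele Pl) (x : P) : (c.derA' d₀ h2 f).1.1 x = d₀.D (f.1 x) := rfl

lemma ker_derA' : LinearMap.ker (c.derA' d₀ h2) = c.A' d₀ :=
  LinearMap.ker_codRestrict _ _ _

omit h2 in
lemma t_ne : (d₀.t : K) ≠ 0 := by
  intro h
  have := d₀.D_t
  rw [h, map_zero] at this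
  exact zero_ne_one this

lemma derA'_mul (f : Adele Pl) (hf : f ∈ c.A' d₀) :
    c.derA' d₀ h2 (mulA c.good d₀.t (t_ne d₀) f) = ⟨f, hf⟩ := by
  apply Subtype.ext
  apply Subtype.ext
  funext x
  rw [derA'_apply, mulA_apply, mul_comm, d₀.D_mul_const ((c.mem_A' d₀).1 hf x), d₀.D_t, mul_one]

lemma derA'_surjective : Function.Surjective (c.derA' d₀ h2) :=
  fun f => ⟨_, c.derA'_mul d₀ h2 f.1 f.2⟩

lemma map_Kd' : (Kd c.good).map (c.derA' d₀ h2) = c.K'd d₀ := by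
  ext f
  constructor
  · rintro ⟨_, ⟨z, rfl⟩, rfl⟩
    exact ⟨d₀.D z, rfl⟩
  · rintro ⟨z, hz⟩
    refine ⟨diag c.good (z * d₀.t), ⟨_, rfl⟩, ?_⟩
    apply Subtype.ext
    apply Subtype.ext
    funext x
    have h1 : f.1.1 x = z := (congrFun (congrArg Subtype.val hz) x).symm
    rw [derA'_apply, diag_apply, d₀.D_mul_const (by rw [← h1]; exact (c.mem_A' d₀).1 f.2 x),
      d₀.D_t, mul_one, h1]

lemma map_AL_one : (AL Pl (Lat.one Pl).Λ).map (c.derA' d₀ h2) = c.AL' d₀ (c.Ω d₀) := by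
  ext f
  constructor
  · rintro ⟨g, hg, rfl⟩ x
    rw [mem_Ω]
    exact c.D₀_mem d₀ (Lat.mem_one.1 (hg x))
  · intro hf
    have hf' : ∀ x, c.e d₀ x * f.1.1 x ∈ (Pl x).O := fun x => (c.mem_Ω d₀).1 (hf x)
    refine ⟨⟨fun x => c.e d₀ x * f.1.1 x * (c.d x).t, Set.finite_empty.subset fun x hx =>
      hx ((Pl x).O.mul_mem (hf' x) (c.d x).t.2)⟩, fun x => Lat.mem_one.2
      ((Pl x).O.mul_mem (hf' x) (c.d x).t.2), ?_⟩
    apply Subtype.ext
    apply Subtype.ext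
    funext x
    have h1 : d₀.D (c.e d₀ x * f.1.1 x) = 0 := by
      rw [d₀.D_mul_const (c.e_const d₀ h2 x), (c.mem_A' d₀).1 f.2 x, mul_zero]
    rw [derA'_apply]
    change d₀.D (c.e d₀ x * f.1.1 x * (c.d x).t) = _
    rw [d₀.D_mul_const h1, c.D₀_t]
    have := c.e_ne d₀ x
    field_simp

lemma fin_inf_of {L : Lat Pl} (h : FiniteDimensional k (Kd c.good ⊓ AL Pl L.Λ : Submodule k (Adele Pl))) :
    FiniteDimensional k (c.K'd d₀ ⊓ c.AL' d₀ L : Submodule k (c.A' d₀)) := by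
  let φ : (c.K'd d₀ ⊓ c.AL' d₀ L : Submodule k (c.A' d₀)) →ₗ[k]
      (Kd c.good ⊓ AL Pl L.Λ : Submodule k (Adele Pl)) :=
    { toFun := fun f => ⟨f.1.1, f.2.1, f.2.2⟩
      map_add' := fun _ _ => rfl
      map_smul' := fun _ _ => rfl }
  refine FiniteDimensional.of_injective φ fun f g h => ?_
  have := congrArg Subtype.val h
  exact Subtype.ext (Subtype.ext this)

include h2 in
theorem chi_split [hfin : FiniteDimensional k (c.H1 (Lat.one Pl))]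
    (h : Nontrivial (c.H1 (Lat.one Pl))) :
    Fred (c.K'd d₀) (c.AL' d₀ (c.Ω d₀)) ∧ Fred (c.K'd d₀) (c.AL' d₀ (Lat.one Pl)) ∧
    chi (Kd c.good) (AL Pl (Lat.one Pl).Λ) = chi (c.K'd d₀) (c.AL' d₀ (Lat.one Pl)) +
      chi (c.K'd d₀) (c.AL' d₀ (c.Ω d₀)) := by
  have h0 : FiniteDimensional k
      ((Kd c.good).map (c.derA' d₀ h2) ⊓ (AL Pl (Lat.one Pl).Λ).map (c.derA' d₀ h2) :
        Submodule k (c.A' d₀)) := by
    rw [map_Kd', map_AL_one]
    exact c.fin_inf_of d₀ (c.fin_H0_Ω d₀ h)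
  have := chi_ses (c.derA' d₀ h2) (Kd c.good) (AL Pl (Lat.one Pl).Λ)
    (c.derA'_surjective d₀ h2) c.fred_one h0
  rw [map_Kd', map_AL_one, ker_derA'] at this
  exact this

end Char2

end CurveData

end Groth.Agent.CurvesB.Weil
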