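import Groth.Agent.CurvesB.WeilChi
import Mathlib.RingTheory.Unramified.Field

/-!
# Zeros of differentials and separable points
-/

open TensorProduct

namespace Groth.Agent.CurvesB.Weil

universe u v w x

open ChiLin

variable {k : Type u} {K : Type v} [Field k] [Field K] [Algebra k K] {P : Type x}
variable {Pl : P → Place k K}

lemma finrank_le_rel {M : Type*} [AddCommGroup M] [Module k M] {U U' : Submodule k M}
    (h : RelFin U U') {N : Type*} [AddCommGroup N] [Module k N] (φ : U' →ₗ[k] N)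
    (hφ : Function.Surjective φ) (hle : ∀ f : U', (f : M) ∈ U → φ f = 0) :
    Module.finrank k N ≤ rel U U' := by
  have : FiniteDimensional k (U' ⧸ U.submoduleOf U') := h
  refine LinearMap.finrank_le_finrank_of_surjective
    (f := (U.submoduleOf U').liftQ φ fun f hf => LinearMap.mem_ker.2 (hle f hf)) fun y => ?_
  obtain ⟨f, hf⟩ := hφ y
  exact ⟨Submodule.Quotient.mk f, hf⟩

namespace CurveData

variable (c : CurveData Pl) {v₀ : Place k K} (d₀ : LocalData v₀)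
variable [hfin : FiniteDimensional k (c.H1 (Lat.one Pl))]

/-- Global differentials. -/
def V : Submodule k K where
  carrier := {b | ∀ x, c.e d₀ x * b ∈ (Pl x).O}
  add_mem' := fun {a b} ha hb x => by rw [mul_add]; exact (Pl x).O.add_mem (ha x) (hb x)
  zero_mem' := fun x => by rw [mul_zero]; exact (Pl x).O.zero_mem
  smul_mem' := fun a b hb x => by rw [mul_smul_comm]; exact (Pl x).O.smul_mem (hb x) a

omit hfin in
lemma mem_V {b : K} : b ∈ c.V d₀ ↔ ∀ x, c.e d₀ x * b ∈ (Pl x).O := Iff.rfl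

/-- `V ≃ H⁰(Ω)`. -/
noncomputable def vEquiv : c.V d₀ ≃ₗ[k] c.H0 (c.Ω d₀) :=
  LinearEquiv.ofBijective
    { toFun := fun b => ⟨diag c.good b, ⟨b, rfl⟩, fun x => (c.mem_Ω d₀).2 (b.2 x)⟩
      map_add' := fun _ _ => rfl
      map_smul' := fun _ _ => rfl }
    ⟨fun b b' h => by
      apply Subtype.ext
      have h1 : diag c.good (b : K) = diag c.good (b' : K) := congrArg Subtype.val h
      obtain ⟨x⟩ := c.ne
      exact congrFun (congrArg Subtype.val h1) x, by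
      rintro ⟨_, ⟨b, rfl⟩, hb⟩
      exact ⟨⟨b, fun x => (c.mem_Ω d₀).1 (hb x)⟩, rfl⟩⟩

omit hfin in
lemma finrank_V (h : Nontrivial (c.H1 (Lat.one Pl))) :
    Module.finrank k (c.V d₀) = Module.finrank k (c.H1 (Lat.one Pl)) := by
  rw [(c.vEquiv d₀).finrank_eq, c.finrank_H0_Ω d₀ h]

lemma fin_V (h : Nontrivial (c.H1 (Lat.one Pl))) : FiniteDimensional k (c.V d₀) := by
  have := c.fin_H0_Ω d₀ h
  exact Module.Finite.equiv (c.vEquiv d₀).symm

omit hfin in
lemma AL_scale_le {b : K} (hb : b ∈ c.V d₀) (hb0 : b ≠ 0) :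
    AL Pl ((Lat.one Pl).scale c.good b hb0).Λ ≤ AL Pl (c.Ω d₀).Λ := by
  intro f hf x
  have h1 := hf x
  rw [Lat.mem_scale, Lat.mem_one] at h1
  rw [mem_Ω]
  have : c.e d₀ x * f.1 x = (c.e d₀ x * b) * (b⁻¹ * f.1 x) := by field_simp
  rw [this]
  exact (Pl x).O.mul_mem (hb x) h1

/-- The degree of the divisor of a differential is `2g - 2`. -/
lemma rel_scale (h : Nontrivial (c.H1 (Lat.one Pl))) {b : K} (hb : b ∈ c.V d₀) (hb0 : b ≠ 0) :
    RelFin (AL Pl ((Lat.one Pl).scale c.good b hb0).Λ) (AL Pl (c.Ω d₀).Λ) ∧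
    (rel (AL Pl ((Lat.one Pl).scale c.good b hb0).Λ) (AL Pl (c.Ω d₀).Λ) : ℤ) =
      2 * Module.finrank k (c.H1 (Lat.one Pl)) - 2 := by
  have hle := c.AL_scale_le d₀ hb hb0
  have hf1 := fred_scale c.good b hb0 (Lat.one Pl) c.fred_one
  have hf2 := c.fred_Ω d₀ h
  have hr := relFin_of_fred hle hf1 hf2
  refine ⟨hr, ?_⟩
  have h1 := (chi_rel hle hf1 hr).2
  rw [c.chi_Ω d₀ h, chi_scale c.good b hb0 (Lat.one Pl) c.fred_one, c.chi_one] at h1
  omega

lemma finrank_res_le (h : Nontrivial (c.H1 (Lat.one Pl))) {b : K} (hb : b ∈ c.V d₀) (hb0 : b ≠ 0)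
    {x : P} (hx : (Pl x).InM (c.e d₀ x * b)) :
    (Module.finrank k ((Pl x).O ⧸ (Pl x).m) : ℤ) ≤
      2 * Module.finrank k (c.H1 (Lat.one Pl)) - 2 := by
  obtain ⟨hr, hrel⟩ := c.rel_scale d₀ h hb hb0
  rw [← hrel]
  let φ : AL Pl (c.Ω d₀).Λ →ₗ[k] ((Pl x).O ⧸ (Pl x).m) :=
    (Ideal.Quotient.mkₐ k (Pl x).m).toLinearMap ∘ₗ
      { toFun := fun f => (⟨c.e d₀ x * f.1.1 x, (c.mem_Ω d₀).1 (f.2 x)⟩ : (Pl x).O)
        map_add' := fun f g => Subtype.ext (mul_add _ _ _)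
        map_smul' := fun a f => Subtype.ext (mul_smul_comm _ _ _) }
  have hφ : Function.Surjective φ := by
    intro y
    obtain ⟨y, rfl⟩ := Ideal.Quotient.mk_surjective y
    refine ⟨⟨single x ((c.e d₀ x)⁻¹ * y), fun z => ?_⟩, ?_⟩
    · rw [mem_Ω]
      by_cases hz : z = x
      · subst hz
        rw [single_same, mul_inv_cancel_left₀ (c.e_ne d₀ z)]
        exact y.2
      · rw [single_ne hz, mul_zero]; exact (Pl z).O.zero_mem
    · change Ideal.Quotient.mk _ _ = Ideal.Quotient.mk _ _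
      congr 1
      apply Subtype.ext
      change c.e d₀ x * (single x ((c.e d₀ x)⁻¹ * (y : K))).1 x = y
      rw [single_same, mul_inv_cancel_left₀ (c.e_ne d₀ x)]
  norm_cast
  refine finrank_le_rel hr φ hφ fun f hf => ?_
  have h2 := hf x
  rw [Lat.mem_scale, Lat.mem_one] at h2
  change Ideal.Quotient.mk _ _ = 0
  rw [Ideal.Quotient.eq_zero_iff_mem, Place.mem_m]
  change (Pl x).InM (c.e d₀ x * f.1.1 x)
  have : c.e d₀ x * f.1.1 x = (c.e d₀ x * b) * (b⁻¹ * f.1.1 x) := by field_simp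
  rw [this]
  exact (Pl x).inM_mul hx h2

lemma exists_zero (hg : 2 ≤ Module.finrank k (c.H1 (Lat.one Pl)))
    (h : Nontrivial (c.H1 (Lat.one Pl))) {b : K} (hb : b ∈ c.V d₀) (hb0 : b ≠ 0) :
    ∃ x, (Pl x).InM (c.e d₀ x * b) := by
  by_contra hcon
  simp only [not_exists] at hcon
  obtain ⟨hr, hrel⟩ := c.rel_scale d₀ h hb hb0
  have hle : AL Pl (c.Ω d₀).Λ ≤ AL Pl ((Lat.one Pl).scale c.good b hb0).Λ := by
    intro f hf x
    rw [Lat.mem_scale, Lat.mem_one]
    have h1 := hf x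
    rw [mem_Ω] at h1
    have h2 : (c.e d₀ x * b)⁻¹ ∈ (Pl x).O := by
      by_contra h3
      exact hcon x ((Pl x).inM_of_not_inv_mem h3)
    have : b⁻¹ * f.1 x = (c.e d₀ x * b)⁻¹ * (c.e d₀ x * f.1 x) := by
      have := c.e_ne d₀ x
      field_simp
    rw [this]
    exact (Pl x).O.mul_mem h2 h1
  have h0 : rel (AL Pl ((Lat.one Pl).scale c.good b hb0).Λ) (AL Pl (c.Ω d₀).Λ) = 0 := by
    unfold rel
    have : (AL Pl ((Lat.one Pl).scale c.good b hb0).Λ).submoduleOf (AL Pl (c.Ω d₀).Λ) = ⊤ := by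
      rw [eq_top_iff]
      intro f _
      exact hle f.2
    rw [this]
    exact Module.finrank_zero_of_subsingleton
  rw [h0] at hrel
  omega

end CurveData

end Groth.Agent.CurvesB.Weil
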